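import Mathlib
import Cfsg.Agent.Lib.ProductSet

/-!
# S0517, section 1: two conjugates of an elementary abelian subgroup

`P` acts on its normal 2-subgroup `Q`, `V ≤ P` is elementary abelian, normalised by `Q`,
`D = V ∩ Q`, `V = D⟨a⟩`, and `a` inverts `r` modulo `Q`, `r` of odd order `n` modulo `Q`.
Then some `x ∈ rQ` with `x ^ n = 1` lies in `L = ⟨V, V^x⟩`; `F = D D^x` is normal in `L Q`,
`[Q, L] ≤ F`, `I = D ∩ D^x` is central in `L`, `F/I` is elementary abelian and `x` acts on `F/I`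
without fixed points.
-/

set_option autoImplicit false

namespace Cfsg.Agent.SectRankFour.C2.DA

open Subgroup Pointwise

variable {G : Type*} [Group G]

/-- the fixed point free action, abstractly -/
theorem fpf_abs {M : Type*} [Group M] (D : Subgroup M) (A X : MulAut M) {n : ℕ} (hn : Odd n)
    (hX : X ^ n = 1) (hAX : A * X * A⁻¹ = X⁻¹)
    (hsup : ∀ m : M, ∃ d ∈ D, ∃ e ∈ D, m = d * X e) (hdisj : ∀ d ∈ D, ∀ e ∈ D, d = X e → d = 1)
    (hA : ∀ d ∈ D, A d = d) (hAD : ∀ m, A m * m⁻¹ ∈ D) (m : M) (hm : X m = m) : m = 1 := by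
  -- elements of `D` fixed by `X` are trivial
  have hfix : ∀ d ∈ D, X d = d → d = 1 := fun d hd h => hdisj d hd d hd h.symm
  -- `A` maps `X`-fixed elements to `X`-fixed elements
  have hXA : ∀ y : M, X (A y) = A (X⁻¹ y) := by
    intro y
    have h1 : X * A = A * X⁻¹ := by
      have h5 : (A * X * A⁻¹)⁻¹ = X := by rw [hAX, inv_inv]
      have h6 : (A * X * A⁻¹)⁻¹ = A * X⁻¹ * A⁻¹ := by simp [mul_assoc]
      have h7 : A * X⁻¹ * A⁻¹ = X := h6.symm.trans h5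
      calc X * A = (A * X⁻¹ * A⁻¹) * A := by rw [h7]
        _ = A * X⁻¹ := by rw [inv_mul_cancel_right]
    exact congrArg (fun f : MulAut M => f y) h1
  have hXi : X⁻¹ m = m := by
    have := congrArg (fun y => X⁻¹ y) hm
    simpa using this.symm
  have hAm : A m = m := by
    have h1 : X (A m * m⁻¹) = A m * m⁻¹ := by
      rw [map_mul, map_inv, hXA, hXi, hm]
    exact mul_inv_eq_one.mp (hfix _ (hAD m) h1)
  obtain ⟨d, hd, e, he, rfl⟩ := hsup m
  have hAXe : A (X e) = X⁻¹ e := by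
    have h1 : A (X e) = X⁻¹ (A e) := by
      have h2 : A * X = X⁻¹ * A := by rw [← hAX, inv_mul_cancel_right]
      exact congrArg (fun f : MulAut M => f e) h2
    rw [h1, hA e he]
  have h1 : X⁻¹ e = X e := by
    rw [map_mul, hA d hd, hAXe] at hAm
    exact mul_left_cancel hAm
  have h2 : (X ^ 2) e = e := by
    have := congrArg (fun y => X y) h1
    simp only [MulAut.apply_inv_self] at this
    rw [pow_two]
    exact this.symm
  have h3 : X e = e := by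
    obtain ⟨k, hk⟩ := hn
    have h4 : ∀ j : ℕ, (X ^ (2 * j)) e = e := by
      intro j
      induction j with
      | zero => simp
      | succ j ih =>
        rw [Nat.mul_succ, pow_add]
        show (X ^ (2 * j)) ((X ^ 2) e) = e
        rw [h2, ih]
    have h5 : (X ^ n) e = e := by rw [hX]; rfl
    rw [hk, pow_succ'] at h5
    change X ((X ^ (2 * k)) e) = e at h5
    rwa [h4 k] at h5
  have h6 : e = 1 := hfix e he h3
  subst h6
  rw [map_one, mul_one] at hm ⊢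
  exact hfix d hd hm

/-- The input. -/
structure Inp (P Q V : Subgroup G) (a r : G) (n : ℕ) : Prop where
  QP : Q ≤ P
  PQ : P ≤ normalizer (Q : Set G)
  two : IsPGroup 2 Q
  VP : V ≤ P
  comm : ∀ v ∈ V, ∀ w ∈ V, v * w = w * v
  sq : ∀ v ∈ V, v ^ 2 = 1
  QV : Q ≤ normalizer (V : Set G)
  ha : a ∈ V
  hVa : ∀ v ∈ V, v ∈ Q ∨ v * a ∈ Q
  hr : r ∈ P
  odd : Odd n
  hrn : r ^ n ∈ Q
  har : a * r * a⁻¹ * r ∈ Q

/-- conjugate subgroup `x V x⁻¹` -/
def cj (x : G) (V : Subgroup G) : Subgroup G := V.map (MulAut.conj x).toMonoidHom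

theorem mem_cj {x : G} {V : Subgroup G} {g : G} : g ∈ cj x V ↔ x⁻¹ * g * x ∈ V := by
  constructor
  · rintro ⟨v, hv, rfl⟩
    have : x⁻¹ * (x * v * x⁻¹) * x = v := by group
    show x⁻¹ * (x * v * x⁻¹) * x ∈ V
    rwa [this]
  · intro h
    exact ⟨_, h, by show x * (x⁻¹ * g * x) * x⁻¹ = g; group⟩

theorem conj_mem_cj {x : G} {V : Subgroup G} {v : G} (hv : v ∈ V) : x * v * x⁻¹ ∈ cj x V :=
  ⟨v, hv, rfl⟩

/-- The choice of `x`. -/
theorem Inp.exists_x [Finite G] {P Q V : Subgroup G} {a r : G} {n : ℕ} (h : Inp P Q V a r n) :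
    ∃ x ∈ P, x * r⁻¹ ∈ Q ∧ x ^ n = 1 ∧ x ∈ V ⊔ cj x V := by
  classical
  -- choose `y ∈ rQ` with `⟨V, V^y⟩` minimal
  have hex : ∃ k : ℕ, ∃ y ∈ P, y * r⁻¹ ∈ Q ∧ Nat.card (V ⊔ cj y V : Subgroup G) = k :=
    ⟨_, r, h.hr, by rw [mul_inv_cancel]; exact one_mem _, rfl⟩
  obtain ⟨y, hy, hyr, hk⟩ := Nat.find_spec hex
  have hmin : ∀ z ∈ P, z * r⁻¹ ∈ Q →
      Nat.card (V ⊔ cj y V : Subgroup G) ≤ Nat.card (V ⊔ cj z V : Subgroup G) := by
    intro z hz hzr
    rw [hk]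
    exact Nat.find_min' hex ⟨z, hz, hzr, rfl⟩
  -- the quotient `P / Q`
  have hN : (Q.subgroupOf P).Normal := normal_subgroupOf_of_le_normalizer h.PQ
  let π : P →* P ⧸ Q.subgroupOf P := QuotientGroup.mk' _
  have hπ : ∀ u v : P, π u = π v ↔ (u : G) * (v : G)⁻¹ ∈ Q := by
    intro u v
    show (QuotientGroup.mk' (Q.subgroupOf P)) u = (QuotientGroup.mk' (Q.subgroupOf P)) v ↔ _
    rw [QuotientGroup.mk'_apply, QuotientGroup.mk'_apply, eq_comm, QuotientGroup.eq_iff_div_mem,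
      mem_subgroupOf]
    constructor
    · intro h1
      have := Q.inv_mem h1
      simpa [div_eq_mul_inv] using this
    · intro h1
      have := Q.inv_mem h1
      simpa [div_eq_mul_inv] using this
  have hπ1 : ∀ u : P, π u = 1 ↔ (u : G) ∈ Q := by
    intro u
    have := hπ u 1
    simpa using this
  set a' : P := ⟨a, h.VP h.ha⟩ with ha'
  set r' : P := ⟨r, h.hr⟩ with hr'
  set y' : P := ⟨y, hy⟩ with hy'
  have hyr' : π y' = π r' := (hπ _ _).mpr hyr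
  have ha2 : a' * a' = 1 := Subtype.ext (by
    show a * a = 1
    rw [← pow_two]; exact h.sq a h.ha)
  have hπa : π a' * π r' * (π a')⁻¹ * π r' = 1 := by
    rw [← map_inv, ← map_mul, ← map_mul, ← map_mul]
    exact (hπ1 _).mpr h.har
  have hrn : π r' ^ n = 1 := by
    rw [← map_pow]
    exact (hπ1 _).mpr h.hrn
  -- `w = (b a)^((n+1)/2)`, `b = y a y⁻¹`
  have hba : π (y' * a' * y'⁻¹ * a') = π r' ^ 2 := by
    have h1 : (π a')⁻¹ = π a' := by
      rw [inv_eq_iff_mul_eq_one, ← map_mul, ha2, map_one]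
    have h2 : π a' * (π r')⁻¹ * π a' = π r' := by
      have h3 : π a' * π r' * π a' = (π r')⁻¹ := by
        rw [← h1] at hπa ⊢
        rw [eq_inv_iff_mul_eq_one]
        rw [inv_inv] at hπa
        simpa [h1] using hπa
      have h4 := congrArg (fun t => t⁻¹) h3
      simp only [mul_inv_rev, inv_inv, h1] at h4
      rw [← mul_assoc] at h4
      exact h4
    calc π (y' * a' * y'⁻¹ * a') = π r' * (π a' * (π r')⁻¹ * π a') := by
          simp only [map_mul, map_inv, hyr']; group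
      _ = π r' ^ 2 := by rw [h2, pow_two]
  obtain ⟨m, hm⟩ := h.odd
  set w : P := (y' * a' * y'⁻¹ * a') ^ (m + 1) with hw
  have hwr : π w = π r' := by
    rw [hw, map_pow, hba, ← pow_mul]
    have : 2 * (m + 1) = n + 1 := by omega
    rw [this, pow_succ, hrn, one_mul]
  -- make the order odd
  obtain ⟨k, hk2⟩ : ∃ k : ℕ, ((w : G) ^ n) ^ 2 ^ k = 1 := by
    have h1 : (w : G) ^ n ∈ Q := by
      have h2 : π (w ^ n) = 1 := by rw [map_pow, hwr, hrn]
      exact (hπ1 _).mp h2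
    obtain ⟨k, hk⟩ := h.two ⟨_, h1⟩
    exact ⟨k, congrArg Subtype.val hk⟩
  have hcop : Nat.Coprime n (2 ^ k) :=
    Nat.Coprime.pow_right k (Nat.coprime_two_right.mpr h.odd)
  obtain ⟨e, he1, he2⟩ := Nat.chineseRemainder hcop 1 0
  set x' : P := w ^ e with hx'
  have hxr : π x' = π r' := by
    rw [hx', map_pow, hwr]
    have h1 : π r' ^ e = π r' ^ 1 := by
      rw [pow_eq_pow_iff_modEq]
      exact he1.of_dvd (orderOf_dvd_of_pow_eq_one hrn)
    rw [h1, pow_one]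
  have hxn : (x' : G) ^ n = 1 := by
    have h1 : 2 ^ k ∣ e := (Nat.modEq_zero_iff_dvd).mp he2
    obtain ⟨c, hc⟩ := h1
    have h2 : (x' : G) = (w : G) ^ e := by rw [hx']; rfl
    rw [h2, ← pow_mul, mul_comm e n, pow_mul, hc, pow_mul, hk2, one_pow]
  have hL : (x' : G) ∈ V ⊔ cj y V := by
    have hb : y * a * y⁻¹ * a ∈ V ⊔ cj y V :=
      mul_mem (mem_sup_right (conj_mem_cj h.ha)) (mem_sup_left h.ha)
    have h2 : (x' : G) = ((y * a * y⁻¹ * a) ^ (m + 1)) ^ e := by rw [hx', hw]; rfl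
    rw [h2]
    exact pow_mem (pow_mem hb _) _
  refine ⟨x', x'.2, (hπ _ _).mp hxr, hxn, ?_⟩
  have hle : V ⊔ cj (x' : G) V ≤ V ⊔ cj y V := by
    refine sup_le le_sup_left ?_
    rintro _ ⟨v, hv, rfl⟩
    exact mul_mem (mul_mem hL (mem_sup_left hv)) (inv_mem hL)
  have heq := eq_of_le_of_card_ge hle (hmin x' x'.2 ((hπ _ _).mp hxr))
  rw [heq]
  exact hL

/-- The configuration `(P, Q, V, a, r, n)` with a choice of `x`. -/
structure Ch (P Q V : Subgroup G) (a r : G) (n : ℕ) (x : G) : Prop extends Inp P Q V a r n where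
  xP : x ∈ P
  xr : x * r⁻¹ ∈ Q
  xn : x ^ n = 1
  xL : x ∈ V ⊔ cj x V

theorem Inp.exists_ch [Finite G] {P Q V : Subgroup G} {a r : G} {n : ℕ} (h : Inp P Q V a r n) :
    ∃ x, Ch P Q V a r n x := by
  obtain ⟨x, h1, h2, h3, h4⟩ := h.exists_x
  exact ⟨x, h, h1, h2, h3, h4⟩

/-- `L = ⟨V, V^x⟩` -/
def LL (V : Subgroup G) (x : G) : Subgroup G := V ⊔ cj x V

/-- `F = D D^x`, `D = V ∩ Q` -/
def FF (Q V : Subgroup G) (x : G) : Subgroup G := (V ⊓ Q) ⊔ cj x (V ⊓ Q)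

/-- `I = D ∩ D^x` -/
def II (Q V : Subgroup G) (x : G) : Subgroup G := (V ⊓ Q) ⊓ cj x (V ⊓ Q)

namespace Ch

variable {P Q V : Subgroup G} {a r : G} {n : ℕ} {x : G}

theorem conj_Q (h : Ch P Q V a r n x) {g q : G} (hg : g ∈ P) (hq : q ∈ Q) : g * q * g⁻¹ ∈ Q :=
  (mem_normalizer_iff.mp (h.PQ hg) q).mp hq

theorem conj_Q' (h : Ch P Q V a r n x) {g q : G} (hg : g ∈ P) (hq : q ∈ Q) : g⁻¹ * q * g ∈ Q := by
  have := h.conj_Q (P.inv_mem hg) hq
  rwa [inv_inv] at this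

theorem cj_inf (h : Ch P Q V a r n x) : cj x (V ⊓ Q) = cj x V ⊓ Q := by
  ext g
  rw [mem_inf, mem_cj, mem_cj, mem_inf]
  refine and_congr_right fun _ => ⟨fun h1 => ?_, fun h1 => h.conj_Q' h.xP h1⟩
  have h2 := h.conj_Q h.xP h1
  have h3 : x * (x⁻¹ * g * x) * x⁻¹ = g := by group
  rwa [h3] at h2

theorem cjV_le (h : Ch P Q V a r n x) : cj x V ≤ P := by
  rintro _ ⟨v, hv, rfl⟩
  exact mul_mem (mul_mem h.xP (h.VP hv)) (inv_mem h.xP)

theorem L_le (h : Ch P Q V a r n x) : LL V x ≤ P := sup_le h.VP h.cjV_le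

theorem xLL (h : Ch P Q V a r n x) : x ∈ LL V x := h.xL

/-- `Q` normalises `V^x` -/
theorem Q_cj (h : Ch P Q V a r n x) : Q ≤ normalizer (cj x V : Set G) := by
  intro q hq
  rw [mem_normalizer_iff]
  have key : ∀ q ∈ Q, ∀ g : G, g ∈ cj x V → q * g * q⁻¹ ∈ cj x V := by
    intro q hq g hg
    rw [mem_cj] at hg ⊢
    have h1 := (mem_normalizer_iff.mp (h.QV (h.conj_Q' h.xP hq)) _).mp hg
    have h2 : x⁻¹ * q * x * (x⁻¹ * g * x) * (x⁻¹ * q * x)⁻¹ = x⁻¹ * (q * g * q⁻¹) * x := by group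
    rwa [h2] at h1
  intro g
  refine ⟨key q hq g, fun h1 => ?_⟩
  have h2 := key q⁻¹ (Q.inv_mem hq) _ h1
  have h3 : q⁻¹ * (q * g * q⁻¹) * q⁻¹⁻¹ = g := by group
  rwa [h3] at h2

/-- `[Q, V] ≤ D` -/
theorem comm_V (h : Ch P Q V a r n x) {v q : G} (hv : v ∈ V) (hq : q ∈ Q) :
    v * q * v⁻¹ * q⁻¹ ∈ V ⊓ Q := by
  refine mem_inf.mpr ⟨?_, mul_mem (h.conj_Q (h.VP hv) hq) (inv_mem hq)⟩
  have h1 := (mem_normalizer_iff.mp (h.QV hq) v⁻¹).mp (inv_mem hv)
  have h2 : v * q * v⁻¹ * q⁻¹ = v * (q * v⁻¹ * q⁻¹) := by group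
  rw [h2]
  exact mul_mem hv h1

theorem comm_cjV (h : Ch P Q V a r n x) {v q : G} (hv : v ∈ cj x V) (hq : q ∈ Q) :
    v * q * v⁻¹ * q⁻¹ ∈ cj x (V ⊓ Q) := by
  rw [h.cj_inf]
  refine mem_inf.mpr ⟨?_, mul_mem (h.conj_Q (h.cjV_le hv) hq) (inv_mem hq)⟩
  have h1 := (mem_normalizer_iff.mp (h.Q_cj hq) v⁻¹).mp (inv_mem hv)
  have h2 : v * q * v⁻¹ * q⁻¹ = v * (q * v⁻¹ * q⁻¹) := by group
  rw [h2]
  exact mul_mem hv h1

theorem Q_D (h : Ch P Q V a r n x) : Q ≤ normalizer ((V ⊓ Q : Subgroup G) : Set G) := by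
  intro q hq
  rw [mem_normalizer_iff]
  intro g
  rw [mem_inf, mem_inf]
  exact and_congr (mem_normalizer_iff.mp (h.QV hq) g) (mem_normalizer_iff.mp (le_normalizer hq) g)

theorem Q_cjD (h : Ch P Q V a r n x) : Q ≤ normalizer (cj x (V ⊓ Q) : Set G) := by
  rw [h.cj_inf]
  intro q hq
  rw [mem_normalizer_iff]
  intro g
  rw [mem_inf, mem_inf]
  exact and_congr (mem_normalizer_iff.mp (h.Q_cj hq) g) (mem_normalizer_iff.mp (le_normalizer hq) g)

theorem cjD_le (h : Ch P Q V a r n x) : cj x (V ⊓ Q) ≤ Q := by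
  rw [h.cj_inf]; exact inf_le_right

theorem F_le_Q (h : Ch P Q V a r n x) : FF Q V x ≤ Q := sup_le inf_le_right h.cjD_le

theorem D_le_F : V ⊓ Q ≤ FF Q V x := le_sup_left

theorem cjD_le_F : cj x (V ⊓ Q) ≤ FF Q V x := le_sup_right

theorem I_le_D : II Q V x ≤ V ⊓ Q := inf_le_left

theorem I_le_cjD : II Q V x ≤ cj x (V ⊓ Q) := inf_le_right

theorem I_le_F : II Q V x ≤ FF Q V x := I_le_D.trans D_le_F

theorem V_le_L : V ≤ LL V x := le_sup_left

theorem cjV_le_L : cj x V ≤ LL V x := le_sup_right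

theorem F_le_L (h : Ch P Q V a r n x) : FF Q V x ≤ LL V x := by
  refine sup_le (inf_le_left.trans V_le_L) ?_
  rw [h.cj_inf]
  exact inf_le_left.trans cjV_le_L

theorem mem_F (h : Ch P Q V a r n x) {f : G} (hf : f ∈ FF Q V x) :
    ∃ d ∈ V ⊓ Q, ∃ e ∈ V ⊓ Q, f = d * (x * e * x⁻¹) := by
  have hn : cj x (V ⊓ Q) ≤ normalizer ((V ⊓ Q : Subgroup G) : Set G) := h.cjD_le.trans h.Q_D
  have h1 : ∀ g ∈ FF Q V x, ∃ d ∈ V ⊓ Q, ∃ e ∈ cj x (V ⊓ Q), g = d * e := by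
    intro g hg
    have h2 : (g : G) ∈ ((V ⊓ Q ⊔ cj x (V ⊓ Q) : Subgroup G) : Set G) := hg
    rw [coe_mul_of_right_le_normalizer_left _ _ hn] at h2
    obtain ⟨d, hd, e, he, rfl⟩ := h2
    exact ⟨d, hd, e, he, rfl⟩
  obtain ⟨d, hd, e, he, rfl⟩ := h1 f hf
  obtain ⟨e', he', rfl⟩ := he
  exact ⟨d, hd, e', he', rfl⟩

theorem Q_F (h : Ch P Q V a r n x) : Q ≤ normalizer (FF Q V x : Set G) := by
  intro q hq
  rw [mem_normalizer_iff]
  have key : ∀ q ∈ Q, ∀ g ∈ FF Q V x, q * g * q⁻¹ ∈ FF Q V x := by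
    intro q hq g hg
    obtain ⟨d, hd, e, he, rfl⟩ := h.mem_F hg
    have h1 := (mem_normalizer_iff.mp (h.Q_D hq) _).mp hd
    have h2 := (mem_normalizer_iff.mp (h.Q_cjD hq) _).mp (conj_mem_cj (x := x) he)
    have h3 : q * (d * (x * e * x⁻¹)) * q⁻¹ = (q * d * q⁻¹) * (q * (x * e * x⁻¹) * q⁻¹) := by group
    rw [h3]
    exact mul_mem (D_le_F h1) (cjD_le_F h2)
  intro g
  refine ⟨key q hq g, fun h1 => ?_⟩
  have h2 := key q⁻¹ (Q.inv_mem hq) _ h1
  have h3 : q⁻¹ * (q * g * q⁻¹) * q⁻¹⁻¹ = g := by group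
  rwa [h3] at h2

/-- `[Q, L] ≤ F` -/
theorem comm_L (h : Ch P Q V a r n x) {l q : G} (hl : l ∈ LL V x) (hq : q ∈ Q) :
    l * q * l⁻¹ * q⁻¹ ∈ FF Q V x := by
  -- the elements acting trivially modulo `F`
  have hL : LL V x ≤ P := h.L_le
  -- induction over the generators
  have hcl : LL V x = closure ((V : Set G) ∪ (cj x V : Set G)) := by
    rw [Subgroup.closure_union, closure_eq, closure_eq]; rfl
  rw [hcl] at hl
  suffices H : ∀ q ∈ Q, l * q * l⁻¹ * q⁻¹ ∈ FF Q V x from H q hq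
  refine Subgroup.closure_induction (p := fun l _ => ∀ q ∈ Q, l * q * l⁻¹ * q⁻¹ ∈ FF Q V x)
    ?_ ?_ ?_ ?_ hl
  · rintro v (hv | hv) q hq
    · exact D_le_F (h.comm_V hv hq)
    · exact cjD_le_F (h.comm_cjV hv hq)
  · intro q hq
    simp only [one_mul, inv_one, mul_one, mul_inv_cancel]
    exact one_mem _
  · intro u w hu hw hu' hw' q hq
    rw [← hcl] at hu hw
    have h1 := hw' q hq
    have h2 := hu' (w * q * w⁻¹) (h.conj_Q (hL hw) hq)
    have h3 : u * w * q * (u * w)⁻¹ * q⁻¹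
        = (u * (w * q * w⁻¹) * u⁻¹ * (w * q * w⁻¹)⁻¹) * (w * q * w⁻¹ * q⁻¹) := by group
    rw [h3]
    exact mul_mem h2 h1
  · intro u hu hu' q hq
    rw [← hcl] at hu
    have h1 := hu' (u⁻¹ * q * u) (h.conj_Q' (hL hu) hq)
    have h3 : u⁻¹ * q * u⁻¹⁻¹ * q⁻¹ = (u * (u⁻¹ * q * u) * u⁻¹ * (u⁻¹ * q * u)⁻¹)⁻¹ := by group
    rw [h3]
    exact inv_mem h1

theorem L_F (h : Ch P Q V a r n x) : LL V x ≤ normalizer (FF Q V x : Set G) := by
  intro l hl
  rw [mem_normalizer_iff]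
  have key : ∀ l ∈ LL V x, ∀ g ∈ FF Q V x, l * g * l⁻¹ ∈ FF Q V x := by
    intro l hl g hg
    have h1 := mul_mem (h.comm_L hl (h.F_le_Q hg)) hg
    have h2 : l * g * l⁻¹ * g⁻¹ * g = l * g * l⁻¹ := by group
    rwa [h2] at h1
  intro g
  refine ⟨key l hl g, fun h1 => ?_⟩
  have h2 := key l⁻¹ (inv_mem hl) _ h1
  have h3 : l⁻¹ * (l * g * l⁻¹) * l⁻¹⁻¹ = g := by group
  rwa [h3] at h2

/-- `L` centralises `I` -/
theorem centI (h : Ch P Q V a r n x) {l i : G} (hl : l ∈ LL V x) (hi : i ∈ II Q V x) :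
    l * i = i * l := by
  have h1 : LL V x ≤ centralizer ({i} : Set G) := by
    refine sup_le ?_ ?_
    · intro v hv
      rw [mem_centralizer_singleton_iff]
      exact h.comm v hv i (mem_inf.mp (I_le_D hi)).1
    · rintro _ ⟨v, hv, rfl⟩
      rw [mem_centralizer_singleton_iff]
      have h2 := (mem_inf.mp (mem_cj.mp (I_le_cjD hi))).1
      have h3 := h.comm v hv _ h2
      show x * v * x⁻¹ * i = i * (x * v * x⁻¹)
      have h4 : x * v * x⁻¹ * i = x * (v * (x⁻¹ * i * x)) * x⁻¹ := by group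
      rw [h4, h3]; group
  exact mem_centralizer_singleton_iff.mp (h1 hl)

theorem comm_D (h : Ch P Q V a r n x) {d e : G} (hd : d ∈ V ⊓ Q) (he : e ∈ V ⊓ Q) :
    d * e = e * d := h.comm d (mem_inf.mp hd).1 e (mem_inf.mp he).1

/-- `[D, D^x] ≤ I` -/
theorem comm_DD (h : Ch P Q V a r n x) {d e : G} (hd : d ∈ V ⊓ Q) (he : e ∈ cj x (V ⊓ Q)) :
    d * e * d⁻¹ * e⁻¹ ∈ II Q V x := by
  refine mem_inf.mpr ⟨?_, ?_⟩
  · have h1 := (mem_normalizer_iff.mp (h.Q_D (h.cjD_le he)) _).mp (inv_mem hd)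
    have h2 : d * e * d⁻¹ * e⁻¹ = d * (e * d⁻¹ * e⁻¹) := by group
    rw [h2]; exact mul_mem hd h1
  · have h1 := (mem_normalizer_iff.mp (h.Q_cjD (mem_inf.mp hd).2) _).mp he
    exact mul_mem h1 (inv_mem he)

/-- `F/I` is abelian -/
theorem comm_F (h : Ch P Q V a r n x) {f g : G} (hf : f ∈ FF Q V x) (hg : g ∈ FF Q V x) :
    f * g * f⁻¹ * g⁻¹ ∈ II Q V x := by
  have hIc : ∀ i ∈ II Q V x, ∀ f ∈ FF Q V x, f * i = i * f := fun i hi f hf =>
    h.centI (h.F_le_L hf) hi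
  -- generators
  have hx1 : ∀ e ∈ V ⊓ Q, ∀ e' ∈ V ⊓ Q, x * e * x⁻¹ * (x * e' * x⁻¹) =
      x * e' * x⁻¹ * (x * e * x⁻¹) := by
    intro e he e' he'
    have := h.comm_D he he'
    calc x * e * x⁻¹ * (x * e' * x⁻¹) = x * (e * e') * x⁻¹ := by group
      _ = x * (e' * e) * x⁻¹ := by rw [this]
      _ = _ := by group
  -- the centraliser of an element modulo `I`
  have hmul : ∀ u v w : G, u ∈ FF Q V x → v ∈ FF Q V x → w ∈ FF Q V x →
      u * w * u⁻¹ * w⁻¹ ∈ II Q V x → v * w * v⁻¹ * w⁻¹ ∈ II Q V x →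
      (u * v) * w * (u * v)⁻¹ * w⁻¹ ∈ II Q V x := by
    intro u v w hu hv hw h1 h2
    have h3 : (u * v) * w * (u * v)⁻¹ * w⁻¹ =
        (u * (v * w * v⁻¹ * w⁻¹) * u⁻¹) * (u * w * u⁻¹ * w⁻¹) := by group
    rw [h3, hIc _ h2 u hu, mul_inv_cancel_right]
    exact mul_mem h2 h1
  have hinv : ∀ u w : G, u * w * u⁻¹ * w⁻¹ ∈ II Q V x → w * u * w⁻¹ * u⁻¹ ∈ II Q V x := by
    intro u w h1
    have h2 : w * u * w⁻¹ * u⁻¹ = (u * w * u⁻¹ * w⁻¹)⁻¹ := by group
    rw [h2]; exact inv_mem h1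
  have hgen : ∀ d ∈ V ⊓ Q, ∀ g ∈ FF Q V x, d * g * d⁻¹ * g⁻¹ ∈ II Q V x := by
    intro d hd g hg
    obtain ⟨d', hd', e', he', rfl⟩ := h.mem_F hg
    apply hinv
    refine hmul _ _ _ (D_le_F hd') (cjD_le_F (conj_mem_cj he')) (D_le_F hd) ?_ ?_
    · rw [h.comm_D hd' hd, mul_inv_cancel_right, mul_inv_cancel]; exact one_mem _
    · exact hinv _ _ (h.comm_DD hd (conj_mem_cj he'))
  have hgen' : ∀ e ∈ V ⊓ Q, ∀ g ∈ FF Q V x,
      (x * e * x⁻¹) * g * (x * e * x⁻¹)⁻¹ * g⁻¹ ∈ II Q V x := by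
    intro e he g hg
    obtain ⟨d', hd', e', he', rfl⟩ := h.mem_F hg
    apply hinv
    refine hmul _ _ _ (D_le_F hd') (cjD_le_F (conj_mem_cj he')) (cjD_le_F (conj_mem_cj he)) ?_ ?_
    · exact h.comm_DD hd' (conj_mem_cj he)
    · rw [hx1 e' he' e he, mul_inv_cancel_right, mul_inv_cancel]; exact one_mem _
  obtain ⟨d, hd, e, he, rfl⟩ := h.mem_F hf
  exact hmul _ _ _ (D_le_F hd) (cjD_le_F (conj_mem_cj he)) hg (hgen d hd g hg) (hgen' e he g hg)

/-- `F/I` has exponent two -/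
theorem sq_F (h : Ch P Q V a r n x) {f : G} (hf : f ∈ FF Q V x) : f * f ∈ II Q V x := by
  obtain ⟨d, hd, e, he, rfl⟩ := h.mem_F hf
  set e' := x * e * x⁻¹ with he'
  have hd2 : d * d = 1 := by rw [← pow_two]; exact h.sq d (mem_inf.mp hd).1
  have he2 : e' * e' = 1 := by
    have h1 : e * e = 1 := by rw [← pow_two]; exact h.sq e (mem_inf.mp he).1
    rw [he']
    calc x * e * x⁻¹ * (x * e * x⁻¹) = x * (e * e) * x⁻¹ := by group
      _ = 1 := by rw [h1]; group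
  have h1 : d * e' * (d * e') = d * e' * d⁻¹ * e'⁻¹ := by
    rw [inv_eq_of_mul_eq_one_left hd2, inv_eq_of_mul_eq_one_left he2]; group
  rw [h1]
  exact h.comm_DD hd (conj_mem_cj he)

theorem card_F [Finite G] (h : Ch P Q V a r n x) :
    Nat.card (FF Q V x) * Nat.card (II Q V x) = Nat.card (V ⊓ Q : Subgroup G) ^ 2 := by
  have h1 := Cfsg.Agent.Lib.ProductSet.card_mul_card_inf (V ⊓ Q) (cj x (V ⊓ Q))
  have hn : cj x (V ⊓ Q) ≤ normalizer ((V ⊓ Q : Subgroup G) : Set G) := h.cjD_le.trans h.Q_D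
  have h2 : ((V ⊓ Q : Subgroup G) : Set G) * (cj x (V ⊓ Q) : Set G) = (FF Q V x : Set G) :=
    (coe_mul_of_right_le_normalizer_left _ _ hn).symm
  have h3 : Nat.card (cj x (V ⊓ Q)) = Nat.card (V ⊓ Q : Subgroup G) :=
    Nat.card_congr ((V ⊓ Q).equivMapOfInjective _ (MulAut.conj x).injective).symm.toEquiv
  rw [h2, h3] at h1
  rw [pow_two, ← h1]
  rfl

end Ch

/-! ### The action on `F / I` -/

section Act

variable {L : Type*} [Group L] (I F : Subgroup L) [I.Normal] [F.Normal]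

instance map_mk_normal : (F.map (QuotientGroup.mk' I)).Normal :=
  Subgroup.Normal.map inferInstance _ (QuotientGroup.mk'_surjective I)

/-- conjugation on `F I / I` -/
noncomputable def act : L →* MulAut (F.map (QuotientGroup.mk' I)) :=
  MulAut.conjNormal.comp (QuotientGroup.mk' I)

theorem act_apply (l f : L) (hf : f ∈ F) :
    ((act I F l ⟨QuotientGroup.mk' I f, mem_map_of_mem _ hf⟩ : F.map (QuotientGroup.mk' I)) : L ⧸ I)
      = QuotientGroup.mk' I (l * f * l⁻¹) := by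
  show _ * _ * _ = _
  simp

theorem act_eq_iff (l l' : L) :
    act I F l = act I F l' ↔ ∀ f ∈ F, (l * f * l⁻¹) * (l' * f * l'⁻¹)⁻¹ ∈ I := by
  constructor
  · intro h1 f hf
    have h2 : QuotientGroup.mk' I (l * f * l⁻¹) = QuotientGroup.mk' I (l' * f * l'⁻¹) := by
      rw [← act_apply I F l f hf, ← act_apply I F l' f hf, h1]
    rw [← QuotientGroup.ker_mk' I, MonoidHom.mem_ker, map_mul, map_inv, h2, mul_inv_cancel]
  · intro h1
    ext ⟨_, f, hf, rfl⟩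
    have h2 := h1 f hf
    rw [← QuotientGroup.ker_mk' I, MonoidHom.mem_ker, map_mul, map_inv, mul_inv_eq_one] at h2
    rw [act_apply I F l f hf, act_apply I F l' f hf, h2]

end Act

namespace Ch

variable {P Q V : Subgroup G} {a r : G} {n : ℕ} {x : G}

theorem I_normal (h : Ch P Q V a r n x) : ((II Q V x).subgroupOf (LL V x)).Normal := by
  refine ⟨fun i hi g => ?_⟩
  rw [mem_subgroupOf] at hi ⊢
  have h1 := h.centI g.2 hi
  show (g : G) * i * (g : G)⁻¹ ∈ II Q V x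
  rw [h1, mul_inv_cancel_right]
  exact hi

theorem F_normal (h : Ch P Q V a r n x) : ((FF Q V x).subgroupOf (LL V x)).Normal :=
  normal_subgroupOf_of_le_normalizer h.L_F

theorem act_one (h : Ch P Q V a r n x) [((II Q V x).subgroupOf (LL V x)).Normal]
    [((FF Q V x).subgroupOf (LL V x)).Normal] {k x1 : LL V x} (hk : (k : G) ∈ Q)
    (h1 : x1 ^ n = 1) (h2 : (k * x1) ^ n = 1) :
    act ((II Q V x).subgroupOf (LL V x)) ((FF Q V x).subgroupOf (LL V x)) k = 1 := by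
  set φ := act ((II Q V x).subgroupOf (LL V x)) ((FF Q V x).subgroupOf (LL V x)) with hφ
  have hF : ∀ f : LL V x, (f : G) ∈ FF Q V x → φ f = 1 := by
    intro f hf
    rw [hφ, ← map_one (act ((II Q V x).subgroupOf (LL V x)) ((FF Q V x).subgroupOf (LL V x))),
      act_eq_iff]
    intro g hg
    rw [mem_subgroupOf] at hg ⊢
    have h3 := h.comm_F hf hg
    simpa using h3
  have hc : φ (x1 * k * x1⁻¹ * k⁻¹) = 1 := hF _ (h.comm_L x1.2 hk)
  have hcomm : Commute (φ k) (φ x1) := by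
    rw [map_mul, map_mul, map_mul, map_inv, map_inv] at hc
    have h3 : φ x1 * φ k = φ k * φ x1 := by
      have h4 := congrArg (fun t => t * φ k * φ x1) hc
      simp only [one_mul, inv_mul_cancel_right] at h4
      exact h4
    exact h3.symm
  have h3 : φ k ^ n = 1 := by
    have h4 : φ ((k * x1) ^ n) = 1 := by rw [h2, map_one]
    rw [map_pow, map_mul, hcomm.mul_pow, ← map_pow φ x1, h1, map_one, mul_one] at h4
    exact h4
  obtain ⟨m, hm⟩ := h.two ⟨_, hk⟩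
  have h5 : φ k ^ 2 ^ m = 1 := by
    rw [← map_pow]
    have h6 : k ^ 2 ^ m = 1 := by
      apply Subtype.ext
      have h8 : (k : G) ^ 2 ^ m = 1 := congrArg (fun t : Q => (t : G)) hm
      exact h8
    rw [h6, map_one]
  have h7 : orderOf (φ k) ∣ 1 := by
    rw [← Nat.Coprime.gcd_eq_one (Nat.Coprime.pow_right m (Nat.coprime_two_right.mpr h.odd))]
    exact Nat.dvd_gcd (orderOf_dvd_of_pow_eq_one h3) (orderOf_dvd_of_pow_eq_one h5)
  exact orderOf_eq_one_iff.mp (Nat.dvd_one.mp h7)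

/-- elements of `L` of order dividing `n` which are equal modulo `Q` act in the same way on `F/I` -/
theorem same_act (h : Ch P Q V a r n x) {x1 x2 : G} (hx1 : x1 ∈ LL V x) (hx2 : x2 ∈ LL V x)
    (h1 : x1 ^ n = 1) (h2 : x2 ^ n = 1) (h12 : x1 * x2⁻¹ ∈ Q) {f : G} (hf : f ∈ FF Q V x) :
    (x1 * f * x1⁻¹) * (x2 * f * x2⁻¹)⁻¹ ∈ II Q V x := by
  have := h.I_normal
  have := h.F_normal
  have h3 : act ((II Q V x).subgroupOf (LL V x)) ((FF Q V x).subgroupOf (LL V x))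
      (⟨x1, hx1⟩ * ⟨x2, hx2⟩⁻¹) = 1 := by
    apply h.act_one (x1 := ⟨x2, hx2⟩)
    · exact h12
    · exact Subtype.ext h2
    · rw [inv_mul_cancel_right]; exact Subtype.ext h1
  rw [map_mul, map_inv, mul_inv_eq_one, act_eq_iff] at h3
  have h4 := h3 ⟨f, h.F_le_L hf⟩ (by rw [mem_subgroupOf]; exact hf)
  rw [mem_subgroupOf] at h4
  exact h4

/-- `x` acts fixed point freely on `F/I` -/
theorem fpf (h : Ch P Q V a r n x) {f : G} (hf : f ∈ FF Q V x)
    (hfx : x * f * x⁻¹ * f⁻¹ ∈ II Q V x) : f ∈ II Q V x := by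
  have := h.I_normal
  have := h.F_normal
  set I' := (II Q V x).subgroupOf (LL V x) with hI'
  set F' := (FF Q V x).subgroupOf (LL V x) with hF'
  set φ := act I' F' with hφ
  set xl : LL V x := ⟨x, h.xL⟩ with hxl
  set al : LL V x := ⟨a, V_le_L h.ha⟩ with hal
  have ha2 : a * a = 1 := by rw [← pow_two]; exact h.sq a h.ha
  -- `a` inverts the action of `x`
  have hAX : φ al * φ xl * (φ al)⁻¹ = (φ xl)⁻¹ := by
    have h1 : φ (al * xl * al⁻¹ * xl) = 1 := by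
      apply h.act_one (x1 := xl⁻¹)
      · show a * x * a⁻¹ * x ∈ Q
        -- modulo `Q`
        have h2 : x * r⁻¹ ∈ Q := h.xr
        have h3 := h.har
        have h4 : a * x * a⁻¹ * x = (a * (x * r⁻¹) * a⁻¹) * (a * r * a⁻¹ * r) *
            (r⁻¹ * (x * r⁻¹) * r) := by group
        rw [h4]
        refine mul_mem (mul_mem (h.conj_Q (h.VP h.ha) h2) h3) (h.conj_Q' h.hr h2)
      · rw [inv_pow, inv_eq_one]; exact Subtype.ext h.xn
      · rw [mul_inv_cancel_right]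
        have h5 : (al * xl * al⁻¹) ^ n = al * xl ^ n * al⁻¹ := conj_pow
        rw [h5]
        have h6 : xl ^ n = 1 := Subtype.ext h.xn
        rw [h6]; group
    rw [map_mul, map_mul, map_mul, map_inv] at h1
    exact eq_inv_of_mul_eq_one_left h1
  have hX : φ xl ^ n = 1 := by
    rw [← map_pow]
    have h6 : xl ^ n = 1 := Subtype.ext h.xn
    rw [h6, map_one]
  -- the subgroup `D`
  set D' : Subgroup (F'.map (QuotientGroup.mk' I')) :=
    (((V ⊓ Q).subgroupOf (LL V x)).map (QuotientGroup.mk' I')).subgroupOf _ with hD'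
  have hmemD : ∀ (d : LL V x) (hd : (d : G) ∈ V ⊓ Q) (hdF : d ∈ F'),
      (⟨QuotientGroup.mk' I' d, mem_map_of_mem _ hdF⟩ : F'.map (QuotientGroup.mk' I')) ∈ D' := by
    intro d hd hdF
    rw [hD', mem_subgroupOf]
    exact ⟨d, by rw [SetLike.mem_coe, mem_subgroupOf]; exact hd, rfl⟩
  have hofD : ∀ y ∈ D', ∃ (d : LL V x) (hd : (d : G) ∈ V ⊓ Q) (hdF : d ∈ F'),
      y = (⟨QuotientGroup.mk' I' d, mem_map_of_mem _ hdF⟩ : F'.map (QuotientGroup.mk' I')) := by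
    intro y hy
    rw [hD', mem_subgroupOf] at hy
    obtain ⟨d, hd, hdy⟩ := hy
    rw [SetLike.mem_coe, mem_subgroupOf] at hd
    exact ⟨d, hd, by rw [hF', mem_subgroupOf]; exact D_le_F hd, Subtype.ext hdy.symm⟩
  have hactm : ∀ (l f : LL V x) (hf : f ∈ F') (hlf : l * f * l⁻¹ ∈ F'),
      φ l ⟨QuotientGroup.mk' I' f, mem_map_of_mem _ hf⟩ =
        ⟨QuotientGroup.mk' I' (l * f * l⁻¹), mem_map_of_mem _ hlf⟩ := by
    intro l f hf hlf
    exact Subtype.ext (act_apply I' F' l f hf)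
  have hconjF : ∀ (l f : LL V x), f ∈ F' → l * f * l⁻¹ ∈ F' := fun l f hf =>
    Subgroup.Normal.conj_mem inferInstance f hf l
  set fl : LL V x := ⟨f, h.F_le_L hf⟩ with hfl
  have hflF : fl ∈ F' := by rw [hF', mem_subgroupOf]; exact hf
  have key := fpf_abs D' (φ al) (φ xl) h.odd hX hAX ?_ ?_ ?_ ?_
    ⟨QuotientGroup.mk' I' fl, mem_map_of_mem _ hflF⟩ ?_
  · have h1 := congrArg Subtype.val key
    have h2 : fl ∈ I' := by
      rw [← QuotientGroup.ker_mk' I', MonoidHom.mem_ker]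
      exact h1
    rw [hI', mem_subgroupOf] at h2
    exact h2
  · rintro ⟨_, g, hg, rfl⟩
    have hg' : (g : G) ∈ FF Q V x := by
      rw [SetLike.mem_coe, hF', mem_subgroupOf] at hg; exact hg
    obtain ⟨d, hd, e, he, hde⟩ := h.mem_F hg'
    have hdL : d ∈ LL V x := h.F_le_L (D_le_F hd)
    have heL : e ∈ LL V x := h.F_le_L (D_le_F he)
    have hdF : (⟨d, hdL⟩ : LL V x) ∈ F' := by rw [hF', mem_subgroupOf]; exact D_le_F hd
    have heF : (⟨e, heL⟩ : LL V x) ∈ F' := by rw [hF', mem_subgroupOf]; exact D_le_F he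
    refine ⟨_, hmemD ⟨d, hdL⟩ hd hdF, _, hmemD ⟨e, heL⟩ he heF, ?_⟩
    rw [hactm xl _ heF (hconjF _ _ heF)]
    apply Subtype.ext
    show QuotientGroup.mk' I' g = QuotientGroup.mk' I' _ * QuotientGroup.mk' I' _
    rw [← map_mul]
    congr 1
    exact Subtype.ext hde
  · intro y hy y' hy' hyy
    obtain ⟨d, hd, hdF, rfl⟩ := hofD y hy
    obtain ⟨e, he, heF, rfl⟩ := hofD y' hy'
    rw [hactm xl _ heF (hconjF _ _ heF)] at hyy
    have h1 := congrArg Subtype.val hyy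
    have h2 : (xl * e * xl⁻¹)⁻¹ * d ∈ I' := by
      rw [← QuotientGroup.ker_mk' I', MonoidHom.mem_ker, map_mul, map_inv, inv_mul_eq_one]
      exact h1.symm
    have h3 : (x * (e : G) * x⁻¹)⁻¹ * d ∈ II Q V x := by
      rw [hI', mem_subgroupOf] at h2; exact h2
    -- so `d ∈ I`
    have h4 : (d : G) ∈ cj x (V ⊓ Q) := by
      have h5 := mul_mem (conj_mem_cj (x := x) he) (I_le_cjD h3)
      rwa [mul_inv_cancel_left] at h5
    have h5 : d ∈ I' := by
      rw [hI', mem_subgroupOf]; exact mem_inf.mpr ⟨hd, h4⟩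
    apply Subtype.ext
    show QuotientGroup.mk' I' d = 1
    rw [← MonoidHom.mem_ker, QuotientGroup.ker_mk']
    exact h5
  · intro y hy
    obtain ⟨d, hd, hdF, rfl⟩ := hofD y hy
    rw [hactm al _ hdF (hconjF _ _ hdF)]
    apply Subtype.ext
    show QuotientGroup.mk' I' _ = QuotientGroup.mk' I' _
    congr 1
    apply Subtype.ext
    show a * (d : G) * a⁻¹ = d
    rw [h.comm a h.ha d (mem_inf.mp hd).1, mul_inv_cancel_right]
  · rintro ⟨_, g, hg, rfl⟩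
    have hg' : (g : G) ∈ FF Q V x := by
      rw [SetLike.mem_coe, hF', mem_subgroupOf] at hg; exact hg
    rw [hactm al g hg (hconjF _ _ hg)]
    rw [hD', mem_subgroupOf]
    refine ⟨al * g * al⁻¹ * g⁻¹, ?_, ?_⟩
    · rw [SetLike.mem_coe, mem_subgroupOf]
      exact h.comm_V h.ha (h.F_le_Q hg')
    · show QuotientGroup.mk' I' _ = QuotientGroup.mk' I' _ * (QuotientGroup.mk' I' _)⁻¹
      rw [map_mul, map_inv]
  · rw [hactm xl _ hflF (hconjF _ _ hflF)]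
    apply Subtype.ext
    show QuotientGroup.mk' I' _ = QuotientGroup.mk' I' _
    have h2 : xl * fl * xl⁻¹ * fl⁻¹ ∈ I' := by
      rw [hI', mem_subgroupOf]; exact hfx
    rw [← QuotientGroup.ker_mk' I', MonoidHom.mem_ker, map_mul, map_inv, mul_inv_eq_one] at h2
    exact h2

/-- every `x1 ∈ L` of order dividing `n`, equal to `x` modulo `Q`, acts fixed point freely on `F/I` -/
theorem fpf' (h : Ch P Q V a r n x) {x1 : G} (hx1 : x1 ∈ LL V x) (h1 : x1 ^ n = 1)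
    (h12 : x1 * x⁻¹ ∈ Q) {f : G} (hf : f ∈ FF Q V x) (hfx : x1 * f * x1⁻¹ * f⁻¹ ∈ II Q V x) :
    f ∈ II Q V x := by
  refine h.fpf hf ?_
  have h2 := h.same_act hx1 h.xL h1 h.xn h12 hf
  have h3 : x * f * x⁻¹ * f⁻¹ = ((x1 * f * x1⁻¹) * (x * f * x⁻¹)⁻¹)⁻¹ * (x1 * f * x1⁻¹ * f⁻¹) := by
    group
  rw [h3]
  exact mul_mem (inv_mem h2) hfx

end Ch

end Cfsg.Agent.SectRankFour.C2.DA
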