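import Mathlib
import Cfsg.Agent.MinSimple.Killing
import Cfsg.Agent.Lib.CoprimeCommutator
import Cfsg.Agent.SectRankFour.C2.DA

/-!
# S0517, section (1b): `V ≰ Q₂`, `P₂` of type `S₃`

The core of the argument, in terms of elements.
-/

set_option autoImplicit false

namespace Cfsg.Agent.SectRankFour.C2.OneB

open Subgroup Cfsg.Agent.SectRankFour.C2.DA Cfsg.Agent.MinSimple.Killing

variable {G : Type*} [Group G]

/-- `V = V₁ × V₂`, and `y` of order three centralises `V₁` and acts fixed point freely on `V₂`. -/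
structure Dec (P V V1 V2 : Subgroup G) (y : G) : Prop where
  cV : ∀ g ∈ P, (∀ v ∈ V, g * v = v * g) → g ∈ V
  comm : ∀ v ∈ V, ∀ w ∈ V, v * w = w * v
  sq : ∀ v ∈ V, v * v = 1
  le1 : V1 ≤ V
  le2 : V2 ≤ V
  dec : ∀ v ∈ V, ∃ v1 ∈ V1, ∃ v2 ∈ V2, v = v1 * v2
  inf : ∀ v ∈ V1, v ∈ V2 → v = 1
  card2 : Nat.card V2 = 4
  yP : y ∈ P
  y3 : y ^ 3 = 1
  yV1 : ∀ v ∈ V1, y * v = v * y
  yV2 : ∀ v ∈ V2, y * v * y⁻¹ ∈ V2
  fpf : ∀ v ∈ V2, y * v = v * y → v = 1

/-- a group of order four -/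
theorem four {W : Subgroup G} (hc : Nat.card W = 4) {c w : G} (hcW : c ∈ W) (hwW : w ∈ W)
    (hc1 : c ≠ 1) (hw1 : w ≠ 1) (hwc : w ≠ c) (hsq : ∀ v ∈ W, v * v = 1) :
    ∀ v ∈ W, v = 1 ∨ v = c ∨ v = w ∨ v = w * c := by
  classical
  intro v hv
  have hfin : Finite W := Nat.finite_of_card_ne_zero (by rw [hc]; norm_num)
  have : Fintype W := Fintype.ofFinite W
  let f : Fin 4 → W := ![1, ⟨c, hcW⟩, ⟨w, hwW⟩, ⟨w * c, mul_mem hwW hcW⟩]
  have hc2 : c * c = 1 := hsq c hcW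
  have hwc2 : w * c ≠ 1 := by
    intro h
    apply hwc
    calc w = w * c * c := by rw [mul_assoc, hc2, mul_one]
      _ = c := by rw [h, one_mul]
  have hf : Function.Injective f := by
    intro i j hij
    have hij' : ((f i : W) : G) = f j := congrArg Subtype.val hij
    fin_cases i <;> fin_cases j <;> simp [f] at hij' ⊢
    · exact hc1 hij'.symm
    · exact hw1 hij'.symm
    · exact hwc2 hij'.symm
    · exact hc1 hij'
    · exact hwc hij'.symm
    · exact hw1 hij'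
    · exact hw1 hij'
    · exact hwc hij'
    · exact hc1 hij'
    · exact hwc2 hij'
    · exact hw1 hij'
    · exact hc1 hij'
  have hbij : Function.Bijective f := by
    rw [Fintype.bijective_iff_injective_and_card]
    refine ⟨hf, ?_⟩
    rw [Fintype.card_fin, ← Nat.card_eq_fintype_card, hc]
  obtain ⟨i, hi⟩ := hbij.2 ⟨v, hv⟩
  have hi' : ((f i : W) : G) = v := congrArg Subtype.val hi
  fin_cases i
  · left; simpa [f] using hi'.symm
  · right; left; simpa [f] using hi'.symm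
  · right; right; left; simpa [f] using hi'.symm
  · right; right; right; simpa [f] using hi'.symm

namespace Dec

variable {P V V1 V2 : Subgroup G} {y : G}

theorem y_ne (h : Dec P V V1 V2 y) {c : G} (hc : c ∈ V2) (hc1 : c ≠ 1) : y * c * y⁻¹ ≠ c := by
  intro h1
  refine hc1 (h.fpf c hc ?_)
  calc y * c = y * c * y⁻¹ * y := by group
    _ = c * y := by rw [h1]

/-- the elements of `V2` -/
theorem four (h : Dec P V V1 V2 y) {c : G} (hc : c ∈ V2) (hc1 : c ≠ 1) :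
    ∀ v ∈ V2, v = 1 ∨ v = c ∨ v = y * c * y⁻¹ ∨ v = y * c * y⁻¹ * c :=
  OneB.four h.card2 hc (h.yV2 c hc) hc1 (fun h1 => hc1 (by
    have h2 : c = y⁻¹ * (y * c * y⁻¹) * y := by group
    rw [h2, h1]; group)) (h.y_ne hc hc1) (fun v hv => h.sq v (h.le2 hv))

/-- `c^{y²} = c^y c` -/
theorem y_sq (h : Dec P V V1 V2 y) {c : G} (hc : c ∈ V2) (hc1 : c ≠ 1) :
    y * (y * c * y⁻¹) * y⁻¹ = y * c * y⁻¹ * c := by
  have hm := h.yV2 _ (h.yV2 c hc)
  have h3 : y * y * y = 1 := by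
    have := h.y3
    rwa [pow_succ, pow_two] at this
  rcases h.four hc hc1 _ hm with h1 | h1 | h1 | h1
  · exfalso
    apply hc1
    have h2 : c = y⁻¹ * (y⁻¹ * (y * (y * c * y⁻¹) * y⁻¹) * y) * y := by group
    rw [h2, h1]; group
  · exfalso
    -- `c^{y^2} = c` and `y^3 = 1` imply `c^y = c`
    apply h.y_ne hc hc1
    have h2 : y * c * y⁻¹ = y * (y * (y * c * y⁻¹) * y⁻¹) * y⁻¹ := by rw [h1]
    rw [h2]
    have h4 : y * (y * (y * c * y⁻¹) * y⁻¹) * y⁻¹ = (y * y * y) * c * (y * y * y)⁻¹ := by group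
    rw [h4, h3]; group
  · exfalso
    apply h.y_ne hc hc1
    have h2 : y * c * y⁻¹ = y⁻¹ * (y * (y * c * y⁻¹) * y⁻¹) * y := by group
    rw [h2, h1]; group
  · exact h1

/-- every element of `V2` is `[w, y]`, `w ∈ V2` -/
theorem exists_comm (h : Dec P V V1 V2 y) {u : G} (hu : u ∈ V2) :
    ∃ w ∈ V2, w * (y * w * y⁻¹)⁻¹ = u := by
  have hfin : Finite V2 := Nat.finite_of_card_ne_zero (by rw [h.card2]; norm_num)
  let f : V2 → V2 := fun w => ⟨w * (y * w * y⁻¹)⁻¹, mul_mem w.2 (inv_mem (h.yV2 _ w.2))⟩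
  have hf : Function.Injective f := by
    intro w w' hww
    have h1 : (w : G) * (y * w * y⁻¹)⁻¹ = w' * (y * w' * y⁻¹)⁻¹ := congrArg Subtype.val hww
    have aux : ∀ a b : G, a * (y * a * y⁻¹)⁻¹ = b * (y * b * y⁻¹)⁻¹ →
        y * (b⁻¹ * a) = b⁻¹ * a * y := by
      intro a b e
      have h4 : a = b * (y * b * y⁻¹)⁻¹ * (y * a * y⁻¹) := by rw [← e]; group
      have h5 : b⁻¹ * a = y * (b⁻¹ * a) * y⁻¹ := by
        calc b⁻¹ * a = b⁻¹ * (b * (y * b * y⁻¹)⁻¹ * (y * a * y⁻¹)) := by rw [← h4]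
          _ = y * (b⁻¹ * a) * y⁻¹ := by group
      calc y * (b⁻¹ * a) = y * (b⁻¹ * a) * y⁻¹ * y := by group
        _ = b⁻¹ * a * y := by rw [← h5]
    have h2 : ((w' : G)⁻¹ * (w : G)) = 1 :=
      h.fpf _ (mul_mem (inv_mem w'.2) w.2) (aux _ _ h1)
    exact Subtype.ext (inv_mul_eq_one.mp h2).symm
  obtain ⟨w, hw⟩ := (Finite.injective_iff_surjective.mp hf) ⟨u, hu⟩
  exact ⟨w, w.2, congrArg Subtype.val hw⟩

/-- the final contradiction -/
theorem kill [Finite G] (h : Dec P V V1 V2 y)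
    (hL : ∀ U : Subgroup G, IsPGroup 2 U → U ≠ ⊥ → Group.IsSolvable (normalizer (U : Set G)))
    {c1 c2 z x g f : G} (hc1 : c1 ∈ V1) (hc2 : c2 ∈ V2) (hc2' : c2 ≠ 1) (hz : z = c1 * c2)
    (hgP : g ∈ P) (hg2 : ∀ v ∈ V2, g * v = v * g) (hg1 : ∀ v ∈ V1, g * v * g⁻¹ ∈ V1)
    (hgg : g * g = 1 ∨ g * g = z) (hgne : g ≠ 1) (hgnz : g ≠ z)
    (hxg : x * g = g * x) (hxz : x * z = z * x) (hgz : z * g = g * z) (hf : f = x * c2 * x⁻¹) (hfP : f ∈ P)
    (hf1 : ∀ v ∈ V1, f * v * f⁻¹ ∈ V1) (hf2 : ∀ v ∈ V2, f * v * f⁻¹ ∈ V2)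
    (hfc : f * c2 = c2 * f) (hfn : ∃ v ∈ V2, f * v ≠ v * f) : False := by
  have hcV : ∀ v ∈ V, ∀ w ∈ V, v * w = w * v := h.comm
  have hc2V := h.le2 hc2
  have hc1V := h.le1 hc1
  have hzV : z ∈ V := by rw [hz]; exact mul_mem hc1V hc2V
  have hinv : ∀ v ∈ V, v⁻¹ = v := fun v hv => inv_eq_of_mul_eq_one_left (h.sq v hv)
  set d := y * c2 * y⁻¹ with hd
  have hdV2 : d ∈ V2 := h.yV2 c2 hc2
  have hdV := h.le2 hdV2
  have h4 := h.four hc2 hc2'
  -- `f` maps `d` to `d c2`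
  have hfd : f * d * f⁻¹ = d * c2 := by
    obtain ⟨v, hv, hvf⟩ := hfn
    have hfcc : f * c2 * f⁻¹ = c2 := by rw [hfc]; group
    have hne : f * d ≠ d * f := by
      intro h5
      apply hvf
      rcases h4 v hv with h6 | h6 | h6 | h6
      · rw [h6]; group
      · rw [h6]; exact hfc
      · rw [h6]; exact h5
      · rw [h6, ← hd]
        calc f * (d * c2) = f * d * c2 := by group
          _ = d * (f * c2) := by rw [h5]; group
          _ = d * c2 * f := by rw [hfc]; group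
    rcases h4 _ (hf2 d hdV2) with h6 | h6 | h6 | h6
    · exfalso
      have h7 : d = 1 := by
        have h8 : d = f⁻¹ * (f * d * f⁻¹) * f := by group
        rw [h8, h6]; group
      exact h.y_ne hc2 hc2' (by
        exfalso
        have h9 : c2 = y⁻¹ * d * y := by rw [hd]; group
        exact hc2' (by rw [h9, h7]; group))
    · exfalso
      apply h.y_ne hc2 hc2'
      have h8 : d = f⁻¹ * (f * d * f⁻¹) * f := by group
      rw [← hd, h8, h6]
      calc f⁻¹ * c2 * f = f⁻¹ * (c2 * f) := by group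
        _ = f⁻¹ * (f * c2) := by rw [hfc]
        _ = c2 := by group
    · exfalso
      apply hne
      calc f * d = f * d * f⁻¹ * f := by group
        _ = d * f := by rw [h6]
    · exact h6
  have hfc' : f * c2 * f⁻¹ = c2 := by rw [hfc]; group
  have hyd : y * d * y⁻¹ = d * c2 := h.y_sq hc2 hc2'
  have hc2c2 : c2 * c2 = 1 := h.sq c2 hc2V
  have hydc : y * (d * c2) * y⁻¹ = c2 := by
    have h5 : y * (d * c2) * y⁻¹ = (y * d * y⁻¹) * (y * c2 * y⁻¹) := by group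
    rw [h5, hyd, ← hd, hcV d hdV c2 hc2V, mul_assoc, h.sq d hdV, mul_one]
  have hyid : y⁻¹ * d * y = c2 := by rw [hd]; group
  -- step (f): `y g y⁻¹ = g v`
  have hyconj1 : ∀ v ∈ V1, y * v * y⁻¹ = v := fun v hv => by rw [h.yV1 v hv]; group
  have hyconj1' : ∀ v ∈ V1, y⁻¹ * v * y = v := fun v hv => by
    have := h.yV1 v hv
    calc y⁻¹ * v * y = y⁻¹ * (v * y) := by group
      _ = y⁻¹ * (y * v) := by rw [this]
      _ = v := by group
  -- `y⁻¹` maps `V2` to `V2`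
  have hyV2' : ∀ v ∈ V2, y⁻¹ * v * y ∈ V2 := by
    intro v hv
    have h3 : y * y * y = 1 := by
      have := h.y3
      rwa [pow_succ, pow_two] at this
    have h5 : y⁻¹ = y * y := by
      rw [inv_eq_iff_mul_eq_one, ← mul_assoc]; exact h3
    have h6 : y⁻¹ * v * y = y * (y * v * y⁻¹) * y⁻¹ := by
      calc y⁻¹ * v * y = y⁻¹ * v * (y⁻¹)⁻¹ := by group
        _ = (y * y) * v * (y * y)⁻¹ := by rw [h5]
        _ = _ := by group
    rw [h6]
    exact h.yV2 _ (h.yV2 v hv)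
  have hg2' : ∀ v ∈ V2, g⁻¹ * v * g = v := fun v hv => by
    have := hg2 v hv
    calc g⁻¹ * v * g = g⁻¹ * (v * g) := by group
      _ = g⁻¹ * (g * v) := by rw [this]
      _ = v := by group
  -- `g⁻¹` maps `V1` to `V1`: `g * g` centralises `V`
  have hggV : ∀ v ∈ V, g * g * v = v * (g * g) := by
    intro v hv
    rcases hgg with h5 | h5
    · rw [h5]; group
    · rw [h5]; exact hcV z hzV v hv
  have hg1' : ∀ v ∈ V1, g⁻¹ * v * g ∈ V1 := by
    intro v hv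
    have h5 : g⁻¹ * v * g = g * v * g⁻¹ := by
      have h6 := hggV v (h.le1 hv)
      calc g⁻¹ * v * g = g⁻¹ * (v * (g * g)) * g⁻¹ := by group
        _ = g⁻¹ * (g * g * v) * g⁻¹ := by rw [h6]
        _ = g * v * g⁻¹ := by group
    rw [h5]; exact hg1 v hv
  have hv0 : g⁻¹ * (y * g * y⁻¹) ∈ V := by
    refine h.cV _ (mul_mem (inv_mem hgP) (mul_mem (mul_mem h.yP hgP) (inv_mem h.yP))) ?_
    intro v hv
    obtain ⟨v1, hv1, v2, hv2, rfl⟩ := h.dec v hv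
    -- acts trivially on `v1` and on `v2`
    have e1 : g⁻¹ * (y * g * y⁻¹) * v1 * (g⁻¹ * (y * g * y⁻¹))⁻¹ = v1 := by
      have h5 : g⁻¹ * (y * g * y⁻¹) * v1 * (g⁻¹ * (y * g * y⁻¹))⁻¹ =
          g⁻¹ * (y * (g * (y⁻¹ * v1 * y) * g⁻¹) * y⁻¹) * g := by group
      rw [h5, hyconj1' v1 hv1, hyconj1 _ (hg1 v1 hv1)]; group
    have e2 : g⁻¹ * (y * g * y⁻¹) * v2 * (g⁻¹ * (y * g * y⁻¹))⁻¹ = v2 := by
      have h5 : g⁻¹ * (y * g * y⁻¹) * v2 * (g⁻¹ * (y * g * y⁻¹))⁻¹ =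
          g⁻¹ * (y * (g * (y⁻¹ * v2 * y) * g⁻¹) * y⁻¹) * g := by group
      have h6 : g * (y⁻¹ * v2 * y) * g⁻¹ = y⁻¹ * v2 * y := by
        rw [hg2 _ (hyV2' v2 hv2)]; group
      rw [h5, h6]
      have h7 : y * (y⁻¹ * v2 * y) * y⁻¹ = v2 := by group
      rw [h7, hg2' v2 hv2]
    set k := g⁻¹ * (y * g * y⁻¹) with hk
    calc k * (v1 * v2) = (k * v1 * k⁻¹) * (k * v2 * k⁻¹) * k := by group
      _ = v1 * v2 * k := by rw [e1, e2]
  obtain ⟨v1, hv1, v2, hv2, hv12⟩ := h.dec _ hv0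
  -- `v1 = 1`
  have hyg : y * g * y⁻¹ = g * (v1 * v2) := by rw [← hv12]; group
  have hv1' : v1 = 1 := by
    have h3 : y * y * y = 1 := by
      have := h.y3
      rwa [pow_succ, pow_two] at this
    have h5 : y * (y * (y * g * y⁻¹) * y⁻¹) * y⁻¹ = g := by
      have : y * (y * (y * g * y⁻¹) * y⁻¹) * y⁻¹ = (y * y * y) * g * (y * y * y)⁻¹ := by group
      rw [this, h3]; group
    have hw : ∀ w ∈ V2, y * (g * (v1 * w)) * y⁻¹ = g * (v1 * v2 * (v1 * (y * w * y⁻¹))) := by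
      intro w hw
      calc y * (g * (v1 * w)) * y⁻¹ = (y * g * y⁻¹) * (y * v1 * y⁻¹) * (y * w * y⁻¹) := by group
        _ = g * (v1 * v2) * v1 * (y * w * y⁻¹) := by rw [hyg, hyconj1 v1 hv1]
        _ = _ := by group
    have hv1V := h.le1 hv1
    have hv2V := h.le2 hv2
    rw [hyg, hw v2 hv2] at h5
    -- `v1 v2 v1 (v2^y) = v2 v2^y`
    have h6 : v1 * v2 * (v1 * (y * v2 * y⁻¹)) = v2 * (y * v2 * y⁻¹) := by
      calc v1 * v2 * (v1 * (y * v2 * y⁻¹)) = (v1 * v2) * v1 * (y * v2 * y⁻¹) := by group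
        _ = (v2 * v1) * v1 * (y * v2 * y⁻¹) := by rw [hcV v1 hv1V v2 hv2V]
        _ = v2 * (v1 * v1) * (y * v2 * y⁻¹) := by group
        _ = _ := by rw [h.sq v1 hv1V]; group
    rw [h6] at h5
    have h7 : v2 * (y * v2 * y⁻¹) ∈ V2 := mul_mem hv2 (h.yV2 v2 hv2)
    -- now `y (g w) y⁻¹ = g v1 v2 w^y`
    have h8 : y * (g * (v2 * (y * v2 * y⁻¹))) * y⁻¹ =
        g * (v1 * (v2 * (y * (v2 * (y * v2 * y⁻¹)) * y⁻¹))) := by
      calc y * (g * (v2 * (y * v2 * y⁻¹))) * y⁻¹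
          = (y * g * y⁻¹) * (y * (v2 * (y * v2 * y⁻¹)) * y⁻¹) := by group
        _ = g * (v1 * v2) * (y * (v2 * (y * v2 * y⁻¹)) * y⁻¹) := by rw [hyg]
        _ = _ := by group
    rw [h8] at h5
    have h9 : v1 * (v2 * (y * (v2 * (y * v2 * y⁻¹)) * y⁻¹)) = 1 := by
      have h10 := congrArg (fun t => g⁻¹ * t) h5
      simpa [mul_assoc] using h10
    have h10 : v1 ∈ V2 := by
      rw [mul_eq_one_iff_eq_inv] at h9
      rw [h9]
      exact inv_mem (mul_mem hv2 (h.yV2 _ h7))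
    exact h.inf v1 hv1 h10
  rw [hv1', one_mul] at hyg
  -- choose `w2`
  obtain ⟨w, hw, hwy⟩ := h.exists_comm hv2
  have hwV := h.le2 hw
  -- `g w` commutes with `y`
  have hyw : y * (g * w) = g * w * y := by
    have h5 : y * (g * w) * y⁻¹ = g * w := by
      calc y * (g * w) * y⁻¹ = (y * g * y⁻¹) * (y * w * y⁻¹) := by group
        _ = g * (w * (y * w * y⁻¹)⁻¹) * (y * w * y⁻¹) := by rw [hyg, hwy]
        _ = g * w := by group
    calc y * (g * w) = y * (g * w) * y⁻¹ * y := by group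
      _ = g * w * y := by rw [h5]
  -- `f` commutes with `g`
  have hfg : f * g = g * f := by
    rw [hf]
    have h5 := hg2 c2 hc2
    calc x * c2 * x⁻¹ * g = x * c2 * (x⁻¹ * (g * x) * x⁻¹) := by group
      _ = x * c2 * (x⁻¹ * (x * g) * x⁻¹) := by rw [hxg]
      _ = x * (c2 * g) * x⁻¹ := by group
      _ = x * (g * c2) * x⁻¹ := by rw [h5]
      _ = (x * g) * c2 * x⁻¹ := by group
      _ = g * (x * c2 * x⁻¹) := by rw [hxg]; group
  -- `f y f⁻¹ y ∈ V`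
  have hfy : f * y * f⁻¹ * y ∈ V := by
    refine h.cV _ (mul_mem (mul_mem (mul_mem hfP h.yP) (inv_mem hfP)) h.yP) ?_
    intro v hv
    obtain ⟨u1, hu1, u2, hu2, rfl⟩ := h.dec v hv
    set k := f * y * f⁻¹ * y with hk
    -- `f⁻¹` on `V1`
    have hf1' : f⁻¹ * u1 * f ∈ V1 := by
      -- finite: `f` induces a permutation of `V1`
      have hinj : Function.Injective (fun v : V1 => (⟨f * v * f⁻¹, hf1 v v.2⟩ : V1)) := by
        intro a b hab
        have h5 : f * (a : G) * f⁻¹ = f * b * f⁻¹ := congrArg Subtype.val hab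
        exact Subtype.ext (mul_left_cancel (mul_right_cancel h5))
      obtain ⟨b, hb⟩ := (Finite.injective_iff_surjective.mp hinj) ⟨u1, hu1⟩
      have hb' : f * (b : G) * f⁻¹ = u1 := congrArg Subtype.val hb
      rw [← hb']
      have : f⁻¹ * (f * (b : G) * f⁻¹) * f = b := by group
      rw [this]; exact b.2
    have e1 : k * u1 * k⁻¹ = u1 := by
      have h5 : k * u1 * k⁻¹ = f * (y * (f⁻¹ * (y * u1 * y⁻¹) * f) * y⁻¹) * f⁻¹ := by
        rw [hk]; group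
      rw [h5, hyconj1 u1 hu1, hyconj1 _ hf1']; group
    have hfi : f⁻¹ * d * f = d * c2 := by
      have h5 : f * (d * c2) * f⁻¹ = d := by
        have : f * (d * c2) * f⁻¹ = (f * d * f⁻¹) * (f * c2 * f⁻¹) := by group
        rw [this, hfd, hfc', mul_assoc, hc2c2, mul_one]
      calc f⁻¹ * d * f = f⁻¹ * (f * (d * c2) * f⁻¹) * f := by rw [h5]
        _ = d * c2 := by group
    have hfic : f⁻¹ * c2 * f = c2 := by
      calc f⁻¹ * c2 * f = f⁻¹ * (c2 * f) := by group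
        _ = f⁻¹ * (f * c2) := by rw [hfc]
        _ = c2 := by group
    have kc : k * c2 * k⁻¹ = c2 := by
      have h5 : k * c2 * k⁻¹ = f * (y * (f⁻¹ * (y * c2 * y⁻¹) * f) * y⁻¹) * f⁻¹ := by
        rw [hk]; group
      rw [h5, ← hd, hfi, hydc, hfc']
    have kd : k * d * k⁻¹ = d := by
      have h5 : k * d * k⁻¹ = f * (y * (f⁻¹ * (y * d * y⁻¹) * f) * y⁻¹) * f⁻¹ := by
        rw [hk]; group
      have h6 : f⁻¹ * (d * c2) * f = d := by
        calc f⁻¹ * (d * c2) * f = (f⁻¹ * d * f) * (f⁻¹ * c2 * f) := by group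
          _ = d * (c2 * c2) := by rw [hfi, hfic, mul_assoc]
          _ = d := by rw [hc2c2, mul_one]
      rw [h5, hyd, h6, hyd]
      calc f * (d * c2) * f⁻¹ = (f * d * f⁻¹) * (f * c2 * f⁻¹) := by group
        _ = d * (c2 * c2) := by rw [hfd, hfc', mul_assoc]
        _ = d := by rw [hc2c2, mul_one]
    have e2 : k * u2 * k⁻¹ = u2 := by
      rcases h4 u2 hu2 with h6 | h6 | h6 | h6
      · rw [h6]; group
      · rw [h6]; exact kc
      · rw [h6]; exact kd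
      · rw [h6, ← hd]
        have h7 : k * (d * c2) * k⁻¹ = (k * d * k⁻¹) * (k * c2 * k⁻¹) := by group
        rw [h7, kd, kc]
    calc k * (u1 * u2) = (k * u1 * k⁻¹) * (k * u2 * k⁻¹) * k := by group
      _ = u1 * u2 * k := by rw [e1, e2]
  -- `g w` commutes with `f`
  set v := f * y * f⁻¹ * y with hvdef
  have hfyf : f * y * f⁻¹ = v * y⁻¹ := by rw [hvdef]; group
  obtain ⟨u1, hu1, u2, hu2, hu12⟩ := h.dec v hfy
  have hu1V := h.le1 hu1
  have hu2V := h.le2 hu2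
  have hwf : w = 1 ∨ w = c2 := by
    -- `f w f⁻¹ = w k`, `k ∈ {1, c2}`
    rcases h4 w hw with h5 | h5 | h5 | h5
    · left; exact h5
    · right; exact h5
    all_goals exfalso
    all_goals
      have hfw : f * w * f⁻¹ = w * c2 := by
        first
        | (rw [h5, ← hd]; exact hfd)
        | (rw [h5, ← hd]
           calc f * (d * c2) * f⁻¹ = (f * d * f⁻¹) * (f * c2 * f⁻¹) := by group
            _ = d * c2 * c2 := by rw [hfd, hfc'])
      -- `f (g w) f⁻¹ = g w c2` commutes with `v y⁻¹`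
      have h6 : f * (g * w) * f⁻¹ = g * w * c2 := by
        calc f * (g * w) * f⁻¹ = (f * g) * f⁻¹ * (f * w * f⁻¹) := by group
          _ = g * (w * c2) := by rw [hfg, hfw]; group
          _ = g * w * c2 := by group
      have h7 : (v * y⁻¹) * (g * w * c2) = g * w * c2 * (v * y⁻¹) := by
        rw [← hfyf, ← h6]
        calc f * y * f⁻¹ * (f * (g * w) * f⁻¹) = f * (y * (g * w)) * f⁻¹ := by group
          _ = f * (g * w * y) * f⁻¹ := by rw [hyw]
          _ = _ := by group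
      -- `y⁻¹ (g w) = g w y⁻¹`
      have h8 : y⁻¹ * (g * w) = g * w * y⁻¹ := by
        calc y⁻¹ * (g * w) = y⁻¹ * (g * w * y) * y⁻¹ := by group
          _ = y⁻¹ * (y * (g * w)) * y⁻¹ := by rw [hyw]
          _ = g * w * y⁻¹ := by group
      have h9 : v * (g * w) * (y⁻¹ * c2 * y) = g * w * c2 * v := by
        calc v * (g * w) * (y⁻¹ * c2 * y) = v * (g * w * y⁻¹) * c2 * y := by group
          _ = v * (y⁻¹ * (g * w)) * c2 * y := by rw [h8]
          _ = (v * y⁻¹) * (g * w * c2) * y := by group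
          _ = g * w * c2 * (v * y⁻¹) * y := by rw [h7]
          _ = _ := by group
      have hcy : y⁻¹ * c2 * y ∈ V2 := hyV2' c2 hc2
      have hgu : g⁻¹ * u1 * g ∈ V1 := hg1' u1 hu1
      -- move `g w` to the left
      have h10 : v * (g * w) = (g * w) * ((g⁻¹ * u1 * g) * u2) := by
        have e1 : u2 * g = g * u2 := (hg2 u2 hu2).symm
        calc v * (g * w) = u1 * (u2 * g) * w := by rw [hu12]; group
          _ = u1 * (g * u2) * w := by rw [e1]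
          _ = g * ((g⁻¹ * u1 * g) * (u2 * w)) := by group
          _ = g * ((g⁻¹ * u1 * g) * (w * u2)) := by rw [hcV u2 hu2V w hwV]
          _ = g * (((g⁻¹ * u1 * g) * w) * u2) := by group
          _ = g * ((w * (g⁻¹ * u1 * g)) * u2) := by rw [hcV _ (h.le1 hgu) w hwV]
          _ = _ := by group
      have h11 : (g⁻¹ * u1 * g) * u2 * (y⁻¹ * c2 * y) = c2 * (u1 * u2) := by
        rw [h10, hu12] at h9
        have h12 : g * w * (g⁻¹ * u1 * g * u2) * (y⁻¹ * c2 * y) =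
            g * w * ((g⁻¹ * u1 * g) * u2 * (y⁻¹ * c2 * y)) := by group
        have h13 : g * w * c2 * (u1 * u2) = g * w * (c2 * (u1 * u2)) := by group
        rw [h12, h13] at h9
        exact mul_left_cancel h9
      have h12 : (g⁻¹ * u1 * g) * u1⁻¹ = c2 * (y⁻¹ * c2 * y)⁻¹ := by
        have e2 : (g⁻¹ * u1 * g) * u2 * (y⁻¹ * c2 * y) =
            (g⁻¹ * u1 * g) * (y⁻¹ * c2 * y) * u2 := by
          rw [mul_assoc, hcV u2 hu2V _ (h.le2 hcy)]; group
        have e3 : c2 * (u1 * u2) = (u1 * c2) * u2 := by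
          rw [← mul_assoc, hcV c2 hc2V u1 hu1V]
        rw [e2, e3] at h11
        have e4 := mul_right_cancel h11
        have e5 : g⁻¹ * u1 * g = u1 * (c2 * (y⁻¹ * c2 * y)⁻¹) := by
          calc g⁻¹ * u1 * g = (g⁻¹ * u1 * g) * (y⁻¹ * c2 * y) * (y⁻¹ * c2 * y)⁻¹ := by group
            _ = u1 * c2 * (y⁻¹ * c2 * y)⁻¹ := by rw [e4]
            _ = _ := by group
        rw [e5, hcV u1 hu1V _ (h.le2 (mul_mem hc2 (inv_mem hcy))), mul_inv_cancel_right]
      have h13 : c2 * (y⁻¹ * c2 * y)⁻¹ = 1 := by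
        refine h.inf _ ?_ (mul_mem hc2 (inv_mem hcy))
        rw [← h12]; exact mul_mem hgu (inv_mem hu1)
      apply h.y_ne hc2 hc2'
      have h14 : c2 = y⁻¹ * c2 * y := mul_inv_eq_one.mp h13
      calc y * c2 * y⁻¹ = y * (y⁻¹ * c2 * y) * y⁻¹ := by rw [← h14]
        _ = c2 := by group
  -- `g` is an involution
  have hyggz : g * g = 1 := by
    rcases hgg with h5 | h5
    · exact h5
    exfalso
    have hww : w * w = 1 := h.sq w hwV
    have h6 : (g * w) * (g * w) = z := by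
      have e1 : w * g = g * w := (hg2 w hw).symm
      calc (g * w) * (g * w) = g * (w * g) * w := by group
        _ = g * (g * w) * w := by rw [e1]
        _ = (g * g) * (w * w) := by group
        _ = z := by rw [h5, hww, mul_one]
    have h7 : y * z = z * y := by
      rw [← h6]
      have hcm : Commute y (g * w) := hyw
      exact (hcm.mul_right hcm).eq
    apply h.y_ne hc2 hc2'
    have h8 : c2 = c1⁻¹ * z := by rw [hz]; group
    have h9 := h.yV1 c1 hc1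
    calc y * c2 * y⁻¹ = (y * c1 * y⁻¹)⁻¹ * (y * z * y⁻¹) := by rw [h8]; group
      _ = (c1 * y * y⁻¹)⁻¹ * (z * y * y⁻¹) := by rw [h9, h7]
      _ = c2 := by rw [h8]; group
  have hgc2 := hg2 c2 hc2
  -- the involution `e`
  obtain ⟨e, he1, hee, hec, hex, hey⟩ : ∃ e : G, e ≠ 1 ∧ e * e = 1 ∧ c2 * e = e * c2 ∧
      x * e = e * x ∧ y * e = e * y := by
    rcases hwf with hw1 | hw1
    · refine ⟨g, hgne, hyggz, hgc2.symm, hxg, ?_⟩
      rw [hw1, mul_one] at hyw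
      exact hyw
    · refine ⟨g * z, ?_, ?_, ?_, ?_, ?_⟩
      · intro h5
        apply hgnz
        have h6 := eq_inv_of_mul_eq_one_left h5
        rw [h6, hinv z hzV]
      · calc g * z * (g * z) = g * (z * g) * z := by group
          _ = g * (g * z) * z := by rw [hgz]
          _ = (g * g) * (z * z) := by group
          _ = 1 := by rw [hyggz, h.sq z hzV, mul_one]
      · calc c2 * (g * z) = (c2 * g) * z := by group
          _ = g * (c2 * z) := by rw [← hgc2]; group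
          _ = g * z * c2 := by rw [hcV c2 hc2V z hzV]; group
      · calc x * (g * z) = (x * g) * z := by group
          _ = g * (x * z) := by rw [hxg]; group
          _ = g * z * x := by rw [hxz]; group
      · rw [hw1] at hyw
        have h6 : g * z = g * c2 * c1 := by
          rw [hz, hcV c1 hc1V c2 hc2V]; group
        rw [h6]
        calc y * (g * c2 * c1) = (y * (g * c2)) * c1 := by group
          _ = g * c2 * (y * c1) := by rw [hyw]; group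
          _ = g * c2 * c1 * y := by rw [h.yV1 c1 hc1]; group
  have hord : orderOf e = 2 := orderOf_eq_prime (by rw [pow_two]; exact hee) he1
  refine killing_centralizer hL (X := closure {c2, x}) (Y := closure {c2, y}) (v := c2)
    (subset_closure (by simp)) hc2' le_rfl le_rfl ?_ hord ?_ ?_
  · have h7 : f ∈ ncl (closure {c2, x}) c2 := by
      rw [hf]; exact conj_mem_ncl (subset_closure (by simp))
    have h8 : d ∈ ncl (closure {c2, y}) c2 := by
      rw [hd]; exact conj_mem_ncl (subset_closure (by simp))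
    have h5 := commutator_mem_commutator h7 h8
    rw [commutatorElement_def, hfd, hcV d hdV c2 hc2V, mul_inv_cancel_right] at h5
    exact h5
  · rw [closure_le]
    rintro g' (rfl | rfl)
    · exact mem_centralizer_singleton_iff.mpr hec
    · exact mem_centralizer_singleton_iff.mpr hex
  · rw [closure_le]
    rintro g' (rfl | rfl)
    · exact mem_centralizer_singleton_iff.mpr hec
    · exact mem_centralizer_singleton_iff.mpr hey

end Dec

/-! ### The subgroup `F` of index two or four in `Q` -/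

theorem index_eq {N Q : Subgroup G} [Finite G] (hN : N ≤ Q) {m : ℕ}
    (hc : Nat.card Q = m * Nat.card N) : (N.subgroupOf Q).index = m := by
  have h1 := (N.subgroupOf Q).card_mul_index
  rw [Nat.card_congr (subgroupOfEquivOfLe hN).toEquiv, hc, mul_comm m] at h1
  exact Nat.eq_of_mul_eq_mul_left Nat.card_pos h1

theorem mul_self_mem_of_two {N Q : Subgroup G} [Finite G] (hN : N ≤ Q)
    (hc : Nat.card Q = 2 * Nat.card N) {q : G} (hq : q ∈ Q) : q * q ∈ N := by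
  have h1 := index_eq hN hc
  have h2 := mul_self_mem_of_index_two h1 ⟨q, hq⟩
  rwa [mem_subgroupOf] at h2

theorem mul_inv_mem_of_two {N Q : Subgroup G} [Finite G] (hN : N ≤ Q)
    (hc : Nat.card Q = 2 * Nat.card N) {q g : G} (hq : q ∈ Q) (hg : g ∈ Q) (hqN : q ∉ N)
    (hgN : g ∉ N) : q * g⁻¹ ∈ N := by
  have h1 := index_eq hN hc
  have h2 := (mul_mem_iff_of_index_two h1 (a := ⟨q, hq⟩) (b := ⟨g, hg⟩⁻¹)).mpr (by
    rw [inv_mem_iff, mem_subgroupOf, mem_subgroupOf]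
    exact iff_of_false hqN hgN)
  rwa [mem_subgroupOf] at h2

theorem comm_mem_of_four {N Q : Subgroup G} [Finite G] (hN : N ≤ Q)
    (hQN : Q ≤ normalizer (N : Set G)) (hc : Nat.card Q = 4 * Nat.card N) {q g : G} (hq : q ∈ Q)
    (hg : g ∈ Q) : q * g * q⁻¹ * g⁻¹ ∈ N := by
  have h1 := index_eq hN hc
  have hn : (N.subgroupOf Q).Normal := normal_subgroupOf_of_le_normalizer hQN
  have : Fact (Nat.Prime 2) := ⟨Nat.prime_two⟩
  have h2 : Nat.card (Q ⧸ N.subgroupOf Q) = 2 ^ 2 := h1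
  have h2' := IsPGroup.isMulCommutative_of_card_eq_prime_sq h2
  have h3 := h2'.is_comm.comm (QuotientGroup.mk' (N.subgroupOf Q) ⟨q, hq⟩)
    (QuotientGroup.mk' (N.subgroupOf Q) ⟨g, hg⟩)
  have h4 : (⟨q, hq⟩ * ⟨g, hg⟩ * ⟨q, hq⟩⁻¹ * ⟨g, hg⟩⁻¹ : Q) ∈ N.subgroupOf Q := by
    rw [← QuotientGroup.ker_mk' (N.subgroupOf Q), MonoidHom.mem_ker, map_mul, map_mul, map_mul,
      map_inv, map_inv, h3]
    group
  rwa [mem_subgroupOf] at h4

/-- the common input of case (1b) -/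
structure Base (P Q V : Subgroup G) (z a r x : G) : Prop extends Ch P Q V a r 3 x where
  rQ : r ∉ Q
  cQ : ∀ g ∈ P, (∀ q ∈ Q, g * q = q * g) → g ∈ Q
  zV : z ∈ V
  zQ : z ∈ Q
  z1 : z ≠ 1
  zP : ∀ g ∈ P, g * z = z * g
  cardD : Nat.card (V ⊓ Q : Subgroup G) = 8

namespace Base

variable {P Q V : Subgroup G} {z a r x : G}

theorem z_mem (h : Base P Q V z a r x) : z ∈ II Q V x := by
  refine mem_inf.mpr ⟨mem_inf.mpr ⟨h.zV, h.zQ⟩, mem_cj.mpr ?_⟩
  have h1 : x⁻¹ * z * x = z := by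
    rw [mul_assoc, ← h.zP x h.xP, inv_mul_cancel_left]
  rw [h1]
  exact mem_inf.mpr ⟨h.zV, h.zQ⟩

theorem mul_self_D (h : Base P Q V z a r x) {d : G} (hd : d ∈ V) : d * d = 1 := by
  rw [← pow_two]; exact h.sq d hd

theorem a_notMem (h : Base P Q V z a r x) : a ∉ Q := by
  intro h1
  have h2 := h.har
  have h3 : a * r * a⁻¹ * r = a * (r * a⁻¹ * r⁻¹) * (r * r) := by group
  rw [h3] at h2
  have h4 : r * a⁻¹ * r⁻¹ ∈ Q := h.conj_Q h.hr (inv_mem h1)
  have h5 : r * r ∈ Q := (mul_mem_cancel_left (mul_mem h1 h4)).mp h2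
  have h6 := h.hrn
  rw [pow_succ, pow_two] at h6
  exact h.rQ ((mul_mem_cancel_left h5).mp h6)

theorem isPGroup3 (h : Base P Q V z a r x) : IsPGroup 3 (zpowers x) := by
  intro g
  refine ⟨1, ?_⟩
  obtain ⟨k, hk⟩ := g.2
  apply Subtype.ext
  show (g : G) ^ 3 ^ 1 = 1
  have hk' : x ^ k = (g : G) := hk
  rw [← hk', pow_one, ← zpow_natCast, ← zpow_mul, mul_comm, zpow_mul, zpow_natCast, h.xn, one_zpow]

theorem not_three_dvd [Finite G] (h : Base P Q V z a r x) {N : Subgroup G} (hN : N ≤ Q) :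
    ¬ 3 ∣ Nat.card N := by
  have : Fact (Nat.Prime 2) := ⟨Nat.prime_two⟩
  have h1 : IsPGroup 2 N := h.two.to_le hN
  obtain ⟨m, hm⟩ := (IsPGroup.iff_card).mp h1
  rw [hm]
  intro h2
  have h3 := (Nat.Prime.dvd_of_dvd_pow Nat.prime_three h2)
  norm_num at h3

/-- `Q = F C_Q(x)` -/
theorem exists_fixed [Finite G] (h : Base P Q V z a r x) {q : G} (hq : q ∈ Q) :
    ∃ c ∈ Q, x * c = c * x ∧ q * c⁻¹ ∈ FF Q V x := by
  have : Fact (Nat.Prime 3) := ⟨Nat.prime_three⟩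
  obtain ⟨c, hc1, hc2⟩ := Cfsg.Agent.Lib.CoprimeCommutator.exists_fixed_in_coset 3 (zpowers x)
    (FF Q V x) h.isPGroup3 (by rw [zpowers_le]; exact h.L_F h.xL) (h.not_three_dvd h.F_le_Q) q
    (by
      intro b hb
      have hbL : b ∈ LL V x := (zpowers_le.mpr h.xL) hb
      have h1 := h.comm_L hbL hq
      have h2 := (mem_normalizer_iff.mp (h.Q_F (inv_mem hq)) _).mp h1
      have h3 : q⁻¹ * (b * q * b⁻¹ * q⁻¹) * q⁻¹⁻¹ = q⁻¹ * (b * q * b⁻¹) := by group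
      rwa [h3] at h2)
  have hcQ : c ∈ Q := by
    have h1 := mul_mem hq (h.F_le_Q hc2)
    rwa [mul_inv_cancel_left] at h1
  refine ⟨c, hcQ, ?_, ?_⟩
  · exact mem_centralizer_iff.mp hc1 x (mem_zpowers x)
  · have h2 := (mem_normalizer_iff.mp (h.Q_F hcQ) _).mp (inv_mem hc2)
    have h3 : c * (q⁻¹ * c)⁻¹ * c⁻¹ = c * c⁻¹ * (q * c⁻¹) := by group
    rw [h3, mul_inv_cancel, one_mul] at h2
    exact h2

/-- `C_F(x) ≤ I` -/
theorem fixed_F (h : Base P Q V z a r x) {f : G} (hf : f ∈ FF Q V x) (hfx : x * f = f * x) :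
    f ∈ II Q V x := by
  refine h.fpf hf ?_
  rw [hfx, mul_inv_cancel_right, mul_inv_cancel]
  exact one_mem _

theorem x_notMem (h : Base P Q V z a r x) : x ∉ Q := by
  intro h1
  apply h.rQ
  have h2 := mul_mem (inv_mem h.xr) h1
  have h3 : (x * r⁻¹)⁻¹ * x = r := by group
  rwa [h3] at h2

/-- `D ≠ D^x` -/
theorem card_I_ne (h : Base P Q V z a r x) [Finite G] : Nat.card (II Q V x) ≠ 8 := by
  intro h8
  have h1 : II Q V x = V ⊓ Q := by
    apply eq_of_le_of_card_ge Ch.I_le_D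
    rw [h.cardD, h8]
  -- `F = I`
  have hcF := h.card_F
  rw [h.cardD, h8] at hcF
  have hF : Nat.card (FF Q V x) = 8 := by omega
  have h2 : II Q V x = FF Q V x := by
    apply eq_of_le_of_card_ge Ch.I_le_F
    rw [hF, h8]
  -- `x` centralises `Q`
  apply h.x_notMem
  refine h.cQ x h.xP ?_
  intro q hq
  have h3 := h.comm_L h.xL hq
  rw [← h2] at h3
  set i := x * q * x⁻¹ * q⁻¹ with hi
  have hxi := h.centI h.xL h3
  have e1 : x * q * x⁻¹ = i * q := by rw [hi]; group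
  have e2 : x * (x * q * x⁻¹) * x⁻¹ = i * i * q := by
    rw [e1]
    calc x * (i * q) * x⁻¹ = (x * i) * q * x⁻¹ := by group
      _ = i * (x * q * x⁻¹) := by rw [hxi]; group
      _ = i * i * q := by rw [e1]; group
  have e3 : x * (x * (x * q * x⁻¹) * x⁻¹) * x⁻¹ = i * i * i * q := by
    rw [e2]
    calc x * (i * i * q) * x⁻¹ = (x * i) * i * q * x⁻¹ := by group
      _ = (i * x) * i * q * x⁻¹ := by rw [hxi]
      _ = i * (x * i) * q * x⁻¹ := by group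
      _ = i * (i * x) * q * x⁻¹ := by rw [hxi]
      _ = i * i * (x * q * x⁻¹) := by group
      _ = i * i * i * q := by rw [e1]; group
  have hii : i * i = 1 := h.mul_self_D (mem_inf.mp (Ch.I_le_D h3)).1
  have hx3 : x * x * x = 1 := by
    have := h.xn
    rwa [pow_succ, pow_two] at this
  have e4 : x * (x * (x * q * x⁻¹) * x⁻¹) * x⁻¹ = q := by
    have : x * (x * (x * q * x⁻¹) * x⁻¹) * x⁻¹ = (x * x * x) * q * (x * x * x)⁻¹ := by group
    rw [this, hx3]; group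
  rw [e4, hii, one_mul] at e3
  have hi1 : i = 1 := by
    have := congrArg (fun t => t * q⁻¹) e3
    simpa using this.symm
  rw [hi1, one_mul] at e1
  calc x * q = x * q * x⁻¹ * x := by group
    _ = q * x := by rw [e1]

theorem Q_I (h : Base P Q V z a r x) {q i : G} (hq : q ∈ Q) (hi : i ∈ II Q V x) :
    q * i * q⁻¹ ∈ II Q V x :=
  mem_inf.mpr ⟨(mem_normalizer_iff.mp (h.Q_D hq) _).mp (mem_inf.mp hi).1,
    (mem_normalizer_iff.mp (h.Q_cjD hq) _).mp (mem_inf.mp hi).2⟩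

theorem comm_mul (h : Base P Q V z a r x) {u v w : G} (hu : u ∈ Q)
    (h1 : u * w * u⁻¹ * w⁻¹ ∈ II Q V x) (h2 : v * w * v⁻¹ * w⁻¹ ∈ II Q V x) :
    (u * v) * w * (u * v)⁻¹ * w⁻¹ ∈ II Q V x := by
  have h3 : (u * v) * w * (u * v)⁻¹ * w⁻¹ = (u * (v * w * v⁻¹ * w⁻¹) * u⁻¹) * (u * w * u⁻¹ * w⁻¹) := by
    group
  rw [h3]
  exact mul_mem (h.Q_I hu h2) h1

theorem comm_symm {u w : G} (h1 : u * w * u⁻¹ * w⁻¹ ∈ II Q V x) :
    w * u * w⁻¹ * u⁻¹ ∈ II Q V x := by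
  have h2 : w * u * w⁻¹ * u⁻¹ = (u * w * u⁻¹ * w⁻¹)⁻¹ := by group
  rw [h2]; exact inv_mem h1

/-- an element commuting with `x` and centralising `D/I` centralises `F/I` -/
theorem comm_F_of_comm_D (h : Base P Q V z a r x) {c : G} (hxc : x * c = c * x)
    (hcD : ∀ d ∈ V ⊓ Q, c * d * c⁻¹ * d⁻¹ ∈ II Q V x) {f : G} (hf : f ∈ FF Q V x) :
    c * f * c⁻¹ * f⁻¹ ∈ II Q V x := by
  obtain ⟨d, hd, e, he, rfl⟩ := h.mem_F hf
  have hxQ : x * e * x⁻¹ ∈ Q := h.conj_Q h.xP (mem_inf.mp he).2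
  have h1 : (x * e * x⁻¹) * c * (x * e * x⁻¹)⁻¹ * c⁻¹ ∈ II Q V x := by
    apply comm_symm
    have h2 : c * (x * e * x⁻¹) * c⁻¹ * (x * e * x⁻¹)⁻¹ = x * (c * e * c⁻¹ * e⁻¹) * x⁻¹ := by
      calc c * (x * e * x⁻¹) * c⁻¹ * (x * e * x⁻¹)⁻¹
          = (c * x) * e * (c * x)⁻¹ * (x * e⁻¹ * x⁻¹) := by group
        _ = (x * c) * e * (x * c)⁻¹ * (x * e⁻¹ * x⁻¹) := by rw [hxc]
        _ = _ := by group
    rw [h2, h.centI h.xL (hcD e he), mul_inv_cancel_right]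
    exact hcD e he
  exact comm_symm (h.comm_mul (mem_inf.mp hd).2 (comm_symm (hcD d hd)) h1)

/-- elements of `F C` -/
theorem comm_FC (h : Base P Q V z a r x) {f c f' c' : G} (hf : f ∈ FF Q V x)
    (hf' : f' ∈ FF Q V x)
    (h1 : ∀ f ∈ FF Q V x, c * f * c⁻¹ * f⁻¹ ∈ II Q V x)
    (h2 : ∀ f ∈ FF Q V x, c' * f * c'⁻¹ * f⁻¹ ∈ II Q V x)
    (h3 : c * c' * c⁻¹ * c'⁻¹ ∈ II Q V x) :
    (f * c) * (f' * c') * (f * c)⁻¹ * (f' * c')⁻¹ ∈ II Q V x := by
  have hfQ := h.F_le_Q hf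
  have hfQ' := h.F_le_Q hf'
  have e1 : (f * c) * f' * (f * c)⁻¹ * f'⁻¹ ∈ II Q V x :=
    h.comm_mul hfQ (h.comm_F hf hf') (h1 f' hf')
  have e2 : (f * c) * c' * (f * c)⁻¹ * c'⁻¹ ∈ II Q V x :=
    h.comm_mul hfQ (comm_symm (h2 f hf)) h3
  exact comm_symm (h.comm_mul hfQ' (comm_symm e1) (comm_symm e2))

theorem sq_FC (h : Base P Q V z a r x) {f c : G} (hf : f ∈ FF Q V x)
    (h1 : ∀ f ∈ FF Q V x, c * f * c⁻¹ * f⁻¹ ∈ II Q V x) (h3 : c * c ∈ II Q V x) :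
    (f * c) * (f * c) ∈ II Q V x := by
  have e1 := h1 f hf
  have e2 := h.centI (h.F_le_L hf) e1
  have e3 : (f * c) * (f * c) = (f * (c * f * c⁻¹ * f⁻¹)) * f * (c * c) := by group
  rw [e3, e2]
  have e4 : c * f * c⁻¹ * f⁻¹ * f * f * (c * c) = (c * f * c⁻¹ * f⁻¹) * (f * f) * (c * c) := by
    group
  rw [e4]
  exact mul_mem (mul_mem e1 (h.sq_F hf)) h3

/-- the case `|I| = 4`: elements commuting with `x` centralise `F/I` -/
theorem comm_of_four [Finite G] (h : Base P Q V z a r x) (h4 : Nat.card (II Q V x) = 4) {c : G}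
    (hc : c ∈ Q) (hxc : x * c = c * x) {f : G} (hf : f ∈ FF Q V x) :
    c * f * c⁻¹ * f⁻¹ ∈ II Q V x := by
  refine h.comm_F_of_comm_D hxc ?_ hf
  intro d hd
  by_cases hdI : d ∈ II Q V x
  · exact mul_mem (h.Q_I hc hdI) (inv_mem hdI)
  · refine mul_inv_mem_of_two Ch.I_le_D (by rw [h.cardD, h4])
      ((mem_normalizer_iff.mp (h.Q_D hc) _).mp hd) hd ?_ hdI
    intro h5
    apply hdI
    have h6 := h.Q_I (inv_mem hc) h5
    have h7 : c⁻¹ * (c * d * c⁻¹) * c⁻¹⁻¹ = d := by group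
    rwa [h7] at h6

theorem card_F' [Finite G] (h : Base P Q V z a r x) :
    Nat.card (FF Q V x) * Nat.card (II Q V x) = 64 := by
  rw [h.card_F, h.cardD]; norm_num

/-- `|I|` is 2 or 4 -/
theorem card_I [Finite G] (h : Base P Q V z a r x) :
    Nat.card (II Q V x) = 2 ∨ Nat.card (II Q V x) = 4 := by
  have h1 : Nat.card (II Q V x) ∣ 8 := by
    rw [← h.cardD]; exact card_dvd_of_le Ch.I_le_D
  have h2 : Nat.card (II Q V x) ≠ 8 := h.card_I_ne
  have h3 : Nat.card (II Q V x) ≠ 1 := by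
    intro h4
    have h5 := eq_bot_of_card_eq _ h4
    have h6 := h.z_mem
    rw [h5] at h6
    exact h.z1 (mem_bot.mp h6)
  have h4 : Nat.card (II Q V x) ≤ 8 := Nat.le_of_dvd (by norm_num) h1
  interval_cases Nat.card (II Q V x) <;> omega

/-- order 32 -/
theorem sq_mem [Finite G] (h : Base P Q V z a r x) (hQ : Nat.card Q = 32) {q : G} (hq : q ∈ Q) :
    q * q ∈ V := by
  have hF := h.card_F'
  have hIV : II Q V x ≤ V := Ch.I_le_D.trans inf_le_left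
  rcases h.card_I with h2 | h4
  · rw [h2] at hF
    have hF' : Nat.card (FF Q V x) = 32 := by omega
    have h3 : FF Q V x = Q := eq_of_le_of_card_ge h.F_le_Q (by rw [hQ, hF'])
    exact hIV (h.sq_F (by rw [h3]; exact hq))
  · rw [h4] at hF
    have hF' : Nat.card (FF Q V x) = 16 := by omega
    obtain ⟨c, hc, hxc, hqc⟩ := h.exists_fixed hq
    have hcc : c * c ∈ II Q V x := by
      refine h.fixed_F (mul_self_mem_of_two h.F_le_Q (by rw [hQ, hF']) hc) ?_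
      rw [← mul_assoc, hxc, mul_assoc, hxc, mul_assoc]
    have h3 := h.sq_FC hqc (fun f hf => h.comm_of_four h4 hc hxc hf) hcc
    rw [inv_mul_cancel_right] at h3
    exact hIV h3

/-- order 64, `|I| = 4` -/
theorem comm_mem [Finite G] (h : Base P Q V z a r x) (hQ : Nat.card Q = 64)
    (h4 : Nat.card (II Q V x) = 4) {q q' : G} (hq : q ∈ Q) (hq' : q' ∈ Q) :
    q * q' * q⁻¹ * q'⁻¹ ∈ V := by
  have hF := h.card_F'
  have hIV : II Q V x ≤ V := Ch.I_le_D.trans inf_le_left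
  rw [h4] at hF
  have hF' : Nat.card (FF Q V x) = 16 := by omega
  obtain ⟨c, hc, hxc, hqc⟩ := h.exists_fixed hq
  obtain ⟨c', hc', hxc', hqc'⟩ := h.exists_fixed hq'
  have hcc : c * c' * c⁻¹ * c'⁻¹ ∈ II Q V x := by
    refine h.fixed_F (comm_mem_of_four h.F_le_Q h.Q_F (by rw [hQ, hF']) hc hc') ?_
    have e1 : Commute x c := hxc
    have e2 : Commute x c' := hxc'
    exact (((e1.mul_right e2).mul_right e1.inv_right).mul_right e2.inv_right).eq
  have h3 := h.comm_FC hqc hqc' (fun f hf => h.comm_of_four h4 hc hxc hf)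
    (fun f hf => h.comm_of_four h4 hc' hxc' hf) hcc
  rw [inv_mul_cancel_right, inv_mul_cancel_right] at h3
  exact hIV h3

end Base

/-! ### The case `|Q| = 64` -/

theorem cj_mul (u v : G) (W : Subgroup G) : cj (u * v) W = cj u (cj v W) := by
  ext g
  rw [mem_cj, mem_cj, mem_cj]
  have : (u * v)⁻¹ * g * (u * v) = v⁻¹ * (u⁻¹ * g * u) * v := by group
  rw [this]

theorem cj_inv {u : G} {W W' : Subgroup G} (h : cj u W = W') : cj u⁻¹ W' = W := by
  rw [← h, ← cj_mul, inv_mul_cancel]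
  ext g
  rw [mem_cj]
  simp

/-- `P₁ = V (K₁ × K₂) S`, `V = V₁ × V₂`, `Q ≤ P₁` -/
structure Two (P1 Q V V1 V2 : Subgroup G) (y1 y2 : G) : Prop where
  d1 : Dec P1 V V1 V2 y2
  d2 : Dec P1 V V2 V1 y1
  QP1 : Q ≤ P1
  perm : ∀ q ∈ Q, (cj q V1 = V1 ∧ cj q V2 = V2) ∨ (cj q V1 = V2 ∧ cj q V2 = V1)
  swap : ∃ q ∈ Q, cj q V1 = V2 ∧ cj q V2 = V1

namespace Two

variable {P1 Q V V1 V2 : Subgroup G} {y1 y2 : G}

theorem symm (t : Two P1 Q V V1 V2 y1 y2) : Two P1 Q V V2 V1 y2 y1 where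
  d1 := t.d2
  d2 := t.d1
  QP1 := t.QP1
  perm := fun q hq => (t.perm q hq).imp And.symm And.symm
  swap := by
    obtain ⟨q, hq, h1, h2⟩ := t.swap
    exact ⟨q, hq, h2, h1⟩

theorem uniq (t : Two P1 Q V V1 V2 y1 y2) {u1 w1 u2 w2 : G} (h1 : u1 ∈ V1) (h1' : w1 ∈ V1)
    (h2 : u2 ∈ V2) (h2' : w2 ∈ V2) (h : u1 * u2 = w1 * w2) : u1 = w1 ∧ u2 = w2 := by
  have h3 : w1⁻¹ * u1 = w2 * u2⁻¹ := by
    have h4 : u1 = w1 * w2 * u2⁻¹ := by rw [← h]; group
    calc w1⁻¹ * u1 = w1⁻¹ * (w1 * w2 * u2⁻¹) := by rw [← h4]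
      _ = w2 * u2⁻¹ := by group
  have h4 : w1⁻¹ * u1 = 1 := t.d1.inf _ (mul_mem (inv_mem h1') h1) (by
    rw [h3]; exact mul_mem h2' (inv_mem h2))
  refine ⟨(inv_mul_eq_one.mp h4).symm, ?_⟩
  rw [h4] at h3
  exact (mul_inv_eq_one.mp h3.symm).symm

theorem conj_mem {q : G} {W W' : Subgroup G} (h : cj q W = W') {v : G} (hv : v ∈ W) :
    q * v * q⁻¹ ∈ W' := by
  rw [← h]; exact conj_mem_cj hv

/-- type one elements fix the components of `z` -/
theorem fix1 (t : Two P1 Q V V1 V2 y1 y2) {c1 c2 z q : G} (hc1 : c1 ∈ V1) (hc2 : c2 ∈ V2)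
    (hz : z = c1 * c2) (hq : q * z = z * q) (h1 : cj q V1 = V1) (h2 : cj q V2 = V2) :
    q * c1 * q⁻¹ = c1 ∧ q * c2 * q⁻¹ = c2 := by
  refine t.uniq (conj_mem h1 hc1) hc1 (conj_mem h2 hc2) hc2 ?_
  rw [← hz]
  calc q * c1 * q⁻¹ * (q * c2 * q⁻¹) = q * (c1 * c2) * q⁻¹ := by group
    _ = q * z * q⁻¹ := by rw [hz]
    _ = z := by rw [hq]; group

theorem fix2 (t : Two P1 Q V V1 V2 y1 y2) {c1 c2 z q : G} (hc1 : c1 ∈ V1) (hc2 : c2 ∈ V2)
    (hz : z = c1 * c2) (hq : q * z = z * q) (h1 : cj q V1 = V2) (h2 : cj q V2 = V1) :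
    q * c1 * q⁻¹ = c2 ∧ q * c2 * q⁻¹ = c1 := by
  have h3 := t.uniq (conj_mem h2 hc2) hc1 (conj_mem h1 hc1) hc2 (by
    rw [← hz]
    have h4 : c1 * c2 = c2 * c1 := t.d1.comm c1 (t.d1.le1 hc1) c2 (t.d1.le2 hc2)
    calc q * c2 * q⁻¹ * (q * c1 * q⁻¹) = q * (c2 * c1) * q⁻¹ := by group
      _ = q * z * q⁻¹ := by rw [hz, h4]
      _ = z := by rw [hq]; group)
  exact ⟨h3.2, h3.1⟩

end Two

/-- the action of a 2-element on a group of order four -/
theorem side {W : Subgroup G} (hW : Nat.card W = 4) (hsq : ∀ v ∈ W, v * v = 1) {c w : G}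
    (hc : c ∈ W) (hw : w ∈ W) (hc1 : c ≠ 1) (hw1 : w ≠ 1) (hwc : w ≠ c) {q : G}
    (hqc : q * c * q⁻¹ = c) (hq : q * w * q⁻¹ ∈ W) (hne : q * w * q⁻¹ ≠ w) :
    q * w * q⁻¹ = w * c := by
  have hinj : ∀ v, q * w * q⁻¹ = q * v * q⁻¹ → w = v := fun v h =>
    mul_left_cancel (mul_right_cancel h)
  rcases OneB.four hW hc hw hc1 hw1 hwc hsq _ hq with h | h | h | h
  · exact absurd (hinj 1 (by rw [h]; group)) hw1
  · exact absurd (hinj c (by rw [h, hqc])) hwc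
  · exact absurd h hne
  · exact h

theorem side_triv {W : Subgroup G} (hW : Nat.card W = 4) (hsq : ∀ v ∈ W, v * v = 1) {c w : G}
    (hc : c ∈ W) (hw : w ∈ W) (hc1 : c ≠ 1) (hw1 : w ≠ 1) (hwc : w ≠ c) {q : G}
    (hqc : q * c * q⁻¹ = c) (hqw : q * w * q⁻¹ = w) {v : G} (hv : v ∈ W) :
    q * v = v * q := by
  have h1 : q * v * q⁻¹ = v := by
    rcases OneB.four hW hc hw hc1 hw1 hwc hsq _ hv with h | h | h | h
    · rw [h]; group
    · rw [h, hqc]
    · rw [h, hqw]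
    · rw [h]
      calc q * (w * c) * q⁻¹ = (q * w * q⁻¹) * (q * c * q⁻¹) := by group
        _ = w * c := by rw [hqc, hqw]
  calc q * v = q * v * q⁻¹ * q := by group
    _ = v * q := by rw [h1]

/-- the facts established in the course of the proof -/
structure Facts (P Q V : Subgroup G) (z a r x : G) (P1 V1 V2 : Subgroup G) (y1 y2 : G)
    (c1 c2 v1 v2 : G) : Prop extends Base P Q V z a r x, Two P1 Q V V1 V2 y1 y2 where
  hI : ∀ i ∈ II Q V x, i = 1 ∨ i = z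
  m1 : c1 ∈ V1
  m2 : c2 ∈ V2
  hz : z = c1 * c2
  c1ne : c1 ≠ 1
  c2ne : c2 ≠ 1
  c1Q : c1 ∈ Q
  c2Q : c2 ∈ Q
  w1 : v1 ∈ V1
  w2 : v2 ∈ V2
  v1Q : v1 ∉ Q
  v2Q : v2 ∉ Q

namespace Facts

variable {P Q V : Subgroup G} {z a r x : G} {P1 V1 V2 : Subgroup G} {y1 y2 : G}
  {c1 c2 v1 v2 : G}

theorem symm (h : Facts P Q V z a r x P1 V1 V2 y1 y2 c1 c2 v1 v2) :
    Facts P Q V z a r x P1 V2 V1 y2 y1 c2 c1 v2 v1 where
  toBase := h.toBase
  toTwo := h.toTwo.symm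
  hI := h.hI
  m1 := h.m2
  m2 := h.m1
  hz := by rw [h.hz]; exact h.comm _ (h.d1.le1 h.m1) _ (h.d1.le2 h.m2)
  c1ne := h.c2ne
  c2ne := h.c1ne
  c1Q := h.c2Q
  c2Q := h.c1Q
  w1 := h.w2
  w2 := h.w1
  v1Q := h.v2Q
  v2Q := h.v1Q

theorem v1ne (h : Facts P Q V z a r x P1 V1 V2 y1 y2 c1 c2 v1 v2) : v1 ≠ 1 := fun h1 =>
  h.v1Q (by rw [h1]; exact one_mem _)

theorem v1c (h : Facts P Q V z a r x P1 V1 V2 y1 y2 c1 c2 v1 v2) : v1 ≠ c1 := fun h1 =>
  h.v1Q (by rw [h1]; exact h.c1Q)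

/-- an element of `Q` centralising `V₁` and `V₂` lies in `D` -/
theorem mem_D (h : Facts P Q V z a r x P1 V1 V2 y1 y2 c1 c2 v1 v2) {q : G} (hq : q ∈ Q)
    (h1 : ∀ v ∈ V1, q * v = v * q) (h2 : ∀ v ∈ V2, q * v = v * q) : q ∈ V ⊓ Q := by
  refine mem_inf.mpr ⟨h.d1.cV q (h.QP1 hq) ?_, hq⟩
  intro v hv
  obtain ⟨u1, hu1, u2, hu2, rfl⟩ := h.d1.dec v hv
  rw [← mul_assoc, h1 u1 hu1, mul_assoc, h2 u2 hu2, mul_assoc]

theorem I_of_D {q : G} (hq : q ∈ V ⊓ Q)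
    (hxq : x * q = q * x) : q ∈ II Q V x := by
  refine mem_inf.mpr ⟨hq, mem_cj.mpr ?_⟩
  have h1 : x⁻¹ * q * x = q := by rw [mul_assoc, ← hxq, inv_mul_cancel_left]
  rw [h1]; exact hq

theorem Qz (h : Facts P Q V z a r x P1 V1 V2 y1 y2 c1 c2 v1 v2) {q : G} (hq : q ∈ Q) :
    q * z = z * q := h.zP q (h.QP hq)

/-- the contradiction, `g` centralises `V₂` -/
theorem final [Finite G] (h : Facts P Q V z a r x P1 V1 V2 y1 y2 c1 c2 v1 v2)
    (hL : ∀ U : Subgroup G, IsPGroup 2 U → U ≠ ⊥ → Group.IsSolvable (normalizer (U : Set G)))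
    {g : G} (hg : g ∈ Q) (hxg : x * g = g * x) (hgg : g * g ∈ II Q V x) (hgI : g ∉ II Q V x)
    (hg1 : cj g V1 = V1) (hg2 : ∀ v ∈ V2, g * v = v * g) : False := by
  set f := x * c2 * x⁻¹ with hf
  have hc2D : c2 ∈ V ⊓ Q := mem_inf.mpr ⟨h.d1.le2 h.m2, h.c2Q⟩
  have hfF : f ∈ FF Q V x := Ch.cjD_le_F (conj_mem_cj hc2D)
  have hfQ : f ∈ Q := h.F_le_Q hfF
  have hxz : x * z = z * x := h.zP x h.xP
  have hfD : f ∉ V ⊓ Q := by
    intro h1
    have h2 : f ∈ II Q V x := mem_inf.mpr ⟨h1, conj_mem_cj hc2D⟩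
    rcases h.hI f h2 with h3 | h3
    · apply h.c2ne
      have : c2 = x⁻¹ * f * x := by rw [hf]; group
      rw [this, h3]; group
    · apply h.c1ne
      have h4 : c2 = z := by
        have h5 : c2 = x⁻¹ * f * x := by rw [hf]; group
        rw [h5, h3, mul_assoc, ← hxz, inv_mul_cancel_left]
      have h5 := h.hz
      rw [← h4] at h5
      exact (mul_eq_right.mp h5.symm)
  have hfg : f * g = g * f := by
    have h5 := hg2 c2 h.m2
    have e1 : Commute g x := hxg.symm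
    have e2 : Commute g c2 := h5
    exact (((e1.mul_right e2).mul_right e1.inv_right).eq).symm
  -- the type of `f`
  rcases h.perm f hfQ with ⟨hf1, hf2⟩ | ⟨hf1, hf2⟩
  swap
  · apply hgI
    refine I_of_D (h.mem_D hg ?_ hg2) hxg
    intro u hu
    rw [← hf2] at hu
    obtain ⟨w, hw, rfl⟩ := hu
    show g * (f * w * f⁻¹) = f * w * f⁻¹ * g
    have e1 : Commute g f := hfg.symm
    have e2 : Commute g w := hg2 w hw
    exact ((e1.mul_right e2).mul_right e1.inv_right).eq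
  obtain ⟨hfc1, hfc2⟩ := h.fix1 h.m1 h.m2 h.hz (h.Qz hfQ) hf1 hf2
  -- `f` does not centralise `V₂`
  have hfn : ∃ v ∈ V2, f * v ≠ v * f := by
    by_contra hcon
    push Not at hcon
    apply hfD
    refine h.mem_D hfQ ?_ hcon
    intro v hv
    -- `u = v1 v2 ∈ D`
    have hu : v1 * v2 ∈ V ⊓ Q := by
      have h1 := (h.hVa v1 (h.d1.le1 h.w1)).resolve_left h.v1Q
      have h2 := (h.hVa v2 (h.d1.le2 h.w2)).resolve_left h.v2Q
      refine mem_inf.mpr ⟨mul_mem (h.d1.le1 h.w1) (h.d1.le2 h.w2), ?_⟩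
      have h3 := mul_mem h1 h2
      have h4 : v1 * a * (v2 * a) = v1 * v2 := by
        rw [h.comm v2 (h.d1.le2 h.w2) a h.ha]
        calc v1 * a * (a * v2) = v1 * (a * a) * v2 := by group
          _ = v1 * v2 := by rw [h.mul_self_D h.ha, mul_one]
      rwa [h4] at h3
    have h1 := h.comm_F hfF (Ch.D_le_F hu)
    have h2 : f * (v1 * v2) * f⁻¹ * (v1 * v2)⁻¹ = f * v1 * f⁻¹ * v1⁻¹ := by
      have h3 := hcon v2 h.w2
      calc f * (v1 * v2) * f⁻¹ * (v1 * v2)⁻¹ = f * v1 * (v2 * f⁻¹ * v2⁻¹) * v1⁻¹ := by group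
        _ = f * v1 * (f⁻¹ * (f * v2) * f⁻¹ * v2⁻¹) * v1⁻¹ := by group
        _ = f * v1 * (f⁻¹ * (v2 * f) * f⁻¹ * v2⁻¹) * v1⁻¹ := by rw [h3]
        _ = _ := by group
    rw [h2] at h1
    have h3 : f * v1 * f⁻¹ * v1⁻¹ ∈ V1 := mul_mem (Two.conj_mem hf1 h.w1) (inv_mem h.w1)
    have h4 : f * v1 * f⁻¹ = v1 := by
      rcases h.hI _ h1 with h5 | h5
      · exact mul_inv_eq_one.mp h5
      · exfalso
        rw [h5] at h3
        apply h.c2ne
        refine h.d1.inf c2 ?_ h.m2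
        have h6 : c2 = c1⁻¹ * z := by rw [h.hz]; group
        rw [h6]
        exact mul_mem (inv_mem h.m1) h3
    exact side_triv h.d2.card2 (fun v hv => h.d1.sq v (h.d1.le1 hv)) h.m1 h.w1 h.c1ne h.v1ne h.v1c
      hfc1 h4 hv
  refine h.d1.kill hL (c1 := c1) (c2 := c2) (z := z) (x := x) (g := g) (f := f) h.m1 h.m2 h.c2ne
    h.hz (h.QP1 hg) hg2 (fun v hv => Two.conj_mem hg1 hv) (h.hI _ hgg) ?_ ?_ hxg hxz
    (h.Qz hg).symm hf (h.QP1 hfQ) (fun v hv => Two.conj_mem hf1 hv)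
    (fun v hv => Two.conj_mem hf2 hv) ?_ hfn
  · intro h1; exact hgI (by rw [h1]; exact one_mem _)
  · intro h1; exact hgI (by rw [h1]; exact h.z_mem)
  · calc f * c2 = f * c2 * f⁻¹ * f := by group
      _ = c2 * f := by rw [hfc2]

theorem z_comm (h : Facts P Q V z a r x P1 V1 V2 y1 y2 c1 c2 v1 v2) {v : G} (hv : v ∈ V) :
    v * z = z * v := h.comm v hv z h.zV

theorem mem_one (h : Facts P Q V z a r x P1 V1 V2 y1 y2 c1 c2 v1 v2) {v : G} (hv : v ∈ V1)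
    (hvQ : v ∈ Q) : v = 1 ∨ v = c1 := by
  rcases OneB.four h.d2.card2 h.m1 h.w1 h.c1ne h.v1ne h.v1c
    (fun v hv => h.d1.sq v (h.d1.le1 hv)) v hv with h1 | h1 | h1 | h1
  · exact Or.inl h1
  · exact Or.inr h1
  · exact absurd (h1 ▸ hvQ) h.v1Q
  · exfalso
    rw [h1] at hvQ
    exact h.v1Q ((mul_mem_cancel_right h.c1Q).mp hvQ)

theorem mem_not (h : Facts P Q V z a r x P1 V1 V2 y1 y2 c1 c2 v1 v2) {v w : G} (hv : v ∈ V1)
    (hvQ : v ∉ Q) (hw : w ∈ V1) (hwQ : w ∉ Q) : w = v ∨ w = v * c1 := by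
  have hv1 : v ≠ 1 := fun h1 => hvQ (by rw [h1]; exact one_mem _)
  have hvc : v ≠ c1 := fun h1 => hvQ (by rw [h1]; exact h.c1Q)
  rcases OneB.four h.d2.card2 h.m1 hv h.c1ne hv1 hvc
    (fun v hv => h.d1.sq v (h.d1.le1 hv)) w hw with h1 | h1 | h1 | h1
  · exact absurd (by rw [h1]; exact one_mem _) hwQ
  · exact absurd (by rw [h1]; exact h.c1Q) hwQ
  · exact Or.inl h1
  · exact Or.inr h1

/-- elements of type one: either trivial on `V₁` or `v ↦ v c₁` for `v ∉ D` -/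
theorem act1 (h : Facts P Q V z a r x P1 V1 V2 y1 y2 c1 c2 v1 v2) {g : G} (hg : g ∈ Q)
    (h1 : cj g V1 = V1) (h2 : cj g V2 = V2) :
    (∀ v ∈ V1, g * v = v * g) ∨ (∀ v ∈ V1, v ∉ Q → g * v * g⁻¹ = v * c1) := by
  obtain ⟨hc1, hc2⟩ := h.fix1 h.m1 h.m2 h.hz (h.Qz hg) h1 h2
  by_cases hv : g * v1 * g⁻¹ = v1
  · left
    intro v hv'
    exact side_triv h.d2.card2 (fun v hv => h.d1.sq v (h.d1.le1 hv)) h.m1 h.w1 h.c1ne h.v1ne h.v1c
      hc1 hv hv'
  · right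
    have h3 : g * v1 * g⁻¹ = v1 * c1 :=
      side h.d2.card2 (fun v hv => h.d1.sq v (h.d1.le1 hv)) h.m1 h.w1 h.c1ne h.v1ne h.v1c hc1
        (Two.conj_mem h1 h.w1) hv
    intro v hv' hvQ
    rcases h.mem_not h.w1 h.v1Q hv' hvQ with h4 | h4
    · rw [h4, h3]
    · rw [h4]
      calc g * (v1 * c1) * g⁻¹ = (g * v1 * g⁻¹) * (g * c1 * g⁻¹) := by group
        _ = v1 * c1 * c1 := by rw [h3, hc1]

/-- the crucial step: `g` centralises `V₁` or `V₂` -/
theorem triv_or_triv (h : Facts P Q V z a r x P1 V1 V2 y1 y2 c1 c2 v1 v2) {g : G} (hg : g ∈ Q)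
    (hgg : g * g ∈ II Q V x) (hgD : ∃ d ∈ V ⊓ Q, g * d * g⁻¹ * d⁻¹ ∉ II Q V x) :
    (cj g V1 = V1 ∧ cj g V2 = V2) ∧
      ((∀ v ∈ V2, g * v = v * g) ∨ (∀ v ∈ V1, g * v = v * g)) := by
  obtain ⟨d, hd, hdI⟩ := hgD
  have h1I : (1 : G) ∈ II Q V x := one_mem _
  have hzI := h.z_mem
  have hcV := h.d1.comm
  have hz2 : z * z = 1 := h.mul_self_D h.zV
  obtain ⟨u1, hu1, u2, hu2, rfl⟩ := h.d1.dec d (mem_inf.mp hd).1
  have hu1V := h.d1.le1 hu1
  have hu2V := h.d1.le2 hu2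
  have hdQ := (mem_inf.mp hd).2
  have hc1V := h.d1.le1 h.m1
  have hc2V := h.d1.le2 h.m2
  -- it suffices that `g d g⁻¹` is `d` or `d z`
  have key : ∀ {q : G}, g * (u1 * u2) * g⁻¹ = q → q = u1 * u2 ∨ q = u1 * u2 * z → False := by
    rintro q h1 (rfl | rfl)
    · apply hdI
      rw [h1, mul_inv_cancel]; exact h1I
    · apply hdI
      rw [h1, h.z_comm (mul_mem hu1V hu2V), mul_inv_cancel_right]; exact hzI
  have hggV : ∀ v ∈ V, g * (g * v * g⁻¹) * g⁻¹ = v := by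
    intro v hv
    have h1 : g * (g * v * g⁻¹) * g⁻¹ = (g * g) * v * (g * g)⁻¹ := by group
    rw [h1]
    rcases h.hI _ hgg with h2 | h2
    · rw [h2]; group
    · rw [h2, ← h.z_comm hv, mul_inv_cancel_right]
  have hgQ : ∀ v : G, g * v * g⁻¹ ∈ Q ↔ v ∈ Q := fun v =>
    (mem_normalizer_iff.mp (le_normalizer hg) v).symm
  rcases h.perm g hg with ⟨hg1, hg2⟩ | ⟨hg1, hg2⟩
  · refine ⟨⟨hg1, hg2⟩, ?_⟩
    rcases h.act1 hg hg1 hg2 with h3 | h3
    · exact Or.inr h3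
    rcases h.symm.act1 hg hg2 hg1 with h4 | h4
    · exact Or.inl h4
    exfalso
    obtain ⟨hc1, hc2⟩ := h.fix1 h.m1 h.m2 h.hz (h.Qz hg) hg1 hg2
    by_cases hu1Q : u1 ∈ Q
    · have hu2Q : u2 ∈ Q := (mul_mem_cancel_left hu1Q).mp hdQ
      refine key ?_ (Or.inl rfl)
      have e1 : g * u1 * g⁻¹ = u1 := by
        rcases h.mem_one hu1 hu1Q with h5 | h5
        · rw [h5]; group
        · rw [h5, hc1]
      have e2 : g * u2 * g⁻¹ = u2 := by
        rcases h.symm.mem_one hu2 hu2Q with h5 | h5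
        · rw [h5]; group
        · rw [h5, hc2]
      calc g * (u1 * u2) * g⁻¹ = (g * u1 * g⁻¹) * (g * u2 * g⁻¹) := by group
        _ = u1 * u2 := by rw [e1, e2]
    · have hu2Q : u2 ∉ Q := fun h5 => hu1Q ((mul_mem_cancel_right h5).mp hdQ)
      refine key ?_ (Or.inr rfl)
      calc g * (u1 * u2) * g⁻¹ = (g * u1 * g⁻¹) * (g * u2 * g⁻¹) := by group
        _ = (u1 * c1) * (u2 * c2) := by rw [h3 u1 hu1 hu1Q, h4 u2 hu2 hu2Q]
        _ = u1 * (c1 * u2) * c2 := by group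
        _ = u1 * (u2 * c1) * c2 := by rw [hcV c1 hc1V u2 hu2V]
        _ = u1 * u2 * z := by rw [h.hz]; group
  · exfalso
    obtain ⟨hc1, hc2⟩ := h.fix2 h.m1 h.m2 h.hz (h.Qz hg) hg1 hg2
    have hc12 : c2 * z = c1 := by
      rw [h.hz, hcV c1 hc1V c2 hc2V, ← mul_assoc, h.mul_self_D hc2V, one_mul]
    have hc21 : c1 * z = c2 := by
      rw [h.hz, ← mul_assoc, h.mul_self_D hc1V, one_mul]
    by_cases hu1Q : u1 ∈ Q
    · have hu2Q : u2 ∈ Q := (mul_mem_cancel_left hu1Q).mp hdQ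
      rcases h.mem_one hu1 hu1Q with h5 | h5 <;> rcases h.symm.mem_one hu2 hu2Q with h6 | h6
      · refine key (q := 1) ?_ (Or.inl ?_)
        · rw [h5, h6]; group
        · rw [h5, h6]; group
      · refine key (q := c1) ?_ (Or.inr ?_)
        · rw [h5, h6, one_mul, hc2]
        · rw [h5, h6, one_mul, hc12]
      · refine key (q := c2) ?_ (Or.inr ?_)
        · rw [h5, h6, mul_one, hc1]
        · rw [h5, h6, mul_one, hc21]
      · refine key (q := z) ?_ (Or.inl ?_)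
        · rw [h5, h6, ← h.hz, h.Qz hg]; group
        · rw [h5, h6, h.hz]
    · have hu2Q : u2 ∉ Q := fun h5 => hu1Q ((mul_mem_cancel_right h5).mp hdQ)
      have e1 : g * u1 * g⁻¹ ∈ V2 := Two.conj_mem hg1 hu1
      rcases h.symm.mem_not hu2 hu2Q e1 (fun h5 => hu1Q ((hgQ u1).mp h5)) with h5 | h5
      · have h6 := hggV u1 hu1V
        rw [h5] at h6
        refine key ?_ (Or.inl ?_) (q := u2 * u1)
        · calc g * (u1 * u2) * g⁻¹ = (g * u1 * g⁻¹) * (g * u2 * g⁻¹) := by group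
            _ = u2 * u1 := by rw [h5, h6]
        · exact hcV _ hu2V _ hu1V
      · have h6 := hggV u1 hu1V
        rw [h5] at h6
        have h7 : g * u2 * g⁻¹ = u1 * c1 := by
          have h8 : g * (u2 * c2) * g⁻¹ = (g * u2 * g⁻¹) * (g * c2 * g⁻¹) := by group
          rw [h8, hc2] at h6
          calc g * u2 * g⁻¹ = (g * u2 * g⁻¹) * c1 * c1⁻¹ := by group
            _ = u1 * c1⁻¹ := by rw [h6]
            _ = u1 * c1 := by rw [inv_eq_of_mul_eq_one_left (h.mul_self_D hc1V)]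
        refine key ?_ (Or.inr ?_) (q := (u2 * c2) * (u1 * c1))
        · calc g * (u1 * u2) * g⁻¹ = (g * u1 * g⁻¹) * (g * u2 * g⁻¹) := by group
            _ = (u2 * c2) * (u1 * c1) := by rw [h5, h7]
        · calc (u2 * c2) * (u1 * c1) = (u1 * c1) * (u2 * c2) :=
                hcV _ (mul_mem hu2V hc2V) _ (mul_mem hu1V hc1V)
            _ = u1 * (c1 * u2) * c2 := by group
            _ = u1 * (u2 * c1) * c2 := by rw [hcV c1 hc1V u2 hu2V]
            _ = u1 * u2 * z := by rw [h.hz]; group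

end Facts

/-- elements of type one -/
theorem Two.cj_comm {P1 Q V V1 V2 : Subgroup G} {y1 y2 : G} (t : Two P1 Q V V1 V2 y1 y2) {q q' : G}
    (hq : q ∈ Q) (hq' : q' ∈ Q) :
    cj (q * q' * q⁻¹ * q'⁻¹) V1 = V1 ∧ cj (q * q' * q⁻¹ * q'⁻¹) V2 = V2 := by
  rcases t.perm q hq with ⟨h1, h2⟩ | ⟨h1, h2⟩ <;> rcases t.perm q' hq' with ⟨h3, h4⟩ | ⟨h3, h4⟩ <;>
  · have e1 := cj_inv h1
    have e2 := cj_inv h2
    have e3 := cj_inv h3
    have e4 := cj_inv h4
    simp only [cj_mul, h1, h2, h3, h4, e1, e2, e3, e4, and_self]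

theorem Base.exists_facts [Finite G] {P Q V : Subgroup G} {z a r x : G} (h : Base P Q V z a r x)
    {P1 V1 V2 : Subgroup G} {y1 y2 : G} (t : Two P1 Q V V1 V2 y1 y2)
    (hI : Nat.card (II Q V x) = 2)
    (hnc : ∃ q ∈ Q, ∃ q' ∈ Q, q * q' * q⁻¹ * q'⁻¹ ∉ V) :
    ∃ c1 c2 v1 v2, Facts P Q V z a r x P1 V1 V2 y1 y2 c1 c2 v1 v2 := by
  obtain ⟨c1, hc1, c2, hc2, hz⟩ := t.d1.dec z h.zV
  have hI' : ∀ i ∈ II Q V x, i = 1 ∨ i = z := by
    intro i hi
    obtain ⟨y, hy⟩ := (Nat.card_eq_two_iff' (1 : II Q V x)).mp hI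
    by_contra hcon
    push Not at hcon
    have h1 := hy.2 ⟨i, hi⟩ (fun h1 => hcon.1 (congrArg Subtype.val h1))
    have h2 := hy.2 ⟨z, h.z_mem⟩ (fun h1 => h.z1 (congrArg Subtype.val h1))
    exact hcon.2 (congrArg Subtype.val (h1.trans h2.symm))
  obtain ⟨q0, hq0, hs1, hs2⟩ := t.swap
  have hQz : ∀ q ∈ Q, q * z = z * q := fun q hq => h.zP q (h.QP hq)
  obtain ⟨e1, e2⟩ := t.fix2 hc1 hc2 hz (hQz q0 hq0) hs1 hs2
  have hc1ne : c1 ≠ 1 := by
    intro h1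
    have h2 : c2 = 1 := by rw [← e1, h1]; group
    exact h.z1 (by rw [hz, h1, h2, one_mul])
  have hc2ne : c2 ≠ 1 := by
    intro h1
    have h2 : c1 = 1 := by rw [← e2, h1]; group
    exact hc1ne h2
  -- elements outside `D`
  have hV1 : ∃ v1 ∈ V1, v1 ∉ Q := by
    by_contra hcon
    push Not at hcon
    apply h.a_notMem
    obtain ⟨a1, ha1, a2, ha2, rfl⟩ := t.d1.dec a h.ha
    refine mul_mem (hcon a1 ha1) ?_
    rw [← hs1] at ha2
    obtain ⟨b, hb, rfl⟩ := ha2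
    exact mul_mem (mul_mem hq0 (hcon b hb)) (inv_mem hq0)
  have hV2 : ∃ v2 ∈ V2, v2 ∉ Q := by
    obtain ⟨v1, hv1, hv1Q⟩ := hV1
    refine ⟨q0 * v1 * q0⁻¹, Two.conj_mem hs1 hv1, fun h1 => hv1Q ?_⟩
    exact (mem_normalizer_iff.mp (le_normalizer hq0) v1).mpr h1
  obtain ⟨v1, hv1, hv1Q⟩ := hV1
  obtain ⟨v2, hv2, hv2Q⟩ := hV2
  -- `c1, c2 ∈ Q`
  have hc12 : c1 ∈ Q ∧ c2 ∈ Q := by
    obtain ⟨q, hq, q', hq', hk⟩ := hnc
    obtain ⟨k1, k2⟩ := t.cj_comm hq hq'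
    set k := q * q' * q⁻¹ * q'⁻¹ with hkdef
    have hkQ : k ∈ Q := mul_mem (mul_mem (mul_mem hq hq') (inv_mem hq)) (inv_mem hq')
    obtain ⟨f1, f2⟩ := t.fix1 hc1 hc2 hz (hQz k hkQ) k1 k2
    have hzQ := h.zQ
    by_cases hk2 : ∀ v ∈ V2, k * v = v * k
    · -- nontrivial on `V1`
      have hk1 : ∃ v ∈ V1, k * v ≠ v * k := by
        by_contra hcon
        push Not at hcon
        apply hk
        refine t.d1.cV k (t.QP1 hkQ) ?_
        intro v hv
        obtain ⟨u1, hu1, u2, hu2, rfl⟩ := t.d1.dec v hv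
        rw [← mul_assoc, hcon u1 hu1, mul_assoc, hk2 u2 hu2, mul_assoc]
      obtain ⟨v, hv, hvk⟩ := hk1
      have hne : k * v * k⁻¹ ≠ v := fun h1 => hvk (by
        calc k * v = k * v * k⁻¹ * k := by group
          _ = v * k := by rw [h1])
      have h3 : k * v * k⁻¹ = v * c1 := by
        refine side t.d2.card2 (fun v hv => t.d1.sq v (t.d1.le1 hv)) hc1 hv hc1ne ?_ ?_ f1
          (Two.conj_mem k1 hv) hne
        · rintro rfl; exact hvk (by group)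
        · rintro rfl; exact hne f1
      have h4 : c1 ∈ Q := by
        have h5 : v⁻¹ * k * v⁻¹⁻¹ * k⁻¹ ∈ V ⊓ Q := h.comm_V (inv_mem (t.d1.le1 hv)) hkQ
        have h6 : v⁻¹ * k * v⁻¹⁻¹ * k⁻¹ = v⁻¹ * (k * v * k⁻¹) := by group
        rw [h6, h3, inv_mul_cancel_left] at h5
        exact (mem_inf.mp h5).2
      refine ⟨h4, ?_⟩
      have h5 : c2 = c1⁻¹ * z := by rw [hz]; group
      rw [h5]; exact mul_mem (inv_mem h4) hzQ
    · push Not at hk2
      obtain ⟨v, hv, hvk⟩ := hk2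
      have hne : k * v * k⁻¹ ≠ v := fun h1 => hvk (by
        calc k * v = k * v * k⁻¹ * k := by group
          _ = v * k := by rw [h1])
      have h3 : k * v * k⁻¹ = v * c2 := by
        refine side t.d1.card2 (fun v hv => t.d1.sq v (t.d1.le2 hv)) hc2 hv hc2ne ?_ ?_ f2
          (Two.conj_mem k2 hv) hne
        · rintro rfl; exact hvk (by group)
        · rintro rfl; exact hne f2
      have h4 : c2 ∈ Q := by
        have h5 : v⁻¹ * k * v⁻¹⁻¹ * k⁻¹ ∈ V ⊓ Q := h.comm_V (inv_mem (t.d1.le2 hv)) hkQ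
        have h6 : v⁻¹ * k * v⁻¹⁻¹ * k⁻¹ = v⁻¹ * (k * v * k⁻¹) := by group
        rw [h6, h3, inv_mul_cancel_left] at h5
        exact (mem_inf.mp h5).2
      refine ⟨?_, h4⟩
      have h5 : c1 = z * c2⁻¹ := by rw [hz]; group
      rw [h5]; exact mul_mem hzQ (inv_mem h4)
  refine ⟨c1, c2, v1, v2, ?_⟩
  exact
    { toBase := h
      toTwo := t
      hI := hI'
      m1 := hc1
      m2 := hc2
      hz := hz
      c1ne := hc1ne
      c2ne := hc2ne
      c1Q := hc12.1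
      c2Q := hc12.2
      w1 := hv1
      w2 := hv2
      v1Q := hv1Q
      v2Q := hv2Q }

/-- The contradiction in the case `|Q| = 64`. -/
theorem Base.false_of_64 [Finite G] {P Q V : Subgroup G} {z a r x : G} (h : Base P Q V z a r x)
    {P1 V1 V2 : Subgroup G} {y1 y2 : G} (t : Two P1 Q V V1 V2 y1 y2)
    (hL : ∀ U : Subgroup G, IsPGroup 2 U → U ≠ ⊥ → Group.IsSolvable (normalizer (U : Set G)))
    (hQ : Nat.card Q = 64) (hnc : ∃ q ∈ Q, ∃ q' ∈ Q, q * q' * q⁻¹ * q'⁻¹ ∉ V) : False := by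
  have hI2 : Nat.card (II Q V x) = 2 := by
    rcases h.card_I with h2 | h4
    · exact h2
    · exfalso
      obtain ⟨q, hq, q', hq', hk⟩ := hnc
      exact hk (h.comm_mem hQ h4 hq hq')
  have hF := h.card_F'
  rw [hI2] at hF
  have hF' : Nat.card (FF Q V x) = 32 := by omega
  have hQF : Nat.card Q = 2 * Nat.card (FF Q V x) := by rw [hQ, hF']
  obtain ⟨c1, c2, v1, v2, hf⟩ := h.exists_facts t hI2 hnc
  -- choose `g`
  obtain ⟨q, hq, hqF⟩ : ∃ q ∈ Q, q ∉ FF Q V x := by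
    by_contra hcon
    push Not at hcon
    have h1 : Q ≤ FF Q V x := hcon
    have h2 := card_dvd_of_le h1
    have h3 := Nat.le_of_dvd Nat.card_pos h2
    omega
  obtain ⟨g, hg, hxg, hqg⟩ := h.exists_fixed hq
  have hgF : g ∉ FF Q V x := by
    intro h1
    apply hqF
    have h2 := mul_mem hqg h1
    rwa [inv_mul_cancel_right] at h2
  have hgg : g * g ∈ II Q V x := by
    refine h.fixed_F (mul_self_mem_of_two h.F_le_Q hQF hg) ?_
    rw [← mul_assoc, hxg, mul_assoc, hxg, mul_assoc]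
  have hgI : g ∉ II Q V x := fun h1 => hgF (Ch.I_le_F h1)
  have hgD : ∃ d ∈ V ⊓ Q, g * d * g⁻¹ * d⁻¹ ∉ II Q V x := by
    by_contra hcon
    push Not at hcon
    have h1 : ∀ f ∈ FF Q V x, g * f * g⁻¹ * f⁻¹ ∈ II Q V x := fun f hf =>
      h.comm_F_of_comm_D hxg hcon hf
    have h2 : ∀ f ∈ FF Q V x, (1 : G) * f * 1⁻¹ * f⁻¹ ∈ II Q V x := by
      intro f _
      rw [one_mul, inv_one, mul_one, mul_inv_cancel]; exact one_mem _
    have h3 : ∀ q ∈ Q, ∃ f ∈ FF Q V x, ∃ c, (c = 1 ∨ c = g) ∧ q = f * c := by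
      intro q hq
      by_cases hqF : q ∈ FF Q V x
      · exact ⟨q, hqF, 1, Or.inl rfl, (mul_one q).symm⟩
      · exact ⟨q * g⁻¹, mul_inv_mem_of_two h.F_le_Q hQF hq hg hqF hgF, g, Or.inr rfl, by group⟩
    have h4 : ∀ c, (c = 1 ∨ c = g) → ∀ f ∈ FF Q V x, c * f * c⁻¹ * f⁻¹ ∈ II Q V x := by
      rintro c (rfl | rfl)
      · exact h2
      · exact h1
    obtain ⟨q, hq, q', hq', hk⟩ := hnc
    apply hk
    obtain ⟨f, hf, c, hc, rfl⟩ := h3 q hq
    obtain ⟨f', hf', c', hc', rfl⟩ := h3 q' hq'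
    have hIV : II Q V x ≤ V := Ch.I_le_D.trans inf_le_left
    refine hIV (h.comm_FC hf hf' (h4 c hc) (h4 c' hc') ?_)
    have h5 : c * c' * c⁻¹ * c'⁻¹ = 1 := by
      rcases hc with rfl | rfl <;> rcases hc' with rfl | rfl <;> group
    rw [h5]; exact one_mem _
  obtain ⟨⟨hg1, hg2⟩, h5 | h5⟩ := hf.triv_or_triv hg hgg hgD
  · exact hf.final hL hg hxg hgg hgI hg1 h5
  · exact hf.symm.final hL hg hxg hgg hgI hg2 h5

end Cfsg.Agent.SectRankFour.C2.OneB
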