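import Cfsg.Agent.SectRankFour.C2.ParIndex
import Cfsg.Agent.SectRankFour.C2.OneB

/-!
# S0517, section (1b): from the pair of minimal parabolics to the core

* `exists_frat'`: the Frattini section `O₂(P)/B` with the nongenerator property;
* `exists_two`: for `|R| = 9` and `V = O₂(P)` the decomposition `V = V₁ × V₂`;
* `false_of_three`.
-/

set_option autoImplicit false

namespace Cfsg.Agent.SectRankFour.C2.OneBWire

open Subgroup Cfsg Cfsg.Agent.ZN Cfsg.Agent.MinSimple.MinParabolic Cfsg.Agent.MinSimple.VModule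
open Cfsg.Agent.SectRankFour.C2.Defs Cfsg.Agent.SectRankFour.C2.ParFacts
open Cfsg.Agent.SectRankFour.C2.ParIndex Cfsg.Agent.SectRankFour.C2.DA
open Cfsg.Agent.SectRankFour.C2.OneB
open Cfsg.Agent.SectRankFour.C2.Par (Sec)
open scoped commutatorElement

universe u

variable {G : Type u} [Group G]

/-- The Frattini section, with the nongenerator property. -/
theorem exists_frat' [Finite G] {P : Subgroup G} (hc : P ⊓ centralizer (o2 P : Set G) ≤ o2 P) :
    ∃ B : Subgroup G, Sec P (o2 P) B ∧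
      (∀ g ∈ P, (∀ a ∈ o2 P, g * a * g⁻¹ * a⁻¹ ∈ B) → g ∈ o2 P) ∧
      (∀ M ≤ o2 P, (∀ x ∈ o2 P, ∀ y ∈ o2 P, x ∉ M → y ∉ M → x * y ∈ M) → B ≤ M) ∧
      (∀ M ≤ o2 P, M ⊔ B = o2 P → M = o2 P) := by
  classical
  have h2 : Fact (Nat.Prime 2) := ⟨Nat.prime_two⟩
  set Q : Subgroup P := pCore 2 P with hQ
  have hQn : Q.Normal := Lib.Cores.pCore_normal 2
  have hQp : IsPGroup 2 Q := Lib.Cores.pCore_isPGroup 2
  have hQc : centralizer (Q : Set P) ≤ Q := by
    intro x hx
    have h1 : (x : G) ∈ P ⊓ centralizer (o2 P : Set G) := by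
      refine ⟨x.2, ?_⟩
      refine mem_centralizer_iff.mpr ?_
      rintro _ ⟨y, hy, rfl⟩
      exact congrArg Subtype.val (mem_centralizer_iff.mp hx y hy)
    obtain ⟨y, hy, hyx⟩ := hc h1
    rwa [Subtype.ext hyx] at hy
  set F : Subgroup P := (_root_.frattini Q).map Q.subtype with hF
  have hFn : F.Normal := by
    have h1 : (_root_.frattini Q).Characteristic := frattini_characteristic
    exact inferInstance
  have hFQ : F ≤ Q := map_subtype_le _
  have hker := PLocal.SectionFrattini.isPGroup_sectionKernel_frattini Q hQp hQc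
  have hkn : (sectionKernel Q F).Normal := by
    have h1 : (Q.map (QuotientGroup.mk' F)).Normal := hQn.map _ (QuotientGroup.mk'_surjective F)
    have : (centralizer ((Q.map (QuotientGroup.mk' F) : Subgroup (P ⧸ F)) : Set (P ⧸ F))).Normal :=
      inferInstance
    exact this.comap (QuotientGroup.mk' F)
  have hmem : ∀ {x : P}, (x : G) ∈ F.map P.subtype → x ∈ F := by
    rintro x ⟨y, hy, hyx⟩
    have : y = x := Subtype.ext hyx
    rwa [← this]
  -- the comparison of subgroups of `o2 P` with subgroups of `Q`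
  have hQo : ∀ x : P, x ∈ Q ↔ (x : G) ∈ o2 P := by
    intro x
    constructor
    · intro hx
      exact ⟨x, hx, rfl⟩
    · rintro ⟨y, hy, hyx⟩
      have : y = x := Subtype.ext hyx
      rwa [← this]
  refine ⟨F.map P.subtype, ⟨map_mono hFQ, o2_le P, le_normalizer_o2 P,
    le_normalizer_map_of_normal hFn, ?_, ?_⟩, ?_, ?_, ?_⟩
  · rintro _ ⟨x, hx, rfl⟩ _ ⟨y, hy, rfl⟩
    refine ⟨x * y * x⁻¹ * y⁻¹, ?_, by simp⟩
    exact ⟨_, Lib.FrattiniPGroup.commutator_mem_frattini hQp ⟨x, hx⟩ ⟨y, hy⟩, rfl⟩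
  · rintro _ ⟨x, hx, rfl⟩
    refine ⟨x ^ 2, ?_, by simp⟩
    exact ⟨_, Lib.FrattiniPGroup.pow_mem_frattini hQp ⟨x, hx⟩, rfl⟩
  · intro g hg hga
    refine ⟨⟨g, hg⟩, (Lib.Cores.le_pCore hkn hker) ?_, rfl⟩
    rw [PLocal.SectionFrattini.mem_sectionKernel]
    intro k hk
    have h1 := hmem (x := ⟨g, hg⟩ * k * ⟨g, hg⟩⁻¹ * k⁻¹) (hga k ⟨k, hk, rfl⟩)
    have h3 : ⁅k, (⟨g, hg⟩ : P)⁆ = (⟨g, hg⟩ * k * ⟨g, hg⟩⁻¹ * k⁻¹)⁻¹ := by
      rw [commutatorElement_def]; group
    rw [h3]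
    exact inv_mem h1
  · intro M hM hM2
    -- the corresponding subgroup of `Q`
    set M' : Subgroup Q := (M.subgroupOf P).subgroupOf Q with hM'
    have hmemM : ∀ x : Q, x ∈ M' ↔ ((x : P) : G) ∈ M := by
      intro x
      rw [hM', mem_subgroupOf, mem_subgroupOf]
    have hfr : _root_.frattini Q ≤ M' := by
      by_cases htop : M' = ⊤
      · rw [htop]; exact le_top
      · refine frattini_le_coatom ⟨htop, ?_⟩
        intro K hK
        obtain ⟨k, hkK, hkM⟩ := SetLike.exists_of_lt hK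
        rw [eq_top_iff]
        intro q _
        by_cases hq : q ∈ M'
        · exact hK.le hq
        · rw [hmemM] at hq hkM
          have h1 := hM2 _ ((hQo _).mp q.2) _ ((hQo _).mp k.2) hq hkM
          have h3 : q * k ∈ M' := by rw [hmemM]; exact h1
          have h4 := K.mul_mem (hK.le h3) (K.inv_mem hkK)
          rwa [mul_inv_cancel_right] at h4
    rintro _ ⟨_, ⟨f, hf, rfl⟩, rfl⟩
    exact (hmemM f).mp (hfr hf)
  · intro M hM hM2
    set M' : Subgroup Q := (M.subgroupOf P).subgroupOf Q with hM'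
    have hmemM : ∀ x : Q, x ∈ M' ↔ ((x : P) : G) ∈ M := by
      intro x
      rw [hM', mem_subgroupOf, mem_subgroupOf]
    have hMmap : (M'.map Q.subtype).map P.subtype = M := by
      ext g
      constructor
      · rintro ⟨_, ⟨x, hx, rfl⟩, rfl⟩
        exact (hmemM x).mp hx
      · intro hg
        obtain ⟨y, hy, hyg⟩ := hM hg
        refine ⟨y, ⟨⟨y, hy⟩, ?_, rfl⟩, hyg⟩
        rw [SetLike.mem_coe, hmemM]
        show P.subtype y ∈ M
        rw [hyg]; exact hg
    have hsup : M' ⊔ _root_.frattini Q = ⊤ := by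
      have h1 : ((M' ⊔ _root_.frattini Q).map Q.subtype).map P.subtype
          = ((⊤ : Subgroup Q).map Q.subtype).map P.subtype := by
        rw [Subgroup.map_sup, Subgroup.map_sup, hMmap, ← hF, hM2, ← MonoidHom.range_eq_map,
          range_subtype]
        rfl
      exact map_injective Q.subtype_injective (map_injective P.subtype_injective h1)
    have h3 := frattini_nongenerating hsup
    rw [← hMmap, h3, ← MonoidHom.range_eq_map, range_subtype]
    rfl

/-! ### The decomposition `V = V₁ × V₂` -/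

variable [Finite G] {S P R : Subgroup G} {p : ℕ}

omit [Finite G] in
theorem secV (hc : ∀ v ∈ o2 P, ∀ w ∈ o2 P, v * w = w * v)
    (hsq : ∀ v ∈ o2 P, v ^ 2 = 1) : Sec P (o2 P) ⊥ where
  le := bot_le
  leP := o2_le P
  nA := le_normalizer_o2 P
  nB := fun g _ => by
    rw [mem_normalizer_iff]
    intro x
    rw [Subgroup.mem_bot, Subgroup.mem_bot, conj_eq_one_iff]
  comm := fun a ha b hb => by
    rw [hc a ha b hb, mul_inv_cancel_right, mul_inv_cancel]; exact one_mem _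
  sq := fun a ha => by rw [hsq a ha]; exact one_mem _

theorem R_moves (h : Defs.Par S P R p) : ∃ a ∈ o2 P, ∃ x ∈ R, x * a * x⁻¹ * a⁻¹ ∉ (⊥ : Subgroup G) := by
  by_contra hcon
  push Not at hcon
  have h1 : R ≤ o2 P := by
    intro x hx
    refine h.char2 (mem_inf.mpr ⟨h.R_le hx, mem_centralizer_iff.mpr ?_⟩)
    intro a ha
    have h2 := Subgroup.mem_bot.mp (hcon a ha x hx)
    have h3 : x * a * x⁻¹ = a := mul_inv_eq_one.mp h2
    calc a * x = x * a * x⁻¹ * x := by rw [h3]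
      _ = x * a := by group
  have h4 := o2_inf_R h
  rw [inf_eq_right.mpr h1] at h4
  have h5 := one_lt_card_R h
  rw [h4, Subgroup.card_bot] at h5
  exact lt_irrefl _ h5

theorem zpowers_eq_of_card_three {C : Subgroup G} (hC : Nat.card C = 3) {x : G} (hx : x ∈ C)
    (hx1 : x ≠ 1) : zpowers x = C := by
  refine Subgroup.eq_of_le_of_card_ge (zpowers_le.mpr hx) ?_
  rw [hC, Nat.card_zpowers]
  have h4 : orderOf x ∣ 3 := by
    rw [← hC, ← Nat.card_zpowers]
    exact card_dvd_of_le (zpowers_le.mpr hx)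
  rcases (Nat.dvd_prime Nat.prime_three).mp h4 with h5 | h5
  · exact absurd (orderOf_eq_one_iff.mp h5) hx1
  · exact h5.ge

theorem conj_inv_mem {B B' : Subgroup G} (hcard : Nat.card B = Nat.card B') {n : G}
    (h : ∀ x ∈ B, n * x * n⁻¹ ∈ B') {x : G} (hx : x ∈ B') : n⁻¹ * x * n ∈ B := by
  have h1 : B.map (MulAut.conj n).toMonoidHom = B' := by
    refine Subgroup.eq_of_le_of_card_ge ?_ ?_
    · rintro _ ⟨y, hy, rfl⟩
      exact h y hy
    · rw [Subgroup.card_map_of_injective (MulAut.conj n).injective, hcard]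
  rw [← h1] at hx
  obtain ⟨y, hy, rfl⟩ := hx
  have h2 : n⁻¹ * (n * y * n⁻¹) * n = y := by group
  show n⁻¹ * (n * y * n⁻¹) * n ∈ B
  rwa [h2]

theorem cj_cen {A B : Subgroup G} (hs : Sec P A B) {C C' : Subgroup G} (hC : C ≤ P) (hC' : C' ≤ P)
    (hcard : Nat.card C = Nat.card C') (hcc : Nat.card (hs.cen hC) = Nat.card (hs.cen hC')) {n : G}
    (hn : n ∈ P) (h : ∀ x ∈ C, n * x * n⁻¹ ∈ C') : cj n (hs.cen hC) = hs.cen hC' := by
  refine Subgroup.eq_of_le_of_card_ge ?_ ?_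
  · rintro _ ⟨a, ha, rfl⟩
    exact hs.conj_mem_cen hC hC' hn (fun x hx => conj_inv_mem hcard h hx) ha
  · rw [← hcc]
    exact (Nat.card_congr ((hs.cen hC).equivMapOfInjective _
      (MulAut.conj n).injective).toEquiv).le

omit [Finite G] in
theorem cj_of_comm {V W : Subgroup G} (hc : ∀ v ∈ V, ∀ w ∈ V, v * w = w * v) (hW : W ≤ V) {v : G}
    (hv : v ∈ V) : cj v W = W := by
  ext g
  rw [mem_cj]
  constructor
  · intro h
    have h1 := hc v hv _ (hW h)
    have h2 : g = v * (v⁻¹ * g * v) * v⁻¹ := by group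
    rw [h1, mul_inv_cancel_right] at h2
    rw [h2]; exact h
  · intro h
    have h1 := hc v hv _ (hW h)
    rwa [mul_assoc, ← h1, inv_mul_cancel_left]

/-- one half of the decomposition -/
theorem dec_of (h : Defs.Par S P R 3) (hc : ∀ v ∈ o2 P, ∀ w ∈ o2 P, v * w = w * v)
    (hsq : ∀ v ∈ o2 P, v ^ 2 = 1) (hs : Sec P (o2 P) ⊥) {B1 B2 : Subgroup G} (h1 : B1 ≤ R)
    (h2 : B2 ≤ R) (hc1 : Nat.card B1 = 3)
    (hk2 : Nat.card (hs.cen (h2.trans h.R_le)) = 4)
    (hki : hs.cen (h1.trans h.R_le) ⊓ hs.cen (h2.trans h.R_le) = ⊥)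
    (hks : hs.cen (h1.trans h.R_le) ⊔ hs.cen (h2.trans h.R_le) = o2 P) :
    ∃ y, Dec P (o2 P) (hs.cen (h1.trans h.R_le)) (hs.cen (h2.trans h.R_le)) y := by
  obtain ⟨y, hy, hy1⟩ := ActFour.exists_ne_one (B := B1) (by rw [hc1]; norm_num)
  have hyR := h1 hy
  refine ⟨y, ?_⟩
  exact
    { cV := fun g hg hgv => h.char2 (mem_inf.mpr ⟨hg, mem_centralizer_iff.mpr
        (fun v hv => (hgv v hv).symm)⟩)
      comm := hc
      sq := fun v hv => by rw [← pow_two]; exact hsq v hv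
      le1 := hs.cen_le _
      le2 := hs.cen_le _
      dec := by
        intro v hv
        have hn : hs.cen (h2.trans h.R_le) ≤
            normalizer ((hs.cen (h1.trans h.R_le) : Subgroup G) : Set G) := by
          refine le_normalizer_of fun t ht x hx => ?_
          rw [hc t (hs.cen_le _ ht) x (hs.cen_le _ hx), mul_inv_cancel_right]
          exact hx
        rw [← hks, ← SetLike.mem_coe, coe_mul_of_right_le_normalizer_left _ _ hn] at hv
        obtain ⟨v1, hv1, v2, hv2, rfl⟩ := hv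
        exact ⟨v1, hv1, v2, hv2, rfl⟩
      inf := fun v hv1 hv2 => by
        have h3 := mem_inf.mpr ⟨hv1, hv2⟩
        rw [hki] at h3
        exact Subgroup.mem_bot.mp h3
      card2 := hk2
      yP := h.R_le hyR
      y3 := h.pow_R y hyR
      yV1 := fun v hv => by
        have h3 := Subgroup.mem_bot.mp (hv.2 y hy)
        have h4 : y * v * y⁻¹ = v := mul_inv_eq_one.mp h3
        calc y * v = y * v * y⁻¹ * y := by group
          _ = v * y := by rw [h4]
      yV2 := fun v hv => by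
        refine hs.conj_mem_cen _ _ (h.R_le hyR) (fun x hx => ?_) hv
        rw [mul_assoc, h.comm_R x (h2 hx) y hyR, inv_mul_cancel_left]
        exact hx
      fpf := fun v hv hyv => by
        have h3 : v ∈ hs.cen (h1.trans h.R_le) := by
          refine ⟨hs.cen_le _ hv, fun x hx => ?_⟩
          rw [← zpowers_eq_of_card_three hc1 hy hy1] at hx
          obtain ⟨k, rfl⟩ := hx
          have h4 : Commute (y ^ k) v := (show Commute y v from hyv).zpow_left k
          show y ^ k * v * (y ^ k)⁻¹ * v⁻¹ ∈ (⊥ : Subgroup G)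
          rw [h4.eq, mul_inv_cancel_right, mul_inv_cancel]
          exact one_mem _
        have h4 := mem_inf.mpr ⟨h3, hv⟩
        rw [hki] at h4
        exact Subgroup.mem_bot.mp h4 }

/-- The decomposition for `|R| = 9`. -/
theorem exists_two (hr : SectionalPRankLE 2 4 G) (h : Defs.Par S P R p) (hR : Nat.card R = 9)
    (hc : ∀ v ∈ o2 P, ∀ w ∈ o2 P, v * w = w * v) (hsq : ∀ v ∈ o2 P, v ^ 2 = 1) {Q : Subgroup G}
    (hQS : Q ≤ S) (hSQ : ∀ s ∈ S, ∃ q ∈ Q, ∃ v ∈ o2 P, s = q * v) :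
    (∃ V1 V2 y1 y2, Two P Q (o2 P) V1 V2 y1 y2) ∧ ∃ B1 B2, Sw S R B1 B2 := by
  have hp3 : p = 3 := by
    rcases h.card_R with h1 | ⟨h1, -⟩
    · exfalso
      rw [hR] at h1
      rcases h.p_eq with h2 | h2 <;> omega
    · exact h1
  subst hp3
  have hs := secV (P := P) hc hsq
  obtain ⟨hA, B1, B2, h1, h2, hc1, hc2, hint, hsup, hk1, hk2, hki, hks, hfix, hperm, hswap⟩ :=
    nine hr h hR hs (R_moves h)
  rw [Subgroup.card_bot, mul_one] at hk1 hk2
  obtain ⟨y2, d1⟩ := dec_of h hc hsq hs h1 h2 hc1 hk2 hki hks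
  obtain ⟨y1, d2⟩ := dec_of h hc hsq hs h2 h1 hc2 hk1 (by rw [inf_comm]; exact hki)
    (by rw [sup_comm]; exact hks)
  have hC1 := h1.trans h.R_le
  have hC2 := h2.trans h.R_le
  have hPn : ∀ n ∈ S ⊓ normalizer (R : Set G),
      (cj n (hs.cen hC1) = hs.cen hC1 ∧ cj n (hs.cen hC2) = hs.cen hC2) ∨
      (cj n (hs.cen hC1) = hs.cen hC2 ∧ cj n (hs.cen hC2) = hs.cen hC1) := by
    intro n hn
    have hnP := h.le hn.1
    rcases hperm n hnP hn.2 with ⟨e1, e2⟩ | ⟨e1, e2⟩
    · left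
      exact ⟨cj_cen hs hC1 hC1 rfl rfl hnP e1, cj_cen hs hC2 hC2 rfl rfl hnP e2⟩
    · right
      exact ⟨cj_cen hs hC1 hC2 (by rw [hc1, hc2]) (by rw [hk1, hk2]) hnP e1,
        cj_cen hs hC2 hC1 (by rw [hc1, hc2]) (by rw [hk1, hk2]) hnP e2⟩
  have hV1 : ∀ v ∈ o2 P, cj v (hs.cen hC1) = hs.cen hC1 := fun v hv =>
    cj_of_comm hc (hs.cen_le _) hv
  have hV2 : ∀ v ∈ o2 P, cj v (hs.cen hC2) = hs.cen hC2 := fun v hv =>
    cj_of_comm hc (hs.cen_le _) hv
  refine ⟨⟨hs.cen hC1, hs.cen hC2, y1, y2, ⟨d1, d2, hQS.trans h.le, ?_, ?_⟩⟩, B1, B2,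
    h1, h2, hc1, hc2, hint, hsup, fun g hg hgR => hperm g (h.le hg) hgR, hswap⟩
  · intro q hq
    obtain ⟨v, hv, n, hn, rfl⟩ := exists_mul h (hQS hq)
    rcases hPn n hn with ⟨e1, e2⟩ | ⟨e1, e2⟩
    · left
      exact ⟨by rw [cj_mul, e1, hV1 v hv], by rw [cj_mul, e2, hV2 v hv]⟩
    · right
      exact ⟨by rw [cj_mul, e1, hV2 v hv], by rw [cj_mul, e2, hV1 v hv]⟩
  · obtain ⟨s, hs', e1, e2⟩ := hswap
    obtain ⟨q, hq, v, hv, hqv⟩ := hSQ s hs'.1
    have hsP := h.le hs'.1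
    have f1 := cj_cen hs hC1 hC2 (by rw [hc1, hc2]) (by rw [hk1, hk2]) hsP e1
    have f2 := cj_cen hs hC2 hC1 (by rw [hc1, hc2]) (by rw [hk1, hk2]) hsP e2
    refine ⟨q, hq, ?_, ?_⟩
    · rw [hqv, cj_mul, hV1 v hv] at f1; exact f1
    · rw [hqv, cj_mul, hV2 v hv] at f2; exact f2

/-! ### Index two -/

theorem mul_inv_mem {Q S : Subgroup G} (hQS : Q ≤ S) (h2 : Q.relIndex S = 2) {s t : G} (hs : s ∈ S)
    (ht : t ∈ S) (hs1 : s ∉ Q) (ht1 : t ∉ Q) : s * t⁻¹ ∈ Q := by
  have h3 := Par.card_mul_relIndex hQS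
  rw [h2] at h3
  exact mul_inv_mem_of_two hQS (by rw [← h3, mul_comm]) hs ht hs1 ht1

/-- If `s` acts on the elementary abelian group `V` as an involution then `|V| ≤ |C_V(s)|²`. -/
theorem card_le_sq {V : Subgroup G} (hc : ∀ v ∈ V, ∀ w ∈ V, v * w = w * v)
    (hsq : ∀ v ∈ V, v ^ 2 = 1) {s : G} (hs : ∀ v ∈ V, s * v * s⁻¹ ∈ V)
    (hs2 : ∀ v ∈ V, s * (s * v * s⁻¹) * s⁻¹ = v) {C : Subgroup G}
    (hC : ∀ v ∈ V, s * v = v * s → v ∈ C) : Nat.card V ≤ Nat.card C ^ 2 := by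
  have hinv : ∀ v ∈ V, v⁻¹ = v := fun v hv =>
    inv_eq_of_mul_eq_one_left (by rw [← pow_two]; exact hsq v hv)
  let δ : V →* V :=
    { toFun := fun v => ⟨s * v * s⁻¹ * v, mul_mem (hs v v.2) v.2⟩
      map_one' := Subtype.ext (by
        show s * 1 * s⁻¹ * 1 = (1 : G)
        group)
      map_mul' := fun v w => Subtype.ext (by
        show s * ((v : G) * w) * s⁻¹ * (v * w) = (s * v * s⁻¹ * v) * (s * w * s⁻¹ * w)
        calc s * ((v : G) * w) * s⁻¹ * (v * w) = (s * v * s⁻¹) * ((s * w * s⁻¹) * v) * w := by group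
          _ = (s * v * s⁻¹) * (v * (s * w * s⁻¹)) * w := by rw [hc _ (hs w w.2) v v.2]
          _ = _ := by group) }
  have hker : Nat.card δ.ker ≤ Nat.card C := by
    refine Nat.card_le_card_of_injective (fun v : δ.ker => (⟨((v : V) : G), ?_⟩ : C)) ?_
    · have h1 : s * ((v : V) : G) * s⁻¹ * ((v : V) : G) = 1 := congrArg Subtype.val v.2
      refine hC _ (v : V).2 ?_
      have h2 : s * ((v : V) : G) * s⁻¹ = ((v : V) : G) :=
        (mul_eq_one_iff_eq_inv.mp h1).trans (hinv _ (v : V).2)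
      calc s * ((v : V) : G) = s * ((v : V) : G) * s⁻¹ * s := by group
        _ = ((v : V) : G) * s := by rw [h2]
    · intro v w hvw
      exact Subtype.ext (Subtype.ext (congrArg (fun t : C => (t : G)) hvw))
  have hran : Nat.card δ.range ≤ Nat.card C := by
    have h1 : ∀ w : δ.range, ((w : V) : G) ∈ C := by
      rintro ⟨_, v, rfl⟩
      refine hC _ (δ v).2 ?_
      show s * (s * (v : G) * s⁻¹ * v) = (s * (v : G) * s⁻¹ * v) * s
      have h2 := hs2 v v.2
      calc s * (s * (v : G) * s⁻¹ * v) = (s * (s * (v : G) * s⁻¹) * s⁻¹) * (s * v * s⁻¹) * s := by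
            group
        _ = (s * (v : G) * s⁻¹ * v) * s := by rw [h2, hc _ v.2 _ (hs v v.2)]
    refine Nat.card_le_card_of_injective (fun w : δ.range => (⟨((w : V) : G), h1 w⟩ : C)) ?_
    intro v w hvw
    exact Subtype.ext (Subtype.ext (congrArg (fun t : C => (t : G)) hvw))
  have h1 := Subgroup.card_mul_index δ.ker
  rw [Subgroup.index_ker] at h1
  rw [← h1, pow_two]
  exact Nat.mul_le_mul hker hran

/-- (1b) -/
theorem false_of_three {S P1 P2 : Subgroup G} (h : Pair S P1 P2) (h3 : S.relIndex P2 = 3)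
    (hV : Nat.card (zl S P1) = 16) (hZ : Nat.card (zc S) = 2) (hn : ¬ zl S P1 ≤ o2 P2) : False := by
  obtain ⟨R1, p1, h1⟩ := h.par1
  obtain ⟨R2, p2, h2⟩ := h.par2
  have hr := h.hyp.rank
  set V := zl S P1 with hVdef
  have hVc : ∀ v ∈ V, ∀ w ∈ V, v * w = w * v := zl_comm h1.le h1.two h1.syl h1.char2
  have hVsq : ∀ v ∈ V, v ^ 2 = 1 := zl_sq h1.le h1.two h1.syl h1.char2
  have hVQ1 : V ≤ o2 P1 := (zl_le_zc h1.le h1.two h1.syl h1.char2).trans (zc_le _)
  have hQ1V : ∀ q ∈ o2 P1, ∀ v ∈ V, q * v = v * q := fun q hq v hv =>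
    (mem_centralizer_iff.mp (o2_le_centralizer_zl h1.le h1.two h1.syl h1.char2 hq) v hv).symm
  have hQ1S : o2 P1 ≤ S := o2_le_S h1
  have hQ2S : o2 P2 ≤ S := o2_le_S h2
  have hVS : V ≤ S := hVQ1.trans hQ1S
  have hP1V : P1 ≤ normalizer (V : Set G) := le_normalizer_zl S P1
  have hSV : S ≤ normalizer (V : Set G) := h1.le.trans hP1V
  have hVconj : ∀ s ∈ S, ∀ v ∈ V, s * v * s⁻¹ ∈ V := fun s hs v hv =>
    (mem_normalizer_iff.mp (hSV hs) v).mp hv
  have hR2 : Nat.card R2 = 3 := by rw [← h2.relIndex, h3]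
  have hidx2 : (o2 P2).relIndex S = 2 := index_three h2 hR2
  -- `|S : Q1| ≠ 2`
  have hidx1 : (o2 P1).relIndex S ≠ 2 := by
    intro hi
    obtain ⟨s, hs, hsQ⟩ := SetLike.not_le_iff_exists.mp (S_not_le h1)
    have hss : s * s ∈ o2 P1 := by
      have h4 := mul_inv_mem hQ1S hi hs (inv_mem hs) hsQ (fun h5 => hsQ (by
        have := inv_mem h5
        rwa [inv_inv] at this))
      rwa [inv_inv] at h4
    have h5 : Nat.card V ≤ Nat.card (zc S) ^ 2 := by
      refine card_le_sq hVc hVsq (hVconj s hs) ?_ ?_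
      · intro v hv
        have h6 := hQ1V _ hss v hv
        have h7 : s * (s * v * s⁻¹) * s⁻¹ = s * s * v * (s * s)⁻¹ := by group
        rw [h7, h6, mul_inv_cancel_right]
      · intro v hv hsv
        refine mem_zc.mpr ⟨hVS hv, ?_, hVsq v hv⟩
        intro b hb
        by_cases hbQ : b ∈ o2 P1
        · exact hQ1V b hbQ v hv
        · have h6 := hQ1V _ (mul_inv_mem hQ1S hi hb hs hbQ hsQ) v hv
          calc b * v = b * s⁻¹ * (s * v) := by group
            _ = (b * s⁻¹ * v) * s := by rw [hsv]; group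
            _ = v * b := by rw [h6]; group
    rw [hV, hZ] at h5
    omega
  have hR1 : Nat.card R1 ≠ 3 := fun h4 => hidx1 (index_three h1 h4)
  -- `Q1 = V`
  have hQ1 : o2 P1 = V := by
    obtain ⟨B, hB, hker, hmax, hgen⟩ := exists_frat' h1.char2
    have hn1 : ∃ a ∈ o2 P1, ∃ x ∈ R1, x * a * x⁻¹ * a⁻¹ ∉ B := by
      by_contra hcon
      push Not at hcon
      have h4 : R1 ≤ o2 P1 := fun x hx => hker x (h1.R_le hx) (fun a ha => hcon a ha x hx)
      have h5 := o2_inf_R h1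
      rw [inf_eq_right.mpr h4] at h5
      have h6 := one_lt_card_R h1
      rw [h5, Subgroup.card_bot] at h6
      exact lt_irrefl _ h6
    obtain ⟨-, -, hirr⟩ := irred16 hr h1 hR1 hB hn1
    have hVB : P1 ≤ normalizer ((V ⊔ B : Subgroup G) : Set G) := by
      intro g hg
      rw [mem_normalizer_iff_map_conj_eq, Subgroup.map_sup,
        mem_normalizer_iff_map_conj_eq.mp (hP1V hg), mem_normalizer_iff_map_conj_eq.mp (hB.nB hg)]
    rcases hirr (V ⊔ B) le_sup_right (sup_le hVQ1 hB.le) hVB with h4 | h4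
    · exfalso
      apply hn
      have h5 : B ≤ o2 P1 ⊓ o2 P2 := by
        refine hmax _ inf_le_left ?_
        intro x hx y hy hxM hyM
        have hx2 : x ∉ o2 P2 := fun h6 => hxM (mem_inf.mpr ⟨hx, h6⟩)
        have hy2 : y⁻¹ ∉ o2 P2 := fun h6 => hyM (mem_inf.mpr ⟨hy, by
          have := inv_mem h6
          rwa [inv_inv] at this⟩)
        refine mem_inf.mpr ⟨mul_mem hx hy, ?_⟩
        have h6 := mul_inv_mem hQ2S hidx2 (hQ1S hx) (inv_mem (hQ1S hy)) hx2 hy2
        rwa [inv_inv] at h6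
      have h6 : V ≤ B := by rw [← h4]; exact le_sup_left
      exact h6.trans (h5.trans inf_le_right)
    · exact (hgen V hVQ1 h4).symm
  -- the element `a`
  obtain ⟨a, haV, haQ⟩ := SetLike.not_le_iff_exists.mp hn
  have haS := hVS haV
  have haa : a * a = 1 := by rw [← pow_two]; exact hVsq a haV
  have hainv : a⁻¹ = a := inv_eq_of_mul_eq_one_left haa
  have hSa : ∀ s ∈ S, s ∈ o2 P2 ∨ s * a ∈ o2 P2 := by
    intro s hs
    by_cases hsQ : s ∈ o2 P2
    · exact Or.inl hsQ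
    · right
      have := mul_inv_mem hQ2S hidx2 hs haS hsQ haQ
      rwa [hainv] at this
  have hsup : o2 P2 ⊔ V = S := by
    refine le_antisymm (sup_le hQ2S hVS) ?_
    intro s hs
    rcases hSa s hs with h4 | h4
    · exact mem_sup_left h4
    · have h5 : s = s * a * a := by rw [mul_assoc, haa, mul_one]
      rw [h5]
      exact mul_mem (mem_sup_left h4) (mem_sup_right haV)
  have hSQ : ∀ s ∈ S, ∃ q ∈ o2 P2, ∃ v ∈ V, s = q * v := by
    intro s hs
    rcases hSa s hs with h4 | h4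
    · exact ⟨s, h4, 1, one_mem _, (mul_one s).symm⟩
    · exact ⟨s * a, h4, a, haV, by rw [mul_assoc, haa, mul_one]⟩
  have hVnQ : V ≤ normalizer (o2 P2 : Set G) := (hVS.trans h2.le).trans (le_normalizer_o2 P2)
  -- cardinalities
  have hcS := Par.card_mul_relIndex hQ2S
  rw [hidx2] at hcS
  have hcS1 := Par.card_mul_relIndex hQ1S
  have hcQ1 : Nat.card (o2 P1) = 16 := by rw [hQ1]; exact hV
  rw [hcQ1] at hcS1
  have hcD : Nat.card (V ⊓ o2 P2 : Subgroup G) = 8 := by
    have h4 := Par.card_sup_mul hVnQ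
    rw [hsup, hV, inf_comm, ← hcS] at h4
    have h5 : 0 < Nat.card (o2 P2) := Nat.card_pos
    have h6 : Nat.card (o2 P2) * (2 * Nat.card (V ⊓ o2 P2 : Subgroup G)) =
        Nat.card (o2 P2) * 16 := by rw [← h4]; ring
    have h7 := Nat.eq_of_mul_eq_mul_left h5 h6
    omega
  -- the element `r`
  obtain ⟨r, hrR, hr1⟩ := ActFour.exists_ne_one (B := R2) (by rw [hR2]; norm_num)
  have hrP := h2.R_le hrR
  have hp2 : p2 = 3 := by
    rcases h2.card_R with h4 | ⟨h4, -⟩
    · rw [← h4, hR2]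
    · exact h4
  subst hp2
  have hr3 : r ^ 3 = 1 := h2.pow_R r hrR
  have hrQ : r ∉ o2 P2 := by
    intro h4
    have h5 := mem_inf.mpr ⟨h4, hrR⟩
    rw [o2_inf_R h2] at h5
    exact hr1 (Subgroup.mem_bot.mp h5)
  have hcen : ∀ s ∈ S, a * s * a⁻¹ * s⁻¹ ∈ o2 P2 := by
    intro s hs
    have hSn : S ≤ normalizer (o2 P2 : Set G) := h2.le.trans (le_normalizer_o2 P2)
    by_cases hsQ : s ∈ o2 P2
    · exact mul_mem ((mem_normalizer_iff.mp (hSn haS) s).mp hsQ) (inv_mem hsQ)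
    · refine mul_inv_mem hQ2S hidx2 (mul_mem (mul_mem haS hs) (inv_mem haS)) hs ?_ hsQ
      intro h4
      exact hsQ ((mem_normalizer_iff.mp (hSn haS) s).mpr h4)
  have har := inverts h2 haS haQ (by rw [pow_two, haa]; exact one_mem _) hcen hrR
  have hInp : Inp P2 (o2 P2) V a r 3 :=
    { QP := o2_le P2
      PQ := le_normalizer_o2 P2
      two := o2_isPGroup P2
      VP := hVS.trans h2.le
      comm := hVc
      sq := hVsq
      QV := hQ2S.trans hSV
      ha := haV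
      hVa := fun v hv => hSa v (hVS hv)
      hr := hrP
      odd := by decide
      hrn := by rw [hr3]; exact one_mem _
      har := har }
  obtain ⟨x, hx⟩ := hInp.exists_ch
  -- the element `z`
  obtain ⟨z, hz, hz1⟩ := ActFour.exists_ne_one (B := zc S) (by rw [hZ]; norm_num)
  have hBase : Base P2 (o2 P2) V z a r x :=
    { toCh := hx
      rQ := hrQ
      cQ := fun g hg hgq => h2.char2 (mem_inf.mpr ⟨hg, mem_centralizer_iff.mpr
        (fun q hq => (hgq q hq).symm)⟩)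
      zV := zc_le_zl S P1 hz
      zQ := zc_le _ (zc_le_zc_o2 h2.le h2.two h2.syl h2.char2 hz)
      z1 := hz1
      zP := fun g hg => (mem_centralizer_iff.mp (h.cent hg) z hz).symm
      cardD := hcD }
  -- squares
  have hsqV : Nat.card (o2 P2) = 32 → ∀ s ∈ S, s ^ 2 ∈ o2 P1 := by
    intro h32 s hs
    obtain ⟨q, hq, v, hv, rfl⟩ := hSQ s hs
    have h4 := hBase.sq_mem h32 hq
    rw [hQ1]
    have h5 : (q * v) ^ 2 = (q * v * q⁻¹) * (q * q) * v := by rw [pow_two]; group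
    rw [h5]
    exact mul_mem (mul_mem (hVconj q (hQ2S hq) v hv) h4) hv
  rcases h1.card_R with h5 | ⟨hp1, h9⟩
  · -- `|R1| = 5`
    rcases h1.p_eq with h6 | h6
    · exact hR1 (by rw [h5, h6])
    rcases index_five h1 (by rw [h5, h6]) with h7 | h7
    · exact hidx1 h7
    · have h32 : Nat.card (o2 P2) = 32 := by rw [h7] at hcS1; omega
      have h8 := hsqV h32
      -- then `|S : Q1| = 2`
      obtain ⟨s, hs, hsQ⟩ := SetLike.not_le_iff_exists.mp (S_not_le h1)
      have h10 : ∀ t ∈ S, t ∉ o2 P1 → t * s ∈ o2 P1 := fun t ht htQ =>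
        mul_mem_of_sq h1 h5 ht hs htQ hsQ (h8 t ht) (h8 s hs)
      apply hidx1
      have h11 : ((o2 P1).subgroupOf S).index = 2 := by
        rw [Subgroup.index_eq_two_iff]
        refine ⟨⟨s, hs⟩, ?_⟩
        rintro ⟨t, ht⟩
        rw [mem_subgroupOf, mem_subgroupOf]
        show Xor (t * s ∈ o2 P1) (t ∈ o2 P1)
        by_cases htQ : t ∈ o2 P1
        · exact Or.inr ⟨htQ, fun h12 => hsQ ((mul_mem_cancel_left htQ).mp h12)⟩
        · exact Or.inl ⟨h10 t ht htQ, htQ⟩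
      exact h11
  · -- `|R1| = 9`
    obtain ⟨⟨V1, V2, y1, y2, t⟩, B1, B2, hw⟩ := exists_two hr h1 h9 (by rw [hQ1]; exact hVc)
      (by rw [hQ1]; exact hVsq) hQ2S (by rw [hQ1]; exact hSQ)
    rw [hQ1] at t
    rcases index_nine h1 hw with ⟨h7, s, hs, -, -, -, hs2, -⟩ |
      ⟨h7, s, hs, t', ht', hs12, hs21, -, htB1, htB2, -⟩
    · have h32 : Nat.card (o2 P2) = 32 := by rw [h7] at hcS1; omega
      exact hs2 (hsqV h32 s hs.1)
    · have h64 : Nat.card (o2 P2) = 64 := by rw [h7] at hcS1; omega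
      refine hBase.false_of_64 t ?_ h64 ?_
      · intro U hU hU1
        exact h.hyp.locSolv _ ⟨U, hU, hU1, rfl⟩
      · by_contra hcon
        push Not at hcon
        -- then `[s, t'] ∈ V`
        have hk : s * t' * s⁻¹ * t'⁻¹ ∈ o2 P1 := by
          rw [hQ1]
          obtain ⟨q, hq, v, hv, hqv⟩ := hSQ s hs.1
          obtain ⟨q', hq', v', hv', hqv'⟩ := hSQ t' ht'.1
          have h5 : s * t' * s⁻¹ * t'⁻¹ =
              (q * (v * (q' * (v' * v⁻¹) * q'⁻¹)) * q⁻¹) * (q * q' * q⁻¹ * q'⁻¹) *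
              (q' * v'⁻¹ * q'⁻¹) := by
            rw [hqv, hqv']; group
          rw [h5]
          have hqS := hQ2S hq
          have hqS' := hQ2S hq'
          refine mul_mem (mul_mem (hVconj q hqS _ (mul_mem hv (hVconj q' hqS' _
            (mul_mem hv' (inv_mem hv))))) (hcon q hq q' hq')) (hVconj q' hqS' _ (inv_mem hv'))
        have hkn : s * t' * s⁻¹ * t'⁻¹ ∈ normalizer (R1 : Set G) :=
          mul_mem (mul_mem (mul_mem hs.2 ht'.2) (inv_mem hs.2)) (inv_mem ht'.2)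
        obtain ⟨b, hb, hb1⟩ := ActFour.exists_ne_one (B := B1) (by rw [hw.card1]; norm_num)
        have hbR := hw.le1 hb
        have h5 := comm_of_mem h1 hk hkn hbR
        -- the action of `s t' s⁻¹ t'⁻¹` on `b`
        have hb' : s⁻¹ * b * s ∈ B2 :=
          conj_inv_mem (by rw [hw.card1, hw.card2]) (fun x hx => hs21 x hx) hb
        have h6 : t'⁻¹ * b * t' = b⁻¹ := by
          have h7 := htB1 b⁻¹ (inv_mem hb)
          rw [inv_inv] at h7
          calc t'⁻¹ * b * t' = t'⁻¹ * (t' * b⁻¹ * t'⁻¹) * t' := by rw [h7]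
            _ = b⁻¹ := by group
        have h7 := htB2 (s⁻¹ * b * s)⁻¹ (inv_mem hb')
        have h8 : s * t' * s⁻¹ * t'⁻¹ * b * (s * t' * s⁻¹ * t'⁻¹)⁻¹ = b⁻¹ := by
          calc s * t' * s⁻¹ * t'⁻¹ * b * (s * t' * s⁻¹ * t'⁻¹)⁻¹
              = s * t' * s⁻¹ * (t'⁻¹ * b * t') * s * t'⁻¹ * s⁻¹ := by group
            _ = s * (t' * (s⁻¹ * b * s)⁻¹ * t'⁻¹) * s⁻¹ := by rw [h6]; group
            _ = b⁻¹ := by rw [h7]; group
        rw [h5] at h8
        have hb3 : b ^ 3 = 1 := by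
          have h9 := h1.pow_R b hbR
          rwa [hp1] at h9
        apply hb1
        have hb2 : b * b = 1 := by
          have h9 := congrArg (fun t => t * b) h8
          simpa using h9
        rw [pow_succ, pow_two, hb2, one_mul] at hb3
        exact hb3

end Cfsg.Agent.SectRankFour.C2.OneBWire
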