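import Cfsg.Agent.SectRankFour.C2.BOneFour
import Cfsg.Agent.SectRankFour.C2.OneBWire

/-!
# S0517, rank 4, section 1: `b > 1`

For a pair of minimal parabolics, `V = zl S P1` lies in `o2 P2`: (1a) is `BOneFour.card_R2`,
(1b) is `OneBWire.false_of_three`.
-/

set_option autoImplicit false

namespace Cfsg.Agent.SectRankFour.C2.BOne

open Subgroup Cfsg Cfsg.Agent.ZN Cfsg.Agent.MinSimple.MinParabolic Cfsg.Agent.MinSimple.VModule
  Cfsg.Agent.SectRankFour.C2.Defs

universe u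

variable {G : Type u} [Group G] [Finite G] {S P1 P2 : Subgroup G}

/-- **`b > 1`.** -/
theorem le_o2 (h : Pair S P1 P2) : zl S P1 ≤ o2 P2 := by
  by_contra hn
  obtain ⟨R, p, hR⟩ := h.par2
  exact OneBWire.false_of_three h (by rw [hR.relIndex]; exact BOneFour.card_R2 h hn hR)
    (BOneA.card_V h hn) (BOneA.card_Z h hn) hn

/-- The same for `P2`. -/
theorem le_o2_of (h : Pair S P1 P2) : zl S P1 ≤ o2 P1 ⊓ o2 P2 := by
  obtain ⟨R, p, hR⟩ := h.par1
  exact le_inf ((zl_le_zc hR.le hR.two hR.syl hR.char2).trans (zc_le _)) (le_o2 h)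

end Cfsg.Agent.SectRankFour.C2.BOne
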