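import Mathlib

/-!
# Tools for the case `b ≥ 3` of the rank 4 pushing-up argument (S0517, C2, section 3)

* `cj y A = y A y⁻¹`;
* `Half S y`: `y` has order 3, is not in `S`, and `S ∪ yS ∪ y⁻¹S` is a group (dichotomy for the elements
  of `S`); `qq S y` is the core of `S` in this group;
* `exists_fixed`: a permutation of order 3 of a set of cardinality prime to 3 has a fixed point;
* `exists_index_two`: a proper subgroup of a 2-group lies in a subgroup containing all squares.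
-/

set_option autoImplicit false

namespace Cfsg.Agent.SectRankFour.C2.BThreeA

variable {G : Type*} [Group G]

/-! ### Conjugates of subgroups -/

/-- `y A y⁻¹`. -/
def cj (y : G) (A : Subgroup G) : Subgroup G where
  carrier := {g | y⁻¹ * g * y ∈ A}
  one_mem' := by
    show y⁻¹ * 1 * y ∈ A
    have : y⁻¹ * 1 * y = 1 := by group
    rw [this]
    exact A.one_mem
  mul_mem' := by
    intro a b ha hb
    have h := A.mul_mem ha hb
    have e : y⁻¹ * a * y * (y⁻¹ * b * y) = y⁻¹ * (a * b) * y := by group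
    rw [e] at h
    exact h
  inv_mem' := by
    intro a ha
    have h := A.inv_mem ha
    have e : (y⁻¹ * a * y)⁻¹ = y⁻¹ * a⁻¹ * y := by group
    rw [e] at h
    exact h

theorem mem_cj {y : G} {A : Subgroup G} {g : G} : g ∈ cj y A ↔ y⁻¹ * g * y ∈ A := Iff.rfl

theorem mem_cj_inv {y : G} {A : Subgroup G} {g : G} : g ∈ cj y⁻¹ A ↔ y * g * y⁻¹ ∈ A := by
  rw [mem_cj, inv_inv]

theorem conj_mem_cj {y : G} {A : Subgroup G} {g : G} (hg : g ∈ A) : y * g * y⁻¹ ∈ cj y A := by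
  rw [mem_cj]
  have e : y⁻¹ * (y * g * y⁻¹) * y = g := by group
  rw [e]
  exact hg

theorem conj_mem_cj_inv {y : G} {A : Subgroup G} {g : G} (hg : g ∈ A) : y⁻¹ * g * y ∈ cj y⁻¹ A := by
  rw [mem_cj_inv]
  have e : y * (y⁻¹ * g * y) * y⁻¹ = g := by group
  rw [e]
  exact hg

/-! ### The dichotomy -/

/-- `S ∪ yS ∪ y⁻¹S` is a group and `y ∉ S` has order 3. -/
structure Half (S : Subgroup G) (y : G) : Prop where
  cube : y * y * y = 1
  notmem : y ∉ S
  dich : ∀ s ∈ S, (y⁻¹ * s * y ∈ S ∧ y * s * y⁻¹ ∈ S) ∨ (y * s * y ∈ S ∧ y⁻¹ * s * y⁻¹ ∈ S)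

theorem sq_eq_inv {y : G} (h : y * y * y = 1) : y * y = y⁻¹ := by
  rw [mul_eq_one_iff_eq_inv] at h
  exact h

theorem inv_mul_inv {y : G} (h : y * y * y = 1) : y⁻¹ * y⁻¹ = y := by
  have h1 := sq_eq_inv h
  rw [← mul_inv_rev, h1, inv_inv]

/-- The core of `S` in `S ∪ yS ∪ y⁻¹S`. -/
def qq (S : Subgroup G) (y : G) : Subgroup G := S ⊓ cj y S ⊓ cj y⁻¹ S

theorem mem_qq {S : Subgroup G} {y s : G} :
    s ∈ qq S y ↔ s ∈ S ∧ y⁻¹ * s * y ∈ S ∧ y * s * y⁻¹ ∈ S := by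
  rw [qq, Subgroup.mem_inf, Subgroup.mem_inf, mem_cj, mem_cj_inv, and_assoc]

theorem qq_le (S : Subgroup G) (y : G) : qq S y ≤ S := fun _ h => (mem_qq.1 h).1

namespace Half

variable {S : Subgroup G} {y : G}

theorem not_qq (h : Half S y) {s : G} (hs : s ∈ S) (hq : s ∉ qq S y) :
    y * s * y ∈ S ∧ y⁻¹ * s * y⁻¹ ∈ S := by
  rcases h.dich s hs with h1 | h1
  · exact absurd (mem_qq.2 ⟨hs, h1⟩) hq
  · exact h1

theorem not_both (h : Half S y) {s : G} (h1 : y * s * y⁻¹ ∈ S) (h2 : y * s * y ∈ S) : False := by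
  have h3 := S.mul_mem (S.inv_mem h1) h2
  have e : (y * s * y⁻¹)⁻¹ * (y * s * y) = y * y := by group
  rw [e, sq_eq_inv h.cube] at h3
  exact h.notmem (by simpa using S.inv_mem h3)

theorem not_both' (h : Half S y) {s : G} (h1 : y⁻¹ * s * y ∈ S) (h2 : y⁻¹ * s * y⁻¹ ∈ S) : False := by
  have h3 := S.mul_mem (S.inv_mem h2) h1
  have e : (y⁻¹ * s * y⁻¹)⁻¹ * (y⁻¹ * s * y) = y * y := by group
  rw [e, sq_eq_inv h.cube] at h3
  exact h.notmem (by simpa using S.inv_mem h3)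

theorem qq_of (h : Half S y) {s : G} (hs : s ∈ S) (h1 : y * s * y⁻¹ ∈ S) : s ∈ qq S y := by
  rcases h.dich s hs with h2 | h2
  · exact mem_qq.2 ⟨hs, h2⟩
  · exact (h.not_both h1 h2.1).elim

theorem qq_of' (h : Half S y) {s : G} (hs : s ∈ S) (h1 : y⁻¹ * s * y ∈ S) : s ∈ qq S y := by
  rcases h.dich s hs with h2 | h2
  · exact mem_qq.2 ⟨hs, h2⟩
  · exact (h.not_both' h1 h2.2).elim

theorem not_qq_of (h : Half S y) {s : G} (h1 : y * s * y ∈ S) : s ∉ qq S y := by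
  intro h2
  exact h.not_both (mem_qq.1 h2).2.2 h1

theorem conj (h : Half S y) {q : G} (hq : q ∈ qq S y) : y * q * y⁻¹ ∈ qq S y := by
  obtain ⟨h1, h2, h3⟩ := mem_qq.1 hq
  refine h.qq_of' h3 ?_
  have e : y⁻¹ * (y * q * y⁻¹) * y = q := by group
  rw [e]
  exact h1

theorem conj' (h : Half S y) {q : G} (hq : q ∈ qq S y) : y⁻¹ * q * y ∈ qq S y := by
  obtain ⟨h1, h2, h3⟩ := mem_qq.1 hq
  refine h.qq_of h2 ?_
  have e : y * (y⁻¹ * q * y) * y⁻¹ = q := by group
  rw [e]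
  exact h1

theorem mul_not_qq (h : Half S y) {s s' : G} (hs : s ∈ S) (hs' : s' ∈ S) (hq : s ∉ qq S y)
    (hq' : s' ∉ qq S y) : s * s' ∈ qq S y := by
  have h1 := h.not_qq hs hq
  have h2 := h.not_qq hs' hq'
  refine h.qq_of (S.mul_mem hs hs') ?_
  have e : y * (s * s') * y⁻¹ = (y * s * y) * (y⁻¹ * s' * y⁻¹) := by group
  rw [e]
  exact S.mul_mem h1.1 h2.2

theorem norm (h : Half S y) {s q : G} (hs : s ∈ S) (hq : q ∈ qq S y) : s * q * s⁻¹ ∈ qq S y := by
  by_cases hs' : s ∈ qq S y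
  · exact (qq S y).mul_mem ((qq S y).mul_mem hs' hq) ((qq S y).inv_mem hs')
  · have h1 : s * q ∉ qq S y := fun h2 => hs' (by
      have := (qq S y).mul_mem h2 ((qq S y).inv_mem hq)
      simpa using this)
    exact h.mul_not_qq (S.mul_mem hs (qq_le S y hq)) (S.inv_mem hs) h1
      (fun h2 => hs' (by simpa using (qq S y).inv_mem h2))

theorem not_qq_conj (h : Half S y) {s : G} (hs : s ∈ S) (hq : s ∉ qq S y) : y * s * y ∉ qq S y := by
  have h1 := h.not_qq hs hq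
  apply h.not_qq_of
  have e : y * (y * s * y) * y = (y * y) * s * (y * y) := by group
  rw [e, sq_eq_inv h.cube]
  exact h1.2

end Half

/-! ### Fixed points -/

theorem exists_fixed {α : Type*} [Finite α] (σ : α → α) (h3 : ∀ a, σ (σ (σ a)) = a)
    (hc : ¬ 3 ∣ Nat.card α) : ∃ a, σ a = a := by
  classical
  have := Fintype.ofFinite α
  have hinj : Function.Injective σ := by
    intro a b hab
    rw [← h3 a, ← h3 b, hab]
  have hbij : Function.Bijective σ := Finite.injective_iff_bijective.1 hinj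
  let e : Equiv.Perm α := Equiv.ofBijective σ hbij
  have he : e ^ 3 ^ 1 = 1 := by
    ext a
    simp only [pow_one, Equiv.Perm.coe_one, id_eq]
    show (e ^ 3) a = a
    rw [pow_succ, pow_succ, pow_one]
    exact h3 a
  have := Fact.mk Nat.prime_three
  obtain ⟨a, ha⟩ := Equiv.Perm.exists_fixed_point_of_prime (p := 3) (n := 1)
    (by rwa [← Nat.card_eq_fintype_card]) he
  exact ⟨a, ha⟩

theorem exists_fixed_set {G : Type*} [Finite G] (T : Set G) (σ : G → G) (hT : ∀ a ∈ T, σ a ∈ T)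
    (h3 : ∀ a ∈ T, σ (σ (σ a)) = a) (hc : ¬ 3 ∣ Nat.card T) : ∃ a ∈ T, σ a = a := by
  obtain ⟨⟨a, ha⟩, h⟩ := exists_fixed (α := T) (fun a => ⟨σ a, hT a a.2⟩)
    (fun a => Subtype.ext (h3 a a.2)) hc
  exact ⟨a, ha, congrArg Subtype.val h⟩

/-! ### Orders -/

theorem card_mul_relIndex {A B : Subgroup G} (h : A ≤ B) :
    Nat.card A * A.relIndex B = Nat.card B := by
  have h1 := Subgroup.relIndex_mul_relIndex ⊥ A B bot_le h
  rwa [Subgroup.relIndex_bot_left, Subgroup.relIndex_bot_left] at h1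

theorem two_mul_card_le [Finite G] {A B : Subgroup G} (h : A ≤ B) {p : G} (hp : p ∈ B) (hp' : p ∉ A) :
    2 * Nat.card A ≤ Nat.card B := by
  have h1 := card_mul_relIndex h
  have h2 : A.relIndex B ≠ 0 := by
    intro h2
    rw [h2, mul_zero] at h1
    exact Nat.card_pos.ne h1
  have h3 : A.relIndex B ≠ 1 := by
    intro h3
    exact hp' (Subgroup.relIndex_eq_one.1 h3 hp)
  have h4 : 2 ≤ A.relIndex B := by omega
  calc 2 * Nat.card A ≤ A.relIndex B * Nat.card A := Nat.mul_le_mul_right _ h4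
    _ = Nat.card A * A.relIndex B := mul_comm _ _
    _ = _ := h1

theorem card_eq_two_mul [Finite G] {A B : Subgroup G} (h : A ≤ B) {p : G} (hp : p ∈ B) (hp' : p ∉ A)
    (hB : ∀ b ∈ B, b ∈ A ∨ b * p ∈ A) : Nat.card B = 2 * Nat.card A := by
  have h1 := card_mul_relIndex h
  have h2 : A.relIndex B ∣ 2 := by
    rw [Subgroup.relIndex_dvd_two_iff]
    exact ⟨p, hp, fun b hb => (hB b hb).symm⟩
  have h3 := (Nat.dvd_prime Nat.prime_two).1 h2
  rcases h3 with h3 | h3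
  · exact absurd (Subgroup.relIndex_eq_one.1 h3 hp) hp'
  · rw [← h1, h3, mul_comm]

/-- `A ∪ A p`. -/
def ex (A : Subgroup G) (p : G) (h : ∀ a ∈ A, p * a * p⁻¹ ∈ A) (h2 : p * p ∈ A) : Subgroup G where
  carrier := {g | g ∈ A ∨ p * g ∈ A}
  one_mem' := Or.inl A.one_mem
  mul_mem' := by
    rintro a b (ha | ha) (hb | hb)
    · exact Or.inl (A.mul_mem ha hb)
    · right
      have h3 := A.mul_mem (h a ha) hb
      have e : p * a * p⁻¹ * (p * b) = p * (a * b) := by group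
      rwa [e] at h3
    · right
      have h3 := A.mul_mem ha hb
      rwa [mul_assoc] at h3
    · left
      have h3 := A.mul_mem (A.mul_mem (A.inv_mem h2) (h _ ha)) hb
      have e : (p * p)⁻¹ * (p * (p * a) * p⁻¹) * (p * b) = a * b := by group
      rwa [e] at h3
  inv_mem' := by
    rintro a (ha | ha)
    · exact Or.inl (A.inv_mem ha)
    · right
      have h3 := A.mul_mem (h _ (A.inv_mem ha)) h2
      have e : p * (p * a)⁻¹ * p⁻¹ * (p * p) = p * a⁻¹ := by group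
      rwa [e] at h3

theorem mem_ex {A : Subgroup G} {p : G} {h : ∀ a ∈ A, p * a * p⁻¹ ∈ A} {h2 : p * p ∈ A} {g : G} :
    g ∈ ex A p h h2 ↔ g ∈ A ∨ p * g ∈ A := Iff.rfl

/-- Squares in a group generated by elements which commute and are involutions modulo a central
subgroup. -/
theorem sq_closure {X : Set G} {Z : Subgroup G} (hZ : ∀ ζ ∈ Z, ∀ x ∈ X, ζ * x = x * ζ)
    (hc : ∀ a ∈ X, ∀ b ∈ X, a * b * a⁻¹ * b⁻¹ ∈ Z) (hs : ∀ a ∈ X, a * a ∈ Z) :
    ∀ g ∈ Subgroup.closure X, g * g ∈ Z := by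
  have c1 : ∀ g ∈ Subgroup.closure X, ∀ ζ ∈ Z, ζ * g = g * ζ := by
    intro g hg
    induction hg using Subgroup.closure_induction with
    | mem x hx => exact fun ζ hζ => hZ ζ hζ x hx
    | one => intro ζ _; rw [mul_one, one_mul]
    | mul a b _ _ ha hb =>
      intro ζ hζ
      rw [← mul_assoc, ha ζ hζ, mul_assoc, hb ζ hζ, mul_assoc]
    | inv a _ ha =>
      intro ζ hζ
      have := ha ζ hζ
      calc ζ * a⁻¹ = a⁻¹ * (a * ζ) * a⁻¹ := by group
        _ = a⁻¹ * (ζ * a) * a⁻¹ := by rw [this]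
        _ = a⁻¹ * ζ := by group
  have c2 : ∀ g ∈ Subgroup.closure X, ∀ b ∈ X, g * b * g⁻¹ * b⁻¹ ∈ Z := by
    intro g hg
    induction hg using Subgroup.closure_induction with
    | mem x hx => exact fun b hb => hc x hx b hb
    | one => intro b _; simp
    | mul a a' ha' _ ha hb =>
      intro b hbX
      have h1 := ha b hbX
      have h2 := hb b hbX
      have h3 := c1 a ha' _ h2
      have e : a * a' * b * (a * a')⁻¹ * b⁻¹ = (a' * b * a'⁻¹ * b⁻¹) * (a * b * a⁻¹ * b⁻¹) := by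
        calc a * a' * b * (a * a')⁻¹ * b⁻¹
            = (a * (a' * b * a'⁻¹ * b⁻¹)) * b * a⁻¹ * b⁻¹ := by group
          _ = (a' * b * a'⁻¹ * b⁻¹) * (a * b * a⁻¹ * b⁻¹) := by rw [← h3]; group
      rw [e]
      exact Z.mul_mem h2 h1
    | inv a ha' ha =>
      intro b hbX
      have h1 := ha b hbX
      have h3 := c1 a ha' _ h1
      have e : a⁻¹ * b * a⁻¹⁻¹ * b⁻¹ = (a * b * a⁻¹ * b⁻¹)⁻¹ := by
        have h4 : a⁻¹ * (a * b * a⁻¹ * b⁻¹)⁻¹ * a = (a * b * a⁻¹ * b⁻¹)⁻¹ := by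
          have h5 := c1 a ha' _ (Z.inv_mem h1)
          rw [mul_assoc, h5]
          group
        calc a⁻¹ * b * a⁻¹⁻¹ * b⁻¹ = a⁻¹ * (a * b * a⁻¹ * b⁻¹)⁻¹ * a := by group
          _ = _ := h4
      rw [e]
      exact Z.inv_mem h1
  have c3 : ∀ g ∈ Subgroup.closure X, ∀ b ∈ Subgroup.closure X, g * b * g⁻¹ * b⁻¹ ∈ Z := by
    intro g hg b hb
    have key : ∀ b ∈ Subgroup.closure X, b * g * b⁻¹ * g⁻¹ ∈ Z := by
      intro b hb
      induction hb using Subgroup.closure_induction with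
      | mem x hx =>
        have h1 := Z.inv_mem (c2 g hg x hx)
        have e : (g * x * g⁻¹ * x⁻¹)⁻¹ = x * g * x⁻¹ * g⁻¹ := by group
        rwa [e] at h1
      | one => simp
      | mul a a' ha' _ ha hb =>
        have h3 := c1 a ha' _ hb
        have e : a * a' * g * (a * a')⁻¹ * g⁻¹ = (a' * g * a'⁻¹ * g⁻¹) * (a * g * a⁻¹ * g⁻¹) := by
          calc a * a' * g * (a * a')⁻¹ * g⁻¹
              = (a * (a' * g * a'⁻¹ * g⁻¹)) * g * a⁻¹ * g⁻¹ := by group
            _ = (a' * g * a'⁻¹ * g⁻¹) * (a * g * a⁻¹ * g⁻¹) := by rw [← h3]; group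
        rw [e]
        exact Z.mul_mem hb ha
      | inv a ha' ha =>
        have h5 := c1 a ha' _ (Z.inv_mem ha)
        have e : a⁻¹ * g * a⁻¹⁻¹ * g⁻¹ = (a * g * a⁻¹ * g⁻¹)⁻¹ := by
          calc a⁻¹ * g * a⁻¹⁻¹ * g⁻¹ = a⁻¹ * ((a * g * a⁻¹ * g⁻¹)⁻¹ * a) := by group
            _ = a⁻¹ * (a * (a * g * a⁻¹ * g⁻¹)⁻¹) := by rw [h5]
            _ = _ := by group
        rw [e]
        exact Z.inv_mem ha
    have h1 := Z.inv_mem (key b hb)
    have e : (b * g * b⁻¹ * g⁻¹)⁻¹ = g * b * g⁻¹ * b⁻¹ := by group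
    rwa [e] at h1
  intro g hg
  induction hg using Subgroup.closure_induction with
  | mem x hx => exact hs x hx
  | one => simp
  | mul a b ha hb h1 h2 =>
    have h3 := c3 (a⁻¹) (inv_mem ha) b hb
    have h4 : a * b * (a * b) = a * a * (a⁻¹ * b * a⁻¹⁻¹ * b⁻¹) * (b * b) := by group
    rw [h4]
    exact Z.mul_mem (Z.mul_mem h1 h3) h2
  | inv a _ h1 =>
    have e : a⁻¹ * a⁻¹ = (a * a)⁻¹ := by group
    rw [e]
    exact Z.inv_mem h1

/-- A proper subgroup of a 2-group lies in a proper subgroup containing all squares. -/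
theorem exists_index_two [Finite G] {Q H : Subgroup G} (hQ : IsPGroup 2 Q) (hH : H ≤ Q) {p : G}
    (hp : p ∈ Q) (hp' : p ∉ H) :
    ∃ M : Subgroup G, H ≤ M ∧ M ≤ Q ∧ ¬ Q ≤ M ∧ ∀ q ∈ Q, q * q ∈ M := by
  have := Fact.mk Nat.prime_two
  obtain ⟨n, hn⟩ := IsPGroup.iff_card.1 hQ
  have hH2 : IsPGroup 2 (H.subgroupOf Q) := hQ.to_subgroup _
  obtain ⟨m, hm⟩ := IsPGroup.iff_card.1 hH2
  have hlt : Nat.card (H.subgroupOf Q) < Nat.card Q := by
    have h1 := two_mul_card_le (A := H.subgroupOf Q) (B := ⊤) le_top (p := ⟨p, hp⟩) trivial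
      (by rw [Subgroup.mem_subgroupOf]; exact hp')
    rw [Subgroup.card_top] at h1
    have h2 : 0 < Nat.card (H.subgroupOf Q) := Nat.card_pos
    omega
  have hmn : m < n := by
    rw [hm, hn] at hlt
    exact (Nat.pow_lt_pow_iff_right (by norm_num)).1 hlt
  obtain ⟨K, hK, hHK⟩ := Sylow.exists_subgroup_card_pow_prime_le (G := Q) 2 (n := m) (m := n - 1)
    (by rw [hn]; exact pow_dvd_pow 2 (by omega)) (H.subgroupOf Q) hm (by omega)
  have hidx : K.index = 2 := by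
    have h1 := K.card_mul_index
    rw [hK, hn] at h1
    have h2 : 2 ^ n = 2 ^ (n - 1) * 2 := by
      rw [← pow_succ]
      congr 1
      omega
    rw [h2] at h1
    exact Nat.eq_of_mul_eq_mul_left (by positivity) h1
  refine ⟨K.map Q.subtype, ?_, ?_, ?_, ?_⟩
  · intro h hh
    exact ⟨⟨h, hH hh⟩, hHK (by rw [Subgroup.mem_subgroupOf]; exact hh), rfl⟩
  · rintro _ ⟨k, _, rfl⟩
    exact k.2
  · intro h1
    have h2 : K = ⊤ := by
      rw [eq_top_iff]
      intro q _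
      obtain ⟨k, hk, hk'⟩ := h1 q.2
      have : k = q := Subtype.ext hk'
      rw [← this]
      exact hk
    rw [h2, Subgroup.index_top] at hidx
    exact absurd hidx (by norm_num)
  · intro q hq
    exact ⟨⟨q, hq⟩ * ⟨q, hq⟩, Subgroup.mul_self_mem_of_index_two hidx _, rfl⟩

end Cfsg.Agent.SectRankFour.C2.BThreeA
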