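import Mathlib
import Cfsg.Agent.SectRankFour.C2.BThreeA

/-!
# The case `b ≥ 3`, part 1: `V`, `A = ⟨V^{P₂}⟩` and the commutators of the conjugates of `A`

`Data S z z1 z2 v1 v2 y w`: `S` a 2-group, `P₁ = S ∪ yS ∪ y⁻¹S`, `P₂ = S ∪ wS ∪ w⁻¹S`,
`Ω₁Z(S) = {1, z}`, `w` centralises `z`, `V = {1, z, z1, z2}` with `z1 = y z y⁻¹`, `z2 = y z1 y⁻¹`,
`v1 = w z1 w⁻¹`, `v2 = w v1 w⁻¹`, all in `S` and commuting, no nontrivial subgroup of `S` is normalised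
by `S`, `y` and `w`; sections of `S` have rank at most 4.

Main result: `Data.main_b`.
-/

set_option autoImplicit false

namespace Cfsg.Agent.SectRankFour.C2.BThreeB

open Cfsg.Agent.SectRankFour.C2.BThreeA

variable {G : Type*} [Group G]

/-- See the module docstring. -/
structure Data (S : Subgroup G) (z z1 z2 v1 v2 y w : G) : Prop where
  two : IsPGroup 2 S
  hy : Half S y
  hw : Half S w
  z_mem : z ∈ S
  z1_mem : z1 ∈ S
  z2_mem : z2 ∈ S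
  v1_mem : v1 ∈ S
  v2_mem : v2 ∈ S
  yz : y * z * y⁻¹ = z1
  yz1 : y * z1 * y⁻¹ = z2
  yz2 : y * z2 * y⁻¹ = z
  wz : w * z * w⁻¹ = z
  wz1 : w * z1 * w⁻¹ = v1
  wv1 : w * v1 * w⁻¹ = v2
  wv2 : w * v2 * w⁻¹ = z1
  z_sq : z * z = 1
  z_ne : z ≠ 1
  z_comm : ∀ s ∈ S, s * z = z * s
  z_uniq : ∀ g ∈ S, g * g = 1 → (∀ s ∈ S, s * g = g * s) → g = 1 ∨ g = z
  ne : z1 ≠ z
  abel : z1 * v1 = v1 * z1
  core : ∀ U : Subgroup G, U ≤ S → (∀ s ∈ S, ∀ u ∈ U, s * u * s⁻¹ ∈ U) →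
    (∀ u ∈ U, y * u * y⁻¹ ∈ U) → (∀ u ∈ U, w * u * w⁻¹ ∈ U) → U = ⊥
  rank : ∀ H K : Subgroup G, K ≤ H → H ≤ S → (∀ a ∈ H, a * a ∈ K) →
    Nat.card H ≤ 16 * Nat.card K

theorem conj_inv {y a b : G} (h : y * a * y⁻¹ = b) : y⁻¹ * b * y = a := by
  rw [← h]
  group

theorem cmul (y a b : G) : y * (a * b) * y⁻¹ = (y * a * y⁻¹) * (y * b * y⁻¹) := by group

theorem cmul' (y a b : G) : y⁻¹ * (a * b) * y = (y⁻¹ * a * y) * (y⁻¹ * b * y) := by group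

theorem inv_eq_self {a : G} (h : a * a = 1) : a⁻¹ = a := by
  rw [inv_eq_iff_mul_eq_one]
  exact h

theorem conj_sq {y a b : G} (h : y * a * y⁻¹ = b) (ha : a * a = 1) : b * b = 1 := by
  rw [← h, ← cmul, ha]
  group

theorem conj_comm {y a b a' b' : G} (h : y * a * y⁻¹ = a') (h' : y * b * y⁻¹ = b')
    (hab : a * b = b * a) : a' * b' = b' * a' := by
  rw [← h, ← h', ← cmul, ← cmul, hab]

theorem comm_of_sq {a b : G} (ha : a * a = 1) (hb : b * b = 1) (hab : (a * b) * (a * b) = 1) :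
    a * b = b * a := by
  have h1 := inv_eq_self hab
  rw [mul_inv_rev, inv_eq_self ha, inv_eq_self hb] at h1
  exact h1.symm

/-- A subgroup of exponent 2 is commutative. -/
theorem comm_of_exp {A : Subgroup G} (h : ∀ a ∈ A, a * a = 1) {a b : G} (ha : a ∈ A) (hb : b ∈ A) :
    a * b = b * a := comm_of_sq (h a ha) (h b hb) (h _ (A.mul_mem ha hb))

/-- Conjugation invariance of a closure. -/
theorem closure_conj {X : Set G} {B : Subgroup G} {g : G} (h : ∀ x ∈ X, g * x * g⁻¹ ∈ B) :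
    ∀ a ∈ Subgroup.closure X, g * a * g⁻¹ ∈ B := by
  have h1 : Subgroup.closure X ≤ cj g⁻¹ B := by
    rw [Subgroup.closure_le]
    intro x hx
    exact mem_cj_inv.2 (h x hx)
  intro a ha
  exact mem_cj_inv.1 (h1 ha)

namespace Data

variable {S : Subgroup G} {z z1 z2 v1 v2 y w : G}

/-! ### The four-group `V` -/

theorem z1_sq (h : Data S z z1 z2 v1 v2 y w) : z1 * z1 = 1 := conj_sq h.yz h.z_sq

theorem z2_sq (h : Data S z z1 z2 v1 v2 y w) : z2 * z2 = 1 := conj_sq h.yz1 h.z1_sq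

theorem v1_sq (h : Data S z z1 z2 v1 v2 y w) : v1 * v1 = 1 := conj_sq h.wz1 h.z1_sq

theorem v2_sq (h : Data S z z1 z2 v1 v2 y w) : v2 * v2 = 1 := conj_sq h.wv1 h.v1_sq

theorem z1z2_comm (h : Data S z z1 z2 v1 v2 y w) : z1 * z2 = z2 * z1 :=
  conj_comm h.yz h.yz1 (h.z_comm z1 h.z1_mem).symm

theorem qq_comm1 (h : Data S z z1 z2 v1 v2 y w) {q : G} (hq : q ∈ qq S y) : q * z1 = z1 * q := by
  have h1 := h.z_comm _ (mem_qq.1 hq).2.1
  rw [← h.yz]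
  calc q * (y * z * y⁻¹) = y * (y⁻¹ * q * y * z) * y⁻¹ := by group
    _ = y * (z * (y⁻¹ * q * y)) * y⁻¹ := by rw [h1]
    _ = y * z * y⁻¹ * q := by group

theorem yinv_z (h : Data S z z1 z2 v1 v2 y w) : y⁻¹ * z * y = z2 := conj_inv h.yz2

theorem qq_comm2 (h : Data S z z1 z2 v1 v2 y w) {q : G} (hq : q ∈ qq S y) : q * z2 = z2 * q := by
  have h1 := h.z_comm _ (mem_qq.1 hq).2.2
  rw [← h.yinv_z]
  calc q * (y⁻¹ * z * y) = y⁻¹ * (y * q * y⁻¹ * z) * y := by group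
    _ = y⁻¹ * (z * (y * q * y⁻¹)) * y := by rw [h1]
    _ = y⁻¹ * z * y * q := by group

theorem swap1 (h : Data S z z1 z2 v1 v2 y w) {s : G} (hs : s ∈ S) (hq : s ∉ qq S y) :
    s * z1 = z2 * s := by
  have h1 := h.z_comm _ (h.hy.not_qq hs hq).1
  rw [← h.yz, ← h.yinv_z]
  calc s * (y * z * y⁻¹) = y⁻¹ * (y * s * y * z) * y⁻¹ := by group
    _ = y⁻¹ * (z * (y * s * y)) * y⁻¹ := by rw [h1]
    _ = y⁻¹ * z * y * s := by group

theorem swap2 (h : Data S z z1 z2 v1 v2 y w) {s : G} (hs : s ∈ S) (hq : s ∉ qq S y) :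
    s * z2 = z1 * s := by
  have h1 := h.z_comm _ (h.hy.not_qq hs hq).2
  rw [← h.yz, ← h.yinv_z]
  calc s * (y⁻¹ * z * y) = y * (y⁻¹ * s * y⁻¹ * z) * y := by group
    _ = y * (z * (y⁻¹ * s * y⁻¹)) * y := by rw [h1]
    _ = y * z * y⁻¹ * s := by group

theorem z1_ne_z2 (h : Data S z z1 z2 v1 v2 y w) : z1 ≠ z2 := by
  intro h1
  have h2 := h.yz1
  rw [← h1] at h2
  exact h.ne ((conj_inv h2).symm.trans (conj_inv h.yz))

theorem zz1 (h : Data S z z1 z2 v1 v2 y w) : z * z1 = z2 := by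
  have c1 := h.z_comm z1 h.z1_mem
  have c2 := h.z_comm z2 h.z2_mem
  have c3 := h.z1z2_comm
  have e1 : (z * (z1 * z2)) * (z * (z1 * z2)) = 1 := by
    calc (z * (z1 * z2)) * (z * (z1 * z2)) = z * z1 * (z2 * z) * z1 * z2 := by group
      _ = z * (z1 * z) * (z2 * z1) * z2 := by rw [c2]; group
      _ = (z * z) * (z1 * z1) * (z2 * z2) := by rw [c1, ← c3]; group
      _ = 1 := by rw [h.z_sq, h.z1_sq, h.z2_sq]; simp
  have e2 : ∀ s ∈ S, s * (z * (z1 * z2)) = z * (z1 * z2) * s := by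
    intro s hs
    by_cases hq : s ∈ qq S y
    · calc s * (z * (z1 * z2)) = (s * z) * z1 * z2 := by group
        _ = z * (s * z1) * z2 := by rw [h.z_comm s hs]; group
        _ = z * z1 * (s * z2) := by rw [h.qq_comm1 hq]; group
        _ = z * (z1 * z2) * s := by rw [h.qq_comm2 hq]; group
    · calc s * (z * (z1 * z2)) = (s * z) * z1 * z2 := by group
        _ = z * (s * z1) * z2 := by rw [h.z_comm s hs]; group
        _ = z * z2 * (s * z2) := by rw [h.swap1 hs hq]; group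
        _ = z * (z1 * z2) * s := by rw [h.swap2 hs hq, c3]; group
  rcases h.z_uniq _ (S.mul_mem h.z_mem (S.mul_mem h.z1_mem h.z2_mem)) e1 e2 with e3 | e3
  · rw [← mul_assoc] at e3
    rw [eq_inv_of_mul_eq_one_left e3, inv_eq_self h.z2_sq]
  · exfalso
    have e4 : z1 * z2 = 1 := by simpa using e3
    apply h.z1_ne_z2
    rw [eq_inv_of_mul_eq_one_left e4, inv_eq_self h.z2_sq]

theorem z1z (h : Data S z z1 z2 v1 v2 y w) : z1 * z = z2 := by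
  rw [h.z_comm z1 h.z1_mem, h.zz1]

theorem z1z2 (h : Data S z z1 z2 v1 v2 y w) : z1 * z2 = z := by
  have h1 := cmul y z z1
  rw [h.zz1, h.yz2, h.yz, h.yz1] at h1
  exact h1.symm

theorem z2z1 (h : Data S z z1 z2 v1 v2 y w) : z2 * z1 = z := by
  rw [← h.z1z2_comm, h.z1z2]

theorem z2z (h : Data S z z1 z2 v1 v2 y w) : z2 * z = z1 := by
  have h1 := cmul y z1 z2
  rw [h.z1z2, h.yz, h.yz1, h.yz2] at h1
  exact h1.symm

theorem zz2 (h : Data S z z1 z2 v1 v2 y w) : z * z2 = z1 := by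
  rw [← h.z_comm z2 h.z2_mem, h.z2z]

theorem z1_ne (h : Data S z z1 z2 v1 v2 y w) : z1 ≠ 1 := by
  intro h1
  apply h.z_ne
  have h2 := conj_inv h.yz
  rw [h1] at h2
  rw [← h2]
  group

theorem z2_ne (h : Data S z z1 z2 v1 v2 y w) : z2 ≠ 1 := by
  intro h1
  apply h.z1_ne
  have h2 := conj_inv h.yz1
  rw [h1] at h2
  rw [← h2]
  group

theorem z2_ne_z (h : Data S z z1 z2 v1 v2 y w) : z2 ≠ z := by
  intro h1
  apply h.z1_ne
  have h2 := h.zz1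
  rw [h1] at h2
  simpa using h2

/-- The four-group `V = {1, z, z1, z2}`. -/
def V (h : Data S z z1 z2 v1 v2 y w) : Subgroup G where
  carrier := {g | g = 1 ∨ g = z ∨ g = z1 ∨ g = z2}
  one_mem' := Or.inl rfl
  mul_mem' := by
    rintro a b (rfl | rfl | rfl | rfl) (rfl | rfl | rfl | rfl) <;>
      simp only [Set.mem_ofPred_eq, one_mul, mul_one, h.zz1, h.zz2, h.z1z, h.z1z2, h.z2z, h.z2z1,
        h.z_sq, h.z1_sq, h.z2_sq, true_or, or_true]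
  inv_mem' := by
    rintro a (rfl | rfl | rfl | rfl)
    · left; simp
    · right; left; exact inv_eq_self h.z_sq
    · right; right; left; exact inv_eq_self h.z1_sq
    · right; right; right; exact inv_eq_self h.z2_sq

theorem mem_V (h : Data S z z1 z2 v1 v2 y w) {g : G} :
    g ∈ h.V ↔ g = 1 ∨ g = z ∨ g = z1 ∨ g = z2 := Iff.rfl

theorem z_V (h : Data S z z1 z2 v1 v2 y w) : z ∈ h.V := Or.inr (Or.inl rfl)
theorem z1_V (h : Data S z z1 z2 v1 v2 y w) : z1 ∈ h.V := Or.inr (Or.inr (Or.inl rfl))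
theorem z2_V (h : Data S z z1 z2 v1 v2 y w) : z2 ∈ h.V := Or.inr (Or.inr (Or.inr rfl))

theorem V_le (h : Data S z z1 z2 v1 v2 y w) : h.V ≤ S := by
  rintro g (rfl | rfl | rfl | rfl)
  exacts [S.one_mem, h.z_mem, h.z1_mem, h.z2_mem]

theorem V_sq (h : Data S z z1 z2 v1 v2 y w) : ∀ g ∈ h.V, g * g = 1 := by
  rintro g (rfl | rfl | rfl | rfl)
  exacts [mul_one 1, h.z_sq, h.z1_sq, h.z2_sq]

theorem qq_comm_V (h : Data S z z1 z2 v1 v2 y w) {q : G} (hq : q ∈ qq S y) :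
    ∀ v ∈ h.V, q * v = v * q := by
  rintro g (rfl | rfl | rfl | rfl)
  exacts [by simp, h.z_comm q (qq_le S y hq), h.qq_comm1 hq, h.qq_comm2 hq]

theorem S_conj_V (h : Data S z z1 z2 v1 v2 y w) {s : G} (hs : s ∈ S) {v : G} (hv : v ∈ h.V) :
    s * v * s⁻¹ ∈ h.V := by
  by_cases hq : s ∈ qq S y
  · rw [h.qq_comm_V hq v hv]
    simpa using hv
  · rcases hv with rfl | rfl | rfl | rfl
    · simp [h.V.one_mem]
    · rw [h.z_comm s hs]; simpa using h.z_V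
    · rw [h.swap1 hs hq]; simpa using h.z2_V
    · rw [h.swap2 hs hq]; simpa using h.z1_V

theorem y_conj_V (h : Data S z z1 z2 v1 v2 y w) {v : G} (hv : v ∈ h.V) : y * v * y⁻¹ ∈ h.V := by
  rcases hv with rfl | rfl | rfl | rfl
  · simp [h.V.one_mem]
  · rw [h.yz]; exact h.z1_V
  · rw [h.yz1]; exact h.z2_V
  · rw [h.yz2]; exact h.z_V

theorem yinv_conj_V (h : Data S z z1 z2 v1 v2 y w) {v : G} (hv : v ∈ h.V) : y⁻¹ * v * y ∈ h.V := by
  rcases hv with rfl | rfl | rfl | rfl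
  · simp [h.V.one_mem]
  · rw [conj_inv h.yz2]; exact h.z2_V
  · rw [conj_inv h.yz]; exact h.z_V
  · rw [conj_inv h.yz1]; exact h.z1_V

/-- An element of `S` centralising `z1` lies in `Q₁`. -/
theorem qq_of_comm (h : Data S z z1 z2 v1 v2 y w) {s : G} (hs : s ∈ S) (hc : s * z1 = z1 * s) :
    s ∈ qq S y := by
  by_contra hq
  have h1 := h.swap1 hs hq
  rw [hc] at h1
  exact h.z1_ne_z2 (mul_right_cancel h1)

/-- There is an element of `S` outside `Q₁`. -/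
theorem exists_not_qq (h : Data S z z1 z2 v1 v2 y w) : ∃ t ∈ S, t ∉ qq S y := by
  by_contra hcon
  push Not at hcon
  rcases h.z_uniq z1 h.z1_mem h.z1_sq (fun s hs => h.qq_comm1 (hcon s hs)) with h1 | h1
  · exact h.z1_ne h1
  · exact h.ne h1

theorem S_conj_z1 (h : Data S z z1 z2 v1 v2 y w) {s : G} (hs : s ∈ S) :
    s * z1 * s⁻¹ = z1 ∨ s * z1 * s⁻¹ = z * z1 := by
  by_cases hq : s ∈ qq S y
  · left; rw [h.qq_comm1 hq]; group
  · right; rw [h.swap1 hs hq, h.zz1]; group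

/-! ### The group `A` -/

/-- `v1 ∉ V`. -/
theorem v1_not_V (h : Data S z z1 z2 v1 v2 y w) : v1 ∉ h.V := by
  intro h1
  have h2 := h.core h.V h.V_le (fun s hs u hu => h.S_conj_V hs hu) (fun u hu => h.y_conj_V hu) (by
    have hz : w * z * w⁻¹ ∈ h.V := by rw [h.wz]; exact h.z_V
    have hz1 : w * z1 * w⁻¹ ∈ h.V := by rw [h.wz1]; exact h1
    rintro u (rfl | rfl | rfl | rfl)
    · simp [h.V.one_mem]
    · exact hz
    · exact hz1
    · have e := cmul w z z1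
      rw [h.zz1] at e
      rw [e]
      exact h.V.mul_mem hz hz1)
  have h3 := h.z_V
  rw [h2, Subgroup.mem_bot] at h3
  exact h.z_ne h3

theorem winv_z1 (h : Data S z z1 z2 v1 v2 y w) : w⁻¹ * z1 * w = v2 := conj_inv h.wv2
theorem winv_z (h : Data S z z1 z2 v1 v2 y w) : w⁻¹ * z * w = z := conj_inv h.wz

theorem v2_not_V (h : Data S z z1 z2 v1 v2 y w) : v2 ∉ h.V := by
  intro h1
  have hz : w⁻¹ * z * w ∈ h.V := by rw [h.winv_z]; exact h.z_V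
  have hz1 : w⁻¹ * z1 * w ∈ h.V := by rw [h.winv_z1]; exact h1
  have key : ∀ u ∈ h.V, w⁻¹ * u * w ∈ h.V := by
    rintro u (rfl | rfl | rfl | rfl)
    · simp [h.V.one_mem]
    · exact hz
    · exact hz1
    · have e := cmul' w z z1
      rw [h.zz1] at e
      rw [e]
      exact h.V.mul_mem hz hz1
  have h2 := h.core h.V h.V_le (fun s hs u hu => h.S_conj_V hs hu) (fun u hu => h.y_conj_V hu) (by
    intro u hu
    have h3 := key _ (key u hu)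
    have e : w⁻¹ * (w⁻¹ * u * w) * w = (w⁻¹ * w⁻¹) * u * (w⁻¹ * w⁻¹)⁻¹ := by
      simp only [mul_inv_rev, inv_inv, mul_assoc]
    rwa [e, inv_mul_inv h.hw.cube] at h3)
  have h3 := h.z_V
  rw [h2, Subgroup.mem_bot] at h3
  exact h.z_ne h3

theorem v1v2_comm (h : Data S z z1 z2 v1 v2 y w) : v1 * v2 = v2 * v1 :=
  conj_comm h.wz1 h.wv1 h.abel

theorem v2z1_comm (h : Data S z z1 z2 v1 v2 y w) : v2 * z1 = z1 * v2 :=
  conj_comm h.wv1 h.wv2 h.v1v2_comm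

theorem v1_ne_v2 (h : Data S z z1 z2 v1 v2 y w) : v1 ≠ v2 := by
  intro h1
  have h2 := h.wv1
  rw [h1, h.wv2] at h2
  exact h.v2_not_V (h2 ▸ h.z1_V)

theorem v1_ne_zv2 (h : Data S z z1 z2 v1 v2 y w) : v1 ≠ z * v2 := by
  intro h1
  have h2 := cmul w z v2
  rw [← h1, h.wz, h.wv2, h.wv1, h.zz1] at h2
  exact h.v2_not_V (h2 ▸ h.z2_V)

/-- `A = ⟨V^{P₂}⟩`. -/
def A (_ : Data S z z1 z2 v1 v2 y w) : Subgroup G := Subgroup.closure {z, z1, v1, v2}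

theorem z_A (h : Data S z z1 z2 v1 v2 y w) : z ∈ h.A := Subgroup.subset_closure (by simp)
theorem z1_A (h : Data S z z1 z2 v1 v2 y w) : z1 ∈ h.A := Subgroup.subset_closure (by simp)
theorem v1_A (h : Data S z z1 z2 v1 v2 y w) : v1 ∈ h.A := Subgroup.subset_closure (by simp)
theorem v2_A (h : Data S z z1 z2 v1 v2 y w) : v2 ∈ h.A := Subgroup.subset_closure (by simp)
theorem z2_A (h : Data S z z1 z2 v1 v2 y w) : z2 ∈ h.A := h.zz1 ▸ h.A.mul_mem h.z_A h.z1_A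

theorem V_le_A (h : Data S z z1 z2 v1 v2 y w) : h.V ≤ h.A := by
  rintro g (rfl | rfl | rfl | rfl)
  exacts [h.A.one_mem, h.z_A, h.z1_A, h.z2_A]

theorem A_le_of (h : Data S z z1 z2 v1 v2 y w) {B : Subgroup G} (h0 : z ∈ B) (h1 : z1 ∈ B)
    (h2 : v1 ∈ B) (h3 : v2 ∈ B) : h.A ≤ B := by
  rw [A, Subgroup.closure_le]
  rintro g (rfl | rfl | rfl | rfl)
  exacts [h0, h1, h2, h3]

theorem A_le (h : Data S z z1 z2 v1 v2 y w) : h.A ≤ S :=
  h.A_le_of h.z_mem h.z1_mem h.v1_mem h.v2_mem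

theorem A_sq (h : Data S z z1 z2 v1 v2 y w) : ∀ g ∈ h.A, g * g = 1 := by
  intro g hg
  have h0 := h.z_comm z1 h.z1_mem
  have h1 := h.z_comm v1 h.v1_mem
  have h2 := h.z_comm v2 h.v2_mem
  have h3 := h.abel
  have h4 := h.v1v2_comm
  have h5 := h.v2z1_comm
  have key : ∀ a b : G, a * b = b * a → a * b * a⁻¹ * b⁻¹ ∈ (⊥ : Subgroup G) := by
    intro a b hab
    rw [Subgroup.mem_bot, hab]
    group
  have := sq_closure (X := {z, z1, v1, v2}) (Z := ⊥) (by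
    intro ζ hζ x _
    rw [Subgroup.mem_bot.1 hζ]; simp) (by
    rintro a (rfl | rfl | rfl | rfl) b (rfl | rfl | rfl | rfl) <;> apply key <;>
      first | rfl | assumption | (symm; assumption)) (by
    rintro a (rfl | rfl | rfl | rfl) <;> rw [Subgroup.mem_bot]
    exacts [h.z_sq, h.z1_sq, h.v1_sq, h.v2_sq]) g hg
  exact Subgroup.mem_bot.1 this

theorem A_comm (h : Data S z z1 z2 v1 v2 y w) {a b : G} (ha : a ∈ h.A) (hb : b ∈ h.A) :
    a * b = b * a := comm_of_exp h.A_sq ha hb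

theorem w_conj_A (h : Data S z z1 z2 v1 v2 y w) {a : G} (ha : a ∈ h.A) : w * a * w⁻¹ ∈ h.A := by
  refine closure_conj ?_ a ha
  rintro g (rfl | rfl | rfl | rfl)
  · rw [h.wz]; exact h.z_A
  · rw [h.wz1]; exact h.v1_A
  · rw [h.wv1]; exact h.v2_A
  · rw [h.wv2]; exact h.z1_A

theorem winv_conj_A (h : Data S z z1 z2 v1 v2 y w) {a : G} (ha : a ∈ h.A) : w⁻¹ * a * w ∈ h.A := by
  have h1 := h.w_conj_A (h.w_conj_A ha)
  have e : w * (w * a * w⁻¹) * w⁻¹ = (w * w) * a * (w * w)⁻¹ := by group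
  rw [e, sq_eq_inv h.hw.cube, inv_inv] at h1
  exact h1

theorem qqw_conj_v1 (h : Data S z z1 z2 v1 v2 y w) {q : G} (hq : q ∈ qq S w) :
    q * v1 * q⁻¹ = v1 ∨ q * v1 * q⁻¹ = z * v1 := by
  have e : q * v1 * q⁻¹ = w * ((w⁻¹ * q * w) * z1 * (w⁻¹ * q * w)⁻¹) * w⁻¹ := by
    rw [← h.wz1]; group
  rw [e]
  rcases h.S_conj_z1 (mem_qq.1 hq).2.1 with h1 | h1
  · left; rw [h1, h.wz1]
  · right; rw [h1, cmul, h.wz, h.wz1]

theorem qqw_conj_v2 (h : Data S z z1 z2 v1 v2 y w) {q : G} (hq : q ∈ qq S w) :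
    q * v2 * q⁻¹ = v2 ∨ q * v2 * q⁻¹ = z * v2 := by
  have e : q * v2 * q⁻¹ = w⁻¹ * ((w * q * w⁻¹) * z1 * (w * q * w⁻¹)⁻¹) * w := by
    rw [← h.winv_z1]; group
  rw [e]
  rcases h.S_conj_z1 (mem_qq.1 hq).2.2 with h1 | h1
  · left; rw [h1, h.winv_z1]
  · right; rw [h1, cmul', h.winv_z, h.winv_z1]

theorem swapw1 (h : Data S z z1 z2 v1 v2 y w) {s : G} (hs : s ∈ S) (hq : s ∉ qq S w) :
    s * v1 * s⁻¹ = v2 ∨ s * v1 * s⁻¹ = z * v2 := by
  have e : s * v1 * s⁻¹ = w⁻¹ * ((w * s * w) * z1 * (w * s * w)⁻¹) * w := by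
    rw [← h.wz1]; group
  rw [e]
  rcases h.S_conj_z1 (h.hw.not_qq hs hq).1 with h1 | h1
  · left; rw [h1, h.winv_z1]
  · right; rw [h1, cmul', h.winv_z, h.winv_z1]

theorem swapw2 (h : Data S z z1 z2 v1 v2 y w) {s : G} (hs : s ∈ S) (hq : s ∉ qq S w) :
    s * v2 * s⁻¹ = v1 ∨ s * v2 * s⁻¹ = z * v1 := by
  have e : s * v2 * s⁻¹ = w * ((w⁻¹ * s * w⁻¹) * z1 * (w⁻¹ * s * w⁻¹)⁻¹) * w⁻¹ := by
    rw [← h.winv_z1]; group
  rw [e]
  rcases h.S_conj_z1 (h.hw.not_qq hs hq).2 with h1 | h1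
  · left; rw [h1, h.wz1]
  · right; rw [h1, cmul, h.wz, h.wz1]

theorem S_conj_A (h : Data S z z1 z2 v1 v2 y w) {s : G} (hs : s ∈ S) {a : G} (ha : a ∈ h.A) :
    s * a * s⁻¹ ∈ h.A := by
  have c0 : s * z * s⁻¹ ∈ h.A := by rw [h.z_comm s hs]; simpa using h.z_A
  have c1 : s * z1 * s⁻¹ ∈ h.A := by
    rcases h.S_conj_z1 hs with h1 | h1 <;> rw [h1]
    exacts [h.z1_A, h.A.mul_mem h.z_A h.z1_A]
  have c2 : s * v1 * s⁻¹ ∈ h.A := by
    by_cases hq : s ∈ qq S w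
    · rcases h.qqw_conj_v1 hq with h1 | h1 <;> rw [h1]
      exacts [h.v1_A, h.A.mul_mem h.z_A h.v1_A]
    · rcases h.swapw1 hs hq with h1 | h1 <;> rw [h1]
      exacts [h.v2_A, h.A.mul_mem h.z_A h.v2_A]
  have c3 : s * v2 * s⁻¹ ∈ h.A := by
    by_cases hq : s ∈ qq S w
    · rcases h.qqw_conj_v2 hq with h1 | h1 <;> rw [h1]
      exacts [h.v2_A, h.A.mul_mem h.z_A h.v2_A]
    · rcases h.swapw2 hs hq with h1 | h1 <;> rw [h1]
      exacts [h.v1_A, h.A.mul_mem h.z_A h.v1_A]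
  refine closure_conj ?_ a ha
  rintro g (rfl | rfl | rfl | rfl)
  exacts [c0, c1, c2, c3]

/-- `C_S(v1) ≤ Q₂`. -/
theorem qqw_of_comm (h : Data S z z1 z2 v1 v2 y w) {s : G} (hs : s ∈ S) (hc : s * v1 = v1 * s) :
    s ∈ qq S w := by
  by_contra hq
  have e : s * v1 * s⁻¹ = v1 := by rw [hc]; group
  rcases h.swapw1 hs hq with h1 | h1
  · exact h.v1_ne_v2 (e.symm.trans h1)
  · exact h.v1_ne_zv2 (e.symm.trans h1)

/-- `A ≤ Q₁`. -/
theorem A_qq (h : Data S z z1 z2 v1 v2 y w) {a : G} (ha : a ∈ h.A) : a ∈ qq S y :=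
  h.qq_of_comm (h.A_le ha) (h.A_comm ha h.z1_A)

theorem A_qqw (h : Data S z z1 z2 v1 v2 y w) {a : G} (ha : a ∈ h.A) : a ∈ qq S w :=
  h.qqw_of_comm (h.A_le ha) (h.A_comm ha h.v1_A)

/-- `[A, Q₂] ≤ Z`. -/
theorem qqw_comm_A (h : Data S z z1 z2 v1 v2 y w) {q : G} (hq : q ∈ qq S w) {a : G}
    (ha : a ∈ h.A) : q * a * q⁻¹ * a⁻¹ = 1 ∨ q * a * q⁻¹ * a⁻¹ = z := by
  have hqS := qq_le S w hq
  have hz : ∀ s ∈ S, s * z = z * s := h.z_comm
  induction ha using Subgroup.closure_induction with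
  | mem x hx =>
    rcases hx with rfl | rfl | rfl | rfl
    · left; rw [hz q hqS]; group
    · rcases h.S_conj_z1 hqS with h1 | h1 <;> rw [h1]
      · left; group
      · right; group
    · rcases h.qqw_conj_v1 hq with h1 | h1 <;> rw [h1]
      · left; group
      · right; group
    · rcases h.qqw_conj_v2 hq with h1 | h1 <;> rw [h1]
      · left; group
      · right; group
  | one => left; group
  | mul a b ha hb h1 h2 =>
    have e : q * (a * b) * q⁻¹ * (a * b)⁻¹ =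
        (q * a * q⁻¹ * a⁻¹) * (a * (q * b * q⁻¹ * b⁻¹) * a⁻¹) := by group
    have e2 : a * (q * b * q⁻¹ * b⁻¹) * a⁻¹ = q * b * q⁻¹ * b⁻¹ := by
      rcases h2 with h2 | h2 <;> rw [h2]
      · group
      · rw [hz a (h.A_le ha)]; group
    rw [e, e2]
    rcases h1 with h1 | h1 <;> rcases h2 with h2 | h2 <;> rw [h1, h2]
    · left; simp
    · right; simp
    · right; simp
    · left; exact h.z_sq
  | inv a ha h1 =>
    have e : q * a⁻¹ * q⁻¹ * a⁻¹⁻¹ = a⁻¹ * ((q * a * q⁻¹ * a⁻¹)⁻¹) * a := by group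
    rw [e]
    rcases h1 with h1 | h1 <;> rw [h1]
    · left; group
    · right
      rw [inv_eq_self h.z_sq, hz a⁻¹ (h.A_le (inv_mem ha))]
      group

theorem A_ne_bot (h : Data S z z1 z2 v1 v2 y w) : h.A ≠ ⊥ := by
  intro h1
  have h2 := h.z_A
  rw [h1, Subgroup.mem_bot] at h2
  exact h.z_ne h2

/-- `A` is not normalised by `y`. -/
theorem A_not_y (h : Data S z z1 z2 v1 v2 y w) : ¬ ∀ a ∈ h.A, y * a * y⁻¹ ∈ h.A := fun h1 =>
  h.A_ne_bot (h.core h.A h.A_le (fun _ hs _ hu => h.S_conj_A hs hu) h1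
    (fun _ hu => h.w_conj_A hu))

/-- `Q₁` normalises `y A y⁻¹`. -/
theorem qq_conj_A1 (h : Data S z z1 z2 v1 v2 y w) {q : G} (hq : q ∈ qq S y) {a : G}
    (ha : a ∈ cj y h.A) : q * a * q⁻¹ ∈ cj y h.A := by
  rw [mem_cj] at ha ⊢
  have h1 := h.S_conj_A (mem_qq.1 hq).2.1 ha
  have e : y⁻¹ * q * y * (y⁻¹ * a * y) * (y⁻¹ * q * y)⁻¹ = y⁻¹ * (q * a * q⁻¹) * y := by group
  rwa [e] at h1

theorem qq_conj_A2 (h : Data S z z1 z2 v1 v2 y w) {q : G} (hq : q ∈ qq S y) {a : G}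
    (ha : a ∈ cj y⁻¹ h.A) : q * a * q⁻¹ ∈ cj y⁻¹ h.A := by
  rw [mem_cj_inv] at ha ⊢
  have h1 := h.S_conj_A (mem_qq.1 hq).2.2 ha
  have e : y * q * y⁻¹ * (y * a * y⁻¹) * (y * q * y⁻¹)⁻¹ = y * (q * a * q⁻¹) * y⁻¹ := by group
  rwa [e] at h1

theorem swap_A1 (h : Data S z z1 z2 v1 v2 y w) {s : G} (hs : s ∈ S) (hq : s ∉ qq S y) {a : G}
    (ha : a ∈ cj y h.A) : s * a * s⁻¹ ∈ cj y⁻¹ h.A := by
  rw [mem_cj] at ha
  rw [mem_cj_inv]
  have h1 := h.S_conj_A (h.hy.not_qq hs hq).1 ha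
  have e : y * s * y * (y⁻¹ * a * y) * (y * s * y)⁻¹ = y * (s * a * s⁻¹) * y⁻¹ := by group
  rwa [e] at h1

theorem swap_A2 (h : Data S z z1 z2 v1 v2 y w) {s : G} (hs : s ∈ S) (hq : s ∉ qq S y) {a : G}
    (ha : a ∈ cj y⁻¹ h.A) : s * a * s⁻¹ ∈ cj y h.A := by
  rw [mem_cj_inv] at ha
  rw [mem_cj]
  have h1 := h.S_conj_A (h.hy.not_qq hs hq).2 ha
  have e : y⁻¹ * s * y⁻¹ * (y * a * y⁻¹) * (y⁻¹ * s * y⁻¹)⁻¹ = y⁻¹ * (s * a * s⁻¹) * y := by group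
  rwa [e] at h1

theorem A1_qq (h : Data S z z1 z2 v1 v2 y w) {a : G} (ha : a ∈ cj y h.A) : a ∈ qq S y := by
  have h1 := h.hy.conj (h.A_qq (mem_cj.1 ha))
  have e : y * (y⁻¹ * a * y) * y⁻¹ = a := by group
  rwa [e] at h1

theorem A2_qq (h : Data S z z1 z2 v1 v2 y w) {a : G} (ha : a ∈ cj y⁻¹ h.A) : a ∈ qq S y := by
  have h1 := h.hy.conj' (h.A_qq (mem_cj_inv.1 ha))
  have e : y⁻¹ * (y * a * y⁻¹) * y = a := by group
  rwa [e] at h1

theorem V_le_A1 (h : Data S z z1 z2 v1 v2 y w) : h.V ≤ cj y h.A := fun _ hv =>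
  mem_cj.2 (h.V_le_A (h.yinv_conj_V hv))

theorem V_le_A2 (h : Data S z z1 z2 v1 v2 y w) : h.V ≤ cj y⁻¹ h.A := fun _ hv =>
  mem_cj_inv.2 (h.V_le_A (h.y_conj_V hv))

/-- `y (y A y⁻¹) y⁻¹ = y⁻¹ A y`. -/
theorem y_A1 (h : Data S z z1 z2 v1 v2 y w) {a : G} (ha : a ∈ cj y h.A) :
    y * a * y⁻¹ ∈ cj y⁻¹ h.A := by
  rw [mem_cj] at ha
  rw [mem_cj_inv]
  have e : y * (y * a * y⁻¹) * y⁻¹ = (y * y) * a * (y * y)⁻¹ := by group
  rw [e, sq_eq_inv h.hy.cube, inv_inv]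
  exact ha

theorem yinv_A2 (h : Data S z z1 z2 v1 v2 y w) {a : G} (ha : a ∈ cj y⁻¹ h.A) :
    y⁻¹ * a * y ∈ cj y h.A := by
  rw [mem_cj_inv] at ha
  rw [mem_cj]
  have e : y⁻¹ * (y⁻¹ * a * y) * y = (y⁻¹ * y⁻¹) * a * (y⁻¹ * y⁻¹)⁻¹ := by
    simp only [mul_inv_rev, inv_inv, mul_assoc]
  rw [e, inv_mul_inv h.hy.cube]
  exact ha

end Data

end Cfsg.Agent.SectRankFour.C2.BThreeB
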