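import Mathlib
import Cfsg.Agent.SectRankFour.C2.BThreeB

/-!
# The case `b ≥ 3`, part 2: the conjugates of `A` do not commute; `|A| = 8`

* `Data.not_comm` (3a): `A` and `y A y⁻¹` do not commute elementwise;
* `Data.main_b` (3b): `A = V ∪ v1 V`, and `b a = z2 a b` for `a ∈ A ∖ V`, `b ∈ y A y⁻¹ ∖ V`.
-/

set_option autoImplicit false

namespace Cfsg.Agent.SectRankFour.C2.BThreeC

open Cfsg.Agent.SectRankFour.C2.BThreeA Cfsg.Agent.SectRankFour.C2.BThreeB

variable {G : Type*} [Group G] {S : Subgroup G} {z z1 z2 v1 v2 y w : G}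

/-- The centre `{1, z}`. -/
def ZZ (h : Data S z z1 z2 v1 v2 y w) : Subgroup G where
  carrier := {g | g = 1 ∨ g = z}
  one_mem' := Or.inl rfl
  mul_mem' := by
    rintro a b (rfl | rfl) (rfl | rfl)
    · left; simp
    · right; simp
    · right; simp
    · left; exact h.z_sq
  inv_mem' := by
    rintro a (rfl | rfl)
    · left; simp
    · right; exact inv_eq_self h.z_sq

theorem mem_ZZ (h : Data S z z1 z2 v1 v2 y w) {g : G} : g ∈ ZZ h ↔ g = 1 ∨ g = z := Iff.rfl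

theorem card_ZZ [Finite G] (h : Data S z z1 z2 v1 v2 y w) : Nat.card (ZZ h) = 2 := by
  have h1 := card_eq_two_mul (A := (⊥ : Subgroup G)) (B := ZZ h) bot_le (p := z) (Or.inr rfl)
    (fun h1 => h.z_ne (Subgroup.mem_bot.1 h1)) (by
      rintro b (rfl | rfl)
      · left; exact Subgroup.mem_bot.2 rfl
      · right; exact Subgroup.mem_bot.2 h.z_sq)
  rw [h1, Subgroup.card_bot]

theorem card_V [Finite G] (h : Data S z z1 z2 v1 v2 y w) : Nat.card h.V = 4 := by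
  have h1 := card_eq_two_mul (A := ZZ h) (B := h.V) (by
      rintro g (rfl | rfl)
      exacts [h.V.one_mem, h.z_V]) (p := z1) h.z1_V
    (by
      rintro (h1 | h1)
      exacts [h.z1_ne h1, h.ne h1]) (by
      rintro b (rfl | rfl | rfl | rfl)
      · left; left; rfl
      · left; right; rfl
      · right; left; exact h.z1_sq
      · right; right; exact h.z2z1)
  rw [h1, card_ZZ h]

theorem card_A_ge [Finite G] (h : Data S z z1 z2 v1 v2 y w) : 8 ≤ Nat.card h.A := by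
  have h1 := two_mul_card_le h.V_le_A h.v1_A h.v1_not_V
  rw [card_V h] at h1
  exact h1

/-- If `A = V ∪ v1 V` then `[s, v1] ∈ V` for `s ∈ S`. -/
theorem comm_v1 (h : Data S z z1 z2 v1 v2 y w) (hA : ∀ a ∈ h.A, a ∈ h.V ∨ v1 * a ∈ h.V) {s : G}
    (hs : s ∈ S) : s * v1 * s⁻¹ * v1⁻¹ ∈ h.V := by
  have h1 := h.S_conj_A hs h.v1_A
  have h2 : s * v1 * s⁻¹ ∉ h.V := by
    intro h2
    have h3 := h.S_conj_V (S.inv_mem hs) h2
    have e : s⁻¹ * (s * v1 * s⁻¹) * s⁻¹⁻¹ = v1 := by group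
    rw [e] at h3
    exact h.v1_not_V h3
  have h3 := (hA _ h1).resolve_left h2
  rwa [inv_eq_self h.v1_sq, h.A_comm h1 h.v1_A]

/-- (3a) `A` and `y A y⁻¹` do not commute elementwise. -/
theorem not_comm [Finite G] (h : Data S z z1 z2 v1 v2 y w)
    (hc : ∀ a ∈ h.A, ∀ b ∈ cj y h.A, a * b = b * a) : False := by
  have hc12 : ∀ a ∈ cj y h.A, ∀ b ∈ cj y⁻¹ h.A, a * b = b * a := by
    intro a ha b hb
    have h1 := hc _ (mem_cj.1 ha) _ (h.yinv_A2 hb)
    exact conj_comm (y := y) (a := y⁻¹ * a * y) (b := y⁻¹ * b * y) (by group) (by group) h1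
  have hc20 : ∀ a ∈ cj y⁻¹ h.A, ∀ b ∈ h.A, a * b = b * a := by
    intro a ha b hb
    have h1 := hc12 _ (h.yinv_A2 ha) _ (conj_mem_cj_inv hb)
    exact conj_comm (y := y) (a := y⁻¹ * a * y) (b := y⁻¹ * b * y) (by group) (by group) h1
  have sq1 : ∀ a ∈ cj y h.A, a * a = 1 := by
    intro a ha
    have h1 := h.A_sq _ (mem_cj.1 ha)
    exact conj_sq (y := y) (a := y⁻¹ * a * y) (by group) h1
  have sq2 : ∀ a ∈ cj y⁻¹ h.A, a * a = 1 := by
    intro a ha
    have h1 := h.A_sq _ (mem_cj_inv.1 ha)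
    exact conj_sq (y := y⁻¹) (a := y * a * y⁻¹) (by group) h1
  have key : ∀ a b : G, a * b = b * a → a * b * a⁻¹ * b⁻¹ ∈ (⊥ : Subgroup G) := by
    intro a b hab
    rw [Subgroup.mem_bot, hab]
    group
  -- the group `U`
  obtain ⟨U, hU⟩ : ∃ U : Subgroup G, U = Subgroup.closure ((h.A : Set G) ∪ cj y h.A ∪ cj y⁻¹ h.A) :=
    ⟨_, rfl⟩
  have hAU : h.A ≤ U := by
    rw [hU]; intro a ha; exact Subgroup.subset_closure (Or.inl (Or.inl ha))
  have hA1U : cj y h.A ≤ U := by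
    rw [hU]; intro a ha; exact Subgroup.subset_closure (Or.inl (Or.inr ha))
  have hA2U : cj y⁻¹ h.A ≤ U := by
    rw [hU]; intro a ha; exact Subgroup.subset_closure (Or.inr ha)
  have hUS : U ≤ S := by
    rw [hU, Subgroup.closure_le]
    rintro a ((ha | ha) | ha)
    exacts [h.A_le ha, qq_le _ _ (h.A1_qq ha), qq_le _ _ (h.A2_qq ha)]
  have hU2 : ∀ u ∈ U, u * u = 1 := by
    intro u hu
    rw [hU] at hu
    refine Subgroup.mem_bot.1 (sq_closure (Z := ⊥) ?_ ?_ ?_ u hu)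
    · intro ζ hζ x _
      rw [Subgroup.mem_bot.1 hζ]; simp
    · rintro a ((ha | ha) | ha) b ((hb | hb) | hb) <;> apply key
      · exact h.A_comm ha hb
      · exact hc a ha b hb
      · exact (hc20 b hb a ha).symm
      · exact (hc b hb a ha).symm
      · exact comm_of_exp sq1 ha hb
      · exact hc12 a ha b hb
      · exact hc20 a ha b hb
      · exact (hc12 b hb a ha).symm
      · exact comm_of_exp sq2 ha hb
    · rintro a ((ha | ha) | ha) <;> rw [Subgroup.mem_bot]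
      exacts [h.A_sq a ha, sq1 a ha, sq2 a ha]
  have cU : Nat.card U ≤ 16 := by
    have h1 := h.rank U ⊥ bot_le hUS (fun a ha => Subgroup.mem_bot.2 (hU2 a ha))
    rwa [Subgroup.card_bot, mul_one] at h1
  have hUy : ∀ u ∈ U, y * u * y⁻¹ ∈ U := by
    have h1 : ∀ u ∈ Subgroup.closure ((h.A : Set G) ∪ cj y h.A ∪ cj y⁻¹ h.A), y * u * y⁻¹ ∈ U := by
      refine closure_conj ?_
      rintro a ((ha | ha) | ha)
      · exact hA1U (conj_mem_cj ha)
      · exact hA2U (h.y_A1 ha)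
      · exact hAU (mem_cj_inv.1 ha)
    rwa [← hU] at h1
  have hUSn : ∀ s ∈ S, ∀ u ∈ U, s * u * s⁻¹ ∈ U := by
    intro s hs
    have h1 : ∀ u ∈ Subgroup.closure ((h.A : Set G) ∪ cj y h.A ∪ cj y⁻¹ h.A), s * u * s⁻¹ ∈ U := by
      refine closure_conj ?_
      by_cases hq : s ∈ qq S y
      · rintro a ((ha | ha) | ha)
        · exact hAU (h.S_conj_A hs ha)
        · exact hA1U (h.qq_conj_A1 hq ha)
        · exact hA2U (h.qq_conj_A2 hq ha)
      · rintro a ((ha | ha) | ha)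
        · exact hAU (h.S_conj_A hs ha)
        · exact hA2U (h.swap_A1 hs hq ha)
        · exact hA1U (h.swap_A2 hs hq ha)
    rwa [← hU] at h1
  -- order of `A`
  have hny := h.A_not_y
  push Not at hny
  obtain ⟨a0, ha0, hya0⟩ := hny
  have hA8 := card_A_ge h
  have cA := two_mul_card_le hAU (hA1U (conj_mem_cj ha0)) hya0
  have hAV : ∀ a ∈ h.A, a ∈ h.V ∨ v1 * a ∈ h.V := by
    intro a ha
    by_contra hcon
    push Not at hcon
    have hE1 : ∀ v ∈ h.V, v1 * v * v1⁻¹ ∈ h.V := fun v hv => h.S_conj_V h.v1_mem hv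
    have hE2 : v1 * v1 ∈ h.V := by rw [h.v1_sq]; exact h.V.one_mem
    have c1 := two_mul_card_le (A := h.V) (B := ex h.V v1 hE1 hE2) (fun v hv => Or.inl hv)
      (p := v1) (Or.inr hE2) h.v1_not_V
    have hEA : ex h.V v1 hE1 hE2 ≤ h.A := by
      rintro g (hg | hg)
      · exact h.V_le_A hg
      · have := h.A.mul_mem h.v1_A (h.V_le_A hg)
        rwa [← mul_assoc, h.v1_sq, one_mul] at this
    have c2 := two_mul_card_le hEA ha (by
      rintro (h1 | h1)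
      exacts [hcon.1 h1, hcon.2 h1])
    rw [card_V h] at c1
    omega
  -- the element `p`
  obtain ⟨p, hp⟩ : ∃ p, p = y * v1 * y⁻¹ := ⟨_, rfl⟩
  have hpA : p ∉ h.A := by
    intro h1
    apply h.A_not_y
    intro a ha
    rcases hAV a ha with h2 | h2
    · exact h.V_le_A (h.y_conj_V h2)
    · have h3 := h.V_le_A (h.y_conj_V h2)
      rw [cmul, ← hp] at h3
      have h4 := h.A.mul_mem h1 h3
      rwa [← mul_assoc, h.A_sq p h1, one_mul] at h4
  have hpA1 : p ∈ cj y h.A := by rw [hp]; exact conj_mem_cj h.v1_A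
  have hpU : p ∈ U := hA1U hpA1
  have hpS : p ∈ S := hUS hpU
  have hp2 : p * p = 1 := hU2 p hpU
  have hpc : ∀ a ∈ h.A, p * a = a * p := fun a ha => (hc a ha p hpA1).symm
  have hpw : p ∈ qq S w := h.qqw_of_comm hpS (hpc v1 h.v1_A)
  have hE1 : ∀ a ∈ h.A, p * a * p⁻¹ ∈ h.A := fun v hv => h.S_conj_A hpS hv
  have hE2 : p * p ∈ h.A := by rw [hp2]; exact h.A.one_mem
  have cE := two_mul_card_le (A := h.A) (B := ex h.A p hE1 hE2) (fun v hv => Or.inl hv)
      (p := p) (Or.inr hE2) hpA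
  have hUE : ∀ u ∈ U, u ∈ h.A ∨ p * u ∈ h.A := by
    intro u hu
    by_contra hcon
    have hEU : ex h.A p hE1 hE2 ≤ U := by
      rintro g (hg | hg)
      · exact hAU hg
      · have := U.mul_mem hpU (hAU hg)
        rwa [← mul_assoc, hp2, one_mul] at this
    have c2 := two_mul_card_le hEU hu hcon
    omega
  -- the conjugates of `p`
  obtain ⟨p', hp'⟩ : ∃ p', p' = w * p * w⁻¹ := ⟨_, rfl⟩
  obtain ⟨p'', hp''⟩ : ∃ p'', p'' = w⁻¹ * p * w := ⟨_, rfl⟩
  have hp'S : p' ∈ S := hp' ▸ (mem_qq.1 hpw).2.2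
  have hp''S : p'' ∈ S := hp'' ▸ (mem_qq.1 hpw).2.1
  have hp'2 : p' * p' = 1 := conj_sq hp'.symm hp2
  have hp''2 : p'' * p'' = 1 := conj_sq (y := w⁻¹) (by rw [inv_inv]; exact hp''.symm) hp2
  have hp'c : ∀ a ∈ h.A, p' * a = a * p' := by
    intro a ha
    exact conj_comm (y := w) (a := p) (b := w⁻¹ * a * w) hp'.symm (by group)
      (hpc _ (h.winv_conj_A ha))
  have hp''c : ∀ a ∈ h.A, p'' * a = a * p'' := by
    intro a ha
    exact conj_comm (y := w⁻¹) (a := p) (b := w * a * w⁻¹) (by rw [inv_inv]; exact hp''.symm)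
      (by group) (hpc _ (h.w_conj_A ha))
  have hwp' : w * p' * w⁻¹ = p'' := by
    rw [hp', hp'']
    have e : w * (w * p * w⁻¹) * w⁻¹ = (w * w) * p * (w * w)⁻¹ := by group
    rw [e, sq_eq_inv h.hw.cube, inv_inv]
  have hwp'' : w * p'' * w⁻¹ = p := by rw [hp'']; group
  have hcV : ∀ q ∈ S, (∀ a ∈ h.A, q * a = a * q) → q * p * q⁻¹ * p⁻¹ ∈ h.V := by
    intro q hq hqc
    have h1 := h.qq_of_comm hq (hqc z1 h.z1_A)
    have h2 := h.y_conj_V (comm_v1 h hAV (mem_qq.1 h1).2.1)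
    rw [hp]
    have e : y * (y⁻¹ * q * y * v1 * (y⁻¹ * q * y)⁻¹ * v1⁻¹) * y⁻¹ =
      q * (y * v1 * y⁻¹) * q⁻¹ * (y * v1 * y⁻¹)⁻¹ := by group
    rwa [e] at h2
  obtain ⟨c, hcdef⟩ : ∃ c, c = p'' * p * p''⁻¹ * p⁻¹ := ⟨_, rfl⟩
  have hc1 : c ∈ h.V := hcdef ▸ hcV p'' hp''S hp''c
  have hwc : w * c * w⁻¹ = p * p' * p⁻¹ * p'⁻¹ := by
    have e : w * c * w⁻¹ = (w * p'' * w⁻¹) * (w * p * w⁻¹) * (w * p'' * w⁻¹)⁻¹ *
      (w * p * w⁻¹)⁻¹ := by rw [hcdef]; group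
    rw [e, hwp'', ← hp']
  have hc2 : w * c * w⁻¹ ∈ h.V := by
    have h1 := h.V.inv_mem (hcV p' hp'S hp'c)
    have e : (p' * p * p'⁻¹ * p⁻¹)⁻¹ = p * p' * p⁻¹ * p'⁻¹ := by group
    rwa [e, ← hwc] at h1
  have hc3 : c = 1 ∨ c = z := by
    rcases hc1 with h1 | h1 | h1 | h1
    · exact Or.inl h1
    · exact Or.inr h1
    · exfalso
      rw [h1, h.wz1] at hc2
      exact h.v1_not_V hc2
    · exfalso
      have e := cmul w z z1
      rw [h.zz1, h.wz, h.wz1] at e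
      rw [h1, e] at hc2
      have h2 := h.V.mul_mem h.z_V hc2
      rw [← mul_assoc, h.z_sq, one_mul] at h2
      exact h.v1_not_V h2
  have hwc' : w * c * w⁻¹ = c := by
    rcases hc3 with h1 | h1 <;> rw [h1]
    · group
    · exact h.wz
  have e01 : p * p' * p⁻¹ * p'⁻¹ = c := by rw [← hwc, hwc']
  have e12 : p' * p'' * p'⁻¹ * p''⁻¹ = c := by
    have e : w * (p * p' * p⁻¹ * p'⁻¹) * w⁻¹ = (w * p * w⁻¹) * (w * p' * w⁻¹) * (w * p * w⁻¹)⁻¹ *
      (w * p' * w⁻¹)⁻¹ := by group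
    rw [e01, hwc', hwp', ← hp'] at e
    exact e.symm
  have e20 : p'' * p * p''⁻¹ * p⁻¹ = c := hcdef.symm
  have hcinv : c⁻¹ = c := by
    rcases hc3 with h1 | h1 <;> rw [h1]
    · group
    · exact inv_eq_self h.z_sq
  have hcZ : c ∈ ZZ h := hc3
  have hcA : c ∈ h.A := h.V_le_A hc1
  have e10 : p' * p * p'⁻¹ * p⁻¹ = c := by
    rw [← hcinv, ← e01]; group
  have e21 : p'' * p' * p''⁻¹ * p'⁻¹ = c := by
    rw [← hcinv, ← e12]; group
  have e02 : p * p'' * p⁻¹ * p''⁻¹ = c := by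
    rw [← hcinv, ← e20]; group
  -- nonmembership
  have hp'A : p' ∉ h.A := by
    intro h1
    have h2 := h.winv_conj_A h1
    rw [hp'] at h2
    have e : w⁻¹ * (w * p * w⁻¹) * w = p := by group
    rw [e] at h2
    exact hpA h2
  have hp''A : p'' ∉ h.A := by
    intro h1
    have h2 := h.w_conj_A h1
    rw [hwp''] at h2
    exact hpA h2
  have hpp' : p * p' ∉ h.A := by
    intro h1
    have hp'U : p' ∈ U := by
      have h2 := U.mul_mem hpU (hAU h1)
      rwa [← mul_assoc, hp2, one_mul] at h2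
    have hUw : ∀ u ∈ U, w * u * w⁻¹ ∈ U := by
      intro u hu
      rcases hUE u hu with h2 | h2
      · exact hAU (h.w_conj_A h2)
      · have h3 := U.mul_mem hp'U (hAU (h.w_conj_A h2))
        rwa [cmul, ← hp', ← mul_assoc, hp'2, one_mul] at h3
    have h3 := h.core U hUS hUSn hUy hUw
    rw [h3] at hAU
    exact h.A_ne_bot (le_bot_iff.1 hAU)
  have hpp'' : p * p'' ∉ h.A := by
    intro h1
    have h2 := h.w_conj_A h1
    rw [cmul, ← hp', hwp''] at h2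
    have h3 := h.A.inv_mem h2
    rw [mul_inv_rev, inv_eq_self hp2, inv_eq_self hp'2] at h3
    exact hpp' h3
  have hp'p'' : p' * p'' ∉ h.A := by
    intro h1
    have h2 := h.winv_conj_A h1
    rw [cmul', conj_inv hp'.symm, conj_inv hwp'] at h2
    exact hpp' h2
  -- `E1 = A⟨p, p'⟩`
  have hE3 : ∀ a ∈ ex h.A p hE1 hE2, p' * a * p'⁻¹ ∈ ex h.A p hE1 hE2 := by
    rintro a (ha | ha)
    · left
      rw [hp'c a ha]; simpa using ha
    · right
      have e : p * (p' * a * p'⁻¹) = (p * p' * p⁻¹ * p'⁻¹) * (p' * (p * a) * p'⁻¹) := by group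
      rw [e, e01, hp'c _ ha]
      exact h.A.mul_mem hcA (by simpa using ha)
  have hE4 : p' * p' ∈ ex h.A p hE1 hE2 := by
    left; rw [hp'2]; exact h.A.one_mem
  have hp'E : p' ∉ ex h.A p hE1 hE2 := by
    rintro (h1 | h1)
    exacts [hp'A h1, hpp' h1]
  have cE1 := two_mul_card_le (A := ex h.A p hE1 hE2) (B := ex (ex h.A p hE1 hE2) p' hE3 hE4)
    (fun v hv => Or.inl hv) (p := p') (Or.inr hE4) hp'E
  -- `H = A⟨p, p', p''⟩`
  obtain ⟨X, hX⟩ : ∃ X : Set G, X = (h.A : Set G) ∪ {p, p', p''} := ⟨_, rfl⟩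
  obtain ⟨H, hH⟩ : ∃ H : Subgroup G, H = Subgroup.closure X := ⟨_, rfl⟩
  have hXH : ∀ x ∈ X, x ∈ H := fun x hx => hH ▸ Subgroup.subset_closure hx
  have hAH : h.A ≤ H := fun a ha => hXH a (hX ▸ Or.inl ha)
  have hpH : p ∈ H := hXH p (hX ▸ Or.inr (by simp))
  have hp'H : p' ∈ H := hXH p' (hX ▸ Or.inr (by simp))
  have hp''H : p'' ∈ H := hXH p'' (hX ▸ Or.inr (by simp))
  have hHS : H ≤ S := by
    rw [hH, Subgroup.closure_le, hX]
    rintro a (ha | ha)
    · exact h.A_le ha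
    · rcases ha with rfl | rfl | rfl
      exacts [hpS, hp'S, hp''S]
  have hE1H : ex (ex h.A p hE1 hE2) p' hE3 hE4 ≤ H := by
    have h0 : ex h.A p hE1 hE2 ≤ H := by
      rintro g (hg | hg)
      · exact hAH hg
      · have := H.mul_mem hpH (hAH hg)
        rwa [← mul_assoc, hp2, one_mul] at this
    rintro g (hg | hg)
    · exact h0 hg
    · have := H.mul_mem hp'H (h0 hg)
      rwa [← mul_assoc, hp'2, one_mul] at this
  have hXc : ∀ a ∈ X, ∀ b ∈ X, a * b * a⁻¹ * b⁻¹ = 1 ∨ a * b * a⁻¹ * b⁻¹ = c := by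
    have key2 : ∀ a b : G, a * b = b * a → a * b * a⁻¹ * b⁻¹ = 1 := by
      intro a b hab
      rw [hab]
      group
    rw [hX]
    rintro a (ha | (rfl | rfl | rfl)) b (hb | (rfl | rfl | rfl))
    · exact Or.inl (key2 _ _ (h.A_comm ha hb))
    · exact Or.inl (key2 _ _ (hpc a ha).symm)
    · exact Or.inl (key2 _ _ (hp'c a ha).symm)
    · exact Or.inl (key2 _ _ (hp''c a ha).symm)
    · exact Or.inl (key2 _ _ (hpc b hb))
    · exact Or.inl (key2 _ _ rfl)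
    · exact Or.inr e01
    · exact Or.inr e02
    · exact Or.inl (key2 _ _ (hp'c b hb))
    · exact Or.inr e10
    · exact Or.inl (key2 _ _ rfl)
    · exact Or.inr e12
    · exact Or.inl (key2 _ _ (hp''c b hb))
    · exact Or.inr e20
    · exact Or.inr e21
    · exact Or.inl (key2 _ _ rfl)
  have hXs : ∀ a ∈ X, a * a = 1 := by
    rw [hX]
    rintro a (ha | (rfl | rfl | rfl))
    exacts [h.A_sq a ha, hp2, hp'2, hp''2]
  have hZH : ZZ h ≤ H := by
    rintro g (rfl | rfl)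
    exacts [H.one_mem, hAH h.z_A]
  have hc_ne : c ≠ 1 := by
    intro hc1
    have hH2 : ∀ g ∈ H, g * g ∈ (⊥ : Subgroup G) := by
      rw [hH]
      refine sq_closure ?_ ?_ ?_
      · intro ζ hζ x _
        rw [Subgroup.mem_bot.1 hζ]; simp
      · intro a ha b hb
        rw [Subgroup.mem_bot]
        rcases hXc a ha b hb with h1 | h1
        · exact h1
        · rw [h1, hc1]
      · intro a ha
        rw [Subgroup.mem_bot]
        exact hXs a ha
    have h1 := h.rank H ⊥ bot_le hHS hH2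
    have h2 := Subgroup.card_le_of_le hE1H
    rw [Subgroup.card_bot] at h1
    omega
  have hH2 : ∀ g ∈ H, g * g ∈ ZZ h := by
    rw [hH]
    refine sq_closure ?_ ?_ ?_
    · rintro ζ (rfl | rfl) x hx
      · simp
      · exact (h.z_comm x (hHS (hXH x hx))).symm
    · intro a ha b hb
      rcases hXc a ha b hb with h1 | h1 <;> rw [h1]
      · exact (ZZ h).one_mem
      · exact hcZ
    · intro a ha
      rw [hXs a ha]
      exact (ZZ h).one_mem
  have cH := h.rank H (ZZ h) hZH hHS hH2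
  rw [card_ZZ h] at cH
  have cH2 := two_mul_card_le hE1H hp''H (by
    rintro ((h1 | h1) | (h1 | h1))
    · exact hp''A h1
    · exact hpp'' h1
    · exact hp'p'' h1
    · apply hc_ne
      obtain ⟨a, ha⟩ : ∃ a, a = p * (p' * p'') := ⟨_, rfl⟩
      rw [← ha] at h1
      have h2 : p * p' = a * p'' := by
        rw [ha]
        calc p * p' = p * p' * (p'' * p'') := by rw [hp''2, mul_one]
          _ = p * (p' * p'') * p'' := by group
      have h3 : (p * p') * (p * p') = 1 := by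
        rw [h2]
        calc a * p'' * (a * p'') = a * (p'' * a) * p'' := by group
          _ = (a * a) * (p'' * p'') := by rw [hp''c a h1]; group
          _ = 1 := by rw [h.A_sq a h1, hp''2, mul_one]
      have h4 := comm_of_sq hp2 hp'2 h3
      rw [← e01, h4]
      group)
  omega

/-- (3b) `|A| = 8` and the commutators of the conjugates of `A`. -/
theorem main_b [Finite G] (h : Data S z z1 z2 v1 v2 y w) :
    (∀ a ∈ h.A, a ∈ h.V ∨ v1 * a ∈ h.V) ∧
    (∀ a ∈ h.A, a ∉ h.V → ∀ b ∈ cj y h.A, b ∉ h.V → b * a * b⁻¹ * a⁻¹ = z2) ∧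
    (∀ b ∈ cj y h.A, b ∉ h.V → b ∉ qq S w) := by
  obtain ⟨t, ht, htq⟩ := h.exists_not_qq
  have hty := h.hy.not_qq ht htq
  obtain ⟨p, hp⟩ : ∃ p, p = y⁻¹ * t * y := ⟨_, rfl⟩
  have py : p * y ∈ S := by
    have e : p * y = y⁻¹ * t * (y * y) := by rw [hp]; group
    rw [e, sq_eq_inv h.hy.cube]
    exact hty.2
  have yp : y⁻¹ * p ∈ S := by
    have e : y⁻¹ * p = (y⁻¹ * y⁻¹) * t * y := by rw [hp]; simp only [mul_assoc]
    rw [e, inv_mul_inv h.hy.cube]
    exact hty.1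
  have pA : ∀ a ∈ h.A, p⁻¹ * a * p ∈ cj y h.A := by
    intro a ha
    rw [mem_cj]
    have h1 := h.S_conj_A (S.inv_mem py) ha
    have e : (p * y)⁻¹ * a * (p * y)⁻¹⁻¹ = y⁻¹ * (p⁻¹ * a * p) * y := by group
    rwa [e] at h1
  have pA' : ∀ a ∈ h.A, p * a * p⁻¹ ∈ cj y h.A := by
    intro a ha
    rw [mem_cj]
    have h1 := h.S_conj_A yp ha
    have e : (y⁻¹ * p) * a * (y⁻¹ * p)⁻¹ = y⁻¹ * (p * a * p⁻¹) * y := by group
    rwa [e] at h1
  have pA1 : ∀ b ∈ cj y h.A, p⁻¹ * b * p ∈ h.A := by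
    intro b hb
    have h1 := h.S_conj_A (S.inv_mem yp) (mem_cj.1 hb)
    have e : (y⁻¹ * p)⁻¹ * (y⁻¹ * b * y) * (y⁻¹ * p)⁻¹⁻¹ = p⁻¹ * b * p := by group
    rwa [e] at h1
  have pA1' : ∀ b ∈ cj y h.A, p * b * p⁻¹ ∈ h.A := by
    intro b hb
    have h1 := h.S_conj_A py (mem_cj.1 hb)
    have e : (p * y) * (y⁻¹ * b * y) * (p * y)⁻¹ = p * b * p⁻¹ := by group
    rwa [e] at h1
  have pz : p * z * p⁻¹ = z1 := by
    have h1 := h.swap1 ht htq
    calc p * z * p⁻¹ = y⁻¹ * (t * (y * z * y⁻¹)) * t⁻¹ * y := by rw [hp]; group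
      _ = y⁻¹ * z2 * y := by rw [h.yz, h1]; group
      _ = z1 := conj_inv h.yz1
  have sq1 : ∀ a ∈ cj y h.A, a * a = 1 := by
    intro a ha
    have h1 := h.A_sq _ (mem_cj.1 ha)
    exact conj_sq (y := y) (a := y⁻¹ * a * y) (by group) h1
  -- an element of `y A y⁻¹` outside `Q₂`
  obtain ⟨x, hx, hxq⟩ : ∃ x ∈ cj y h.A, x ∉ qq S w := by
    by_contra hcon
    push Not at hcon
    apply not_comm h
    intro a ha b hb
    have h1 := h.qqw_comm_A (hcon b hb) ha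
    have h2 := h.qqw_comm_A (hcon _ (pA a ha)) (pA1 b hb)
    have e : p * (p⁻¹ * a * p * (p⁻¹ * b * p) * (p⁻¹ * a * p)⁻¹ * (p⁻¹ * b * p)⁻¹) * p⁻¹ =
        (b * a * b⁻¹ * a⁻¹)⁻¹ := by group
    have h3 : b * a * b⁻¹ * a⁻¹ = 1 := by
      rcases h1 with h1 | h1
      · exact h1
      · exfalso
        rw [h1, inv_eq_self h.z_sq] at e
        rcases h2 with h2 | h2
        · rw [h2] at e
          apply h.z_ne
          rw [← e]; group
        · rw [h2, pz] at e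
          exact h.ne e
    have h4 : b * a = a * b := by
      calc b * a = b * a * b⁻¹ * a⁻¹ * (a * b) := by group
        _ = a * b := by rw [h3, one_mul]
    exact h4.symm
  have hxS : x ∈ S := qq_le _ _ (h.A1_qq hx)
  have hx2 := sq1 x hx
  have hxne : ¬ x * v1 = v1 * x := fun h1 => hxq (h.qqw_of_comm hxS h1)
  obtain ⟨r, hr⟩ : ∃ r, r = x * v1 * x⁻¹ * v1⁻¹ := ⟨_, rfl⟩
  have hrne : r ≠ 1 := by
    intro h1
    apply hxne
    calc x * v1 = x * v1 * x⁻¹ * v1⁻¹ * (v1 * x) := by group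
      _ = v1 * x := by rw [← hr, h1, one_mul]
  have hrv : r = v1 * v2 ∨ r = z * (v1 * v2) := by
    rw [hr, inv_eq_self h.v1_sq]
    rcases h.swapw1 hxS hxq with h1 | h1 <;> rw [h1]
    · left; exact h.v1v2_comm.symm
    · right; rw [mul_assoc, h.v1v2_comm]
  have hrA : r ∈ h.A := by
    rcases hrv with h1 | h1 <;> rw [h1]
    · exact h.A.mul_mem h.v1_A h.v2_A
    · exact h.A.mul_mem h.z_A (h.A.mul_mem h.v1_A h.v2_A)
  have hrA1 : r ∈ cj y h.A := by
    have h1 := (cj y h.A).mul_mem hx (h.qq_conj_A1 (h.A_qq h.v1_A) ((cj y h.A).inv_mem hx))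
    have e : x * (v1 * x⁻¹ * v1⁻¹) = r := by rw [hr]; group
    rwa [e] at h1
  obtain ⟨B, hB⟩ : ∃ B, B = h.A ⊓ cj y h.A := ⟨_, rfl⟩
  have memB : ∀ g, g ∈ B ↔ g ∈ h.A ∧ g ∈ cj y h.A := by
    intro g; rw [hB, Subgroup.mem_inf]
  have hVB : h.V ≤ B := fun v hv => (memB v).2 ⟨h.V_le_A hv, h.V_le_A1 hv⟩
  have hrB : r ∈ B := (memB r).2 ⟨hrA, hrA1⟩
  have hv12 : v1 * v2 ∈ B := by
    rcases hrv with h1 | h1
    · rwa [← h1]
    · have h2 := B.mul_mem (hVB h.z_V) hrB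
      rwa [h1, ← mul_assoc, h.z_sq, one_mul] at h2
  have hAB : ∀ a ∈ h.A, a ∈ B ∨ v1 * a ∈ B := by
    have hE1 : ∀ b ∈ B, v1 * b * v1⁻¹ ∈ B := by
      intro b hb
      rw [h.A_comm h.v1_A ((memB b).1 hb).1]
      simpa using hb
    have hE2 : v1 * v1 ∈ B := by rw [h.v1_sq]; exact B.one_mem
    have h1 : h.A ≤ ex B v1 hE1 hE2 :=
      h.A_le_of (Or.inl (hVB h.z_V)) (Or.inl (hVB h.z1_V)) (Or.inr hE2) (Or.inr hv12)
    exact fun a ha => h1 ha
  have hpB : ∀ b ∈ B, p * b * p⁻¹ ∈ B := fun b hb =>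
    (memB _).2 ⟨pA1' b ((memB b).1 hb).2, pA' b ((memB b).1 hb).1⟩
  have hxB : x ∉ B := fun h1 => hxne (h.A_comm ((memB x).1 h1).1 h.v1_A)
  have hA1B : ∀ b ∈ cj y h.A, b ∈ B ∨ x * b ∈ B := by
    have key : ∀ b ∈ cj y h.A, b ∈ B ∨ (p * v1 * p⁻¹) * b ∈ B := by
      intro b hb
      rcases hAB _ (pA1 b hb) with h1 | h1
      · left
        have h2 := hpB _ h1
        have e : p * (p⁻¹ * b * p) * p⁻¹ = b := by group
        rwa [e] at h2
      · right
        have h2 := hpB _ h1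
        have e : p * (v1 * (p⁻¹ * b * p)) * p⁻¹ = (p * v1 * p⁻¹) * b := by group
        rwa [e] at h2
    have h1 := (key x hx).resolve_left hxB
    intro b hb
    rcases key b hb with h2 | h2
    · exact Or.inl h2
    · right
      have h3 := B.mul_mem (B.inv_mem h1) h2
      have e : (p * v1 * p⁻¹ * x)⁻¹ * (p * v1 * p⁻¹ * b) = x⁻¹ * b := by group
      rwa [e, inv_eq_self hx2] at h3
  have hcr : ∀ b ∈ cj y h.A, ∀ a ∈ h.A, a ∉ B → b ∉ B → b * a * b⁻¹ * a⁻¹ = r := by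
    intro b hb a ha ha' hb'
    have h1 := (hAB a ha).resolve_left ha'
    have h2 := (hA1B b hb).resolve_left hb'
    obtain ⟨β, hβ⟩ : ∃ β, β = v1 * a := ⟨_, rfl⟩
    obtain ⟨γ, hγ⟩ : ∃ γ, γ = x * b := ⟨_, rfl⟩
    rw [← hβ] at h1
    rw [← hγ] at h2
    have ea : a = v1 * β := by rw [hβ, ← mul_assoc, h.v1_sq, one_mul]
    have eb : b = x * γ := by rw [hγ, ← mul_assoc, hx2, one_mul]
    have c1 : γ * v1 = v1 * γ := h.A_comm ((memB γ).1 h2).1 h.v1_A
    have c2 : β * x = x * β := comm_of_exp sq1 ((memB β).1 h1).2 hx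
    have c3 : γ * β = β * γ := h.A_comm ((memB γ).1 h2).1 ((memB β).1 h1).1
    have e1 : b * a = x * v1 * (β * γ) := by
      rw [ea, eb]
      calc x * γ * (v1 * β) = x * (γ * v1) * β := by group
        _ = x * v1 * (γ * β) := by rw [c1]; group
        _ = _ := by rw [c3]
    have e2 : a * b = v1 * x * (β * γ) := by
      rw [ea, eb]
      calc v1 * β * (x * γ) = v1 * (β * x) * γ := by group
        _ = _ := by rw [c2]; group
    calc b * a * b⁻¹ * a⁻¹ = (b * a) * (a * b)⁻¹ := by group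
      _ = r := by rw [e1, e2, hr]; group
  have hc : ∀ b ∈ cj y h.A, ∀ a ∈ h.A, b * a * b⁻¹ * a⁻¹ = 1 ∨ b * a * b⁻¹ * a⁻¹ = r := by
    intro b hb a ha
    by_cases h1 : a ∈ B
    · left
      rw [comm_of_exp sq1 hb ((memB a).1 h1).2]
      group
    · by_cases h2 : b ∈ B
      · left
        rw [h.A_comm ((memB b).1 h2).1 ha]
        group
      · right
        exact hcr b hb a ha h1 h2
  -- the conjugate `y r y⁻¹` is central in `S`
  obtain ⟨r1, hr1⟩ : ∃ r1, r1 = y * r * y⁻¹ := ⟨_, rfl⟩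
  have hr2 : r * r = 1 := h.A_sq r hrA
  have hr1sq : r1 * r1 = 1 := conj_sq hr1.symm hr2
  have hr1ne : r1 ≠ 1 := by
    intro h1
    apply hrne
    have h2 := conj_inv hr1.symm
    rw [h1] at h2
    rw [← h2]; group
  have hc1 : ∀ b ∈ cj y⁻¹ h.A, ∀ a ∈ cj y h.A,
      b * a * b⁻¹ * a⁻¹ = 1 ∨ b * a * b⁻¹ * a⁻¹ = r1 := by
    intro b hb a ha
    have e : b * a * b⁻¹ * a⁻¹ = y * ((y⁻¹ * b * y) * (y⁻¹ * a * y) * (y⁻¹ * b * y)⁻¹ *
      (y⁻¹ * a * y)⁻¹) * y⁻¹ := by group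
    rw [e, hr1]
    rcases hc _ (h.yinv_A2 hb) _ (mem_cj.1 ha) with h1 | h1 <;> rw [h1]
    · left; group
    · right; rfl
  obtain ⟨X, hX⟩ : ∃ X, X = y * x * y⁻¹ := ⟨_, rfl⟩
  obtain ⟨Y, hY⟩ : ∃ Y, Y = y * v1 * y⁻¹ := ⟨_, rfl⟩
  have hXA : X ∈ cj y⁻¹ h.A := hX ▸ h.y_A1 hx
  have hYA : Y ∈ cj y h.A := hY ▸ conj_mem_cj h.v1_A
  have hr1XY : r1 = X * Y * X⁻¹ * Y⁻¹ := by rw [hr1, hr, hX, hY]; group
  have hr1S : r1 ∈ S := by
    have h1 := qq_le _ _ (h.A2_qq hXA)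
    have h2 := qq_le _ _ (h.A1_qq hYA)
    rw [hr1XY]
    exact S.mul_mem (S.mul_mem (S.mul_mem h1 h2) (S.inv_mem h1)) (S.inv_mem h2)
  have hr1c : ∀ s ∈ S, s * r1 = r1 * s := by
    intro s hs
    have h0 : s * r1 * s⁻¹ ≠ 1 := by
      intro h1
      apply hr1ne
      calc r1 = s⁻¹ * (s * r1 * s⁻¹) * s := by group
        _ = 1 := by rw [h1]; group
    have h3 : s * r1 * s⁻¹ = r1 := by
      by_cases hq : s ∈ qq S y
      · have h1 := hc1 _ (h.qq_conj_A2 hq hXA) _ (h.qq_conj_A1 hq hYA)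
        have e : s * X * s⁻¹ * (s * Y * s⁻¹) * (s * X * s⁻¹)⁻¹ * (s * Y * s⁻¹)⁻¹ =
          s * r1 * s⁻¹ := by rw [hr1XY]; group
        rw [e] at h1
        exact h1.resolve_left h0
      · have h1 := hc1 _ (h.swap_A1 hs hq hYA) _ (h.swap_A2 hs hq hXA)
        have e : s * Y * s⁻¹ * (s * X * s⁻¹) * (s * Y * s⁻¹)⁻¹ * (s * X * s⁻¹)⁻¹ =
          (s * r1 * s⁻¹)⁻¹ := by rw [hr1XY]; group
        rw [e] at h1
        rcases h1 with h1 | h1
        · exact absurd (inv_eq_one.1 h1) h0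
        · have h2 := congrArg (·⁻¹) h1
          simp only [inv_inv] at h2
          rw [h2, inv_eq_self hr1sq]
    calc s * r1 = s * r1 * s⁻¹ * s := by group
      _ = r1 * s := by rw [h3]
  have hr1z : r1 = z := (h.z_uniq r1 hr1S hr1sq hr1c).resolve_left hr1ne
  have hrz2 : r = z2 := by
    rw [← conj_inv hr1.symm, hr1z, h.yinv_z]
  have hrV : r ∈ h.V := by rw [hrz2]; exact h.z2_V
  have hv12V : v1 * v2 ∈ h.V := by
    rcases hrv with h1 | h1
    · rw [← h1]; exact hrV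
    · have h2 := h.V.mul_mem h.z_V hrV
      rwa [h1, ← mul_assoc, h.z_sq, one_mul] at h2
  have hAV : ∀ a ∈ h.A, a ∈ h.V ∨ v1 * a ∈ h.V := by
    have hE1 : ∀ b ∈ h.V, v1 * b * v1⁻¹ ∈ h.V := fun b hb => h.S_conj_V h.v1_mem hb
    have hE2 : v1 * v1 ∈ h.V := by rw [h.v1_sq]; exact h.V.one_mem
    have h1 : h.A ≤ ex h.V v1 hE1 hE2 :=
      h.A_le_of (Or.inl h.z_V) (Or.inl h.z1_V) (Or.inr hE2) (Or.inr hv12V)
    exact fun a ha => h1 ha
  have hBV : ∀ b ∈ B, b ∈ h.V := by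
    intro b hb
    rcases hAV b ((memB b).1 hb).1 with h1 | h1
    · exact h1
    · exfalso
      have h2 := B.mul_mem (hVB h1) (B.inv_mem hb)
      rw [mul_inv_cancel_right] at h2
      exact hxne (comm_of_exp sq1 hx ((memB v1).1 h2).2)
  refine ⟨hAV, ?_, ?_⟩
  · intro a ha ha' b hb hb'
    rw [← hrz2]
    exact hcr b hb a ha (fun h1 => ha' (hBV a h1)) (fun h1 => hb' (hBV b h1))
  · intro b hb hb' hbq
    rcases hA1B b hb with h1 | h1
    · exact hb' (hBV b h1)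
    · apply hxq
      have h2 := (qq S w).mul_mem (h.A_qqw (h.V_le_A (hBV _ h1))) ((qq S w).inv_mem hbq)
      rwa [mul_inv_cancel_right] at h2

end Cfsg.Agent.SectRankFour.C2.BThreeC
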