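import Mathlib
import Cfsg.Agent.SectRankFour.C2.BThreeC

/-!
# The case `b ≥ 3`, part 3: the group `W = A A₁ A₂` and its centraliser

`Xd h x0 x1 x2`: `x0 ∈ A ∖ V`, `x1 = y x0 y⁻¹`, `x2 = y x1 y⁻¹`.
-/

set_option autoImplicit false

namespace Cfsg.Agent.SectRankFour.C2.BThreeD

open Cfsg.Agent.SectRankFour.C2.BThreeA Cfsg.Agent.SectRankFour.C2.BThreeB
  Cfsg.Agent.SectRankFour.C2.BThreeC

variable {G : Type*} [Group G] {S : Subgroup G} {z z1 z2 v1 v2 y w : G}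

/-- `x0 ∈ A ∖ V` and its conjugates under `y`. -/
structure Xd (h : Data S z z1 z2 v1 v2 y w) (x0 x1 x2 : G) : Prop where
  x0A : x0 ∈ h.A
  x0V : x0 ∉ h.V
  e1 : y * x0 * y⁻¹ = x1
  e2 : y * x1 * y⁻¹ = x2

namespace Xd

variable {h : Data S z z1 z2 v1 v2 y w} {x0 x1 x2 : G}

theorem e3 (X : Xd h x0 x1 x2) : y * x2 * y⁻¹ = x0 := by
  rw [← X.e2, ← X.e1]
  calc y * (y * (y * x0 * y⁻¹) * y⁻¹) * y⁻¹ = (y * y * y) * x0 * (y * y * y)⁻¹ := by group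
    _ = x0 := by rw [h.hy.cube]; simp

theorem x1A (X : Xd h x0 x1 x2) : x1 ∈ cj y h.A := X.e1 ▸ conj_mem_cj X.x0A

theorem x2A (X : Xd h x0 x1 x2) : x2 ∈ cj y⁻¹ h.A := X.e2 ▸ h.y_A1 X.x1A

theorem x1V (X : Xd h x0 x1 x2) : x1 ∉ h.V := by
  intro h1
  have h2 := h.yinv_conj_V h1
  rw [conj_inv X.e1] at h2
  exact X.x0V h2

theorem x2V (X : Xd h x0 x1 x2) : x2 ∉ h.V := by
  intro h1
  have h2 := h.yinv_conj_V h1
  rw [conj_inv X.e2] at h2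
  exact X.x1V h2

theorem x0q (X : Xd h x0 x1 x2) : x0 ∈ qq S y := h.A_qq X.x0A
theorem x1q (X : Xd h x0 x1 x2) : x1 ∈ qq S y := h.A1_qq X.x1A
theorem x2q (X : Xd h x0 x1 x2) : x2 ∈ qq S y := h.A2_qq X.x2A
theorem x0S (X : Xd h x0 x1 x2) : x0 ∈ S := qq_le _ _ X.x0q
theorem x1S (X : Xd h x0 x1 x2) : x1 ∈ S := qq_le _ _ X.x1q
theorem x2S (X : Xd h x0 x1 x2) : x2 ∈ S := qq_le _ _ X.x2q

theorem x0_sq (X : Xd h x0 x1 x2) : x0 * x0 = 1 := h.A_sq x0 X.x0A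
theorem x1_sq (X : Xd h x0 x1 x2) : x1 * x1 = 1 := conj_sq X.e1 X.x0_sq
theorem x2_sq (X : Xd h x0 x1 x2) : x2 * x2 = 1 := conj_sq X.e2 X.x1_sq

/-- `A = V ∪ x0 V`. -/
theorem AV [Finite G] (X : Xd h x0 x1 x2) : ∀ a ∈ h.A, a ∈ h.V ∨ x0 * a ∈ h.V := by
  intro a ha
  have hAV := (main_b h).1
  have h0 := (hAV x0 X.x0A).resolve_left X.x0V
  rcases hAV a ha with h1 | h1
  · exact Or.inl h1
  · right
    have h2 := h.V.mul_mem h0 h1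
    have e : v1 * x0 * (v1 * a) = x0 * a := by
      rw [h.A_comm h.v1_A X.x0A]
      calc x0 * v1 * (v1 * a) = x0 * (v1 * v1) * a := by group
        _ = x0 * a := by rw [h.v1_sq, mul_one]
    rwa [e] at h2

theorem A1V [Finite G] (X : Xd h x0 x1 x2) : ∀ a ∈ cj y h.A, a ∈ h.V ∨ x1 * a ∈ h.V := by
  intro a ha
  rcases X.AV _ (mem_cj.1 ha) with h1 | h1
  · left
    have h2 := h.y_conj_V h1
    have e : y * (y⁻¹ * a * y) * y⁻¹ = a := by group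
    rwa [e] at h2
  · right
    have h2 := h.y_conj_V h1
    rw [cmul, X.e1] at h2
    have e : y * (y⁻¹ * a * y) * y⁻¹ = a := by group
    rwa [e] at h2

theorem A2V [Finite G] (X : Xd h x0 x1 x2) : ∀ a ∈ cj y⁻¹ h.A, a ∈ h.V ∨ x2 * a ∈ h.V := by
  intro a ha
  rcases X.A1V _ (h.yinv_A2 ha) with h1 | h1
  · left
    have h2 := h.y_conj_V h1
    have e : y * (y⁻¹ * a * y) * y⁻¹ = a := by group
    rwa [e] at h2
  · right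
    have h2 := h.y_conj_V h1
    rw [cmul, X.e2] at h2
    have e : y * (y⁻¹ * a * y) * y⁻¹ = a := by group
    rwa [e] at h2

theorem x1x0 [Finite G] (X : Xd h x0 x1 x2) : x1 * x0 = z2 * (x0 * x1) := by
  have h1 := (main_b h).2.1 x0 X.x0A X.x0V x1 X.x1A X.x1V
  rw [← h1]; group

theorem x2x1 [Finite G] (X : Xd h x0 x1 x2) : x2 * x1 = z * (x1 * x2) := by
  have h1 := cmul y x1 x0
  rw [X.x1x0, cmul, cmul, h.yz2, X.e1, X.e2] at h1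
  exact h1.symm

theorem x0x2 [Finite G] (X : Xd h x0 x1 x2) : x0 * x2 = z1 * (x2 * x0) := by
  have h1 := cmul y x2 x1
  rw [X.x2x1, cmul, cmul, h.yz, X.e2, X.e3] at h1
  exact h1.symm

theorem x2x0 [Finite G] (X : Xd h x0 x1 x2) : x2 * x0 = z1 * (x0 * x2) := by
  rw [X.x0x2, ← mul_assoc, h.z1_sq, one_mul]

/-- `x1, x2 ∉ Q₂`. -/
theorem x1_not [Finite G] (X : Xd h x0 x1 x2) : x1 ∉ qq S w := (main_b h).2.2 x1 X.x1A X.x1V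

theorem x2_not [Finite G] (X : Xd h x0 x1 x2) : x2 ∉ qq S w := by
  intro h1
  obtain ⟨t, ht, htq⟩ := h.exists_not_qq
  have h2 := h.hw.norm ht h1
  refine (main_b h).2.2 _ (h.swap_A2 ht htq X.x2A) ?_ h2
  intro h3
  have h4 := h.S_conj_V (S.inv_mem ht) h3
  have e : t⁻¹ * (t * x2 * t⁻¹) * t⁻¹⁻¹ = x2 := by group
  rw [e] at h4
  exact X.x2V h4

/-- `[s, x0] ∈ V` for `s ∈ S`. -/
theorem comm_x0 [Finite G] (X : Xd h x0 x1 x2) {s : G} (hs : s ∈ S) :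
    s * x0 * s⁻¹ * x0⁻¹ ∈ h.V := by
  have h1 := h.S_conj_A hs X.x0A
  have h2 : s * x0 * s⁻¹ ∉ h.V := by
    intro h2
    have h3 := h.S_conj_V (S.inv_mem hs) h2
    have e : s⁻¹ * (s * x0 * s⁻¹) * s⁻¹⁻¹ = x0 := by group
    rw [e] at h3
    exact X.x0V h3
  have h3 := (X.AV _ h1).resolve_left h2
  rwa [inv_eq_self X.x0_sq, h.A_comm h1 X.x0A]

theorem comm_x1 [Finite G] (X : Xd h x0 x1 x2) {q : G} (hq : q ∈ qq S y) :
    q * x1 * q⁻¹ * x1⁻¹ ∈ h.V := by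
  have h1 := h.y_conj_V (X.comm_x0 (mem_qq.1 hq).2.1)
  rw [← X.e1]
  have e : y * (y⁻¹ * q * y * x0 * (y⁻¹ * q * y)⁻¹ * x0⁻¹) * y⁻¹ =
    q * (y * x0 * y⁻¹) * q⁻¹ * (y * x0 * y⁻¹)⁻¹ := by group
  rwa [e] at h1

theorem comm_x2 [Finite G] (X : Xd h x0 x1 x2) {q : G} (hq : q ∈ qq S y) :
    q * x2 * q⁻¹ * x2⁻¹ ∈ h.V := by
  have h1 := h.y_conj_V (X.comm_x1 (h.hy.conj' hq))
  rw [← X.e2]
  have e : y * (y⁻¹ * q * y * x1 * (y⁻¹ * q * y)⁻¹ * x1⁻¹) * y⁻¹ =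
    q * (y * x1 * y⁻¹) * q⁻¹ * (y * x1 * y⁻¹)⁻¹ := by group
  rwa [e] at h1

theorem x0_comm_V (X : Xd h x0 x1 x2) {v : G} (hv : v ∈ h.V) : x0 * v = v * x0 :=
  h.qq_comm_V X.x0q v hv
theorem x1_comm_V (X : Xd h x0 x1 x2) {v : G} (hv : v ∈ h.V) : x1 * v = v * x1 :=
  h.qq_comm_V X.x1q v hv
theorem x2_comm_V (X : Xd h x0 x1 x2) {v : G} (hv : v ∈ h.V) : x2 * v = v * x2 :=
  h.qq_comm_V X.x2q v hv

/-- Multiplicativity of `φ : q ↦ [q, x]`. -/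
theorem phi_mul (h : Data S z z1 z2 v1 v2 y w) {x q q' v v' : G} (hv' : v' ∈ h.V)
    (hq : q ∈ qq S y) (h1 : q * x * q⁻¹ * x⁻¹ = v)
    (h2 : q' * x * q'⁻¹ * x⁻¹ = v') : q * q' * x * (q * q')⁻¹ * x⁻¹ = v' * v := by
  have h3 := h.qq_comm_V hq v' hv'
  calc q * q' * x * (q * q')⁻¹ * x⁻¹ = q * (q' * x * q'⁻¹ * x⁻¹) * x * q⁻¹ * x⁻¹ := by group
    _ = (q * v') * x * q⁻¹ * x⁻¹ := by rw [h2]
    _ = v' * (q * x * q⁻¹ * x⁻¹) := by rw [h3]; group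
    _ = v' * v := by rw [h1]

theorem comm_of_phi {x q : G} (h1 : q * x * q⁻¹ * x⁻¹ = 1) : q * x = x * q := by
  calc q * x = q * x * q⁻¹ * x⁻¹ * (x * q) := by group
    _ = x * q := by rw [h1, one_mul]

theorem phi_of_comm {x q : G} (h1 : q * x = x * q) : q * x * q⁻¹ * x⁻¹ = 1 := by
  rw [h1]; group

theorem phi_x1x0 [Finite G] (X : Xd h x0 x1 x2) : x1 * x0 * x1⁻¹ * x0⁻¹ = z2 := by
  rw [X.x1x0]; group

theorem phi_x2x0 [Finite G] (X : Xd h x0 x1 x2) : x2 * x0 * x2⁻¹ * x0⁻¹ = z1 := by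
  rw [X.x2x0]; group

theorem phi_x0x1 [Finite G] (X : Xd h x0 x1 x2) : x0 * x1 * x0⁻¹ * x1⁻¹ = z2 := by
  have h1 := X.phi_x1x0
  have e : x0 * x1 * x0⁻¹ * x1⁻¹ = (x1 * x0 * x1⁻¹ * x0⁻¹)⁻¹ := by group
  rw [e, h1, inv_eq_self h.z2_sq]

theorem phi_x0x2 [Finite G] (X : Xd h x0 x1 x2) : x0 * x2 * x0⁻¹ * x2⁻¹ = z1 := by
  rw [X.x0x2]; group

theorem phi_x2x1 [Finite G] (X : Xd h x0 x1 x2) : x2 * x1 * x2⁻¹ * x1⁻¹ = z := by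
  rw [X.x2x1]; group

theorem phi_x1x2 [Finite G] (X : Xd h x0 x1 x2) : x1 * x2 * x1⁻¹ * x2⁻¹ = z := by
  have h1 := X.phi_x2x1
  have e : x1 * x2 * x1⁻¹ * x2⁻¹ = (x2 * x1 * x2⁻¹ * x1⁻¹)⁻¹ := by group
  rw [e, h1, inv_eq_self h.z_sq]

end Xd

/-- `C_{Q₁}(x)`. -/
def cq (S : Subgroup G) (y x : G) : Subgroup G where
  carrier := {q | q ∈ qq S y ∧ q * x = x * q}
  one_mem' := ⟨(qq S y).one_mem, by simp⟩
  mul_mem' := by
    rintro a b ⟨ha, ha'⟩ ⟨hb, hb'⟩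
    exact ⟨(qq S y).mul_mem ha hb, by rw [mul_assoc, hb', ← mul_assoc, ha', mul_assoc]⟩
  inv_mem' := by
    rintro a ⟨ha, ha'⟩
    refine ⟨(qq S y).inv_mem ha, ?_⟩
    calc a⁻¹ * x = a⁻¹ * (x * a) * a⁻¹ := by group
      _ = x * a⁻¹ := by rw [← ha']; group

theorem mem_cq {x q : G} : q ∈ cq S y x ↔ q ∈ qq S y ∧ q * x = x * q := Iff.rfl

section

variable {h : Data S z z1 z2 v1 v2 y w} {x0 x1 x2 : G}

theorem cq_comm_A [Finite G] (X : Xd h x0 x1 x2) {q : G} (hq : q ∈ cq S y x0) {a : G}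
    (ha : a ∈ h.A) : q * a = a * q := by
  rcases X.AV a ha with h1 | h1
  · exact h.qq_comm_V hq.1 a h1
  · have h2 := h.qq_comm_V hq.1 _ h1
    have e : a = x0 * (x0 * a) := by rw [← mul_assoc, X.x0_sq, one_mul]
    rw [e]
    calc q * (x0 * (x0 * a)) = (q * x0) * (x0 * a) := by group
      _ = x0 * (q * (x0 * a)) := by rw [hq.2]; group
      _ = x0 * (x0 * a) * q := by rw [h2]; group

theorem mem_cq_of_comm (X : Xd h x0 x1 x2) {q : G} (hq : q ∈ S) (hc : ∀ a ∈ h.A, q * a = a * q) :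
    q ∈ cq S y x0 := ⟨h.qq_of_comm hq (hc z1 h.z1_A), hc x0 X.x0A⟩

theorem cq_w [Finite G] (X : Xd h x0 x1 x2) {q : G} (hq : q ∈ cq S y x0) :
    w * q * w⁻¹ ∈ cq S y x0 := by
  have hqS := qq_le _ _ hq.1
  have h1 := h.qqw_of_comm hqS (cq_comm_A X hq h.v1_A)
  refine mem_cq_of_comm X (mem_qq.1 h1).2.2 ?_
  intro a ha
  exact conj_comm (y := w) (a := q) (b := w⁻¹ * a * w) rfl (by group)
    (cq_comm_A X hq (h.winv_conj_A ha))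

theorem cq_S [Finite G] (X : Xd h x0 x1 x2) {s q : G} (hs : s ∈ S) (hq : q ∈ cq S y x0) :
    s * q * s⁻¹ ∈ cq S y x0 := by
  have hqS := qq_le _ _ hq.1
  refine mem_cq_of_comm X (S.mul_mem (S.mul_mem hs hqS) (S.inv_mem hs)) ?_
  intro a ha
  have h1 := h.S_conj_A (S.inv_mem hs) ha
  rw [inv_inv] at h1
  exact conj_comm (y := s) (a := q) (b := s⁻¹ * a * s) rfl (by group) (cq_comm_A X hq h1)

theorem cq_y (h : Data S z z1 z2 v1 v2 y w) {x x' : G} (hx : y * x * y⁻¹ = x') {q : G}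
    (hq : q ∈ cq S y x) : y * q * y⁻¹ ∈ cq S y x' :=
  ⟨h.hy.conj hq.1, conj_comm rfl hx hq.2⟩

theorem cq_yinv (h : Data S z z1 z2 v1 v2 y w) {x x' : G} (hx : y * x * y⁻¹ = x') {q : G}
    (hq : q ∈ cq S y x') : y⁻¹ * q * y ∈ cq S y x := by
  refine ⟨h.hy.conj' hq.1, ?_⟩
  have h1 := conj_inv hx
  exact conj_comm (y := y⁻¹) (a := q) (b := x') (by group) (by rw [inv_inv]; exact h1) hq.2

/-- Conjugation by an element of `Q₁` preserves `C_{Q₁}(x)` when `[Q₁, x] ≤ V`. -/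
theorem cq_qq (h : Data S z z1 z2 v1 v2 y w) {x : G}
    (hx : ∀ q ∈ qq S y, q * x * q⁻¹ * x⁻¹ ∈ h.V) {s q : G} (hs : s ∈ qq S y) (hq : q ∈ cq S y x) :
    s * q * s⁻¹ ∈ cq S y x := by
  refine ⟨h.hy.norm (qq_le _ _ hs) hq.1, ?_⟩
  have h1 := hx s⁻¹ ((qq S y).inv_mem hs)
  obtain ⟨v, hv⟩ : ∃ v, v = s⁻¹ * x * s⁻¹⁻¹ * x⁻¹ := ⟨_, rfl⟩
  rw [← hv] at h1
  have e : s⁻¹ * x * s = v * x := by rw [hv]; group
  have h2 : q * (s⁻¹ * x * s) = (s⁻¹ * x * s) * q := by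
    rw [e]
    calc q * (v * x) = (q * v) * x := by group
      _ = v * (q * x) := by rw [h.qq_comm_V hq.1 v h1]; group
      _ = v * x * q := by rw [hq.2]; group
  exact conj_comm (y := s) (a := q) (b := s⁻¹ * x * s) rfl (by group) h2

/-- An element of `S ∖ Q₁` swaps `C_{Q₁}(x1)` and `C_{Q₁}(x2)`. -/
theorem cq_swap [Finite G] (X : Xd h x0 x1 x2) {s q : G} (hs : s ∈ S) (hsq : s ∉ qq S y)
    (hq : q ∈ cq S y x2) : s * q * s⁻¹ ∈ cq S y x1 := by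
  refine ⟨h.hy.norm hs hq.1, ?_⟩
  have hs' : s⁻¹ ∉ qq S y := fun h1 => hsq (by simpa using (qq S y).inv_mem h1)
  have h1 := h.swap_A1 (S.inv_mem hs) hs' X.x1A
  have h2 : s⁻¹ * x1 * s⁻¹⁻¹ ∉ h.V := by
    intro h2
    have h3 := h.S_conj_V hs h2
    have e : s * (s⁻¹ * x1 * s⁻¹⁻¹) * s⁻¹ = x1 := by group
    rw [e] at h3
    exact X.x1V h3
  have h3 := (X.A2V _ h1).resolve_left h2
  rw [inv_inv] at h3
  obtain ⟨v, hv⟩ : ∃ v, v = x2 * (s⁻¹ * x1 * s) := ⟨_, rfl⟩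
  rw [← hv] at h3
  have e : s⁻¹ * x1 * s = x2 * v := by rw [hv, ← mul_assoc, X.x2_sq, one_mul]
  have h4 : q * (s⁻¹ * x1 * s) = (s⁻¹ * x1 * s) * q := by
    rw [e]
    calc q * (x2 * v) = (q * x2) * v := by group
      _ = x2 * (q * v) := by rw [hq.2]; group
      _ = x2 * v * q := by rw [h.qq_comm_V hq.1 v h3]; group
  exact conj_comm (y := s) (a := q) (b := s⁻¹ * x1 * s) rfl (by group) h4

theorem cq_swap' [Finite G] (X : Xd h x0 x1 x2) {s q : G} (hs : s ∈ S) (hsq : s ∉ qq S y)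
    (hq : q ∈ cq S y x1) : s * q * s⁻¹ ∈ cq S y x2 := by
  refine ⟨h.hy.norm hs hq.1, ?_⟩
  have hs' : s⁻¹ ∉ qq S y := fun h1 => hsq (by simpa using (qq S y).inv_mem h1)
  have h1 := h.swap_A2 (S.inv_mem hs) hs' X.x2A
  have h2 : s⁻¹ * x2 * s⁻¹⁻¹ ∉ h.V := by
    intro h2
    have h3 := h.S_conj_V hs h2
    have e : s * (s⁻¹ * x2 * s⁻¹⁻¹) * s⁻¹ = x2 := by group
    rw [e] at h3
    exact X.x2V h3
  have h3 := (X.A1V _ h1).resolve_left h2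
  rw [inv_inv] at h3
  obtain ⟨v, hv⟩ : ∃ v, v = x1 * (s⁻¹ * x2 * s) := ⟨_, rfl⟩
  rw [← hv] at h3
  have e : s⁻¹ * x2 * s = x1 * v := by rw [hv, ← mul_assoc, X.x1_sq, one_mul]
  have h4 : q * (s⁻¹ * x2 * s) = (s⁻¹ * x2 * s) * q := by
    rw [e]
    calc q * (x1 * v) = (q * x1) * v := by group
      _ = x1 * (q * v) := by rw [hq.2]; group
      _ = x1 * v * q := by rw [h.qq_comm_V hq.1 v h3]; group
  exact conj_comm (y := s) (a := q) (b := s⁻¹ * x2 * s) rfl (by group) h4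

/-- `Q₁ = C₀ ∪ x1 C₀ ∪ x2 C₀ ∪ x1 x2 C₀`. -/
theorem qq_dec [Finite G] (X : Xd h x0 x1 x2) {q : G} (hq : q ∈ qq S y) :
    q ∈ cq S y x0 ∨ x1 * q ∈ cq S y x0 ∨ x2 * q ∈ cq S y x0 ∨ x1 * (x2 * q) ∈ cq S y x0 := by
  have h0 := X.comm_x0 (qq_le _ _ hq)
  obtain ⟨v, hv⟩ : ∃ v, v = q * x0 * q⁻¹ * x0⁻¹ := ⟨_, rfl⟩
  rw [← hv] at h0
  rcases h0 with h1 | h1 | h1 | h1
  · left; exact ⟨hq, Xd.comm_of_phi (by rw [← hv, h1])⟩
  · right; right; right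
    have e1 := Xd.phi_mul h h.z_V X.x2q X.phi_x2x0 (hv.symm.trans h1)
    rw [h.zz1] at e1
    have e2 := Xd.phi_mul h h.z2_V X.x1q X.phi_x1x0 e1
    rw [h.z2_sq] at e2
    exact ⟨(qq S y).mul_mem X.x1q ((qq S y).mul_mem X.x2q hq), Xd.comm_of_phi e2⟩
  · right; right; left
    have e1 := Xd.phi_mul h h.z1_V X.x2q X.phi_x2x0 (hv.symm.trans h1)
    rw [h.z1_sq] at e1
    exact ⟨(qq S y).mul_mem X.x2q hq, Xd.comm_of_phi e1⟩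
  · right; left
    have e1 := Xd.phi_mul h h.z2_V X.x1q X.phi_x1x0 (hv.symm.trans h1)
    rw [h.z2_sq] at e1
    exact ⟨(qq S y).mul_mem X.x1q hq, Xd.comm_of_phi e1⟩

theorem x1_not_cq [Finite G] (X : Xd h x0 x1 x2) : x1 ∉ cq S y x0 := by
  intro h1
  have h2 := Xd.phi_of_comm h1.2
  rw [X.phi_x1x0] at h2
  exact h.z2_ne h2

theorem x2_not_cq [Finite G] (X : Xd h x0 x1 x2) : x2 ∉ cq S y x0 := by
  intro h1
  have h2 := Xd.phi_of_comm h1.2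
  rw [X.phi_x2x0] at h2
  exact h.z1_ne h2

theorem x1x2_not_cq [Finite G] (X : Xd h x0 x1 x2) : x1 * x2 ∉ cq S y x0 := by
  intro h1
  have h2 := Xd.phi_of_comm h1.2
  have h3 := Xd.phi_mul h h.z1_V X.x1q X.phi_x1x0 X.phi_x2x0
  rw [h.z1z2, h2] at h3
  exact h.z_ne h3.symm

theorem A_le_cq (X : Xd h x0 x1 x2) : h.A ≤ cq S y x0 := fun _ ha =>
  ⟨h.A_qq ha, h.A_comm ha X.x0A⟩

end

end Cfsg.Agent.SectRankFour.C2.BThreeD
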