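import Mathlib
import Cfsg.Agent.SectRankFour.C2.BThreeD

/-!
# The case `b ≥ 3`, part 4: the two possibilities for `C_S(A)`

* `caseI`: if `|[C_S(A), x1]| = 2` then `C_S(A) = A`.
-/

set_option autoImplicit false

namespace Cfsg.Agent.SectRankFour.C2.BThreeE

open Cfsg.Agent.SectRankFour.C2.BThreeA Cfsg.Agent.SectRankFour.C2.BThreeB
  Cfsg.Agent.SectRankFour.C2.BThreeC Cfsg.Agent.SectRankFour.C2.BThreeD

variable {G : Type*} [Group G] {S : Subgroup G} {z z1 z2 v1 v2 y w : G}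
  {h : Data S z z1 z2 v1 v2 y w} {x0 x1 x2 : G}

theorem V_le_cq (h : Data S z z1 z2 v1 v2 y w) {x : G} (hx : x ∈ qq S y) :
    h.V ≤ cq S y x := fun v hv => ⟨h.A_qq (h.V_le_A hv), (h.qq_comm_V hx v hv).symm⟩

/-- A subgroup of `S` generated by squares, is trivial if it is normalised by `S`, `y`, `w`. -/
theorem sq_trivial (h : Data S z z1 z2 v1 v2 y w) {K : Subgroup G} (hK : K ≤ S)
    (hS : ∀ s ∈ S, ∀ k ∈ K, s * k * s⁻¹ ∈ K) (hy : ∀ k ∈ K, y * k * y⁻¹ ∈ K)
    (hw : ∀ k ∈ K, w * (k * k) * w⁻¹ ∈ Subgroup.closure {g | ∃ k ∈ K, g = k * k}) :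
    ∀ k ∈ K, k * k = 1 := by
  have h1 := h.core (Subgroup.closure {g | ∃ k ∈ K, g = k * k}) (by
      rw [Subgroup.closure_le]
      rintro g ⟨k, hk, rfl⟩
      exact S.mul_mem (hK hk) (hK hk)) (by
      intro s hs
      refine closure_conj ?_
      rintro g ⟨k, hk, rfl⟩
      rw [cmul]
      exact Subgroup.subset_closure ⟨_, hS s hs k hk, rfl⟩) (by
      refine closure_conj ?_
      rintro g ⟨k, hk, rfl⟩
      rw [cmul]
      exact Subgroup.subset_closure ⟨_, hy k hk, rfl⟩) (by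
      refine closure_conj ?_
      rintro g ⟨k, hk, rfl⟩
      exact hw k hk)
  intro k hk
  have h2 : k * k ∈ Subgroup.closure {g | ∃ k ∈ K, g = k * k} := Subgroup.subset_closure ⟨k, hk, rfl⟩
  rw [h1] at h2
  exact Subgroup.mem_bot.1 h2

/-- Case I. -/
theorem caseI [Finite G] (X : Xd h x0 x1 x2)
    (hI : ∀ q ∈ cq S y x0, q ∈ cq S y x1 ∨ x0 * q ∈ cq S y x1) :
    ∀ q ∈ cq S y x0, q ∈ h.A := by
  obtain ⟨t, ht, htq⟩ := h.exists_not_qq
  have htq' : t⁻¹ ∉ qq S y := fun h1 => htq (by simpa using (qq S y).inv_mem h1)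
  have hIa : ∀ q ∈ cq S y x0, q ∈ cq S y x2 ∨ x0 * q ∈ cq S y x2 := by
    intro q hq
    have hq' := cq_S X (S.inv_mem ht) hq
    rw [inv_inv] at hq'
    have e1 : t * (t⁻¹ * q * t) * t⁻¹ = q := by group
    rcases hI _ hq' with h1 | h1
    · left
      have h2 := cq_swap' X ht htq h1
      rwa [e1] at h2
    · right
      have h2 := cq_swap' X ht htq h1
      rw [cmul, e1] at h2
      have h3 := X.comm_x0 ht
      have h4 := (cq S y x2).mul_mem ((cq S y x2).inv_mem (V_le_cq h X.x2q h3)) h2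
      have e : (t * x0 * t⁻¹ * x0⁻¹)⁻¹ * (t * x0 * t⁻¹ * q) = x0 * q := by group
      rwa [e] at h4
  have hIb : ∀ q ∈ cq S y x1, q ∈ cq S y x2 ∨ x1 * q ∈ cq S y x2 := by
    intro q hq
    have e1 : y * (y⁻¹ * q * y) * y⁻¹ = q := by group
    rcases hI _ (cq_yinv h X.e1 hq) with h1 | h1
    · left
      have h2 := cq_y h X.e2 h1
      rwa [e1] at h2
    · right
      have h2 := cq_y h X.e2 h1
      rwa [cmul, e1, X.e1] at h2
  have hK2 : ∀ q ∈ cq S y x0, q ∈ cq S y x1 → q ∈ cq S y x2 := by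
    intro q hq hq1
    rcases hIa q hq with h1 | h1
    · exact h1
    · rcases hIb q hq1 with h2 | h2
      · exact h2
      · exfalso
        have h3 := (cq S y x2).mul_mem h1 ((cq S y x2).inv_mem h2)
        have e : x0 * q * (x1 * q)⁻¹ = x0 * x1 := by
          have := inv_eq_self X.x1_sq
          calc x0 * q * (x1 * q)⁻¹ = x0 * x1⁻¹ := by group
            _ = x0 * x1 := by rw [this]
        rw [e] at h3
        have h4 := Xd.phi_mul h h.z_V X.x0q X.phi_x0x2 X.phi_x1x2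
        rw [Xd.phi_of_comm h3.2, h.zz1] at h4
        exact h.z2_ne h4.symm
  -- the group `K`
  obtain ⟨K, hK⟩ : ∃ K, K = cq S y x0 ⊓ cq S y x1 := ⟨_, rfl⟩
  have memK : ∀ g, g ∈ K ↔ g ∈ cq S y x0 ∧ g ∈ cq S y x1 := by
    intro g; rw [hK, Subgroup.mem_inf]
  have hKS : K ≤ S := fun k hk => qq_le _ _ ((memK k).1 hk).1.1
  have hKy : ∀ k ∈ K, y * k * y⁻¹ ∈ K := by
    intro k hk
    have h1 := (memK k).1 hk
    exact (memK _).2 ⟨cq_y h X.e3 (hK2 k h1.1 h1.2), cq_y h X.e1 h1.1⟩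
  have hKSn : ∀ s ∈ S, ∀ k ∈ K, s * k * s⁻¹ ∈ K := by
    intro s hs k hk
    have h1 := (memK k).1 hk
    refine (memK _).2 ⟨cq_S X hs h1.1, ?_⟩
    by_cases hq : s ∈ qq S y
    · exact cq_qq h (fun q hq => X.comm_x1 hq) hq h1.2
    · exact cq_swap X hs hq (hK2 k h1.1 h1.2)
  have hCK : ∀ c ∈ cq S y x0, ∃ k ∈ K, c * c = k * k := by
    intro c hc
    rcases hI c hc with h1 | h1
    · exact ⟨c, (memK c).2 ⟨hc, h1⟩, rfl⟩
    · refine ⟨x0 * c, (memK _).2 ⟨(cq S y x0).mul_mem (A_le_cq X X.x0A) hc, h1⟩, ?_⟩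
      calc c * c = (x0 * x0) * (c * c) := by rw [X.x0_sq, one_mul]
        _ = x0 * (x0 * c) * c := by group
        _ = x0 * (c * x0) * c := by rw [hc.2]
        _ = x0 * c * (x0 * c) := by group
  have hKw : ∀ k ∈ K, w * (k * k) * w⁻¹ ∈ Subgroup.closure {g | ∃ k ∈ K, g = k * k} := by
    intro k hk
    obtain ⟨k', hk', e⟩ := hCK _ (cq_w X ((memK k).1 hk).1)
    rw [cmul]
    exact Subgroup.subset_closure ⟨k', hk', e⟩
  have hKsq := sq_trivial h hKS hKSn hKy hKw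
  have hCsq : ∀ c ∈ cq S y x0, c * c = 1 := by
    intro c hc
    obtain ⟨k, hk, e⟩ := hCK c hc
    rw [e, hKsq k hk]
  -- elements of `K` fixed by `t` are central in `S`
  have hQK : ∀ q ∈ qq S y, ∀ k ∈ K, q * k = k * q := by
    intro q hq k hk
    have hk' := (memK k).1 hk
    have a1 : x1 * k = k * x1 := hk'.2.2.symm
    have a2 : x2 * k = k * x2 := (hK2 k hk'.1 hk'.2).2.symm
    have b1 : ∀ g, x1 * g * k = k * (x1 * g) → g * k = k * g := by
      intro g hg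
      have : x1 * (g * k) = x1 * (k * g) := by
        rw [← mul_assoc, hg, ← mul_assoc, ← mul_assoc, a1]
      exact mul_left_cancel this
    have b2 : ∀ g, x2 * g * k = k * (x2 * g) → g * k = k * g := by
      intro g hg
      have : x2 * (g * k) = x2 * (k * g) := by
        rw [← mul_assoc, hg, ← mul_assoc, ← mul_assoc, a2]
      exact mul_left_cancel this
    rcases qq_dec X hq with h1 | h1 | h1 | h1
    · exact comm_of_exp hCsq h1 hk'.1
    · exact b1 _ (comm_of_exp hCsq h1 hk'.1)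
    · exact b2 _ (comm_of_exp hCsq h1 hk'.1)
    · exact b2 _ (b1 _ (comm_of_exp hCsq h1 hk'.1))
  have hcen : ∀ m ∈ K, t * m * t⁻¹ = m → m = 1 ∨ m = z := by
    intro m hm htm
    refine h.z_uniq m (hKS hm) (hKsq m hm) ?_
    intro s hs
    by_cases hq : s ∈ qq S y
    · exact hQK s hq m hm
    · have h1 : t⁻¹ * s ∈ qq S y := h.hy.mul_not_qq (S.inv_mem ht) hs htq' hq
      have h2 := hQK _ h1 m hm
      calc s * m = t * (t⁻¹ * s * m) := by group
        _ = t * m * t⁻¹ * s := by rw [h2]; group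
        _ = m * s := by rw [htm]
  have hKV : K ≤ h.V := by
    intro k hk
    obtain ⟨k', hk'⟩ : ∃ k', k' = t * k * t⁻¹ := ⟨_, rfl⟩
    have hk'K : k' ∈ K := hk' ▸ hKSn t ht k hk
    have htt : t * t ∈ qq S y := h.hy.mul_not_qq ht ht htq htq
    have e1 : t * k' * t⁻¹ = k := by
      rw [hk']
      calc t * (t * k * t⁻¹) * t⁻¹ = (t * t * k) * (t * t)⁻¹ := by group
        _ = k := by rw [hQK _ htt k hk]; group
    have ekk : k * k' = k' * k := comm_of_exp hKsq hk hk'K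
    have h1 := hcen (k * k') (K.mul_mem hk hk'K) (by rw [cmul, ← hk', e1, ekk])
    rcases h1 with h1 | h1
    · have h2 : k' = k := by
        rw [eq_inv_of_mul_eq_one_right h1, inv_eq_self (hKsq k hk)]
      rcases hcen k hk (by rw [← hk', h2]) with h3 | h3
      · rw [h3]; exact h.V.one_mem
      · rw [h3]; exact h.z_V
    · have h2 : k' = k * z := by
        rw [← h1, ← mul_assoc, hKsq k hk, one_mul]
      have hz1K : z1 ∈ K := (memK z1).2 ⟨V_le_cq h X.x0q h.z1_V, V_le_cq h X.x1q h.z1_V⟩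
      have h3 := hcen (k * z1) (K.mul_mem hk hz1K) (by
        rw [cmul, ← hk', h2, h.swap1 ht htq, mul_inv_cancel_right, mul_assoc, h.zz2])
      have h4 : k * z1 ∈ h.V := by
        rcases h3 with h3 | h3 <;> rw [h3]
        exacts [h.V.one_mem, h.z_V]
      have h5 := h.V.mul_mem h4 h.z1_V
      rwa [mul_assoc, h.z1_sq, mul_one] at h5
  intro q hq
  rcases hI q hq with h1 | h1
  · exact h.V_le_A (hKV ((memK q).2 ⟨hq, h1⟩))
  · have h2 := h.A.mul_mem X.x0A
      (h.V_le_A (hKV ((memK _).2 ⟨(cq S y x0).mul_mem (A_le_cq X X.x0A) hq, h1⟩)))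
    rwa [← mul_assoc, X.x0_sq, one_mul] at h2

end Cfsg.Agent.SectRankFour.C2.BThreeE
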