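import Mathlib
import Cfsg.Agent.SectRankFour.C2.BThreeE

/-!
# The case `b ≥ 3`, part 5: the second possibility for `C_S(A)`

* `WW h = A A₁ A₂`;
* `caseII`: if `|[C_S(A), x1]| = 4` then `C_{Q₁}(W) = V` and `|Q₁ : W| = 2`.
-/

set_option autoImplicit false

namespace Cfsg.Agent.SectRankFour.C2.BThreeF

open Cfsg.Agent.SectRankFour.C2.BThreeA Cfsg.Agent.SectRankFour.C2.BThreeB
  Cfsg.Agent.SectRankFour.C2.BThreeC Cfsg.Agent.SectRankFour.C2.BThreeD
  Cfsg.Agent.SectRankFour.C2.BThreeE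

variable {G : Type*} [Group G] {S : Subgroup G} {z z1 z2 v1 v2 y w : G}

/-- `W = A A₁ A₂`. -/
def WW (h : Data S z z1 z2 v1 v2 y w) : Subgroup G :=
  Subgroup.closure ((h.A : Set G) ∪ cj y h.A ∪ cj y⁻¹ h.A)

section

variable (h : Data S z z1 z2 v1 v2 y w)

theorem A_le_WW : h.A ≤ WW h := fun _ ha => Subgroup.subset_closure (Or.inl (Or.inl ha))
theorem A1_le_WW : cj y h.A ≤ WW h := fun _ ha => Subgroup.subset_closure (Or.inl (Or.inr ha))
theorem A2_le_WW : cj y⁻¹ h.A ≤ WW h := fun _ ha => Subgroup.subset_closure (Or.inr ha)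

theorem WW_le : WW h ≤ qq S y := by
  rw [WW, Subgroup.closure_le]
  rintro a ((ha | ha) | ha)
  exacts [h.A_qq ha, h.A1_qq ha, h.A2_qq ha]

theorem WW_y : ∀ g ∈ WW h, y * g * y⁻¹ ∈ WW h := by
  refine closure_conj ?_
  rintro a ((ha | ha) | ha)
  · exact A1_le_WW h (conj_mem_cj ha)
  · exact A2_le_WW h (h.y_A1 ha)
  · exact A_le_WW h (mem_cj_inv.1 ha)

theorem WW_S : ∀ s ∈ S, ∀ g ∈ WW h, s * g * s⁻¹ ∈ WW h := by
  intro s hs
  refine closure_conj ?_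
  by_cases hq : s ∈ qq S y
  · rintro a ((ha | ha) | ha)
    · exact A_le_WW h (h.S_conj_A hs ha)
    · exact A1_le_WW h (h.qq_conj_A1 hq ha)
    · exact A2_le_WW h (h.qq_conj_A2 hq ha)
  · rintro a ((ha | ha) | ha)
    · exact A_le_WW h (h.S_conj_A hs ha)
    · exact A2_le_WW h (h.swap_A1 hs hq ha)
    · exact A1_le_WW h (h.swap_A2 hs hq ha)

end

variable {h : Data S z z1 z2 v1 v2 y w} {x0 x1 x2 : G}

theorem norm1 (X : Xd h x0 x1 x2) : ∀ a ∈ h.A, x1 * a * x1⁻¹ ∈ h.A :=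
  fun _ ha => h.S_conj_A X.x1S ha

theorem sq1 (X : Xd h x0 x1 x2) : x1 * x1 ∈ h.A := by
  rw [X.x1_sq]; exact h.A.one_mem

theorem norm2 [Finite G] (X : Xd h x0 x1 x2) :
    ∀ a ∈ ex h.A x1 (norm1 X) (sq1 X), x2 * a * x2⁻¹ ∈ ex h.A x1 (norm1 X) (sq1 X) := by
  rintro a (ha | ha)
  · left; exact h.S_conj_A X.x2S ha
  · right
    have h1 := h.S_conj_A X.x2S ha
    have e : x1 * (x2 * a * x2⁻¹) = (x1 * x2 * x1⁻¹ * x2⁻¹) * (x2 * (x1 * a) * x2⁻¹) := by group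
    rw [e, X.phi_x1x2]
    exact h.A.mul_mem h.z_A h1

theorem sq2 (X : Xd h x0 x1 x2) : x2 * x2 ∈ ex h.A x1 (norm1 X) (sq1 X) := by
  left; rw [X.x2_sq]; exact h.A.one_mem

theorem WW_le_ex [Finite G] (X : Xd h x0 x1 x2) :
    WW h ≤ ex (ex h.A x1 (norm1 X) (sq1 X)) x2 (norm2 X) (sq2 X) := by
  rw [WW, Subgroup.closure_le]
  rintro a ((ha | ha) | ha)
  · left; left; exact ha
  · rcases X.A1V a ha with h1 | h1
    · left; left; exact h.V_le_A h1
    · left; right; exact h.V_le_A h1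
  · rcases X.A2V a ha with h1 | h1
    · left; left; exact h.V_le_A h1
    · right; left; exact h.V_le_A h1

theorem WW_dec [Finite G] (X : Xd h x0 x1 x2) {g : G} (hg : g ∈ WW h) :
    g ∈ h.A ∨ x1 * g ∈ h.A ∨ x2 * g ∈ h.A ∨ x1 * (x2 * g) ∈ h.A := by
  rcases WW_le_ex X hg with (h1 | h1) | (h1 | h1)
  exacts [Or.inl h1, Or.inr (Or.inl h1), Or.inr (Or.inr (Or.inl h1)), Or.inr (Or.inr (Or.inr h1))]

/-- `C_W(x0) = A`. -/
theorem WW_cq [Finite G] (X : Xd h x0 x1 x2) {g : G} (hg : g ∈ WW h) (hg' : g ∈ cq S y x0) :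
    g ∈ h.A := by
  rcases WW_dec X hg with h1 | h1 | h1 | h1
  · exact h1
  · exfalso
    have h2 := (cq S y x0).mul_mem (A_le_cq X h1) ((cq S y x0).inv_mem hg')
    rw [mul_inv_cancel_right] at h2
    exact x1_not_cq X h2
  · exfalso
    have h2 := (cq S y x0).mul_mem (A_le_cq X h1) ((cq S y x0).inv_mem hg')
    rw [mul_inv_cancel_right] at h2
    exact x2_not_cq X h2
  · exfalso
    have h2 := (cq S y x0).mul_mem (A_le_cq X h1) ((cq S y x0).inv_mem hg')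
    rw [← mul_assoc, mul_inv_cancel_right] at h2
    exact x1x2_not_cq X h2

/-- Case II. -/
theorem caseII [Finite G] (X : Xd h x0 x1 x2)
    (hII : ∃ c ∈ cq S y x0, c ∉ cq S y x1 ∧ x0 * c ∉ cq S y x1) :
    (∀ q ∈ cq S y x0, q ∈ cq S y x1 → q ∈ h.V) ∧
      ∃ c ∈ cq S y x0, c ∉ WW h ∧ c * c ∈ h.V ∧ ∀ q ∈ qq S y, q ∈ WW h ∨ c⁻¹ * q ∈ WW h := by
  obtain ⟨c, hc, hc1, hc2⟩ := hII
  obtain ⟨K, hK⟩ : ∃ K, K = cq S y x0 ⊓ cq S y x1 := ⟨_, rfl⟩
  have memK : ∀ g, g ∈ K ↔ g ∈ cq S y x0 ∧ g ∈ cq S y x1 := by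
    intro g; rw [hK, Subgroup.mem_inf]
  have hKC : K ≤ cq S y x0 := fun k hk => ((memK k).1 hk).1
  have hCq : cq S y x0 ≤ qq S y := fun k hk => hk.1
  have hKS : K ≤ S := fun k hk => qq_le _ _ ((memK k).1 hk).1.1
  have hVK : h.V ≤ K := fun v hv => (memK v).2 ⟨V_le_cq h X.x0q hv, V_le_cq h X.x1q hv⟩
  have hx0C : x0 ∈ cq S y x0 := A_le_cq X X.x0A
  have hN : ∀ k ∈ K, x0 * k * x0⁻¹ ∈ K := by
    intro k hk
    rw [← (hKC hk).2]
    simpa using hk
  have hN2 : x0 * x0 ∈ K := by rw [X.x0_sq]; exact K.one_mem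
  obtain ⟨K1, hK1⟩ : ∃ K1, K1 = ex K x0 hN hN2 := ⟨_, rfl⟩
  have memK1 : ∀ g, g ∈ K1 ↔ g ∈ K ∨ x0 * g ∈ K := by
    intro g; rw [hK1]; exact mem_ex
  have hx0K : x0 ∉ K := by
    intro h1
    have h2 := Xd.phi_of_comm ((memK _).1 h1).2.2
    rw [X.phi_x0x1] at h2
    exact h.z2_ne h2
  have hcK1 : c ∉ K1 := by
    intro h1
    rcases (memK1 c).1 h1 with h2 | h2
    · exact hc1 ((memK _).1 h2).2
    · exact hc2 ((memK _).1 h2).2
  have hK1C : K1 ≤ cq S y x0 := by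
    intro g hg
    rcases (memK1 g).1 hg with h2 | h2
    · exact hKC h2
    · have h3 := (cq S y x0).mul_mem hx0C (hKC h2)
      rwa [← mul_assoc, X.x0_sq, one_mul] at h3
  obtain ⟨v0, hv0⟩ : ∃ v0, v0 = c * x1 * c⁻¹ * x1⁻¹ := ⟨_, rfl⟩
  have hv0V : v0 ∈ h.V := hv0 ▸ X.comm_x1 hc.1
  have hv0' : v0 = z ∨ v0 = z1 := by
    have hv0V' := hv0V
    rcases hv0V' with h1 | h1 | h1 | h1
    · exact absurd ⟨hc.1, Xd.comm_of_phi (hv0.symm.trans h1)⟩ hc1
    · exact Or.inl h1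
    · exact Or.inr h1
    · exfalso
      have h2 := Xd.phi_mul h h.z2_V X.x0q X.phi_x0x1 (hv0.symm.trans h1)
      rw [h.z2_sq] at h2
      exact hc2 ⟨(qq S y).mul_mem X.x0q hc.1, Xd.comm_of_phi h2⟩
  have hCK1 : ∀ q ∈ cq S y x0, q ∈ K1 ∨ c * q ∈ K1 := by
    intro q hq
    have hcq : c * q ∈ cq S y x0 := (cq S y x0).mul_mem hc hq
    have hxcq : x0 * (c * q) ∈ cq S y x0 := (cq S y x0).mul_mem hx0C hcq
    have hxq : x0 * q ∈ cq S y x0 := (cq S y x0).mul_mem hx0C hq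
    have h0 := X.comm_x1 hq.1
    obtain ⟨v, hv⟩ : ∃ v, v = q * x1 * q⁻¹ * x1⁻¹ := ⟨_, rfl⟩
    rw [← hv] at h0
    have key1 : v * v0 = 1 → q ∈ K1 ∨ c * q ∈ K1 := by
      intro h1
      right
      have h2 := Xd.phi_mul h h0 hc.1 hv0.symm hv.symm
      rw [h1] at h2
      exact (memK1 _).2 (Or.inl ((memK _).2 ⟨hcq, hcq.1, Xd.comm_of_phi h2⟩))
    have key2 : v * v0 = z2 → q ∈ K1 ∨ c * q ∈ K1 := by
      intro h1
      right
      have h2 := Xd.phi_mul h h0 hc.1 hv0.symm hv.symm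
      rw [h1] at h2
      have h3 := Xd.phi_mul h h.z2_V X.x0q X.phi_x0x1 h2
      rw [h.z2_sq] at h3
      exact (memK1 _).2 (Or.inr ((memK _).2 ⟨hxcq, hxcq.1, Xd.comm_of_phi h3⟩))
    have h0' := h0
    rcases h0' with h1 | h1 | h1 | h1
    · left
      exact (memK1 _).2 (Or.inl ((memK _).2 ⟨hq, hq.1, Xd.comm_of_phi (hv.symm.trans h1)⟩))
    · rcases hv0' with h2 | h2
      · exact key1 (by rw [h1, h2, h.z_sq])
      · exact key2 (by rw [h1, h2, h.zz1])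
    · rcases hv0' with h2 | h2
      · exact key2 (by rw [h1, h2, h.z1z])
      · exact key1 (by rw [h1, h2, h.z1_sq])
    · left
      have h3 := Xd.phi_mul h h.z2_V X.x0q X.phi_x0x1 (hv.symm.trans h1)
      rw [h.z2_sq] at h3
      exact (memK1 _).2 (Or.inr ((memK _).2 ⟨hxq, hxq.1, Xd.comm_of_phi h3⟩))
  -- orders
  have c1 := two_mul_card_le (A := K) (B := K1) (fun k hk => (memK1 k).2 (Or.inl hk)) (p := x0)
    ((memK1 _).2 (Or.inr hN2)) hx0K
  have c2 := two_mul_card_le hK1C hc hcK1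
  have hM : ∀ k ∈ cq S y x0, x1 * k * x1⁻¹ ∈ cq S y x0 := fun k hk => cq_S X X.x1S hk
  have hM2 : x1 * x1 ∈ cq S y x0 := by rw [X.x1_sq]; exact (cq S y x0).one_mem
  have c3 := two_mul_card_le (A := cq S y x0) (B := ex (cq S y x0) x1 hM hM2)
    (fun k hk => Or.inl hk) (p := x1) (Or.inr hM2) (x1_not_cq X)
  have hEq : ex (cq S y x0) x1 hM hM2 ≤ qq S y := by
    rintro g (hg | hg)
    · exact hg.1
    · have h3 := (qq S y).mul_mem X.x1q hg.1
      rwa [← mul_assoc, X.x1_sq, one_mul] at h3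
  have c4 := two_mul_card_le hEq X.x2q (by
    rintro (h1 | h1)
    · exact x2_not_cq X h1
    · exact x1x2_not_cq X h1)
  -- squares
  obtain ⟨F, hF⟩ : ∃ F, F = Subgroup.closure {g | ∃ q ∈ qq S y, g = q * q} := ⟨_, rfl⟩
  have hFsq : ∀ q ∈ qq S y, q * q ∈ F := by
    intro q hq; rw [hF]; exact Subgroup.subset_closure ⟨q, hq, rfl⟩
  have hFle : ∀ M : Subgroup G, (∀ q ∈ qq S y, q * q ∈ M) → F ≤ M := by
    intro M hM
    rw [hF, Subgroup.closure_le]
    rintro g ⟨q, hq, rfl⟩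
    exact hM q hq
  have hFK : F ≤ K := by
    apply hFle
    intro q hq
    have a0 := X.comm_x0 (qq_le _ _ hq)
    have a1 := X.comm_x1 hq
    have b0 := Xd.phi_mul h a0 hq rfl rfl
    have b1 := Xd.phi_mul h a1 hq rfl rfl
    rw [h.V_sq _ a0] at b0
    rw [h.V_sq _ a1] at b1
    have hqq := (qq S y).mul_mem hq hq
    exact (memK _).2 ⟨⟨hqq, Xd.comm_of_phi b0⟩, ⟨hqq, Xd.comm_of_phi b1⟩⟩
  have hrank := h.rank (qq S y) F (hFK.trans (hKC.trans hCq)) (qq_le S y) hFsq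
  have hFK' : F = K := Subgroup.eq_of_le_of_card_ge hFK (by omega)
  have hKy : ∀ k ∈ K, y * k * y⁻¹ ∈ K := by
    have h1 : ∀ k ∈ F, y * k * y⁻¹ ∈ K := by
      rw [hF]
      refine closure_conj ?_
      rintro g ⟨q, hq, rfl⟩
      rw [cmul]
      exact hFK (hFsq _ (h.hy.conj hq))
    rwa [hFK'] at h1
  have hKS' : ∀ s ∈ S, ∀ k ∈ K, s * k * s⁻¹ ∈ K := by
    intro s hs
    have h1 : ∀ k ∈ F, s * k * s⁻¹ ∈ K := by
      rw [hF]
      refine closure_conj ?_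
      rintro g ⟨q, hq, rfl⟩
      rw [cmul]
      exact hFK (hFsq _ (h.hy.norm hs hq))
    rwa [hFK'] at h1
  have hcqq : c ∈ qq S y := hc.1
  -- `Q₁ = ⟨W, c⟩`
  obtain ⟨H, hH⟩ : ∃ H, H = Subgroup.closure ((h.V : Set G) ∪ {x0, x1, x2, c}) := ⟨_, rfl⟩
  have hVH : h.V ≤ H := fun v hv => hH ▸ Subgroup.subset_closure (Or.inl hv)
  have hx0H : x0 ∈ H := hH ▸ Subgroup.subset_closure (Or.inr (by simp))
  have hx1H : x1 ∈ H := hH ▸ Subgroup.subset_closure (Or.inr (by simp))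
  have hx2H : x2 ∈ H := hH ▸ Subgroup.subset_closure (Or.inr (by simp))
  have hcH : c ∈ H := hH ▸ Subgroup.subset_closure (Or.inr (by simp))
  have hHq : H ≤ qq S y := by
    rw [hH, Subgroup.closure_le]
    rintro g (hg | (rfl | rfl | rfl | rfl))
    exacts [h.A_qq (h.V_le_A hg), X.x0q, X.x1q, X.x2q, hcqq]
  have hqH : qq S y ≤ H := by
    by_contra hcon
    obtain ⟨p, hp, hp'⟩ := Set.not_subset.1 hcon
    obtain ⟨M, hHM, hMq, hqM, hsq⟩ := exists_index_two (h.two.to_le (qq_le S y)) hHq hp hp'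
    apply hqM
    have hKM : K ≤ M := hFK' ▸ hFle M hsq
    have hK1M : K1 ≤ M := by
      intro g hg
      rcases (memK1 g).1 hg with h1 | h1
      · exact hKM h1
      · have h2 := M.mul_mem (hHM hx0H) (hKM h1)
        rwa [← mul_assoc, X.x0_sq, one_mul] at h2
    have hCM : cq S y x0 ≤ M := by
      intro g hg
      rcases hCK1 g hg with h1 | h1
      · exact hK1M h1
      · have h2 := M.mul_mem (M.inv_mem (hHM hcH)) (hK1M h1)
        rwa [inv_mul_cancel_left] at h2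
    intro q hq
    have b1 : ∀ g, x1 * g ∈ M → g ∈ M := by
      intro g hg
      have h2 := M.mul_mem (M.inv_mem (hHM hx1H)) hg
      rwa [inv_mul_cancel_left] at h2
    have b2 : ∀ g, x2 * g ∈ M → g ∈ M := by
      intro g hg
      have h2 := M.mul_mem (M.inv_mem (hHM hx2H)) hg
      rwa [inv_mul_cancel_left] at h2
    rcases qq_dec X hq with h1 | h1 | h1 | h1
    · exact hCM h1
    · exact b1 _ (hCM h1)
    · exact b2 _ (hCM h1)
    · exact b2 _ (b1 _ (hCM h1))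
  have hx1W : x1 ∈ WW h := A1_le_WW h X.x1A
  have hx2W : x2 ∈ WW h := A2_le_WW h X.x2A
  have hx0W : x0 ∈ WW h := A_le_WW h X.x0A
  have hVW : h.V ≤ WW h := h.V_le_A.trans (A_le_WW h)
  have hcz : ∀ i : ℤ, c ^ i ∈ qq S y := fun i => (qq S y).zpow_mem hcqq i
  have hcW : ∀ i : ℤ, ∀ ω ∈ WW h, c ^ i * ω * (c ^ i)⁻¹ ∈ WW h := fun i ω hω =>
    WW_S h _ (qq_le _ _ (hcz i)) ω hω
  have hdec : ∀ q ∈ qq S y, ∃ i : ℤ, ∃ ω ∈ WW h, q = c ^ i * ω := by
    intro q hq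
    have hq' := hqH hq
    rw [hH] at hq'
    clear hq
    induction hq' using Subgroup.closure_induction with
    | mem g hg =>
      rcases hg with hg | (rfl | rfl | rfl | rfl)
      · exact ⟨0, g, hVW hg, by simp⟩
      · exact ⟨0, _, hx0W, by simp⟩
      · exact ⟨0, _, hx1W, by simp⟩
      · exact ⟨0, _, hx2W, by simp⟩
      · exact ⟨1, 1, (WW h).one_mem, by simp⟩
    | one => exact ⟨0, 1, (WW h).one_mem, by simp⟩
    | mul a b _ _ ha hb =>
      obtain ⟨i, ω, hω, rfl⟩ := ha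
      obtain ⟨j, ω', hω', rfl⟩ := hb
      refine ⟨i + j, c ^ (-j) * ω * (c ^ (-j))⁻¹ * ω', (WW h).mul_mem (hcW _ _ hω) hω', ?_⟩
      rw [zpow_add]; group
    | inv a _ ha =>
      obtain ⟨i, ω, hω, rfl⟩ := ha
      refine ⟨-i, c ^ i * ω⁻¹ * (c ^ i)⁻¹, hcW _ _ ((WW h).inv_mem hω), ?_⟩
      group
  have hCdec : ∀ q ∈ cq S y x0, ∃ i : ℤ, ∃ a ∈ h.A, q = c ^ i * a := by
    intro q hq
    obtain ⟨i, ω, hω, rfl⟩ := hdec q hq.1
    refine ⟨i, ω, WW_cq X hω ?_, rfl⟩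
    have h1 := (cq S y x0).mul_mem ((cq S y x0).inv_mem ((cq S y x0).zpow_mem hc i)) hq
    rwa [inv_mul_cancel_left] at h1
  have hcA : ∀ i : ℤ, ∀ a ∈ h.A, Commute (c ^ i) a := fun i a ha =>
    Commute.zpow_left (cq_comm_A X hc ha) i
  have hccK : c * c ∈ K := hFK (hFsq c hcqq)
  have hc2K : ∀ j : ℤ, c ^ (2 * j) ∈ K := by
    intro j
    have h1 := K.zpow_mem hccK j
    rwa [← pow_two, ← zpow_natCast, ← zpow_mul] at h1
  have hKdec : ∀ k ∈ K, ∃ j : ℤ, ∃ v ∈ h.V, k = c ^ (2 * j) * v := by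
    intro k hk
    obtain ⟨i, a, ha, rfl⟩ := hCdec k (hKC hk)
    rcases Int.even_or_odd i with ⟨j, hj⟩ | ⟨j, hj⟩
    · have hij : i = 2 * j := by omega
      subst hij
      refine ⟨j, a, ?_, rfl⟩
      have h1 := K.mul_mem (K.inv_mem (hc2K j)) hk
      rw [inv_mul_cancel_left] at h1
      rcases X.AV a ha with h2 | h2
      · exact h2
      · exfalso
        have h3 := K.mul_mem (hVK h2) (K.inv_mem h1)
        rw [mul_inv_cancel_right] at h3
        exact hx0K h3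
    · exfalso
      subst hj
      have h1 := K.mul_mem (K.inv_mem (hc2K j)) hk
      have e : (c ^ (2 * j))⁻¹ * (c ^ (2 * j + 1) * a) = c * a := by
        rw [zpow_add, zpow_one]; group
      rw [e] at h1
      apply hcK1
      rw [memK1]
      rcases X.AV a ha with h2 | h2
      · left
        have h3 := K.mul_mem h1 (K.inv_mem (hVK h2))
        rwa [mul_inv_cancel_right] at h3
      · right
        have h3 := K.mul_mem h1 (K.inv_mem (hVK h2))
        have e : c * a * (x0 * a)⁻¹ = c * x0 := by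
          have := inv_eq_self X.x0_sq
          calc c * a * (x0 * a)⁻¹ = c * x0⁻¹ := by group
            _ = c * x0 := by rw [this]
        rw [e, hc.2] at h3
        exact h3
  have hsqA : ∀ a ∈ h.A, ∀ n : ℤ, a ^ (2 * n) = 1 := by
    intro a ha n
    rw [zpow_mul, zpow_ofNat, pow_two, h.A_sq a ha, one_zpow]
  have hKw : ∀ k ∈ K, w * (k * k) * w⁻¹ ∈ Subgroup.closure {g | ∃ k ∈ K, g = k * k} := by
    intro k hk
    obtain ⟨j, v, hv, rfl⟩ := hKdec k hk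
    obtain ⟨i, a, ha, hi⟩ := hCdec _ (cq_w X hc)
    have hvA := h.V_le_A hv
    have e1 : c ^ (2 * j) * v * (c ^ (2 * j) * v) = c ^ (2 * (2 * j)) := by
      have h1 := (hcA (2 * j) v hvA).eq
      calc c ^ (2 * j) * v * (c ^ (2 * j) * v) = c ^ (2 * j) * (v * c ^ (2 * j)) * v := by group
        _ = c ^ (2 * j) * c ^ (2 * j) * (v * v) := by rw [← h1]; group
        _ = c ^ (2 * (2 * j)) := by
          rw [h.A_sq v hvA, mul_one, ← zpow_add]
          congr 1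
          ring
    have e2 : w * c ^ (2 * (2 * j)) * w⁻¹ = c ^ (2 * (i * j)) * c ^ (2 * (i * j)) := by
      rw [← conj_zpow, hi, (hcA i a ha).mul_zpow, hsqA a ha, mul_one, ← zpow_mul, ← zpow_add]
      congr 1
      ring
    rw [e1, e2]
    exact Subgroup.subset_closure ⟨_, hc2K _, rfl⟩
  have hKsq := sq_trivial h hKS hKS' hKy hKw
  have hcc2 := hKsq _ hccK
  have hccS : ∀ s ∈ S, s * (c * c) = (c * c) * s := by
    intro s hs
    obtain ⟨i, a, ha, hi⟩ := hCdec _ (cq_S X hs hc)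
    have e1 : s * (c * c) * s⁻¹ = (c * c) ^ i := by
      have h1 := (hcA i a ha).eq
      rw [cmul, hi]
      calc c ^ i * a * (c ^ i * a) = c ^ i * (a * c ^ i) * a := by group
        _ = c ^ i * c ^ i * (a * a) := by rw [← h1]; group
        _ = (c * c) ^ i := by
          rw [h.A_sq a ha, mul_one, (Commute.refl c).mul_zpow]
    have e2 : s * (c * c) * s⁻¹ = c * c := by
      rcases Int.even_or_odd i with ⟨j, hj⟩ | ⟨j, hj⟩
      · have h2 : (c * c) ^ i = 1 := by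
          rw [hj, zpow_add, ← (Commute.refl (c * c)).mul_zpow, hcc2, one_zpow]
        rw [h2] at e1
        have h3 : c * c = 1 := by
          calc c * c = s⁻¹ * (s * (c * c) * s⁻¹) * s := by group
            _ = 1 := by rw [e1]; group
        rw [h3]; group
      · have h2 : (c * c) ^ i = c * c := by
          rw [hj, zpow_add, zpow_one, two_mul, zpow_add, ← (Commute.refl (c * c)).mul_zpow, hcc2,
            one_zpow, one_mul]
        rw [e1, h2]
    calc s * (c * c) = s * (c * c) * s⁻¹ * s := by group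
      _ = _ := by rw [e2]
  have hccV : c * c ∈ h.V := by
    rcases h.z_uniq _ (hKS hccK) hcc2 hccS with h1 | h1 <;> rw [h1]
    exacts [h.V.one_mem, h.z_V]
  have hc2V : ∀ j : ℤ, c ^ (2 * j) ∈ h.V := by
    intro j
    have h1 := h.V.zpow_mem hccV j
    rwa [← pow_two, ← zpow_natCast, ← zpow_mul] at h1
  refine ⟨?_, c, hc, ?_, hccV, ?_⟩
  · intro q hq hq1
    obtain ⟨j, v, hv, rfl⟩ := hKdec q ((memK q).2 ⟨hq, hq1⟩)
    exact h.V.mul_mem (hc2V j) hv
  · intro h1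
    apply hcK1
    rw [memK1]
    rcases X.AV c (WW_cq X h1 hc) with h2 | h2
    · exact Or.inl (hVK h2)
    · exact Or.inr (hVK h2)
  · intro q hq
    obtain ⟨i, ω, hω, rfl⟩ := hdec q hq
    rcases Int.even_or_odd i with ⟨j, hj⟩ | ⟨j, hj⟩
    · left
      have hij : i = 2 * j := by omega
      subst hij
      exact (WW h).mul_mem (hVW (hc2V j)) hω
    · right
      subst hj
      have e : c⁻¹ * (c ^ (2 * j + 1) * ω) = c ^ (2 * j) * ω := by
        rw [add_comm, zpow_add, zpow_one]; group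
      rw [e]
      exact (WW h).mul_mem (hVW (hc2V j)) hω

end Cfsg.Agent.SectRankFour.C2.BThreeF
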