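import Mathlib
import Cfsg.Prelude.Def_CaseTheorems
import Cfsg.Agent.MinSimple.Basic

/-!
# S0517, two maximal 2-locals, sectional 2-rank at most 4: the interface

Blueprint: `blueprints/S0517-C2-rank4-helper489.md`.

Everything is a subgroup of `G`; `o2`, `zc`, `zl` are those of `Cfsg.Agent.ZN.Defs`, `oddGen P = O²(P)`
is that of `Cfsg.Agent.MinSimple.VModule`.

* `Hyp G`: the standing hypotheses;
* `Par S P R p`: structure of a minimal parabolic `P` over the Sylow 2-subgroup `S`, `Q = o2 P`,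
  `R` a Sylow `p`-subgroup of `P`, elementary abelian of order 3, 5 or 9, `P = Q R S`,
  `S = Q N_S(R)`, `N_S(R)` is irreducible on `R` and `C_S(R) ≤ Q`
  (proved in `C2/Par.lean` for every minimal parabolic with `O₂(P) ≠ 1`);
* `Pair S P1 P2`: the pair of minimal parabolics of Lemma T: `[Z, P2] = 1`, `Z = zc S`, and `P1`, `P2`
  do not normalise a common nontrivial 2-subgroup. `V = zl S P1 = ⟨Z^{P1}⟩`, `vh S P1 P2 = ⟨V^{P2}⟩`;
* `Conf64`, `Conf128`: the configurations of sections 2 and 3.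
-/

set_option autoImplicit false

namespace Cfsg.Agent.SectRankFour.C2.Defs

open Subgroup Cfsg Cfsg.Agent.ZN Cfsg.Agent.MinSimple.MinParabolic Cfsg.Agent.MinSimple.VModule

variable {G : Type*} [Group G]

/-- The standing hypotheses on the simple group `G`. -/
structure Hyp (G : Type*) [Group G] : Prop where
  simple : IsSimpleGroup G
  locSolv : ∀ N : Subgroup G, IsTwoLocal N → Group.IsSolvable N
  char2 : IsCharacteristicTwoType G
  rank : SectionalPRankLE 2 4 G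
  big : ¬ PRankLE 2 2 G

/-- Structure of the minimal parabolic `P` over `S`; `Q = o2 P`. -/
structure Par (S P R : Subgroup G) (p : ℕ) : Prop where
  min : IsMinPar S P
  le : S ≤ P
  two : IsPGroup 2 S
  syl : ¬ 2 ∣ S.relIndex P
  o2_ne : o2 P ≠ ⊥
  solv : Group.IsSolvable P
  char2 : P ⊓ centralizer (o2 P : Set G) ≤ o2 P
  /-- `S` is a maximal subgroup of `P` -/
  max : ∀ H : Subgroup G, S ≤ H → H ≤ P → H = S ∨ H = P
  p_eq : p = 3 ∨ p = 5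
  card_R : Nat.card R = p ∨ (p = 3 ∧ Nat.card R = 9)
  R_le : R ≤ P
  comm_R : ∀ x ∈ R, ∀ y ∈ R, x * y = y * x
  pow_R : ∀ x ∈ R, x ^ p = 1
  relIndex : S.relIndex P = Nat.card R
  /-- `Q R` is normal in `P` -/
  norm_QR : P ≤ normalizer ((o2 P ⊔ R : Subgroup G) : Set G)
  sup_eq : o2 P ⊔ R ⊔ S = P
  inf_eq : S ⊓ (o2 P ⊔ R) = o2 P
  /-- `S = Q N_S(R)` -/
  S_le : S ≤ o2 P ⊔ (S ⊓ normalizer (R : Set G))
  /-- `C_S(R) ≤ Q` -/
  faithful : S ⊓ centralizer (R : Set G) ≤ o2 P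
  /-- `N_S(R)` is irreducible on `R` -/
  irr : ∀ R0 ≤ R, S ⊓ normalizer (R : Set G) ≤ normalizer (R0 : Set G) → R0 = ⊥ ∨ R0 = R
  oddGen_le : oddGen P ≤ o2 P ⊔ R
  R_le_oddGen : R ≤ oddGen P
  oddGen_sup : oddGen P ⊔ S = P

/-- The pair of minimal parabolics. -/
structure Pair (S P1 P2 : Subgroup G) : Prop where
  hyp : Hyp G
  syl : ∃ T : Sylow 2 G, (T : Subgroup G) = S
  par1 : ∃ (R : Subgroup G) (p : ℕ), Par S P1 R p
  par2 : ∃ (R : Subgroup G) (p : ℕ), Par S P2 R p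
  cent : P2 ≤ centralizer (zc S : Set G)
  nonlocal : ∀ U : Subgroup G, IsPGroup 2 U → P1 ≤ normalizer (U : Set G) →
    P2 ≤ normalizer (U : Set G) → U = ⊥

/-- `⟨A^L⟩` -/
def cl (A L : Subgroup G) : Subgroup G := closure {g | ∃ x ∈ L, ∃ a ∈ A, g = x * a * x⁻¹}

/-- `V^ = ⟨V^{P2}⟩`, `V = zl S P1`. -/
def vh (S P1 P2 : Subgroup G) : Subgroup G := cl (zl S P1) P2

/-- `|S| = 64`: `W = ⟨a, b⟩ = 4 × 4`, `u` inverts `W`, `s` swaps `a, b`, `x` of order 3: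
`S = W⟨u, s⟩`, `P1 = W (⟨u⟩ × ⟨x, s⟩)` (as in `M₁₂` and `G₂(2)`); `Z = ⟨a²b²⟩`, `V = ⟨a², b²⟩`. -/
structure Conf64 (S P1 : Subgroup G) (a b u s x : G) : Prop where
  card : Nat.card S = 64
  eqS : S = closure {a, b, u, s}
  eqP : P1 = closure {a, b, u, s, x}
  ab : a * b = b * a
  a4 : a ^ 4 = 1
  b4 : b ^ 4 = 1
  u2 : u ^ 2 = 1
  s2 : s ^ 2 = 1
  x3 : x ^ 3 = 1
  ua : u * a * u⁻¹ = a⁻¹
  ub : u * b * u⁻¹ = b⁻¹
  sa : s * a * s⁻¹ = b
  sb : s * b * s⁻¹ = a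
  su : s * u = u * s
  xa : x * a * x⁻¹ = b
  xb : x * b * x⁻¹ = a⁻¹ * b⁻¹
  xu : x * u = u * x
  sx : s * x * s⁻¹ = x⁻¹

/-- `|S| = 128`: additionally an involution `f` commuting with `u`, `x`, which acts on
`W = ⟨a, b⟩ = ℤ₄[ω]` (`x = ω`) as `1 + 2ω`: `S = W⟨u, f, s⟩` (as in `Aut(M₁₂)`). -/
structure Conf128 (S P1 : Subgroup G) (a b u f s x : G) : Prop where
  card : Nat.card S = 128
  eqS : S = closure {a, b, u, f, s}
  eqP : P1 = closure {a, b, u, f, s, x}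
  ab : a * b = b * a
  a4 : a ^ 4 = 1
  b4 : b ^ 4 = 1
  u2 : u ^ 2 = 1
  s2 : s ^ 2 = 1
  f2 : f ^ 2 = 1
  x3 : x ^ 3 = 1
  ua : u * a * u⁻¹ = a⁻¹
  ub : u * b * u⁻¹ = b⁻¹
  fa : f * a * f⁻¹ = a * b ^ 2
  fb : f * b * f⁻¹ = a ^ 2 * b⁻¹
  sa : s * a * s⁻¹ = b
  sb : s * b * s⁻¹ = a
  su : s * u = u * s
  fu : f * u = u * f
  sf : s * f * s⁻¹ = f * u
  xa : x * a * x⁻¹ = b
  xb : x * b * x⁻¹ = a⁻¹ * b⁻¹
  xu : x * u = u * x
  xf : x * f = f * x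
  sx : s * x * s⁻¹ = x⁻¹

end Cfsg.Agent.SectRankFour.C2.Defs
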