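import Mathlib
import Cfsg.Agent.SectRankFour.C2.BThreeA
import Cfsg.Agent.SectRankFour.C2.Defs

/-!
# From the relations of `W` to the configurations `Conf64` and `Conf128`

`Nf S z z1 z2 x0 x1 x2 y`: `S` is a 2-group, `P₁ = S ∪ yS ∪ y⁻¹S` a group, `Q₁ = qq S y` its largest
subgroup in `S`, `V = {1, z, z1, z2}` normal in `P₁`, `x0, x1, x2` three involutions of `Q₁` permuted by
`y` with `[x_i, x_{i+1}] = z_{i+2}`, and `[S, x0] ≤ V`.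

* `Nf.conf64`: if `Q₁ = W := ⟨V, x0, x1, x2⟩` (and no element `t` of `S ∖ Q₁` inverting `y` has
  `t² = x0 x1 x2 z1`) then `Conf64`;
* `Nf.conf128`: if `C_{Q₁}(W) = V` and `|Q₁ : W| = 2` then `Conf128`.
-/

set_option autoImplicit false

namespace Cfsg.Agent.SectRankFour.C2.BThreeG

open Cfsg.Agent.SectRankFour.C2.BThreeA

variable {G : Type*} [Group G]

/-- See the module docstring. -/
structure Nf (S : Subgroup G) (z z1 z2 x0 x1 x2 y : G) : Prop where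
  two : IsPGroup 2 S
  hy : Half S y
  z_sq : z * z = 1
  z_ne : z ≠ 1
  ne : z1 ≠ z
  zz1 : z * z1 = z2
  yz : y * z * y⁻¹ = z1
  yz1 : y * z1 * y⁻¹ = z2
  yz2 : y * z2 * y⁻¹ = z
  z_qq : z ∈ qq S y
  z_comm : ∀ s ∈ S, s * z = z * s
  x0_qq : x0 ∈ qq S y
  x0_sq : x0 * x0 = 1
  yx0 : y * x0 * y⁻¹ = x1
  yx1 : y * x1 * y⁻¹ = x2
  yx2 : y * x2 * y⁻¹ = x0
  x1x0 : x1 * x0 = z2 * (x0 * x1)
  comm_x0 : ∀ s ∈ S, s * x0 * s⁻¹ * x0⁻¹ = 1 ∨ s * x0 * s⁻¹ * x0⁻¹ = z ∨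
    s * x0 * s⁻¹ * x0⁻¹ = z1 ∨ s * x0 * s⁻¹ * x0⁻¹ = z2

theorem conj_inv {y a b : G} (h : y * a * y⁻¹ = b) : y⁻¹ * b * y = a := by
  rw [← h]
  group

theorem cmul (y a b : G) : y * (a * b) * y⁻¹ = (y * a * y⁻¹) * (y * b * y⁻¹) := by group

theorem cmul' (y a b : G) : y⁻¹ * (a * b) * y = (y⁻¹ * a * y) * (y⁻¹ * b * y) := by group

theorem inv_eq_self {a : G} (h : a * a = 1) : a⁻¹ = a := by
  rw [inv_eq_iff_mul_eq_one]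
  exact h

theorem conj_sq {y a b : G} (h : y * a * y⁻¹ = b) (ha : a * a = 1) : b * b = 1 := by
  rw [← h, ← cmul, ha]
  group

theorem conj_comm {y a b a' b' : G} (h : y * a * y⁻¹ = a') (h' : y * b * y⁻¹ = b')
    (hab : a * b = b * a) : a' * b' = b' * a' := by
  rw [← h, ← h', ← cmul, ← cmul, hab]

theorem comm_of_phi {x q : G} (h1 : q * x * q⁻¹ * x⁻¹ = 1) : q * x = x * q := by
  calc q * x = q * x * q⁻¹ * x⁻¹ * (x * q) := by group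
    _ = x * q := by rw [h1, one_mul]

theorem phi_of_comm {x q : G} (h1 : q * x = x * q) : q * x * q⁻¹ * x⁻¹ = 1 := by
  rw [h1]; group

namespace Nf

variable {S : Subgroup G} {z z1 z2 x0 x1 x2 y : G}

theorem z1_qq (h : Nf S z z1 z2 x0 x1 x2 y) : z1 ∈ qq S y := h.yz ▸ h.hy.conj h.z_qq
theorem z2_qq (h : Nf S z z1 z2 x0 x1 x2 y) : z2 ∈ qq S y := h.yz1 ▸ h.hy.conj h.z1_qq
theorem x1_qq (h : Nf S z z1 z2 x0 x1 x2 y) : x1 ∈ qq S y := h.yx0 ▸ h.hy.conj h.x0_qq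
theorem x2_qq (h : Nf S z z1 z2 x0 x1 x2 y) : x2 ∈ qq S y := h.yx1 ▸ h.hy.conj h.x1_qq

theorem z_mem (h : Nf S z z1 z2 x0 x1 x2 y) : z ∈ S := qq_le _ _ h.z_qq
theorem z1_mem (h : Nf S z z1 z2 x0 x1 x2 y) : z1 ∈ S := qq_le _ _ h.z1_qq
theorem z2_mem (h : Nf S z z1 z2 x0 x1 x2 y) : z2 ∈ S := qq_le _ _ h.z2_qq
theorem x0_mem (h : Nf S z z1 z2 x0 x1 x2 y) : x0 ∈ S := qq_le _ _ h.x0_qq
theorem x1_mem (h : Nf S z z1 z2 x0 x1 x2 y) : x1 ∈ S := qq_le _ _ h.x1_qq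
theorem x2_mem (h : Nf S z z1 z2 x0 x1 x2 y) : x2 ∈ S := qq_le _ _ h.x2_qq

theorem z1_sq (h : Nf S z z1 z2 x0 x1 x2 y) : z1 * z1 = 1 := conj_sq h.yz h.z_sq
theorem z2_sq (h : Nf S z z1 z2 x0 x1 x2 y) : z2 * z2 = 1 := conj_sq h.yz1 h.z1_sq
theorem x1_sq (h : Nf S z z1 z2 x0 x1 x2 y) : x1 * x1 = 1 := conj_sq h.yx0 h.x0_sq
theorem x2_sq (h : Nf S z z1 z2 x0 x1 x2 y) : x2 * x2 = 1 := conj_sq h.yx1 h.x1_sq

theorem yinv_z (h : Nf S z z1 z2 x0 x1 x2 y) : y⁻¹ * z * y = z2 := conj_inv h.yz2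

theorem z1z (h : Nf S z z1 z2 x0 x1 x2 y) : z1 * z = z2 := by
  rw [h.z_comm z1 h.z1_mem, h.zz1]

theorem z1z2 (h : Nf S z z1 z2 x0 x1 x2 y) : z1 * z2 = z := by
  have h1 := cmul y z z1
  rw [h.zz1, h.yz2, h.yz, h.yz1] at h1
  exact h1.symm

theorem z2z (h : Nf S z z1 z2 x0 x1 x2 y) : z2 * z = z1 := by
  have h1 := cmul y z1 z2
  rw [h.z1z2, h.yz, h.yz1, h.yz2] at h1
  exact h1.symm

theorem zz2 (h : Nf S z z1 z2 x0 x1 x2 y) : z * z2 = z1 := by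
  rw [← h.z_comm z2 h.z2_mem, h.z2z]

theorem z2z1 (h : Nf S z z1 z2 x0 x1 x2 y) : z2 * z1 = z := by
  have h1 := cmul y z1 z
  rw [h.z1z, h.yz2, h.yz1, h.yz] at h1
  exact h1.symm

theorem qq_comm1 (h : Nf S z z1 z2 x0 x1 x2 y) {q : G} (hq : q ∈ qq S y) : q * z1 = z1 * q := by
  have h1 := h.z_comm _ (mem_qq.1 hq).2.1
  rw [← h.yz]
  calc q * (y * z * y⁻¹) = y * (y⁻¹ * q * y * z) * y⁻¹ := by group
    _ = y * (z * (y⁻¹ * q * y)) * y⁻¹ := by rw [h1]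
    _ = y * z * y⁻¹ * q := by group

theorem qq_comm2 (h : Nf S z z1 z2 x0 x1 x2 y) {q : G} (hq : q ∈ qq S y) : q * z2 = z2 * q := by
  have h1 := h.z_comm _ (mem_qq.1 hq).2.2
  rw [← h.yinv_z]
  calc q * (y⁻¹ * z * y) = y⁻¹ * (y * q * y⁻¹ * z) * y := by group
    _ = y⁻¹ * (z * (y * q * y⁻¹)) * y := by rw [h1]
    _ = y⁻¹ * z * y * q := by group

theorem swap1 (h : Nf S z z1 z2 x0 x1 x2 y) {s : G} (hs : s ∈ S) (hq : s ∉ qq S y) :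
    s * z1 = z2 * s := by
  have h1 := h.z_comm _ (h.hy.not_qq hs hq).1
  rw [← h.yz, ← h.yinv_z]
  calc s * (y * z * y⁻¹) = y⁻¹ * (y * s * y * z) * y⁻¹ := by group
    _ = y⁻¹ * (z * (y * s * y)) * y⁻¹ := by rw [h1]
    _ = y⁻¹ * z * y * s := by group

theorem swap2 (h : Nf S z z1 z2 x0 x1 x2 y) {s : G} (hs : s ∈ S) (hq : s ∉ qq S y) :
    s * z2 = z1 * s := by
  have h1 := h.z_comm _ (h.hy.not_qq hs hq).2
  rw [← h.yz, ← h.yinv_z]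
  calc s * (y⁻¹ * z * y) = y * (y⁻¹ * s * y⁻¹ * z) * y := by group
    _ = y * (z * (y⁻¹ * s * y⁻¹)) * y := by rw [h1]
    _ = y * z * y⁻¹ * s := by group

theorem z1_ne (h : Nf S z z1 z2 x0 x1 x2 y) : z1 ≠ 1 := by
  intro h1
  apply h.z_ne
  have h2 := conj_inv h.yz
  rw [h1] at h2
  rw [← h2]
  group

theorem z2_ne (h : Nf S z z1 z2 x0 x1 x2 y) : z2 ≠ 1 := by
  intro h1
  apply h.z1_ne
  have h2 := conj_inv h.yz1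
  rw [h1] at h2
  rw [← h2]
  group

theorem z2_ne_z (h : Nf S z z1 z2 x0 x1 x2 y) : z2 ≠ z := by
  intro h1
  apply h.z1_ne
  have h2 := h.zz1
  rw [h1] at h2
  simpa using h2

theorem z1_ne_z2 (h : Nf S z z1 z2 x0 x1 x2 y) : z1 ≠ z2 := by
  intro h1
  have h2 := h.yz1
  rw [← h1] at h2
  exact h.ne ((conj_inv h2).symm.trans (conj_inv h.yz))

theorem x2x1 (h : Nf S z z1 z2 x0 x1 x2 y) : x2 * x1 = z * (x1 * x2) := by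
  have h1 := cmul y x1 x0
  rw [h.x1x0, cmul, cmul, h.yz2, h.yx0, h.yx1] at h1
  exact h1.symm

theorem x0x2 (h : Nf S z z1 z2 x0 x1 x2 y) : x0 * x2 = z1 * (x2 * x0) := by
  have h1 := cmul y x2 x1
  rw [h.x2x1, cmul, cmul, h.yz, h.yx1, h.yx2] at h1
  exact h1.symm

theorem x2x0 (h : Nf S z z1 z2 x0 x1 x2 y) : x2 * x0 = z1 * (x0 * x2) := by
  rw [h.x0x2, ← mul_assoc, h.z1_sq, one_mul]

/-- Rewriting rules in `W`. -/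
theorem rules (h : Nf S z z1 z2 x0 x1 x2 y) :
    (z * z = 1) ∧
    (∀ g : G, z * (z * g) = g) ∧
    (z * z1 = z2) ∧
    (∀ g : G, z * (z1 * g) = z2 * g) ∧
    (z * z2 = z1) ∧
    (∀ g : G, z * (z2 * g) = z1 * g) ∧
    (z1 * z = z2) ∧
    (∀ g : G, z1 * (z * g) = z2 * g) ∧
    (z1 * z1 = 1) ∧
    (∀ g : G, z1 * (z1 * g) = g) ∧
    (z1 * z2 = z) ∧
    (∀ g : G, z1 * (z2 * g) = z * g) ∧
    (z2 * z = z1) ∧
    (∀ g : G, z2 * (z * g) = z1 * g) ∧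
    (z2 * z1 = z) ∧
    (∀ g : G, z2 * (z1 * g) = z * g) ∧
    (z2 * z2 = 1) ∧
    (∀ g : G, z2 * (z2 * g) = g) ∧
    (x0 * z = z * x0) ∧
    (∀ g : G, x0 * (z * g) = z * (x0 * g)) ∧
    (x0 * z1 = z1 * x0) ∧
    (∀ g : G, x0 * (z1 * g) = z1 * (x0 * g)) ∧
    (x0 * z2 = z2 * x0) ∧
    (∀ g : G, x0 * (z2 * g) = z2 * (x0 * g)) ∧
    (x1 * z = z * x1) ∧
    (∀ g : G, x1 * (z * g) = z * (x1 * g)) ∧
    (x1 * z1 = z1 * x1) ∧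
    (∀ g : G, x1 * (z1 * g) = z1 * (x1 * g)) ∧
    (x1 * z2 = z2 * x1) ∧
    (∀ g : G, x1 * (z2 * g) = z2 * (x1 * g)) ∧
    (x2 * z = z * x2) ∧
    (∀ g : G, x2 * (z * g) = z * (x2 * g)) ∧
    (x2 * z1 = z1 * x2) ∧
    (∀ g : G, x2 * (z1 * g) = z1 * (x2 * g)) ∧
    (x2 * z2 = z2 * x2) ∧
    (∀ g : G, x2 * (z2 * g) = z2 * (x2 * g)) ∧
    (x0 * x0 = 1) ∧
    (∀ g : G, x0 * (x0 * g) = g) ∧
    (x1 * x1 = 1) ∧
    (∀ g : G, x1 * (x1 * g) = g) ∧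
    (x2 * x2 = 1) ∧
    (∀ g : G, x2 * (x2 * g) = g) ∧
    (x1 * x0 = z2 * (x0 * x1)) ∧
    (∀ g : G, x1 * (x0 * g) = z2 * (x0 * (x1 * g))) ∧
    (x2 * x1 = z * (x1 * x2)) ∧
    (∀ g : G, x2 * (x1 * g) = z * (x1 * (x2 * g))) ∧
    (x2 * x0 = z1 * (x0 * x2)) ∧
    (∀ g : G, x2 * (x0 * g) = z1 * (x0 * (x2 * g))) ∧
    (z⁻¹ = z) ∧
    (z1⁻¹ = z1) ∧
    (z2⁻¹ = z2) ∧
    (x0⁻¹ = x0) ∧
    (x1⁻¹ = x1) ∧
    (x2⁻¹ = x2) := by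
  have e1 : ∀ {a b c : G}, a * b = c → ∀ g : G, a * (b * g) = c * g := by
    intro a b c e g
    rw [← mul_assoc, e]
  have e2 : ∀ {a b : G}, a * b = 1 → ∀ g : G, a * (b * g) = g := by
    intro a b e g
    rw [← mul_assoc, e, one_mul]
  have e3 : ∀ {a b : G}, a * b = b * a → ∀ g : G, a * (b * g) = b * (a * g) := by
    intro a b e g
    rw [← mul_assoc, e, mul_assoc]
  have e4 : ∀ {a b c : G}, a * b = c * (b * a) → ∀ g : G, a * (b * g) = c * (b * (a * g)) := by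
    intro a b c e g
    rw [← mul_assoc, e, mul_assoc, mul_assoc]
  refine ⟨h.z_sq,
    e2 h.z_sq,
    h.zz1,
    e1 h.zz1,
    h.zz2,
    e1 h.zz2,
    h.z1z,
    e1 h.z1z,
    h.z1_sq,
    e2 h.z1_sq,
    h.z1z2,
    e1 h.z1z2,
    h.z2z,
    e1 h.z2z,
    h.z2z1,
    e1 h.z2z1,
    h.z2_sq,
    e2 h.z2_sq,
    h.z_comm _ h.x0_mem,
    e3 (h.z_comm _ h.x0_mem),
    h.qq_comm1 h.x0_qq,
    e3 (h.qq_comm1 h.x0_qq),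
    h.qq_comm2 h.x0_qq,
    e3 (h.qq_comm2 h.x0_qq),
    h.z_comm _ h.x1_mem,
    e3 (h.z_comm _ h.x1_mem),
    h.qq_comm1 h.x1_qq,
    e3 (h.qq_comm1 h.x1_qq),
    h.qq_comm2 h.x1_qq,
    e3 (h.qq_comm2 h.x1_qq),
    h.z_comm _ h.x2_mem,
    e3 (h.z_comm _ h.x2_mem),
    h.qq_comm1 h.x2_qq,
    e3 (h.qq_comm1 h.x2_qq),
    h.qq_comm2 h.x2_qq,
    e3 (h.qq_comm2 h.x2_qq),
    h.x0_sq,
    e2 h.x0_sq,
    h.x1_sq,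
    e2 h.x1_sq,
    h.x2_sq,
    e2 h.x2_sq,
    h.x1x0,
    e4 h.x1x0,
    h.x2x1,
    e4 h.x2x1,
    h.x2x0,
    e4 h.x2x0,
    inv_eq_self h.z_sq,
    inv_eq_self h.z1_sq,
    inv_eq_self h.z2_sq,
    inv_eq_self h.x0_sq,
    inv_eq_self h.x1_sq,
    inv_eq_self h.x2_sq⟩

end Nf

end Cfsg.Agent.SectRankFour.C2.BThreeG
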