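import Mathlib
import Cfsg.Agent.SectRankFour.C2.BThreeG

/-!
# The groups `V` and `W` in the situation `Nf`; fixed points of `y`; the element `t`
-/

set_option autoImplicit false

namespace Cfsg.Agent.SectRankFour.C2.BThreeH

open Cfsg.Agent.SectRankFour.C2.BThreeA Cfsg.Agent.SectRankFour.C2.BThreeG

variable {G : Type*} [Group G]

/-- An element of order 3 acting on a coset of a 2-group has a fixed point. -/
theorem exists_fixed_coset [Finite G] {A B : Subgroup G} (hA : IsPGroup 2 A) (hAB : A ≤ B) {p : G}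
    (hp : p ∈ B) (hp' : p ∉ A) (hB : ∀ b ∈ B, b ∈ A ∨ p⁻¹ * b ∈ A) (τ : G → G)
    (hτ : ∀ b ∈ B, b ∉ A → τ b ∈ B ∧ τ b ∉ A) (h3 : ∀ b ∈ B, b ∉ A → τ (τ (τ b)) = b) :
    ∃ b ∈ B, b ∉ A ∧ τ b = b := by
  have hcard : Nat.card {b : G | b ∈ B ∧ b ∉ A} = Nat.card A := by
    symm
    refine Nat.card_eq_of_bijective
      (fun a : A => (⟨p * a, B.mul_mem hp (hAB a.2), fun h1 => hp' ?_⟩ : {b : G | b ∈ B ∧ b ∉ A}))
      ⟨?_, ?_⟩
    · have h2 := A.mul_mem h1 (A.inv_mem a.2)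
      rwa [mul_inv_cancel_right] at h2
    · intro a a' haa
      have h1 : p * (a : G) = p * a' := congrArg Subtype.val haa
      exact Subtype.ext (mul_left_cancel h1)
    · rintro ⟨b, hb, hb'⟩
      refine ⟨⟨p⁻¹ * b, (hB b hb).resolve_left hb'⟩, Subtype.ext ?_⟩
      show p * (p⁻¹ * b) = b
      rw [mul_inv_cancel_left]
  have hn3 : ¬ 3 ∣ Nat.card {b : G | b ∈ B ∧ b ∉ A} := by
    rw [hcard]
    have := Fact.mk Nat.prime_two
    obtain ⟨n, hn⟩ := IsPGroup.iff_card.1 hA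
    rw [hn]
    intro h1
    have h2 := Nat.Prime.dvd_of_dvd_pow Nat.prime_three h1
    norm_num at h2
  obtain ⟨b, hb, hb'⟩ := exists_fixed_set {b : G | b ∈ B ∧ b ∉ A} τ (fun b hb => hτ b hb.1 hb.2)
    (fun b hb => h3 b hb.1 hb.2) hn3
  exact ⟨b, hb.1, hb.2, hb'⟩

theorem card_ex [Finite G] {A : Subgroup G} {p : G} {h1 : ∀ a ∈ A, p * a * p⁻¹ ∈ A}
    {h2 : p * p ∈ A} (hp : p ∉ A) : Nat.card (ex A p h1 h2) = 2 * Nat.card A := by
  refine card_eq_two_mul (fun a ha => Or.inl ha) (p := p) (Or.inr h2) hp ?_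
  rintro b (hb | hb)
  · exact Or.inl hb
  · right
    have h3 := A.mul_mem (A.mul_mem (A.inv_mem h2) (h1 _ hb)) h2
    have e : (p * p)⁻¹ * (p * (p * b) * p⁻¹) * (p * p) = b * p := by group
    rwa [e] at h3

section

variable {S : Subgroup G} {z z1 z2 x0 x1 x2 y : G}

/-- The four-group `V = {1, z, z1, z2}`. -/
def V (h : Nf S z z1 z2 x0 x1 x2 y) : Subgroup G where
  carrier := {g | g = 1 ∨ g = z ∨ g = z1 ∨ g = z2}
  one_mem' := Or.inl rfl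
  mul_mem' := by
    rintro a b (rfl | rfl | rfl | rfl) (rfl | rfl | rfl | rfl) <;>
      simp only [Set.mem_ofPred_eq, one_mul, mul_one, h.zz1, h.zz2, h.z1z, h.z1z2, h.z2z, h.z2z1,
        h.z_sq, h.z1_sq, h.z2_sq, true_or, or_true]
  inv_mem' := by
    rintro a (rfl | rfl | rfl | rfl)
    · left; simp
    · right; left; exact inv_eq_self h.z_sq
    · right; right; left; exact inv_eq_self h.z1_sq
    · right; right; right; exact inv_eq_self h.z2_sq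

variable (h : Nf S z z1 z2 x0 x1 x2 y)

theorem mem_V {g : G} : g ∈ V h ↔ g = 1 ∨ g = z ∨ g = z1 ∨ g = z2 := Iff.rfl

theorem z_V : z ∈ V h := Or.inr (Or.inl rfl)
theorem z1_V : z1 ∈ V h := Or.inr (Or.inr (Or.inl rfl))
theorem z2_V : z2 ∈ V h := Or.inr (Or.inr (Or.inr rfl))

theorem V_le : V h ≤ qq S y := by
  rintro g (rfl | rfl | rfl | rfl)
  exacts [(qq S y).one_mem, h.z_qq, h.z1_qq, h.z2_qq]

theorem V_sq : ∀ g ∈ V h, g * g = 1 := by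
  rintro g (rfl | rfl | rfl | rfl)
  exacts [mul_one 1, h.z_sq, h.z1_sq, h.z2_sq]

theorem qq_comm_V {q : G} (hq : q ∈ qq S y) : ∀ v ∈ V h, q * v = v * q := by
  rintro g (rfl | rfl | rfl | rfl)
  exacts [by simp, h.z_comm q (qq_le S y hq), h.qq_comm1 hq, h.qq_comm2 hq]

theorem S_conj_V {s : G} (hs : s ∈ S) {v : G} (hv : v ∈ V h) : s * v * s⁻¹ ∈ V h := by
  by_cases hq : s ∈ qq S y
  · rw [qq_comm_V h hq v hv]
    simpa using hv
  · rcases hv with rfl | rfl | rfl | rfl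
    · simp [(V h).one_mem]
    · rw [h.z_comm s hs]; simpa using z_V h
    · rw [h.swap1 hs hq]; simpa using z2_V h
    · rw [h.swap2 hs hq]; simpa using z1_V h

theorem y_conj_V {v : G} (hv : v ∈ V h) : y * v * y⁻¹ ∈ V h := by
  rcases hv with rfl | rfl | rfl | rfl
  · simp [(V h).one_mem]
  · rw [h.yz]; exact z1_V h
  · rw [h.yz1]; exact z2_V h
  · rw [h.yz2]; exact z_V h

theorem yinv_conj_V {v : G} (hv : v ∈ V h) : y⁻¹ * v * y ∈ V h := by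
  rcases hv with rfl | rfl | rfl | rfl
  · simp [(V h).one_mem]
  · rw [conj_inv h.yz2]; exact z2_V h
  · rw [conj_inv h.yz]; exact z_V h
  · rw [conj_inv h.yz1]; exact z1_V h

theorem fix_V {v : G} (hv : v ∈ V h) (hy : y * v * y⁻¹ = v) : v = 1 := by
  rcases hv with rfl | rfl | rfl | rfl
  · rfl
  · exact absurd (h.yz.symm.trans hy) h.ne
  · exact absurd (h.yz1.symm.trans hy).symm h.z1_ne_z2
  · exact absurd (h.yz2.symm.trans hy).symm h.z2_ne_z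

theorem comm_x0 {s : G} (hs : s ∈ S) : s * x0 * s⁻¹ * x0⁻¹ ∈ V h := h.comm_x0 s hs

theorem comm_x1 {q : G} (hq : q ∈ qq S y) : q * x1 * q⁻¹ * x1⁻¹ ∈ V h := by
  have h1 := y_conj_V h (comm_x0 h (mem_qq.1 hq).2.1)
  have e : y * (y⁻¹ * q * y * x0 * (y⁻¹ * q * y)⁻¹ * x0⁻¹) * y⁻¹ =
    q * (y * x0 * y⁻¹) * q⁻¹ * (y * x0 * y⁻¹)⁻¹ := by group
  rwa [e, h.yx0] at h1

theorem comm_x2 {q : G} (hq : q ∈ qq S y) : q * x2 * q⁻¹ * x2⁻¹ ∈ V h := by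
  have h1 := y_conj_V h (comm_x1 h (h.hy.conj' hq))
  have e : y * (y⁻¹ * q * y * x1 * (y⁻¹ * q * y)⁻¹ * x1⁻¹) * y⁻¹ =
    q * (y * x1 * y⁻¹) * q⁻¹ * (y * x1 * y⁻¹)⁻¹ := by group
  rwa [e, h.yx1] at h1

theorem phi_mul {x q q' v v' : G} (hv' : v' ∈ V h)
    (hq : q ∈ qq S y) (h1 : q * x * q⁻¹ * x⁻¹ = v)
    (h2 : q' * x * q'⁻¹ * x⁻¹ = v') : q * q' * x * (q * q')⁻¹ * x⁻¹ = v' * v := by
  have h3 := qq_comm_V h hq v' hv'
  calc q * q' * x * (q * q')⁻¹ * x⁻¹ = q * (q' * x * q'⁻¹ * x⁻¹) * x * q⁻¹ * x⁻¹ := by group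
    _ = (q * v') * x * q⁻¹ * x⁻¹ := by rw [h2]
    _ = v' * (q * x * q⁻¹ * x⁻¹) := by rw [h3]; group
    _ = v' * v := by rw [h1]

include h

theorem p10 : x1 * x0 * x1⁻¹ * x0⁻¹ = z2 := by rw [h.x1x0]; group
theorem p20 : x2 * x0 * x2⁻¹ * x0⁻¹ = z1 := by rw [h.x2x0]; group
theorem p01 : x0 * x1 * x0⁻¹ * x1⁻¹ = z2 := by
  have e : x0 * x1 * x0⁻¹ * x1⁻¹ = (x1 * x0 * x1⁻¹ * x0⁻¹)⁻¹ := by group
  rw [e, p10 h, inv_eq_self h.z2_sq]
theorem p02 : x0 * x2 * x0⁻¹ * x2⁻¹ = z1 := by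
  have e : x0 * x2 * x0⁻¹ * x2⁻¹ = (x2 * x0 * x2⁻¹ * x0⁻¹)⁻¹ := by group
  rw [e, p20 h, inv_eq_self h.z1_sq]
theorem p21 : x2 * x1 * x2⁻¹ * x1⁻¹ = z := by rw [h.x2x1]; group
theorem p12 : x1 * x2 * x1⁻¹ * x2⁻¹ = z := by
  have e : x1 * x2 * x1⁻¹ * x2⁻¹ = (x2 * x1 * x2⁻¹ * x1⁻¹)⁻¹ := by group
  rw [e, p21 h, inv_eq_self h.z_sq]

omit h
theorem pself (x : G) : x * x * x⁻¹ * x⁻¹ = 1 := by group
include h

theorem x0_not_V : x0 ∉ V h := by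
  intro h1
  have h2 := phi_of_comm (qq_comm_V h h.x1_qq x0 h1).symm
  rw [p01 h] at h2
  exact h.z2_ne h2

theorem norm0 : ∀ a ∈ V h, x0 * a * x0⁻¹ ∈ V h := fun _ ha => S_conj_V h h.x0_mem ha
theorem sq0 : x0 * x0 ∈ V h := by rw [h.x0_sq]; exact (V h).one_mem

end

section

variable {S : Subgroup G} {z z1 z2 x0 x1 x2 y : G} (h : Nf S z z1 z2 x0 x1 x2 y)

/-- `V⟨x0⟩` -/
def A0 : Subgroup G := ex (V h) x0 (norm0 h) (sq0 h)

theorem V_le_A0 : V h ≤ A0 h := fun _ hv => Or.inl hv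
theorem x0_A0 : x0 ∈ A0 h := Or.inr (sq0 h)
theorem mem_A0 {g : G} : g ∈ A0 h ↔ g ∈ V h ∨ x0 * g ∈ V h := Iff.rfl

theorem S_conj_A0 {s : G} (hs : s ∈ S) {a : G} (ha : a ∈ A0 h) : s * a * s⁻¹ ∈ A0 h := by
  have hx : s * x0 * s⁻¹ ∈ A0 h := by
    have h1 := (A0 h).mul_mem (V_le_A0 h (comm_x0 h hs)) (x0_A0 h)
    rwa [inv_mul_cancel_right] at h1
  rcases ha with ha | ha
  · exact V_le_A0 h (S_conj_V h hs ha)
  · have h1 := (A0 h).mul_mem ((A0 h).inv_mem hx) (V_le_A0 h (S_conj_V h hs ha))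
    have e : (s * x0 * s⁻¹)⁻¹ * (s * (x0 * a) * s⁻¹) = s * a * s⁻¹ := by group
    rwa [e] at h1

theorem norm1 : ∀ a ∈ A0 h, x1 * a * x1⁻¹ ∈ A0 h := fun _ ha => S_conj_A0 h h.x1_mem ha
theorem sq1 : x1 * x1 ∈ A0 h := by rw [h.x1_sq]; exact (A0 h).one_mem

/-- `V⟨x0, x1⟩` -/
def A1 : Subgroup G := ex (A0 h) x1 (norm1 h) (sq1 h)

theorem A0_le_A1 : A0 h ≤ A1 h := fun _ hv => Or.inl hv
theorem x1_A1 : x1 ∈ A1 h := Or.inr (sq1 h)

theorem qq_conj_A1 {s : G} (hs : s ∈ qq S y) {a : G} (ha : a ∈ A1 h) : s * a * s⁻¹ ∈ A1 h := by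
  have hsS := qq_le _ _ hs
  have hx : s * x1 * s⁻¹ ∈ A1 h := by
    have h1 := (A1 h).mul_mem (A0_le_A1 h (V_le_A0 h (comm_x1 h hs))) (x1_A1 h)
    rwa [inv_mul_cancel_right] at h1
  rcases ha with ha | ha
  · exact A0_le_A1 h (S_conj_A0 h hsS ha)
  · have h1 := (A1 h).mul_mem ((A1 h).inv_mem hx) (A0_le_A1 h (S_conj_A0 h hsS ha))
    have e : (s * x1 * s⁻¹)⁻¹ * (s * (x1 * a) * s⁻¹) = s * a * s⁻¹ := by group
    rwa [e] at h1

theorem norm2 : ∀ a ∈ A1 h, x2 * a * x2⁻¹ ∈ A1 h := fun _ ha => qq_conj_A1 h h.x2_qq ha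
theorem sq2 : x2 * x2 ∈ A1 h := by rw [h.x2_sq]; exact (A1 h).one_mem

/-- `W = V⟨x0, x1, x2⟩` -/
def W : Subgroup G := ex (A1 h) x2 (norm2 h) (sq2 h)

theorem A1_le_W : A1 h ≤ W h := fun _ hv => Or.inl hv
theorem x2_W : x2 ∈ W h := Or.inr (sq2 h)
theorem x1_W : x1 ∈ W h := A1_le_W h (x1_A1 h)
theorem x0_W : x0 ∈ W h := A1_le_W h (A0_le_A1 h (x0_A0 h))
theorem V_le_W : V h ≤ W h := fun _ hv => A1_le_W h (A0_le_A1 h (V_le_A0 h hv))

theorem W_le_of {H : Subgroup G} (hz : z ∈ H) (hz1 : z1 ∈ H) (hx0 : x0 ∈ H) (hx1 : x1 ∈ H)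
    (hx2 : x2 ∈ H) : W h ≤ H := by
  have key : ∀ {K : Subgroup G} {x g : G}, (∀ a ∈ K, a ∈ H) → x ∈ H → (g ∈ K ∨ x * g ∈ K) → g ∈ H := by
    intro K x g hK hx hg
    rcases hg with hg | hg
    · exact hK g hg
    · have h1 := H.mul_mem (H.inv_mem hx) (hK _ hg)
      rwa [inv_mul_cancel_left] at h1
  have hV : ∀ a ∈ V h, a ∈ H := by
    rintro a (rfl | rfl | rfl | rfl)
    exacts [H.one_mem, hz, hz1, h.zz1 ▸ H.mul_mem hz hz1]
  have h0 : ∀ a ∈ A0 h, a ∈ H := fun a ha => key hV hx0 ha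
  have h1 : ∀ a ∈ A1 h, a ∈ H := fun a ha => key h0 hx1 ha
  exact fun a ha => key h1 hx2 ha

theorem W_le : W h ≤ qq S y := W_le_of h h.z_qq h.z1_qq h.x0_qq h.x1_qq h.x2_qq

theorem W_y {g : G} (hg : g ∈ W h) : y * g * y⁻¹ ∈ W h := by
  have h1 : W h ≤ cj y⁻¹ (W h) := by
    refine W_le_of h ?_ ?_ ?_ ?_ ?_ <;> rw [mem_cj_inv]
    · rw [h.yz]; exact V_le_W h (z1_V h)
    · rw [h.yz1]; exact V_le_W h (z2_V h)
    · rw [h.yx0]; exact x1_W h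
    · rw [h.yx1]; exact x2_W h
    · rw [h.yx2]; exact x0_W h
  exact mem_cj_inv.1 (h1 hg)

theorem swap_x1 {s : G} (hs : s ∈ S) (hq : s ∉ qq S y) : s * x1 * s⁻¹ * x2⁻¹ ∈ V h := by
  have h1 := yinv_conj_V h (comm_x0 h (h.hy.not_qq hs hq).1)
  have e : y⁻¹ * (y * s * y * x0 * (y * s * y)⁻¹ * x0⁻¹) * y =
    s * (y * x0 * y⁻¹) * s⁻¹ * (y⁻¹ * x0 * y)⁻¹ := by group
  rwa [e, h.yx0, conj_inv h.yx2] at h1

theorem swap_x2 {s : G} (hs : s ∈ S) (hq : s ∉ qq S y) : s * x2 * s⁻¹ * x1⁻¹ ∈ V h := by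
  have h1 := y_conj_V h (comm_x0 h (h.hy.not_qq hs hq).2)
  have e : y * (y⁻¹ * s * y⁻¹ * x0 * (y⁻¹ * s * y⁻¹)⁻¹ * x0⁻¹) * y⁻¹ =
    s * (y⁻¹ * x0 * y) * s⁻¹ * (y * x0 * y⁻¹)⁻¹ := by group
  rwa [e, h.yx0, conj_inv h.yx2] at h1

theorem W_S {s : G} (hs : s ∈ S) {g : G} (hg : g ∈ W h) : s * g * s⁻¹ ∈ W h := by
  have mv : ∀ {a b : G}, a * b⁻¹ ∈ V h → b ∈ W h → a ∈ W h := by
    intro a b h1 h2
    have h3 := (W h).mul_mem (V_le_W h h1) h2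
    rwa [inv_mul_cancel_right] at h3
  have h1 : W h ≤ cj s⁻¹ (W h) := by
    refine W_le_of h ?_ ?_ ?_ ?_ ?_ <;> rw [mem_cj_inv]
    · exact V_le_W h (S_conj_V h hs (z_V h))
    · exact V_le_W h (S_conj_V h hs (z1_V h))
    · exact mv (comm_x0 h hs) (x0_W h)
    · by_cases hq : s ∈ qq S y
      · exact mv (comm_x1 h hq) (x1_W h)
      · exact mv (swap_x1 h hs hq) (x2_W h)
    · by_cases hq : s ∈ qq S y
      · exact mv (comm_x2 h hq) (x2_W h)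
      · exact mv (swap_x2 h hs hq) (x1_W h)
  exact mem_cj_inv.1 (h1 hg)

/-! ### `σ = x0 x1 x2 z1` and the fixed points of `y` in `W` -/

include h

theorem y_σ : y * (x0 * (x1 * (x2 * z1))) * y⁻¹ = x0 * (x1 * (x2 * z1)) := by
  rw [cmul, cmul, cmul, h.yx0, h.yx1, h.yx2, h.yz1]
  simp only [h.rules]

theorem σ_sq : (x0 * (x1 * (x2 * z1))) * (x0 * (x1 * (x2 * z1))) = 1 := by
  simp only [mul_assoc, h.rules]

theorem σ_qq : x0 * (x1 * (x2 * z1)) ∈ qq S y :=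
  (qq S y).mul_mem h.x0_qq ((qq S y).mul_mem h.x1_qq ((qq S y).mul_mem h.x2_qq h.z1_qq))

theorem σ_x0 : (x0 * (x1 * (x2 * z1))) * x0 = z * x0 * (x0 * (x1 * (x2 * z1))) := by
  simp only [mul_assoc, h.rules]

theorem σ_x1 : (x0 * (x1 * (x2 * z1))) * x1 = z1 * x1 * (x0 * (x1 * (x2 * z1))) := by
  simp only [mul_assoc, h.rules]

theorem σ_x2 : (x0 * (x1 * (x2 * z1))) * x2 = z2 * x2 * (x0 * (x1 * (x2 * z1))) := by
  simp only [mul_assoc, h.rules]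

theorem pσ0 : (x0 * (x1 * (x2 * z1))) * x0 * (x0 * (x1 * (x2 * z1)))⁻¹ * x0⁻¹ = z := by
  rw [σ_x0 h]; group

theorem pσ1 : (x0 * (x1 * (x2 * z1))) * x1 * (x0 * (x1 * (x2 * z1)))⁻¹ * x1⁻¹ = z1 := by
  rw [σ_x1 h]; group

end

section

variable {S : Subgroup G} {z z1 z2 x0 x1 x2 y : G} (h : Nf S z z1 z2 x0 x1 x2 y)

theorem σ_W : x0 * (x1 * (x2 * z1)) ∈ W h :=
  (W h).mul_mem (x0_W h) ((W h).mul_mem (x1_W h) ((W h).mul_mem (x2_W h) (V_le_W h (z1_V h))))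

/-- The fixed points of `y` in `W` are `1` and `σ`. -/
theorem fix_W {g : G} (hg : g ∈ W h) (hy : y * g * y⁻¹ = g) :
    g = 1 ∨ g = x0 * (x1 * (x2 * z1)) := by
  have hgq := W_le h hg
  have key : ∀ {u a b : G}, u ∈ qq S y → a ∈ V h → b ∈ V h → u * x0 * u⁻¹ * x0⁻¹ = a →
      u * x1 * u⁻¹ * x1⁻¹ = b → u * g ∈ V h → y * a * y⁻¹ = b := by
    intro u a b hu ha hb h0 h1 hug
    have g0 : g * x0 * g⁻¹ * x0⁻¹ = a := by
      have e1 := phi_mul h (comm_x0 h (qq_le _ _ hgq)) hu h0 rfl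
      rw [phi_of_comm (qq_comm_V h h.x0_qq _ hug).symm] at e1
      rw [eq_inv_of_mul_eq_one_left e1.symm, inv_eq_self (V_sq h a ha)]
    have g1 : g * x1 * g⁻¹ * x1⁻¹ = b := by
      have e1 := phi_mul h (comm_x1 h hgq) hu h1 rfl
      rw [phi_of_comm (qq_comm_V h h.x1_qq _ hug).symm] at e1
      rw [eq_inv_of_mul_eq_one_left e1.symm, inv_eq_self (V_sq h b hb)]
    rw [← g0, ← g1]
    have e : y * (g * x0 * g⁻¹ * x0⁻¹) * y⁻¹ = (y * g * y⁻¹) * (y * x0 * y⁻¹) * (y * g * y⁻¹)⁻¹ *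
      (y * x0 * y⁻¹)⁻¹ := by group
    rw [e, hy, h.yx0]
  have q01 := phi_mul h (z2_V h) h.x0_qq (pself x0) (p10 h)
  have r01 := phi_mul h (V h).one_mem h.x0_qq (p01 h) (pself x1)
  have q02 := phi_mul h (z1_V h) h.x0_qq (pself x0) (p20 h)
  have r02 := phi_mul h (z_V h) h.x0_qq (p01 h) (p21 h)
  have q12 := phi_mul h (z1_V h) h.x1_qq (p10 h) (p20 h)
  have r12 := phi_mul h (z_V h) h.x1_qq (pself x1) (p21 h)
  rw [mul_one] at q01 q02 r12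
  rw [one_mul] at r01
  rw [h.zz2] at r02
  rw [h.z1z2] at q12
  have n01 := (qq S y).mul_mem h.x0_qq h.x1_qq
  have n02 := (qq S y).mul_mem h.x0_qq h.x2_qq
  have n12 := (qq S y).mul_mem h.x1_qq h.x2_qq
  rcases hg with ((hg | hg) | (hg | hg)) | ((hg | hg) | (hg | hg))
  · left; exact fix_V h hg hy
  · exfalso
    have h1 := key h.x0_qq (V h).one_mem (z2_V h) (pself x0) (p01 h) hg
    apply h.z2_ne
    rw [← h1]; group
  · exfalso
    have h1 := key h.x1_qq (z2_V h) (V h).one_mem (p10 h) (pself x1) hg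
    rw [h.yz2] at h1
    exact h.z_ne h1
  · exfalso
    rw [← mul_assoc] at hg
    have h1 := key n01 (z2_V h) (z2_V h) q01 r01 hg
    rw [h.yz2] at h1
    exact h.z2_ne_z h1.symm
  · exfalso
    have h1 := key h.x2_qq (z1_V h) (z_V h) (p20 h) (p21 h) hg
    rw [h.yz1] at h1
    exact h.z2_ne_z h1
  · exfalso
    rw [← mul_assoc] at hg
    have h1 := key n02 (z1_V h) (z1_V h) q02 r02 hg
    rw [h.yz1] at h1
    exact h.z1_ne_z2 h1.symm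
  · exfalso
    rw [← mul_assoc] at hg
    have h1 := key n12 (z_V h) (z_V h) q12 r12 hg
    rw [h.yz] at h1
    exact h.ne h1
  · right
    have h1 : x0 * (x1 * (x2 * z1)) * g ∈ V h := by
      have h2 := (V h).mul_mem (z1_V h) hg
      have e : x0 * (x1 * (x2 * z1)) * g = z1 * (x0 * (x1 * (x2 * g))) := by
        simp only [mul_assoc, h.rules]
      rwa [e]
    have h2 := fix_V h h1 (by rw [cmul, y_σ h, hy])
    rw [eq_inv_of_mul_eq_one_right h2, inv_eq_self (σ_sq h)]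

theorem σ_not_V : x0 * (x1 * (x2 * z1)) ∉ V h := by
  intro h1
  have h2 := phi_of_comm (qq_comm_V h h.x0_qq _ h1).symm
  rw [pσ0 h] at h2
  exact h.z_ne h2

include h in
/-- An element `t ∈ S ∖ Q₁` inverting `y`. -/
theorem exists_t [Finite G] (hns : ∃ t ∈ S, t ∉ qq S y) : ∃ t ∈ S, t ∉ qq S y ∧ y * t * y = t := by
  obtain ⟨p, hp, hp'⟩ := hns
  have hpi : p⁻¹ ∉ qq S y := fun h1 => hp' (by simpa using (qq S y).inv_mem h1)
  refine exists_fixed_coset (h.two.to_le (qq_le S y)) (qq_le S y) hp hp' ?_ (fun t => y * t * y) ?_ ?_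
  · intro b hb
    by_cases hbq : b ∈ qq S y
    · exact Or.inl hbq
    · exact Or.inr (h.hy.mul_not_qq (S.inv_mem hp) hb hpi hbq)
  · intro b hb hbq
    exact ⟨(h.hy.not_qq hb hbq).1, h.hy.not_qq_conj hb hbq⟩
  · intro b hb hbq
    show y * (y * (y * b * y) * y) * y = b
    calc y * (y * (y * b * y) * y) * y = (y * y * y) * b * (y * y * y) := by group
      _ = b := by rw [h.hy.cube, one_mul, mul_one]

theorem tt_fix {t : G} (hty : y * t * y = t) : y * (t * t) * y⁻¹ = t * t := by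
  have h1 : t * y⁻¹ = y * t := by
    calc t * y⁻¹ = y * t * y * y⁻¹ := by rw [hty]
      _ = y * t := by group
  have h2 : y * t * y⁻¹ = y * y * t := by
    calc y * t * y⁻¹ = y * (t * y⁻¹) := by group
      _ = y * y * t := by rw [h1]; group
  calc y * (t * t) * y⁻¹ = y * t * (t * y⁻¹) := by group
    _ = (y * t * y) * t := by rw [h1]; group
    _ = t * t := by rw [hty]

theorem card_V [Finite G] : Nat.card (V h) = 4 := by
  have e1 : Nat.card ({1, z, z1, z2} : Set G) = 4 := by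
    rw [Nat.card_coe_set_eq]
    rw [Set.ncard_insert_of_notMem, Set.ncard_insert_of_notMem, Set.ncard_insert_of_notMem,
      Set.ncard_singleton]
    · simp only [Set.mem_singleton_iff]; exact h.z1_ne_z2
    · simp only [Set.mem_insert_iff, Set.mem_singleton_iff, not_or]
      exact ⟨h.ne.symm, h.z2_ne_z.symm⟩
    · simp only [Set.mem_insert_iff, Set.mem_singleton_iff, not_or]
      exact ⟨h.z_ne.symm, h.z1_ne.symm, h.z2_ne.symm⟩
  exact e1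

theorem card_W [Finite G] : Nat.card (W h) = 32 := by
  have q01 := phi_mul h (z2_V h) h.x0_qq (pself x0) (p10 h)
  have q02 := phi_mul h (z1_V h) h.x0_qq (pself x0) (p20 h)
  have q12 := phi_mul h (z1_V h) h.x1_qq (p10 h) (p20 h)
  have n12 := (qq S y).mul_mem h.x1_qq h.x2_qq
  have q012 := phi_mul h (z_V h) h.x0_qq (pself x0) (q12.trans h.z1z2)
  rw [mul_one] at q01 q02 q012
  rw [h.z1z2] at q12
  have key : ∀ {u a : G}, u * x0 * u⁻¹ * x0⁻¹ = a → a ≠ 1 → u ∉ V h := by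
    intro u a h1 h2 h3
    rw [phi_of_comm (qq_comm_V h h.x0_qq _ h3).symm] at h1
    exact h2 h1.symm
  have e2 : Nat.card (W h) = 2 * Nat.card (A1 h) := card_ex (by
    rintro ((h1 | h1) | (h1 | h1))
    · exact key (p20 h) h.z1_ne h1
    · exact key q02 h.z1_ne h1
    · exact key q12 h.z_ne h1
    · exact key q012 h.z_ne h1)
  have e1 : Nat.card (A1 h) = 2 * Nat.card (A0 h) := card_ex (by
    rintro (h1 | h1)
    · exact key (p10 h) h.z2_ne h1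
    · exact key q01 h.z2_ne h1)
  have e0 : Nat.card (A0 h) = 2 * Nat.card (V h) := card_ex (x0_not_V h)
  rw [e2, e1, e0, card_V h]

include h in
theorem card_S [Finite G] (hns : ∃ t ∈ S, t ∉ qq S y) : Nat.card S = 2 * Nat.card (qq S y) := by
  obtain ⟨p, hp, hp'⟩ := hns
  refine card_eq_two_mul (qq_le S y) hp hp' ?_
  intro b hb
  by_cases hbq : b ∈ qq S y
  · exact Or.inl hbq
  · exact Or.inr (h.hy.mul_not_qq hb hp hbq hp')

end

end Cfsg.Agent.SectRankFour.C2.BThreeH
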