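import Mathlib
import Cfsg.Agent.SectRankFour.C2.BThreeH

/-!
# The configurations `Conf64` and `Conf128` from `Nf`

* `conf64`, `conf128`.
-/

set_option autoImplicit false

namespace Cfsg.Agent.SectRankFour.C2.BThreeI

open Cfsg.Agent.SectRankFour.C2.BThreeA Cfsg.Agent.SectRankFour.C2.BThreeG
  Cfsg.Agent.SectRankFour.C2.BThreeH Cfsg.Agent.SectRankFour.C2.Defs

variable {G : Type*} [Group G] {S : Subgroup G} {z z1 z2 x0 x1 x2 y t f : G}

theorem t_y (hty : y * t * y = t) : t * y = y⁻¹ * t := by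
  calc t * y = y⁻¹ * (y * t * y) := by group
    _ = y⁻¹ * t := by rw [hty]

theorem t_yinv (hty : y * t * y = t) : t * y⁻¹ = y * t := by
  calc t * y⁻¹ = (y * t * y) * y⁻¹ := by rw [hty]
    _ = y * t := by group

theorem t_x1 (h : Nf S z z1 z2 x0 x1 x2 y) (hty : y * t * y = t) (htx : t * x0 = x0 * t) :
    t * x1 = x2 * t := by
  have e1 := t_y hty
  have e2 := t_yinv hty
  calc t * x1 = t * (y * x0 * y⁻¹) := by rw [h.yx0]
    _ = (t * y) * x0 * y⁻¹ := by group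
    _ = y⁻¹ * (t * x0) * y⁻¹ := by rw [e1]; group
    _ = y⁻¹ * x0 * (t * y⁻¹) := by rw [htx]; group
    _ = (y⁻¹ * x0 * y) * t := by rw [e2]; group
    _ = x2 * t := by rw [conj_inv h.yx2]

theorem t_x2 (h : Nf S z z1 z2 x0 x1 x2 y) (hty : y * t * y = t) (htx : t * x0 = x0 * t) :
    t * x2 = x1 * t := by
  have e1 := t_y hty
  have e2 := t_yinv hty
  have e3 : y * x0 = x1 * y := by rw [← h.yx0]; group
  have e4 := conj_inv h.yx2
  calc t * x2 = t * (y⁻¹ * x0 * y) := by rw [e4]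
    _ = (t * y⁻¹) * x0 * y := by group
    _ = y * (t * x0) * y := by rw [e2]; group
    _ = y * x0 * (t * y) := by rw [htx]; group
    _ = x1 * t := by rw [e1, e3]; group

theorem trules (h : Nf S z z1 z2 x0 x1 x2 y) (ht : t ∈ S) (htq : t ∉ qq S y)
    (hty : y * t * y = t) (ht2 : t * t = 1) (htx : t * x0 = x0 * t) :
    (t * z = z * t) ∧ (∀ g : G, t * (z * g) = z * (t * g)) ∧
    (t * z1 = z2 * t) ∧ (∀ g : G, t * (z1 * g) = z2 * (t * g)) ∧
    (t * z2 = z1 * t) ∧ (∀ g : G, t * (z2 * g) = z1 * (t * g)) ∧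
    (t * x0 = x0 * t) ∧ (∀ g : G, t * (x0 * g) = x0 * (t * g)) ∧
    (t * x1 = x2 * t) ∧ (∀ g : G, t * (x1 * g) = x2 * (t * g)) ∧
    (t * x2 = x1 * t) ∧ (∀ g : G, t * (x2 * g) = x1 * (t * g)) ∧
    (t * t = 1) ∧ (∀ g : G, t * (t * g) = g) ∧ (t⁻¹ = t) := by
  have e : ∀ {a b c : G}, a * b = c * a → ∀ g : G, a * (b * g) = c * (a * g) := by
    intro a b c e g
    rw [← mul_assoc, e, mul_assoc]
  have e0 := h.z_comm t ht
  have e1 := h.swap1 ht htq
  have e2 := h.swap2 ht htq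
  have e3 := t_x1 h hty htx
  have e4 := t_x2 h hty htx
  refine ⟨e0, e e0, e1, e e1, e2, e e2, htx, e htx, e3, e e3, e4, e e4, ht2, ?_, inv_eq_self ht2⟩
  intro g
  rw [← mul_assoc, ht2, one_mul]

theorem yrules (h : Nf S z z1 z2 x0 x1 x2 y) :
    (y * z = z1 * y) ∧ (∀ g : G, y * (z * g) = z1 * (y * g)) ∧
    (y * z1 = z2 * y) ∧ (∀ g : G, y * (z1 * g) = z2 * (y * g)) ∧
    (y * z2 = z * y) ∧ (∀ g : G, y * (z2 * g) = z * (y * g)) ∧
    (y * x0 = x1 * y) ∧ (∀ g : G, y * (x0 * g) = x1 * (y * g)) ∧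
    (y * x1 = x2 * y) ∧ (∀ g : G, y * (x1 * g) = x2 * (y * g)) ∧
    (y * x2 = x0 * y) ∧ (∀ g : G, y * (x2 * g) = x0 * (y * g)) := by
  have e : ∀ {a b c : G}, a * b = c * a → ∀ g : G, a * (b * g) = c * (a * g) := by
    intro a b c e g
    rw [← mul_assoc, e, mul_assoc]
  have k : ∀ {b c : G}, y * b * y⁻¹ = c → y * b = c * y := by
    intro b c hbc
    rw [← hbc]; group
  exact ⟨k h.yz, e (k h.yz), k h.yz1, e (k h.yz1), k h.yz2, e (k h.yz2), k h.yx0, e (k h.yx0),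
    k h.yx1, e (k h.yx1), k h.yx2, e (k h.yx2)⟩

/-- `W` is generated by `a = x2 x0`, `b = x0 x1`, `σ`. -/
theorem W_le_of_ab (h : Nf S z z1 z2 x0 x1 x2 y) {H : Subgroup G} (ha : x2 * x0 ∈ H)
    (hb : x0 * x1 ∈ H) (hσ : x0 * (x1 * (x2 * z1)) ∈ H) : W h ≤ H := by
  have hz1 : z1 ∈ H := by
    have h1 := H.mul_mem ha ha
    have e : x2 * x0 * (x2 * x0) = z1 := by simp only [mul_assoc, h.rules, mul_one]
    rwa [e] at h1
  have hz2 : z2 ∈ H := by
    have h1 := H.mul_mem hb hb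
    have e : x0 * x1 * (x0 * x1) = z2 := by simp only [mul_assoc, h.rules, mul_one]
    rwa [e] at h1
  have hz : z ∈ H := h.z1z2 ▸ H.mul_mem hz1 hz2
  have hx2 : x2 ∈ H := by
    have h1 := H.mul_mem (H.mul_mem (H.inv_mem hb) hσ) hz1
    have e : (x0 * x1)⁻¹ * (x0 * (x1 * (x2 * z1))) * z1 = x2 := by
      simp only [mul_assoc, mul_inv_rev, h.rules]
    rwa [e] at h1
  have hx0 : x0 ∈ H := by
    have h1 := H.mul_mem hx2 ha
    have e : x2 * (x2 * x0) = x0 := by simp only [h.rules, mul_one]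
    rwa [e] at h1
  have hx1 : x1 ∈ H := by
    have h1 := H.mul_mem hx0 hb
    have e : x0 * (x0 * x1) = x1 := by simp only [h.rules]
    rwa [e] at h1
  exact W_le_of h hz hz1 hx0 hx1 hx2

theorem eqS_aux {X : Set G} (hX : ∀ g ∈ X, g ∈ S) (hq : qq S y ≤ Subgroup.closure X)
    (hy : Half S y) (ht : t ∈ S) (htq : t ∉ qq S y) (htX : t ∈ Subgroup.closure X) :
    S = Subgroup.closure X := by
  apply le_antisymm
  · intro g hg
    by_cases hgq : g ∈ qq S y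
    · exact hq hgq
    · have h1 := hq (hy.mul_not_qq ht hg htq hgq)
      have h2 := (Subgroup.closure X).mul_mem ((Subgroup.closure X).inv_mem htX) h1
      rwa [inv_mul_cancel_left] at h2
  · rw [Subgroup.closure_le]
    exact hX

theorem eqP_aux {X : Set G} {P1 : Subgroup G}
    (cov : ∀ g ∈ P1, g ∈ S ∨ y⁻¹ * g ∈ S ∨ y * g ∈ S) (hX : ∀ g ∈ X, g ∈ P1)
    (hS : S ≤ Subgroup.closure X) (hy : y ∈ Subgroup.closure X) :
    P1 = Subgroup.closure X := by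
  apply le_antisymm
  · intro g hg
    rcases cov g hg with h1 | h1 | h1
    · exact hS h1
    · have h2 := (Subgroup.closure X).mul_mem hy (hS h1)
      rwa [mul_inv_cancel_left] at h2
    · have h2 := (Subgroup.closure X).mul_mem ((Subgroup.closure X).inv_mem hy) (hS h1)
      rwa [inv_mul_cancel_left] at h2
  · rw [Subgroup.closure_le]
    exact hX

theorem mk64 [Finite G] (h : Nf S z z1 z2 x0 x1 x2 y) {P1 : Subgroup G} (hSP : S ≤ P1)
    (hyP : y ∈ P1) (cov : ∀ g ∈ P1, g ∈ S ∨ y⁻¹ * g ∈ S ∨ y * g ∈ S) (ht : t ∈ S)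
    (htq : t ∉ qq S y) (hty : y * t * y = t) (ht2 : t * t = 1) (htx : t * x0 = x0 * t)
    (hQ : qq S y ≤ W h) :
    Conf64 S P1 (x2 * x0) (x0 * x1) (x0 * (x1 * (x2 * z1))) (t * (x0 * (x1 * (x2 * z1)))) y := by
  have R := h.rules
  have T := trules h ht htq hty ht2 htx
  have Y := yrules h
  have hqW : qq S y = W h := le_antisymm hQ (W_le h)
  have haS : x2 * x0 ∈ S := S.mul_mem h.x2_mem h.x0_mem
  have hbS : x0 * x1 ∈ S := S.mul_mem h.x0_mem h.x1_mem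
  have hσS : x0 * (x1 * (x2 * z1)) ∈ S := qq_le _ _ (σ_qq h)
  have hσ2 := σ_sq h
  have hS : S = Subgroup.closure {x2 * x0, x0 * x1, x0 * (x1 * (x2 * z1)),
      t * (x0 * (x1 * (x2 * z1)))} := by
    have hσ : x0 * (x1 * (x2 * z1)) ∈ Subgroup.closure {x2 * x0, x0 * x1, x0 * (x1 * (x2 * z1)),
      t * (x0 * (x1 * (x2 * z1)))} := Subgroup.subset_closure (by simp)
    refine eqS_aux (y := y) (t := t) ?_ ?_ h.hy ht htq ?_
    · rintro g (rfl | rfl | rfl | rfl)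
      exacts [haS, hbS, hσS, S.mul_mem ht hσS]
    · rw [hqW]
      exact W_le_of_ab h (Subgroup.subset_closure (by simp)) (Subgroup.subset_closure (by simp)) hσ
    · have h1 : t * (x0 * (x1 * (x2 * z1))) ∈ Subgroup.closure {x2 * x0, x0 * x1,
        x0 * (x1 * (x2 * z1)), t * (x0 * (x1 * (x2 * z1)))} := Subgroup.subset_closure (by simp)
      have h2 := Subgroup.mul_mem _ h1 hσ
      rwa [mul_assoc, hσ2, mul_one] at h2
  refine
    { card := ?_
      eqS := hS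
      eqP := ?_
      ab := ?_
      a4 := ?_
      b4 := ?_
      u2 := ?_
      s2 := ?_
      x3 := ?_
      ua := ?_
      ub := ?_
      sa := ?_
      sb := ?_
      su := ?_
      xa := ?_
      xb := ?_
      xu := ?_
      sx := ?_ }
  · rw [card_S h ⟨t, ht, htq⟩, hqW, card_W h]
  · refine eqP_aux cov ?_ ?_ (Subgroup.subset_closure (by simp))
    · rintro g (rfl | rfl | rfl | rfl | rfl)
      exacts [hSP haS, hSP hbS, hSP hσS, hSP (S.mul_mem ht hσS), hyP]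
    · conv_lhs => rw [hS]
      apply Subgroup.closure_mono
      intro g hg
      simp only [Set.mem_insert_iff, Set.mem_singleton_iff] at hg ⊢
      tauto
  · simp only [mul_assoc, R]
  · simp only [pow_succ, pow_zero, one_mul, mul_assoc, R]
  · simp only [pow_succ, pow_zero, one_mul, mul_assoc, R]
  · rw [pow_two]; exact hσ2
  · simp only [pow_succ, pow_zero, one_mul, mul_assoc, R, T]
  · rw [pow_succ, pow_two]; exact h.hy.cube
  · rw [mul_inv_eq_iff_eq_mul]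
    simp only [mul_assoc, mul_inv_rev, R]
  · rw [mul_inv_eq_iff_eq_mul]
    simp only [mul_assoc, mul_inv_rev, R]
  · rw [mul_inv_eq_iff_eq_mul]
    simp only [mul_assoc, R, T]
  · rw [mul_inv_eq_iff_eq_mul]
    simp only [mul_assoc, R, T]
  · simp only [mul_assoc, R, T]
  · rw [mul_inv_eq_iff_eq_mul]
    simp only [mul_assoc, Y]
  · rw [mul_inv_eq_iff_eq_mul]
    simp only [mul_assoc, mul_inv_rev, R, Y]
  · simp only [mul_assoc, R, Y]
  · have hyσ : y * (x0 * (x1 * (x2 * z1))) = (x0 * (x1 * (x2 * z1))) * y := by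
      simp only [mul_assoc, R, Y]
    obtain ⟨σ, hσ⟩ : ∃ σ, σ = x0 * (x1 * (x2 * z1)) := ⟨_, rfl⟩
    rw [← hσ] at hyσ ⊢
    rw [mul_inv_eq_iff_eq_mul]
    have e1 := t_y hty
    calc t * σ * y = t * (σ * y) := by group
      _ = (t * y) * σ := by rw [← hyσ]; group
      _ = y⁻¹ * (t * σ) := by rw [e1]; group


/-- Change of `x0` by an element of `V`. -/
theorem shift (h : Nf S z z1 z2 x0 x1 x2 y) :
    Nf S z z1 z2 (x0 * z1) (x1 * z2) (x2 * z) y where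
  two := h.two
  hy := h.hy
  z_sq := h.z_sq
  z_ne := h.z_ne
  ne := h.ne
  zz1 := h.zz1
  yz := h.yz
  yz1 := h.yz1
  yz2 := h.yz2
  z_qq := h.z_qq
  z_comm := h.z_comm
  x0_qq := (qq S y).mul_mem h.x0_qq h.z1_qq
  x0_sq := by simp only [mul_assoc, h.rules]
  yx0 := by rw [cmul, h.yx0, h.yz1]
  yx1 := by rw [cmul, h.yx1, h.yz2]
  yx2 := by rw [cmul, h.yx2, h.yz]
  x1x0 := by simp only [mul_assoc, h.rules]
  comm_x0 := by
    intro s hs
    have h1 : s * (x0 * z1) * s⁻¹ * (x0 * z1)⁻¹ ∈ V h := by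
      have h2 := comm_x0 h hs
      have h3 := S_conj_V h hs (z1_V h)
      have h4 := qq_comm_V h h.x0_qq _ h3
      have e : s * (x0 * z1) * s⁻¹ * (x0 * z1)⁻¹ =
          (s * x0 * s⁻¹ * x0⁻¹) * ((s * z1 * s⁻¹) * z1⁻¹) := by
        have h5 := qq_comm_V h h.x0_qq _ ((V h).inv_mem (z1_V h))
        calc s * (x0 * z1) * s⁻¹ * (x0 * z1)⁻¹
            = (s * x0 * s⁻¹) * (s * z1 * s⁻¹) * (z1⁻¹ * x0⁻¹) := by group
          _ = (s * x0 * s⁻¹) * (s * z1 * s⁻¹) * (x0⁻¹ * (x0 * z1⁻¹)) * x0⁻¹ := by group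
          _ = (s * x0 * s⁻¹) * (s * z1 * s⁻¹) * (x0⁻¹ * (z1⁻¹ * x0)) * x0⁻¹ := by rw [h5]
          _ = (s * x0 * s⁻¹ * x0⁻¹) * ((x0 * (s * z1 * s⁻¹)) * x0⁻¹) * z1⁻¹ := by
            have h6 : x0⁻¹ * z1⁻¹ = z1⁻¹ * x0⁻¹ := by
              rw [inv_eq_self h.x0_sq, inv_eq_self h.z1_sq, h.qq_comm1 h.x0_qq]
            calc (s * x0 * s⁻¹) * (s * z1 * s⁻¹) * (x0⁻¹ * (z1⁻¹ * x0)) * x0⁻¹
                = (s * x0 * s⁻¹) * (s * z1 * s⁻¹) * (x0⁻¹ * z1⁻¹) := by group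
              _ = (s * x0 * s⁻¹ * x0⁻¹) * ((x0 * (s * z1 * s⁻¹)) * x0⁻¹) * z1⁻¹ := by
                group
          _ = (s * x0 * s⁻¹ * x0⁻¹) * ((s * z1 * s⁻¹) * z1⁻¹) := by rw [h4]; group
      rw [e]
      exact (V h).mul_mem h2 ((V h).mul_mem h3 ((V h).inv_mem (z1_V h)))
    exact h1

theorem σ_shift (h : Nf S z z1 z2 x0 x1 x2 y) :
    (x0 * z1) * ((x1 * z2) * ((x2 * z) * z1)) = x0 * (x1 * (x2 * z1)) := by
  simp only [mul_assoc, h.rules]

theorem W_shift (h : Nf S z z1 z2 x0 x1 x2 y) : W h ≤ W (shift h) := by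
  have h' := shift h
  have mv : ∀ {a v : G}, a * v ∈ W h' → v ∈ V h' → a ∈ W h' := by
    intro a v h1 h2
    have h3 := (W h').mul_mem h1 ((W h').inv_mem (V_le_W h' h2))
    rwa [mul_inv_cancel_right] at h3
  exact W_le_of h (V_le_W h' (z_V h')) (V_le_W h' (z1_V h')) (mv (x0_W h') (z1_V h'))
    (mv (x1_W h') (z2_V h')) (mv (x2_W h') (z_V h'))

/-- An involution `t ∈ S ∖ Q₁` centralises `x0` or `x0 z1`. -/
theorem t_x0 (h : Nf S z z1 z2 x0 x1 x2 y) (ht : t ∈ S) (htq : t ∉ qq S y) (ht2 : t * t = 1) :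
    t * x0 = x0 * t ∨ t * (x0 * z1) = (x0 * z1) * t := by
  obtain ⟨v, hv⟩ : ∃ v, v = t * x0 * t⁻¹ * x0⁻¹ := ⟨_, rfl⟩
  have hvV : v ∈ V h := hv ▸ comm_x0 h ht
  have e1 : t * x0 = v * x0 * t := by rw [hv]; group
  have e2 : t * v * t = v := by
    have h1 : t * x0 * t = v * x0 := by rw [e1, mul_assoc, ht2, mul_one]
    have h2 : t * v * t * v * x0 = 1 * x0 := by
      calc t * v * t * v * x0 = t * v * t * (v * x0) := by group
        _ = t * v * t * (t * x0 * t) := by rw [h1]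
        _ = t * v * (t * t) * x0 * t := by group
        _ = t * (v * x0) * t := by rw [ht2]; group
        _ = (t * t) * x0 * (t * t) := by rw [← h1]; group
        _ = 1 * x0 := by rw [ht2]; group
    have h3 := mul_right_cancel h2
    rw [eq_inv_of_mul_eq_one_left h3, inv_eq_self (V_sq h v hvV)]
  have hvV' := hvV
  rcases hvV' with h1 | h1 | h1 | h1
  · left; rw [e1, h1, one_mul]
  · right
    rw [← mul_assoc, e1, h1]
    have e3 := h.swap1 ht htq
    calc z * x0 * t * z1 = z * x0 * (t * z1) := by group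
      _ = (z * x0 * z2) * t := by rw [e3]; group
      _ = x0 * z1 * t := by simp only [mul_assoc, h.rules]
  · exfalso
    rw [h1, h.swap1 ht htq, mul_assoc, ht2, mul_one] at e2
    exact h.z1_ne_z2 e2.symm
  · exfalso
    rw [h1, h.swap2 ht htq, mul_assoc, ht2, mul_one] at e2
    exact h.z1_ne_z2 e2

/-- The case `Q₁ = W`. -/
theorem conf64 [Finite G] (h : Nf S z z1 z2 x0 x1 x2 y) {P1 : Subgroup G} (hSP : S ≤ P1)
    (hyP : y ∈ P1) (cov : ∀ g ∈ P1, g ∈ S ∨ y⁻¹ * g ∈ S ∨ y * g ∈ S)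
    (hns : ∃ t ∈ S, t ∉ qq S y) (hQ : qq S y ≤ W h)
    (hex : ∀ t ∈ S, t ∉ qq S y → y * t * y = t → t * t ≠ x0 * (x1 * (x2 * z1))) :
    ∃ a b u s x, Conf64 S P1 a b u s x := by
  obtain ⟨t, ht, htq, hty⟩ := exists_t h hns
  have ht2 : t * t = 1 := (fix_W h (hQ (h.hy.mul_not_qq ht ht htq htq)) (tt_fix hty)).resolve_right
    (hex t ht htq hty)
  rcases t_x0 h ht htq ht2 with h1 | h1
  · exact ⟨_, _, _, _, _, mk64 h hSP hyP cov ht htq hty ht2 h1 hQ⟩
  · exact ⟨_, _, _, _, _, mk64 (shift h) hSP hyP cov ht htq hty ht2 h1 (hQ.trans (W_shift h))⟩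

end Cfsg.Agent.SectRankFour.C2.BThreeI
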