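import Mathlib
import Cfsg.Agent.SectRankFour.C2.BThreeI

/-!
# The configuration `Conf128` from `Nf`
-/

set_option autoImplicit false

namespace Cfsg.Agent.SectRankFour.C2.BThreeJ

open Cfsg.Agent.SectRankFour.C2.BThreeA Cfsg.Agent.SectRankFour.C2.BThreeG
  Cfsg.Agent.SectRankFour.C2.BThreeH Cfsg.Agent.SectRankFour.C2.BThreeI
  Cfsg.Agent.SectRankFour.C2.Defs

variable {G : Type*} [Group G] {S : Subgroup G} {z z1 z2 x0 x1 x2 y t f : G}

theorem frules (h : Nf S z z1 z2 x0 x1 x2 y) (hf : f ∈ qq S y) (hyf : y * f * y⁻¹ = f)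
    (hf2 : f * f = 1) (hfx : f * x0 = z1 * (x0 * f)) :
    (f * z = z * f) ∧ (∀ g : G, f * (z * g) = z * (f * g)) ∧
    (f * z1 = z1 * f) ∧ (∀ g : G, f * (z1 * g) = z1 * (f * g)) ∧
    (f * z2 = z2 * f) ∧ (∀ g : G, f * (z2 * g) = z2 * (f * g)) ∧
    (f * x0 = z1 * (x0 * f)) ∧ (∀ g : G, f * (x0 * g) = z1 * (x0 * (f * g))) ∧
    (f * x1 = z2 * (x1 * f)) ∧ (∀ g : G, f * (x1 * g) = z2 * (x1 * (f * g))) ∧
    (f * x2 = z * (x2 * f)) ∧ (∀ g : G, f * (x2 * g) = z * (x2 * (f * g))) ∧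
    (f * f = 1) ∧ (∀ g : G, f * (f * g) = g) ∧ (f⁻¹ = f) := by
  have e : ∀ {a b c : G}, a * b = c * a → ∀ g : G, a * (b * g) = c * (a * g) := by
    intro a b c e g
    rw [← mul_assoc, e, mul_assoc]
  have e' : ∀ {a b c : G}, a * b = c * (b * a) → ∀ g : G, a * (b * g) = c * (b * (a * g)) := by
    intro a b c e g
    rw [← mul_assoc, e, mul_assoc, mul_assoc]
  have e0 := h.z_comm f (qq_le _ _ hf)
  have e1 := h.qq_comm1 hf
  have e2 := h.qq_comm2 hf
  have e3 : f * x1 = z2 * (x1 * f) := by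
    have h1 : y * (f * x0) * y⁻¹ = y * (z1 * (x0 * f)) * y⁻¹ := by rw [hfx]
    rwa [cmul, cmul, cmul, hyf, h.yx0, h.yz1] at h1
  have e4 : f * x2 = z * (x2 * f) := by
    have h1 : y * (f * x1) * y⁻¹ = y * (z2 * (x1 * f)) * y⁻¹ := by rw [e3]
    rwa [cmul, cmul, cmul, hyf, h.yx1, h.yz2] at h1
  refine ⟨e0, e e0, e1, e e1, e2, e e2, hfx, e' hfx, e3, e' e3, e4, e' e4, hf2, ?_, inv_eq_self hf2⟩
  intro g
  rw [← mul_assoc, hf2, one_mul]

theorem W_shift' (h : Nf S z z1 z2 x0 x1 x2 y) : W (shift h) ≤ W h :=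
  W_le_of (shift h) (V_le_W h (z_V h)) (V_le_W h (z1_V h))
    ((W h).mul_mem (x0_W h) (V_le_W h (z1_V h))) ((W h).mul_mem (x1_W h) (V_le_W h (z2_V h)))
    ((W h).mul_mem (x2_W h) (V_le_W h (z_V h)))

theorem mk128 [Finite G] (h : Nf S z z1 z2 x0 x1 x2 y) {P1 : Subgroup G} (hSP : S ≤ P1)
    (hyP : y ∈ P1) (cov : ∀ g ∈ P1, g ∈ S ∨ y⁻¹ * g ∈ S ∨ y * g ∈ S) (ht : t ∈ S)
    (htq : t ∉ qq S y) (hty : y * t * y = t) (ht2 : t * t = 1) (htx : t * x0 = x0 * t)
    (hf : f ∈ qq S y) (hyf : y * f * y⁻¹ = f) (hf2 : f * f = 1) (hfx : f * x0 = z1 * (x0 * f))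
    (hfW : f ∉ W h) (hfi : ∀ q ∈ qq S y, q ∈ W h ∨ f⁻¹ * q ∈ W h)
    (htf : t * f * t⁻¹ = f * (x0 * (x1 * (x2 * z1)))) :
    Conf128 S P1 (x2 * x0) (x0 * x1) (x0 * (x1 * (x2 * z1))) f
      (t * (x0 * (x1 * (x2 * z1)))) y := by
  have R := h.rules
  have T := trules h ht htq hty ht2 htx
  have Y := yrules h
  have F := frules h hf hyf hf2 hfx
  have TF : (t * f = f * (x0 * (x1 * (x2 * (z1 * t))))) ∧
      ∀ g : G, t * (f * g) = f * (x0 * (x1 * (x2 * (z1 * (t * g))))) := by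
    have h1 : t * f = f * (x0 * (x1 * (x2 * (z1 * t)))) := by
      rw [mul_inv_eq_iff_eq_mul] at htf
      rw [htf]
      simp only [mul_assoc]
    refine ⟨h1, fun g => ?_⟩
    rw [← mul_assoc, h1]
    simp only [mul_assoc]
  have YF : (y * f = f * y) ∧ ∀ g : G, y * (f * g) = f * (y * g) := by
    have h1 : y * f = f * y := by rw [mul_inv_eq_iff_eq_mul] at hyf; exact hyf
    refine ⟨h1, fun g => ?_⟩
    rw [← mul_assoc, h1, mul_assoc]
  have hfS : f ∈ S := qq_le _ _ hf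
  have hcq : Nat.card (qq S y) = 2 * Nat.card (W h) := by
    refine card_eq_two_mul (W_le h) hf hfW ?_
    intro b hb
    rcases hfi b hb with h1 | h1
    · exact Or.inl h1
    · right
      have h2 := W_S h hfS h1
      have e : f * (f⁻¹ * b) * f⁻¹ = b * f := by rw [mul_inv_cancel_left, inv_eq_self hf2]
      rwa [e] at h2
  have haS : x2 * x0 ∈ S := S.mul_mem h.x2_mem h.x0_mem
  have hbS : x0 * x1 ∈ S := S.mul_mem h.x0_mem h.x1_mem
  have hσS : x0 * (x1 * (x2 * z1)) ∈ S := qq_le _ _ (σ_qq h)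
  have hσ2 := σ_sq h
  have hS : S = Subgroup.closure {x2 * x0, x0 * x1, x0 * (x1 * (x2 * z1)), f,
      t * (x0 * (x1 * (x2 * z1)))} := by
    have hσ : x0 * (x1 * (x2 * z1)) ∈ Subgroup.closure {x2 * x0, x0 * x1, x0 * (x1 * (x2 * z1)), f,
      t * (x0 * (x1 * (x2 * z1)))} := Subgroup.subset_closure (by simp)
    have hfc : f ∈ Subgroup.closure {x2 * x0, x0 * x1, x0 * (x1 * (x2 * z1)), f,
      t * (x0 * (x1 * (x2 * z1)))} := Subgroup.subset_closure (by simp)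
    refine eqS_aux (y := y) (t := t) ?_ ?_ h.hy ht htq ?_
    · rintro g (rfl | rfl | rfl | rfl | rfl)
      exacts [haS, hbS, hσS, hfS, S.mul_mem ht hσS]
    · have hW := W_le_of_ab h (H := Subgroup.closure {x2 * x0, x0 * x1, x0 * (x1 * (x2 * z1)), f,
        t * (x0 * (x1 * (x2 * z1)))}) (Subgroup.subset_closure (by simp))
        (Subgroup.subset_closure (by simp)) hσ
      intro q hq
      rcases hfi q hq with h1 | h1
      · exact hW h1
      · have h2 := Subgroup.mul_mem _ hfc (hW h1)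
        rwa [mul_inv_cancel_left] at h2
    · have h1 : t * (x0 * (x1 * (x2 * z1))) ∈ Subgroup.closure {x2 * x0, x0 * x1,
        x0 * (x1 * (x2 * z1)), f, t * (x0 * (x1 * (x2 * z1)))} := Subgroup.subset_closure (by simp)
      have h2 := Subgroup.mul_mem _ h1 hσ
      rwa [mul_assoc, hσ2, mul_one] at h2
  refine
    { card := ?_
      eqS := hS
      eqP := ?_
      ab := ?_
      a4 := ?_
      b4 := ?_
      u2 := ?_
      s2 := ?_
      f2 := ?_
      x3 := ?_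
      ua := ?_
      ub := ?_
      fa := ?_
      fb := ?_
      sa := ?_
      sb := ?_
      su := ?_
      fu := ?_
      sf := ?_
      xa := ?_
      xb := ?_
      xu := ?_
      xf := ?_
      sx := ?_ }
  · rw [card_S h ⟨t, ht, htq⟩, hcq, card_W h]
  · refine eqP_aux cov ?_ ?_ (Subgroup.subset_closure (by simp))
    · rintro g (rfl | rfl | rfl | rfl | rfl | rfl)
      exacts [hSP haS, hSP hbS, hSP hσS, hSP hfS, hSP (S.mul_mem ht hσS), hyP]
    · conv_lhs => rw [hS]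
      apply Subgroup.closure_mono
      intro g hg
      simp only [Set.mem_insert_iff, Set.mem_singleton_iff] at hg ⊢
      tauto
  · simp only [mul_assoc, R]
  · simp only [pow_succ, pow_zero, one_mul, mul_assoc, R]
  · simp only [pow_succ, pow_zero, one_mul, mul_assoc, R]
  · rw [pow_two]; exact hσ2
  · simp only [pow_succ, pow_zero, one_mul, mul_assoc, R, T]
  · rw [pow_two]; exact hf2
  · rw [pow_succ, pow_two]; exact h.hy.cube
  · rw [mul_inv_eq_iff_eq_mul]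
    simp only [mul_assoc, mul_inv_rev, R]
  · rw [mul_inv_eq_iff_eq_mul]
    simp only [mul_assoc, mul_inv_rev, R]
  · rw [mul_inv_eq_iff_eq_mul]
    simp only [pow_two, mul_assoc, one_mul, R, F]
  · rw [mul_inv_eq_iff_eq_mul]
    simp only [pow_two, mul_assoc, mul_inv_rev, one_mul, R, F]
  · rw [mul_inv_eq_iff_eq_mul]
    simp only [mul_assoc, R, T]
  · rw [mul_inv_eq_iff_eq_mul]
    simp only [mul_assoc, R, T]
  · simp only [mul_assoc, R, T]
  · simp only [mul_assoc, R, F]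
  · rw [mul_inv_eq_iff_eq_mul]
    simp only [mul_assoc, R, F, T, TF]
  · rw [mul_inv_eq_iff_eq_mul]
    simp only [mul_assoc, Y]
  · rw [mul_inv_eq_iff_eq_mul]
    simp only [mul_assoc, mul_inv_rev, R, Y]
  · simp only [mul_assoc, R, Y]
  · exact YF.1
  · have hyσ : y * (x0 * (x1 * (x2 * z1))) = (x0 * (x1 * (x2 * z1))) * y := by
      simp only [mul_assoc, R, Y]
    obtain ⟨σ, hσ⟩ : ∃ σ, σ = x0 * (x1 * (x2 * z1)) := ⟨_, rfl⟩
    rw [← hσ] at hyσ ⊢
    rw [mul_inv_eq_iff_eq_mul]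
    have e1 := t_y hty
    calc t * σ * y = t * (σ * y) := by group
      _ = (t * y) * σ := by rw [← hyσ]; group
      _ = y⁻¹ * (t * σ) := by rw [e1]; group

/-- The case `C_{Q₁}(W) = V`, `|Q₁ : W| = 2`. -/
theorem conf128 [Finite G] (h : Nf S z z1 z2 x0 x1 x2 y) {P1 : Subgroup G} (hSP : S ≤ P1)
    (hyP : y ∈ P1) (cov : ∀ g ∈ P1, g ∈ S ∨ y⁻¹ * g ∈ S ∨ y * g ∈ S)
    (hns : ∃ t ∈ S, t ∉ qq S y)
    (hK : ∀ q ∈ qq S y, q * x0 = x0 * q → q * x1 = x1 * q → q ∈ V h)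
    (hc : ∃ c ∈ qq S y, c ∉ W h ∧ ∀ q ∈ qq S y, q ∈ W h ∨ c⁻¹ * q ∈ W h) :
    ∃ a b u f s x, Conf128 S P1 a b u f s x := by
  obtain ⟨σ, hσ⟩ : ∃ σ, σ = x0 * (x1 * (x2 * z1)) := ⟨_, rfl⟩
  have σW : σ ∈ W h := hσ ▸ σ_W h
  have σq : σ ∈ qq S y := hσ ▸ σ_qq h
  have σ2 : σ * σ = 1 := hσ ▸ σ_sq h
  have yσ : y * σ * y⁻¹ = σ := hσ ▸ y_σ h
  have σne : σ ≠ 1 := by
    intro h1
    apply σ_not_V h
    rw [← hσ, h1]
    exact (V h).one_mem
  have σ0 : σ * x0 * σ⁻¹ * x0⁻¹ = z := hσ ▸ pσ0 h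
  have fixW : ∀ g ∈ W h, y * g * y⁻¹ = g → g = 1 ∨ g = σ := fun g hg hy => hσ ▸ fix_W h hg hy
  obtain ⟨c, hc, hcW, hci⟩ := hc
  -- two elements outside `W`
  have hind : ∀ g ∈ qq S y, ∀ g' ∈ qq S y, g ∉ W h → g' ∉ W h → g⁻¹ * g' ∈ W h := by
    intro g hg g' hg' h1 h2
    have h3 := (hci g hg).resolve_left h1
    have h4 := (hci g' hg').resolve_left h2
    have h5 := (W h).mul_mem ((W h).inv_mem h3) h4
    have e : (c⁻¹ * g)⁻¹ * (c⁻¹ * g') = g⁻¹ * g' := by group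
    rwa [e] at h5
  -- centraliser of `x0` among the fixed points of `y`
  have hfixV : ∀ g ∈ qq S y, y * g * y⁻¹ = g → g * x0 * g⁻¹ * x0⁻¹ = 1 → g ∈ V h := by
    intro g hg hyg h1
    have h2 := comm_of_phi h1
    exact hK g hg h2 (conj_comm hyg h.yx0 h2)
  have hsq : ∀ g ∈ qq S y, y * g * y⁻¹ = g → g * g = 1 := by
    intro g hg hyg
    have h1 := phi_mul h (comm_x0 h (qq_le _ _ hg)) hg rfl rfl
    rw [V_sq h _ (comm_x0 h (qq_le _ _ hg))] at h1
    have h2 : y * (g * g) * y⁻¹ = g * g := by rw [cmul, hyg]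
    exact fix_V h (hfixV _ ((qq S y).mul_mem hg hg) h2 h1) h2
  -- the element `f`
  obtain ⟨f0, hf0, hf0W, hyf0⟩ := exists_fixed_coset (h.two.to_le ((W_le h).trans (qq_le S y)))
    (W_le h) hc hcW hci (fun g => y * g * y⁻¹) (by
      intro b hb hbW
      refine ⟨h.hy.conj hb, fun h1 => hbW ?_⟩
      have h2 := W_y h (W_y h h1)
      have e : y * (y * (y * b * y⁻¹) * y⁻¹) * y⁻¹ = (y * y * y) * b * (y * y * y)⁻¹ := by group
      rwa [e, h.hy.cube, one_mul, inv_one, mul_one] at h2) (by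
      intro b hb hbW
      show y * (y * (y * b * y⁻¹) * y⁻¹) * y⁻¹ = b
      have e : y * (y * (y * b * y⁻¹) * y⁻¹) * y⁻¹ = (y * y * y) * b * (y * y * y)⁻¹ := by group
      rw [e, h.hy.cube, one_mul, inv_one, mul_one])
  replace hyf0 : y * f0 * y⁻¹ = f0 := hyf0
  obtain ⟨f, hf, hfW, hyf, hf0⟩ : ∃ f ∈ qq S y, f ∉ W h ∧ y * f * y⁻¹ = f ∧
      f * x0 * f⁻¹ * x0⁻¹ = z1 := by
    have hv := comm_x0 h (qq_le _ _ hf0)
    rcases hv with h1 | h1 | h1 | h1
    · exact absurd (V_le_W h (hfixV f0 hf0 hyf0 h1)) hf0W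
    · exfalso
      have h2 := phi_mul h (z_V h) σq σ0 h1
      rw [h.z_sq] at h2
      have h3 := hfixV _ ((qq S y).mul_mem σq hf0) (by rw [cmul, yσ, hyf0]) h2
      have h4 := (W h).mul_mem ((W h).inv_mem σW) (V_le_W h h3)
      rw [inv_mul_cancel_left] at h4
      exact hf0W h4
    · exact ⟨f0, hf0, hf0W, hyf0, h1⟩
    · have h2 := phi_mul h (z_V h) hf0 h1 σ0
      rw [h.zz2] at h2
      refine ⟨f0 * σ, (qq S y).mul_mem hf0 σq, ?_, by rw [cmul, yσ, hyf0], h2⟩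
      intro h3
      have h4 := (W h).mul_mem h3 ((W h).inv_mem σW)
      rw [mul_inv_cancel_right] at h4
      exact hf0W h4
  have hf2 := hsq f hf hyf
  have hfx : f * x0 = z1 * (x0 * f) := by
    rw [← hf0]; group
  have hfy : f * y = y * f := by
    calc f * y = (y * f * y⁻¹) * y := by rw [hyf]
      _ = y * f := by group
  -- the element `t`
  have key : ∀ t ∈ S, t ∉ qq S y → y * t * y = t →
      t * f * t⁻¹ = f * σ ∧ (t * t = 1 ∨ t * t = σ) := by
    intro t ht htq hty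
    have hconj : ∀ g, y * g * y⁻¹ = g → y * (t * g * t⁻¹) * y⁻¹ = t * g * t⁻¹ := by
      intro g hg
      have e1 := t_yinv hty
      have e2 : y⁻¹ * g * y = g := conj_inv hg
      calc y * (t * g * t⁻¹) * y⁻¹ = (y * t) * g * (y * t)⁻¹ := by group
        _ = t * (y⁻¹ * g * y) * t⁻¹ := by rw [← e1]; group
        _ = t * g * t⁻¹ := by rw [e2]
    have hgq : t * f * t⁻¹ ∈ qq S y := h.hy.norm ht hf
    have hgW : t * f * t⁻¹ ∉ W h := by
      intro h1
      have h2 := W_S h (S.inv_mem ht) h1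
      have e : t⁻¹ * (t * f * t⁻¹) * t⁻¹⁻¹ = f := by group
      rw [e] at h2
      exact hfW h2
    have hne : t * f * t⁻¹ ≠ f := by
      intro h1
      obtain ⟨v, hv⟩ : ∃ v, v = t⁻¹ * x0 * t⁻¹⁻¹ * x0⁻¹ := ⟨_, rfl⟩
      have hvV : v ∈ V h := hv ▸ comm_x0 h (S.inv_mem ht)
      have e1 : t⁻¹ * x0 * t = v * x0 := by rw [hv]; group
      have e2 : t * z1 * t⁻¹ = z1 := by
        have h3 := qq_comm_V h hf v hvV
        calc t * z1 * t⁻¹ = t * (v * (f * x0 * f⁻¹ * x0⁻¹)) * v⁻¹ * t⁻¹ := by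
              rw [hf0, ← qq_comm_V h (V_le h (z1_V h)) v hvV]; group
          _ = t * ((v * f) * x0 * f⁻¹ * (v * x0)⁻¹) * t⁻¹ := by group
          _ = t * (f * (v * x0) * f⁻¹ * (v * x0)⁻¹) * t⁻¹ := by rw [← h3]; group
          _ = t * (f * (t⁻¹ * x0 * t) * f⁻¹ * (t⁻¹ * x0 * t)⁻¹) * t⁻¹ := by rw [e1]
          _ = (t * f * t⁻¹) * x0 * (t * f * t⁻¹)⁻¹ * x0⁻¹ := by group
          _ = z1 := by rw [h1, hf0]
      rw [h.swap1 ht htq, mul_inv_cancel_right] at e2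
      exact h.z1_ne_z2 e2.symm
    have hffi : f⁻¹ = f := inv_eq_self hf2
    have hg1 : t * f * t⁻¹ = f * σ := by
      have h1 := hind f hf _ hgq hfW hgW
      rw [hffi] at h1
      rcases fixW _ h1 (by rw [cmul, hyf, hconj f hyf]) with h2 | h2
      · exfalso
        apply hne
        rw [eq_inv_of_mul_eq_one_right h2, hffi]
      · rw [← h2, ← mul_assoc, hf2, one_mul]
    have htσ : t * σ * t⁻¹ = σ := by
      rcases fixW _ (W_S h ht σW) (hconj σ yσ) with h1 | h1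
      · exfalso
        apply σne
        calc σ = t⁻¹ * (t * σ * t⁻¹) * t := by group
          _ = 1 := by rw [h1]; group
      · exact h1
    refine ⟨hg1, ?_⟩
    have httq := h.hy.mul_not_qq ht ht htq htq
    have htty := tt_fix hty
    have e0 : t * (t * t) * t⁻¹ = t * t := by group
    by_cases httW : t * t ∈ W h
    · exact fixW _ httW htty
    · exfalso
      have h1 := hind f hf _ httq hfW httW
      rw [hffi] at h1
      rcases fixW _ h1 (by rw [cmul, hyf, htty]) with h2 | h2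
      · have h3 : t * t = f := by rw [eq_inv_of_mul_eq_one_right h2, hffi]
        rw [h3] at e0
        exact hne e0
      · have h3 : t * t = f * σ := by rw [← h2, ← mul_assoc, hf2, one_mul]
        rw [h3, cmul, hg1, htσ, mul_assoc, σ2, mul_one] at e0
        apply σne
        have h4 : f * σ = f * 1 := by rw [mul_one]; exact e0.symm
        exact mul_left_cancel h4
  obtain ⟨t, ht, htq, hty, ht2⟩ : ∃ t ∈ S, t ∉ qq S y ∧ y * t * y = t ∧ t * t = 1 := by
    obtain ⟨t, ht, htq, hty⟩ := exists_t h hns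
    obtain ⟨h1, h2⟩ := key t ht htq hty
    rcases h2 with h2 | h2
    · exact ⟨t, ht, htq, hty, h2⟩
    · refine ⟨t * f, S.mul_mem ht (qq_le _ _ hf), ?_, ?_, ?_⟩
      · intro h3
        have h4 := (qq S y).mul_mem h3 ((qq S y).inv_mem hf)
        rw [mul_inv_cancel_right] at h4
        exact htq h4
      · calc y * (t * f) * y = y * t * (f * y) := by group
          _ = (y * t * y) * f := by rw [hfy]; group
          _ = t * f := by rw [hty]
      · calc t * f * (t * f) = (t * f * t⁻¹) * (t * t) * f := by group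
          _ = 1 := by rw [h1, h2, mul_assoc f σ, σ2, mul_one, hf2]
  obtain ⟨htf, -⟩ := key t ht htq hty
  rw [hσ] at htf
  have hfi : ∀ q ∈ qq S y, q ∈ W h ∨ f⁻¹ * q ∈ W h := by
    intro q hq
    by_cases hqW : q ∈ W h
    · exact Or.inl hqW
    · exact Or.inr (hind f hf q hq hfW hqW)
  rcases t_x0 h ht htq ht2 with h1 | h1
  · exact ⟨_, _, _, _, _, _, mk128 h hSP hyP cov ht htq hty ht2 h1 hf hyf hf2 hfx hfW hfi htf⟩
  · refine ⟨_, _, _, _, _, _, mk128 (shift h) hSP hyP cov ht htq hty ht2 h1 hf hyf hf2 ?_ ?_ ?_ ?_⟩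
    · rw [← mul_assoc, hfx]
      have h2 := h.qq_comm1 hf
      calc z1 * (x0 * f) * z1 = z1 * x0 * (f * z1) := by group
        _ = _ := by rw [h2]; group
    · intro h2
      exact hfW (W_shift' h h2)
    · intro q hq
      rcases hfi q hq with h2 | h2
      · exact Or.inl (W_shift h h2)
      · exact Or.inr (W_shift h h2)
    · rw [σ_shift h]
      exact htf

end Cfsg.Agent.SectRankFour.C2.BThreeJ
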