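import Mathlib
import Cfsg.Agent.SectRankFour.C2.BThreeF
import Cfsg.Agent.SectRankFour.C2.BThreeJ

/-!
# The case `b ≥ 3`: the abstract theorem

`Data.conf`: `Data S z z1 z2 v1 v2 y w` and `P₁ = S ∪ yS ∪ y⁻¹S` imply `Conf64` or `Conf128`.
-/

set_option autoImplicit false

namespace Cfsg.Agent.SectRankFour.C2.BThreeK

open Cfsg.Agent.SectRankFour.C2.BThreeA Cfsg.Agent.SectRankFour.C2.BThreeC
  Cfsg.Agent.SectRankFour.C2.BThreeD
  Cfsg.Agent.SectRankFour.C2.BThreeE Cfsg.Agent.SectRankFour.C2.BThreeF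
  Cfsg.Agent.SectRankFour.C2.Defs

open Cfsg.Agent.SectRankFour.C2.BThreeB (Data cmul cmul' conj_inv inv_eq_self)
open Cfsg.Agent.SectRankFour.C2.BThreeG (Nf)

variable {G : Type*} [Group G] {S : Subgroup G} {z z1 z2 v1 v2 y w : G}
  {h : Data S z z1 z2 v1 v2 y w} {x0 x1 x2 : G}

theorem nf [Finite G] (X : Xd h x0 x1 x2) : Nf S z z1 z2 x0 x1 x2 y where
  two := h.two
  hy := h.hy
  z_sq := h.z_sq
  z_ne := h.z_ne
  ne := h.ne
  zz1 := h.zz1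
  yz := h.yz
  yz1 := h.yz1
  yz2 := h.yz2
  z_qq := h.A_qq h.z_A
  z_comm := h.z_comm
  x0_qq := X.x0q
  x0_sq := X.x0_sq
  yx0 := X.e1
  yx1 := X.e2
  yx2 := X.e3
  x1x0 := X.x1x0
  comm_x0 := fun _ hs => X.comm_x0 hs

theorem V_le_V [Finite G] (X : Xd h x0 x1 x2) : h.V ≤ BThreeH.V (nf X) := fun _ hv => hv

theorem A_le_W [Finite G] (X : Xd h x0 x1 x2) : h.A ≤ BThreeH.W (nf X) := by
  intro a ha
  rcases X.AV a ha with h1 | h1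
  · exact BThreeH.V_le_W _ (V_le_V X h1)
  · have h2 := (BThreeH.W (nf X)).mul_mem (BThreeH.x0_W (nf X)) (BThreeH.V_le_W _ (V_le_V X h1))
    rwa [← mul_assoc, X.x0_sq, one_mul] at h2

theorem WW_le_W [Finite G] (X : Xd h x0 x1 x2) : WW h ≤ BThreeH.W (nf X) := by
  have hN := nf X
  have b1 : ∀ {x g : G}, x ∈ BThreeH.W hN → x * g ∈ BThreeH.W hN → g ∈ BThreeH.W hN := by
    intro x g hx hg
    have h2 := (BThreeH.W hN).mul_mem ((BThreeH.W hN).inv_mem hx) hg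
    rwa [inv_mul_cancel_left] at h2
  intro g hg
  rcases WW_dec X hg with h1 | h1 | h1 | h1
  · exact A_le_W X h1
  · exact b1 (BThreeH.x1_W hN) (A_le_W X h1)
  · exact b1 (BThreeH.x2_W hN) (A_le_W X h1)
  · exact b1 (BThreeH.x2_W hN) (b1 (BThreeH.x1_W hN) (A_le_W X h1))

theorem W_le_WW [Finite G] (X : Xd h x0 x1 x2) : BThreeH.W (nf X) ≤ WW h :=
  BThreeH.W_le_of (nf X) (A_le_WW h h.z_A) (A_le_WW h h.z1_A) (A_le_WW h X.x0A) (A1_le_WW h X.x1A)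
    (A2_le_WW h X.x2A)

/-- In case I every element of `Q₂` has square in `Z`. -/
theorem sq_qqw [Finite G] (X : Xd h v1 x1 x2) (hCA : ∀ q ∈ cq S y v1, q ∈ h.A) :
    ∀ q ∈ qq S w, q * q = 1 ∨ q * q = z := by
  obtain ⟨g, hg⟩ : ∃ g, g = x1 * x2 := ⟨_, rfl⟩
  have hgw : g ∈ qq S w := hg ▸ h.hw.mul_not_qq X.x1S X.x2S X.x1_not X.x2_not
  have hgq : g ∈ qq S y := hg ▸ (qq S y).mul_mem X.x1q X.x2q
  have hg2 : g * g = z := by
    rw [hg]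
    calc x1 * x2 * (x1 * x2) = x1 * (x2 * x1) * x2 := by group
      _ = x1 * (z * (x1 * x2)) * x2 := by rw [X.x2x1]
      _ = (x1 * z) * x1 * (x2 * x2) := by group
      _ = z * (x1 * x1) := by rw [h.z_comm x1 X.x1S, X.x2_sq]; group
      _ = z := by rw [X.x1_sq, mul_one]
  have hgz1 : g * z1 * g⁻¹ * z1⁻¹ = 1 := by rw [h.qq_comm1 hgq]; group
  have hgv1 : g * v1 * g⁻¹ * v1⁻¹ = z := by
    have h1 := Xd.phi_mul h h.z1_V X.x1q X.phi_x1x0 X.phi_x2x0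
    rw [h.z1z2] at h1
    rw [hg]; exact h1
  have hv12 : v1 * v2 ∈ h.V := (X.AV v2 h.v2_A).resolve_left h.v2_not_V
  have hgv2 : g * v2 * g⁻¹ * v2⁻¹ = z := by
    obtain ⟨v, hv⟩ : ∃ v, v = v1 * v2 := ⟨_, rfl⟩
    rw [← hv] at hv12
    have e : v2 = v1 * v := by rw [hv, ← mul_assoc, h.v1_sq, one_mul]
    have e2 := h.qq_comm_V hgq v hv12
    rw [e]
    calc g * (v1 * v) * g⁻¹ * (v1 * v)⁻¹ = g * v1 * (v * g⁻¹) * v⁻¹ * v1⁻¹ := by group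
      _ = g * v1 * (g⁻¹ * (g * v) * g⁻¹) * v⁻¹ * v1⁻¹ := by group
      _ = g * v1 * (g⁻¹ * (v * g) * g⁻¹) * v⁻¹ * v1⁻¹ := by rw [e2]
      _ = g * v1 * g⁻¹ * v1⁻¹ := by group
      _ = z := hgv1
  have hZc : ∀ {q : G}, q ∈ qq S w → ∀ {a : G}, a ∈ h.A →
      q * a * q⁻¹ * a⁻¹ = 1 ∨ q * a * q⁻¹ * a⁻¹ = z := fun hq _ ha => h.qqw_comm_A hq ha
  -- the conjugates of `g`
  obtain ⟨g1, hg1⟩ : ∃ g1, g1 = w * g * w⁻¹ := ⟨_, rfl⟩
  obtain ⟨g2, hg2'⟩ : ∃ g2, g2 = w⁻¹ * g * w := ⟨_, rfl⟩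
  have hg1w : g1 ∈ qq S w := hg1 ▸ h.hw.conj hgw
  have hg2w : g2 ∈ qq S w := hg2' ▸ h.hw.conj' hgw
  have hg1s : g1 * g1 = z := by rw [hg1, ← cmul, hg2, h.wz]
  have hg2s : g2 * g2 = z := by rw [hg2', ← cmul', hg2, h.winv_z]
  have a1 : g1 * z1 * g1⁻¹ * z1⁻¹ = z := by
    have e : g1 * z1 * g1⁻¹ * z1⁻¹ = w * (g * (w⁻¹ * z1 * w) * g⁻¹ * (w⁻¹ * z1 * w)⁻¹) * w⁻¹ := by
      rw [hg1]; group
    rw [e, h.winv_z1, hgv2, h.wz]
  have a2 : g1 * v1 * g1⁻¹ * v1⁻¹ = 1 := by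
    have e : g1 * v1 * g1⁻¹ * v1⁻¹ = w * (g * (w⁻¹ * v1 * w) * g⁻¹ * (w⁻¹ * v1 * w)⁻¹) * w⁻¹ := by
      rw [hg1]; group
    rw [e, conj_inv h.wz1, hgz1]; group
  have b1 : g2 * z1 * g2⁻¹ * z1⁻¹ = z := by
    have e : g2 * z1 * g2⁻¹ * z1⁻¹ = w⁻¹ * (g * (w * z1 * w⁻¹) * g⁻¹ * (w * z1 * w⁻¹)⁻¹) * w := by
      rw [hg2']; group
    rw [e, h.wz1, hgv1, h.winv_z]
  have b2 : g2 * v1 * g2⁻¹ * v1⁻¹ = z := by
    have e : g2 * v1 * g2⁻¹ * v1⁻¹ = w⁻¹ * (g * (w * v1 * w⁻¹) * g⁻¹ * (w * v1 * w⁻¹)⁻¹) * w := by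
      rw [hg2']; group
    rw [e, h.wv1, hgv2, h.winv_z]
  -- multiplicativity
  have hmul : ∀ {p q a : G}, p ∈ S → (q * a * q⁻¹ * a⁻¹ = 1 ∨ q * a * q⁻¹ * a⁻¹ = z) →
      p * a * p⁻¹ * a⁻¹ = q * a * q⁻¹ * a⁻¹ → p * q * a = a * (p * q) := by
    intro p q a hp hqa hpq
    obtain ⟨ζ, hζ⟩ : ∃ ζ, ζ = q * a * q⁻¹ * a⁻¹ := ⟨_, rfl⟩
    rw [← hζ] at hqa hpq
    have e1 : p * ζ = ζ * p := by
      rcases hqa with h1 | h1 <;> rw [h1]
      · simp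
      · exact h.z_comm p hp
    have e2 : ζ * ζ = 1 := by
      rcases hqa with h1 | h1 <;> rw [h1]
      · simp
      · exact h.z_sq
    calc p * q * a = (p * (q * a * q⁻¹ * a⁻¹)) * a * q := by group
      _ = ζ * (p * a * p⁻¹ * a⁻¹) * a * p * q := by rw [← hζ, e1]; group
      _ = a * (p * q) := by rw [hpq, e2]; group
  have hfin : ∀ {p q : G}, p ∈ qq S w → q ∈ qq S w → (p * p = 1 ∨ p * p = z) →
      p * z1 * p⁻¹ * z1⁻¹ = q * z1 * q⁻¹ * z1⁻¹ → p * v1 * p⁻¹ * v1⁻¹ = q * v1 * q⁻¹ * v1⁻¹ →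
      q * q = 1 ∨ q * q = z := by
    intro p q hp hq hp2 e1 e2
    have hpS := qq_le _ _ hp
    have hqS := qq_le _ _ hq
    have c1 := hmul hpS (hZc hq h.z1_A) e1
    have c2 := hmul hpS (hZc hq h.v1_A) e2
    have hA : p * q ∈ h.A := hCA _ ⟨h.qq_of_comm (S.mul_mem hpS hqS) c1, c2⟩
    obtain ⟨a, ha⟩ : ∃ a, a = p * q := ⟨_, rfl⟩
    rw [← ha] at hA
    have e3 : q = p⁻¹ * a := by rw [ha]; group
    have e4 := hZc ((qq S w).inv_mem hp) hA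
    obtain ⟨ζ, hζ⟩ : ∃ ζ, ζ = p⁻¹ * a * p⁻¹⁻¹ * a⁻¹ := ⟨_, rfl⟩
    rw [← hζ] at e4
    have e5 : q * q = ζ * (a * (p * p)⁻¹ * a) := by rw [e3, hζ]; group
    have e6 : a * (p * p)⁻¹ * a = (p * p)⁻¹ := by
      have e7 := h.A_sq a hA
      rcases hp2 with h1 | h1 <;> rw [h1]
      · rw [inv_one, mul_one, e7]
      · rw [inv_eq_self h.z_sq, h.z_comm a (h.A_le hA), mul_assoc, e7, mul_one]
    rw [e5, e6]
    rcases hp2 with h1 | h1 <;> rcases e4 with h2 | h2 <;> rw [h1, h2]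
    · left; simp
    · right; simp
    · right; rw [one_mul]; exact inv_eq_self h.z_sq
    · left; rw [inv_eq_self h.z_sq]; exact h.z_sq
  intro q hq
  rcases hZc hq h.z1_A with e1 | e1 <;> rcases hZc hq h.v1_A with e2 | e2
  · exact hfin (p := 1) (qq S w).one_mem hq (Or.inl (mul_one 1)) (by rw [e1]; group)
      (by rw [e2]; group)
  · exact hfin hgw hq (Or.inr hg2) (by rw [hgz1, e1]) (by rw [hgv1, e2])
  · exact hfin hg1w hq (Or.inr hg1s) (by rw [a1, e1]) (by rw [a2, e2])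
  · exact hfin hg2w hq (Or.inr hg2s) (by rw [b1, e1]) (by rw [b2, e2])

/-- The abstract form of [R4-3]. -/
theorem conf [Finite G] (h : Data S z z1 z2 v1 v2 y w) {P1 : Subgroup G} (hSP : S ≤ P1)
    (hyP : y ∈ P1) (cov : ∀ g ∈ P1, g ∈ S ∨ y⁻¹ * g ∈ S ∨ y * g ∈ S) :
    (∃ a b u s x, Conf64 S P1 a b u s x) ∨ (∃ a b u f s x, Conf128 S P1 a b u f s x) := by
  obtain ⟨x1, hx1⟩ : ∃ x1, y * v1 * y⁻¹ = x1 := ⟨_, rfl⟩
  obtain ⟨x2, hx2⟩ : ∃ x2, y * x1 * y⁻¹ = x2 := ⟨_, rfl⟩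
  have X : Xd h v1 x1 x2 := ⟨h.v1_A, h.v1_not_V, hx1, hx2⟩
  have hN := nf X
  have hns := h.exists_not_qq
  by_cases hI : ∀ q ∈ cq S y v1, q ∈ cq S y x1 ∨ v1 * q ∈ cq S y x1
  · left
    have hCA := caseI X hI
    have hsq := sq_qqw X hCA
    refine BThreeI.conf64 hN hSP hyP cov hns ?_ ?_
    · have b1 : ∀ {x g : G}, x ∈ BThreeH.W hN → x * g ∈ BThreeH.W hN → g ∈ BThreeH.W hN := by
        intro x g hx hg
        have h2 := (BThreeH.W hN).mul_mem ((BThreeH.W hN).inv_mem hx) hg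
        rwa [inv_mul_cancel_left] at h2
      intro q hq
      rcases qq_dec X hq with h1 | h1 | h1 | h1
      · exact A_le_W X (hCA _ h1)
      · exact b1 (BThreeH.x1_W hN) (A_le_W X (hCA _ h1))
      · exact b1 (BThreeH.x2_W hN) (A_le_W X (hCA _ h1))
      · exact b1 (BThreeH.x2_W hN) (b1 (BThreeH.x1_W hN) (A_le_W X (hCA _ h1)))
    · intro t ht htq _ htt
      have hZV : ∀ {g : G}, g = 1 ∨ g = z → g ∈ BThreeH.V hN := by
        rintro g (h1 | h1)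
        · exact Or.inl h1
        · exact Or.inr (Or.inl h1)
      by_cases htw : t ∈ qq S w
      · have h1 := hZV (hsq t htw)
        rw [htt] at h1
        exact BThreeH.σ_not_V hN h1
      · have h1 := hZV (hsq _ (h.hw.mul_not_qq ht X.x1S htw X.x1_not))
        have h2 := BThreeH.swap_x1 hN ht htq
        obtain ⟨v, hv⟩ : ∃ v, v = t * x1 * t⁻¹ * x2⁻¹ := ⟨_, rfl⟩
        rw [← hv] at h2
        have e1 : t * x1 * (t * x1) = v * (x2 * ((t * t) * x1)) := by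
          rw [hv]; group
        rw [e1, htt] at h1
        have h3 := (BThreeH.V hN).mul_mem ((BThreeH.V hN).inv_mem h2) h1
        rw [inv_mul_cancel_left] at h3
        have e2 : x2 * (v1 * (x1 * (x2 * z1)) * x1) = z * v1 := by
          simp only [mul_assoc, hN.rules, mul_one]
        rw [e2] at h3
        have h4 := (BThreeH.V hN).mul_mem ((BThreeH.V hN).inv_mem (BThreeH.z_V hN)) h3
        rw [inv_mul_cancel_left] at h4
        exact BThreeH.x0_not_V hN h4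
  · right
    push Not at hI
    obtain ⟨hK, c, hc, hcW, -, hci⟩ := caseII X hI
    refine BThreeJ.conf128 hN hSP hyP cov hns ?_ ⟨c, hc.1, fun h1 => hcW (W_le_WW X h1), ?_⟩
    · intro q hq h1 h2
      exact hK q ⟨hq, h1⟩ ⟨hq, h2⟩
    · intro q hq
      rcases hci q hq with h1 | h1
      · exact Or.inl (WW_le_W X h1)
      · exact Or.inr (WW_le_W X h1)

end Cfsg.Agent.SectRankFour.C2.BThreeK
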