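import Cfsg.Agent.SectRankFour.C2.Par

/-!
# Facts about the minimal parabolics of `Par`

* `oddGen_le_of_normal` (G1), `inverts`, `inverts'` (G2);
* `sec_nine`, `nine`, `irred16`, `exists_fpf` (G3), (G4);
* `index_three`, `index_five`, `index_nine` (G5).
-/

set_option autoImplicit false
set_option linter.unusedSectionVars false
set_option linter.unusedVariables false

namespace Cfsg.Agent.SectRankFour.C2.ParFacts

open Subgroup Cfsg Cfsg.Agent.ZN Cfsg.Agent.MinSimple.MinParabolic Cfsg.Agent.MinSimple.VModule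
open Cfsg.Agent.SectRankFour.C2.Defs Cfsg.Agent.SectRankFour.C2.ActFour
open Cfsg.Agent.SectRankFour.C2.Par (Sec)
open scoped commutatorElement

universe u

variable {G : Type u} [Group G] [Finite G] {S P R : Subgroup G} {p : ℕ}

/-! ### Basic consequences -/

theorem o2_le_S (h : Defs.Par S P R p) : o2 P ≤ S := h.inf_eq.ge.trans inf_le_left

theorem p_prime (h : Defs.Par S P R p) : p.Prime := by
  rcases h.p_eq with h1 | h1 <;> rw [h1] <;> norm_num

theorem odd_p (h : Defs.Par S P R p) : p ≠ 2 := by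
  rcases h.p_eq with h1 | h1 <;> rw [h1] <;> norm_num

theorem isPGroup_R (h : Defs.Par S P R p) : IsPGroup p R := fun x =>
  ⟨1, Subtype.ext (by simpa using h.pow_R x x.2)⟩

theorem o2_inf_R (h : Defs.Par S P R p) : o2 P ⊓ R = ⊥ := by
  have : Fact p.Prime := ⟨p_prime h⟩
  have : Fact (Nat.Prime 2) := ⟨Nat.prime_two⟩
  exact (Subgroup.disjoint_of_coprime_natCard
    (IsPGroup.coprime_card_of_ne 2 p (odd_p h).symm _ R (o2_isPGroup P) (isPGroup_R h))).eq_bot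

theorem one_lt_card_R (h : Defs.Par S P R p) : 1 < Nat.card R := by
  rcases h.card_R with h1 | ⟨-, h1⟩
  · rw [h1]; exact (p_prime h).one_lt
  · rw [h1]; norm_num

theorem S_not_le (h : Defs.Par S P R p) : ¬ S ≤ o2 P := fun h1 =>
  h.min.not_le (by rw [le_antisymm h1 (o2_le_S h)]; exact le_normalizer_o2 P)

/-- `S = Q N_S(R)` elementwise. -/
theorem exists_mul (h : Defs.Par S P R p) {s : G} (hs : s ∈ S) :
    ∃ q ∈ o2 P, ∃ n ∈ S ⊓ normalizer (R : Set G), s = q * n := by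
  have h5 : S ⊓ normalizer (R : Set G) ≤ normalizer (o2 P : Set G) :=
    (inf_le_left.trans h.le).trans (le_normalizer_o2 P)
  have h4 := h.S_le hs
  rw [← SetLike.mem_coe, coe_mul_of_right_le_normalizer_left _ _ h5] at h4
  obtain ⟨q, hq, n, hn, hqn⟩ := h4
  exact ⟨q, hq, n, hn, hqn.symm⟩

/-- `Q ∩ N(R)` centralises `R`. -/
theorem comm_of_mem (h : Defs.Par S P R p) {q : G} (hq : q ∈ o2 P)
    (hqn : q ∈ normalizer (R : Set G)) {x : G} (hx : x ∈ R) : q * x * q⁻¹ = x := by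
  have h1 : q * x * q⁻¹ * x⁻¹ ∈ o2 P ⊓ R := by
    refine mem_inf.mpr ⟨?_, ?_⟩
    · have h3 : x * q⁻¹ * x⁻¹ ∈ o2 P :=
        (mem_normalizer_iff.mp (le_normalizer_o2 P (h.R_le hx)) _).mp (inv_mem hq)
      have h4 : q * x * q⁻¹ * x⁻¹ = q * (x * q⁻¹ * x⁻¹) := by group
      rw [h4]; exact mul_mem hq h3
    · exact mul_mem ((mem_normalizer_iff.mp hqn x).mp hx) (inv_mem hx)
  rw [o2_inf_R h] at h1
  exact mul_inv_eq_one.mp (Subgroup.mem_bot.mp h1)

/-- An element of `N_S(R)` centralising `R` lies in `Q`. -/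
theorem mem_o2_of_comm (h : Defs.Par S P R p) {s : G} (hs : s ∈ S)
    (hc : ∀ x ∈ R, s * x * s⁻¹ = x) : s ∈ o2 P := by
  refine h.faithful (mem_inf.mpr ⟨hs, mem_centralizer_iff.mpr fun x hx => ?_⟩)
  have h1 := hc x hx
  calc x * s = s * x * s⁻¹ * s := by rw [h1]
    _ = s * x := by group

omit [Finite G] in
/-- normalizer from one inclusion, for subgroups closed under inverses -/
theorem le_normalizer_of {T U : Subgroup G} (h : ∀ t ∈ T, ∀ x ∈ U, t * x * t⁻¹ ∈ U) :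
    T ≤ normalizer (U : Set G) := by
  intro s hs
  refine mem_normalizer_iff.mpr fun x => ⟨h s hs x, fun hx => ?_⟩
  have h3 := h s⁻¹ (inv_mem hs) _ hx
  have h4 : s⁻¹ * (s * x * s⁻¹) * s⁻¹⁻¹ = x := by group
  rwa [h4] at h3

/-- (G1) A normal subgroup of `P` not contained in `O₂(P)` contains `O²(P)`. -/
theorem oddGen_le_of_normal (h : Defs.Par S P R p) {N : Subgroup G} (hN : N ≤ P)
    (hn : P ≤ normalizer (N : Set G)) (h' : ¬ N ≤ o2 P) : oddGen P ≤ N := by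
  have h2 : Fact (Nat.Prime 2) := ⟨Nat.prime_two⟩
  have hQN : P ≤ normalizer ((o2 P ⊔ N : Subgroup G) : Set G) := by
    intro g hg
    rw [mem_normalizer_iff_map_conj_eq, Subgroup.map_sup,
      mem_normalizer_iff_map_conj_eq.mp (le_normalizer_o2 P hg),
      mem_normalizer_iff_map_conj_eq.mp (hn hg)]
  have hinv : S ⊓ normalizer (R : Set G) ≤
      normalizer ((R ⊓ (o2 P ⊔ N) : Subgroup G) : Set G) := by
    refine le_normalizer_of fun s hs x hx => mem_inf.mpr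
      ⟨(mem_normalizer_iff.mp hs.2 x).mp hx.1, ?_⟩
    exact (mem_normalizer_iff.mp (hQN (h.le hs.1)) x).mp hx.2
  rcases h.irr _ inf_le_left hinv with h1 | h1
  · exfalso
    apply h'
    refine le_o2 hN ?_ hn
    -- `N ∩ QR ≤ Q`
    have hRQ : R ≤ normalizer (o2 P : Set G) := h.R_le.trans (le_normalizer_o2 P)
    have h3 : N ⊓ (o2 P ⊔ R) ≤ o2 P := by
      intro y hy
      obtain ⟨hyN, hy2⟩ := mem_inf.mp hy
      rw [← SetLike.mem_coe, coe_mul_of_right_le_normalizer_left _ _ hRQ] at hy2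
      obtain ⟨q, hq, x, hx, hqx⟩ := hy2
      have hqx : q * x = y := hqx
      have h4 : x ∈ R ⊓ (o2 P ⊔ N) := by
        refine mem_inf.mpr ⟨hx, ?_⟩
        have h5 : x = q⁻¹ * y := by rw [← hqx]; group
        rw [h5]
        exact mul_mem (mem_sup_left (inv_mem hq)) (mem_sup_right hyN)
      rw [h1] at h4
      rw [← hqx, Subgroup.mem_bot.mp h4, mul_one]
      exact hq
    have hKP : o2 P ⊔ R ≤ P := sup_le (o2_le P) h.R_le
    have hKn : ((o2 P ⊔ R).subgroupOf P).Normal := normal_subgroupOf_of_le_normalizer h.norm_QR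
    have hidx : ∃ m, (o2 P ⊔ R).relIndex P = 2 ^ m := by
      have e1 := Par.card_sup_mul (K := o2 P ⊔ R) (H := S) (h.le.trans h.norm_QR)
      rw [h.sup_eq, inf_comm, h.inf_eq] at e1
      have e2 := Par.card_mul_relIndex hKP
      obtain ⟨n, hn'⟩ := IsPGroup.iff_card.mp h.two
      obtain ⟨m, hm⟩ := IsPGroup.iff_card.mp (o2_isPGroup P)
      have hmn : m ≤ n := by
        have h6 : 2 ^ m ∣ 2 ^ n := by
          rw [← hn', ← hm]
          exact card_dvd_of_le (o2_le_S h)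
        exact (Nat.pow_dvd_pow_iff_le_right (by norm_num)).mp h6
      refine ⟨n - m, ?_⟩
      rw [← e2, hn', hm] at e1
      have h7 : 2 ^ n = 2 ^ (n - m) * 2 ^ m := by rw [← pow_add]; congr 1; omega
      rw [h7] at e1
      have h8 : (Nat.card ↥(o2 P ⊔ R) * 2 ^ m) * (o2 P ⊔ R).relIndex P =
          (Nat.card ↥(o2 P ⊔ R) * 2 ^ m) * 2 ^ (n - m) := by
        calc _ = Nat.card ↥(o2 P ⊔ R) * (o2 P ⊔ R).relIndex P * 2 ^ m := by ring
          _ = _ := by rw [e1]; ring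
      exact Nat.eq_of_mul_eq_mul_left (Nat.mul_pos Nat.card_pos (by positivity)) h8
    obtain ⟨m, hm⟩ := hidx
    intro g
    have h5 : (g : G) ^ 2 ^ m ∈ o2 P ⊔ R := by
      have h6 := Subgroup.pow_index_mem ((o2 P ⊔ R).subgroupOf P) ⟨g, hN g.2⟩
      rw [show ((o2 P ⊔ R).subgroupOf P).index = 2 ^ m from hm, mem_subgroupOf] at h6
      exact h6
    have h6 : (g : G) ^ 2 ^ m ∈ o2 P := h3 (mem_inf.mpr ⟨pow_mem g.2 _, h5⟩)
    obtain ⟨k, hk⟩ := o2_isPGroup P ⟨_, h6⟩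
    refine ⟨m + k, Subtype.ext ?_⟩
    have h7 : ((g : G) ^ 2 ^ m) ^ 2 ^ k = 1 := congrArg Subtype.val hk
    rw [← pow_mul, ← pow_add] at h7
    simpa using h7
  · have h3 : R ≤ o2 P ⊔ N := inf_eq_left.mp h1
    refine oddGen_le_of_sup hn ?_ h.le hN h.two
    conv_lhs => rw [← h.sup_eq]
    have h4 : o2 P ⊔ N ≤ N ⊔ S := sup_le ((o2_le_S h).trans le_sup_right) le_sup_left
    exact sup_le (sup_le (le_sup_left.trans h4) (h3.trans h4)) le_sup_right

/-- A subset of `S` outside `Q` generates with its conjugates a group containing `O²(P)`. -/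
theorem oddGen_le_cl (h : Defs.Par S P R p) {A : Subgroup G} (hA : A ≤ P) (h' : ¬ A ≤ o2 P) :
    oddGen P ≤ cl A P := by
  have hAcl : A ≤ cl A P := fun a ha => subset_closure ⟨1, one_mem _, a, ha, by group⟩
  refine oddGen_le_of_normal h ((closure_le _).mpr ?_) ?_ fun h1 => h' (hAcl.trans h1)
  · rintro _ ⟨x, hx, a, ha, rfl⟩
    exact mul_mem (mul_mem hx (hA ha)) (inv_mem hx)
  · refine le_normalizer_of fun t ht x hx => ?_
    have h1 : cl A P ≤ (cl A P).comap (MulAut.conj t).toMonoidHom := by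
      refine (closure_le _).mpr ?_
      rintro _ ⟨y, hy, a, ha, rfl⟩
      refine subset_closure ⟨t * y, mul_mem ht hy, a, ha, ?_⟩
      show t * (y * a * y⁻¹) * t⁻¹ = _
      group
    exact h1 hx

/-! ### (G2) central involutions of `S / Q` invert `R` -/

theorem inverts' (h : Defs.Par S P R p) {a : G} (ha : a ∈ S ⊓ normalizer (R : Set G))
    (haQ : a ∉ o2 P) (ha2 : a ^ 2 ∈ o2 P) (hcen : ∀ s ∈ S, a * s * a⁻¹ * s⁻¹ ∈ o2 P) {x : G}
    (hx : x ∈ R) : a * x * a⁻¹ = x⁻¹ := by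
  have hconj : ∀ y ∈ R, a * y * a⁻¹ ∈ R := fun y hy => (mem_normalizer_iff.mp ha.2 y).mp hy
  have hinv : S ⊓ normalizer (R : Set G) ≤
      normalizer ((R ⊓ centralizer ({a} : Set G) : Subgroup G) : Set G) := by
    refine le_normalizer_of fun s hs y hy => mem_inf.mpr
      ⟨(mem_normalizer_iff.mp hs.2 y).mp hy.1, mem_centralizer_singleton_iff.mpr ?_⟩
    -- `s⁻¹ a s = q a` with `q ∈ Q ∩ N(R)`
    have h1 : s⁻¹ * a * s = (s⁻¹ * a * s⁻¹⁻¹ * a⁻¹) * a := by group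
    set q := s⁻¹ * a * s⁻¹⁻¹ * a⁻¹ with hq
    have hqQ : q ∈ o2 P := by
      have h3 := hcen s⁻¹ (inv_mem hs.1)
      have h4 : q = (a * s⁻¹ * a⁻¹ * s⁻¹⁻¹)⁻¹ := by rw [hq]; group
      rw [h4]; exact inv_mem h3
    have hqn : q ∈ normalizer (R : Set G) := by
      rw [hq]
      exact mul_mem (mul_mem (mul_mem (inv_mem hs.2) ha.2) (inv_mem (inv_mem hs.2))) (inv_mem ha.2)
    have h3 : y * a = a * y := mem_centralizer_singleton_iff.mp hy.2
    have h4 := comm_of_mem h hqQ hqn hy.1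
    have h5 : (s⁻¹ * a * s) * y = y * (s⁻¹ * a * s) := by
      rw [h1]
      calc q * a * y = q * (a * y) := by group
        _ = (q * y * q⁻¹) * q * a := by rw [← h3]; group
        _ = y * (q * a) := by rw [h4]; group
    calc s * y * s⁻¹ * a = s * (y * (s⁻¹ * a * s)) * s⁻¹ := by group
      _ = s * ((s⁻¹ * a * s) * y) * s⁻¹ := by rw [h5]
      _ = a * (s * y * s⁻¹) := by group
  rcases h.irr _ inf_le_left hinv with h1 | h1
  · -- `y = x (a x a⁻¹)` is fixed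
    have h3 : ∀ y ∈ R, a ^ 2 * y * (a ^ 2)⁻¹ = y := fun y hy =>
      comm_of_mem h ha2 (pow_mem ha.2 2) hy
    have h4 : a * x * a⁻¹ * x ∈ R ⊓ centralizer ({a} : Set G) := by
      refine mem_inf.mpr ⟨mul_mem (hconj x hx) hx, mem_centralizer_singleton_iff.mpr ?_⟩
      have h5 : a * (a * x * a⁻¹ * x) * a⁻¹ = a * x * a⁻¹ * x := by
        calc a * (a * x * a⁻¹ * x) * a⁻¹ = (a ^ 2 * x * (a ^ 2)⁻¹) * (a * x * a⁻¹) := by
              rw [pow_two]; group
          _ = x * (a * x * a⁻¹) := by rw [h3 x hx]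
          _ = _ := h.comm_R x hx _ (hconj x hx)
      calc a * x * a⁻¹ * x * a = a * (a * x * a⁻¹ * x) * a⁻¹ * a := by rw [h5]
        _ = a * (a * x * a⁻¹ * x) := by group
    rw [h1] at h4
    exact mul_eq_one_iff_eq_inv.mp (Subgroup.mem_bot.mp h4)
  · exfalso
    apply haQ
    refine mem_o2_of_comm h ha.1 fun y hy => ?_
    have h3 : y ∈ R ⊓ centralizer ({a} : Set G) := by rw [h1]; exact hy
    rw [← mem_centralizer_singleton_iff.mp h3.2]; group

/-- (G2) -/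
theorem inverts (h : Defs.Par S P R p) {a : G} (ha : a ∈ S)
    (haQ : a ∉ o2 P) (ha2 : a ^ 2 ∈ o2 P) (hcen : ∀ s ∈ S, a * s * a⁻¹ * s⁻¹ ∈ o2 P) {x : G}
    (hx : x ∈ R) : a * x * a⁻¹ * x ∈ o2 P := by
  obtain ⟨q, hq, n, hn, rfl⟩ := exists_mul h ha
  have hSn : S ≤ normalizer (o2 P : Set G) := h.le.trans (le_normalizer_o2 P)
  have hnQ : n ∉ o2 P := fun h1 => haQ (mul_mem hq h1)
  have hc : ∀ g ∈ S, ∀ y ∈ o2 P, g * y * g⁻¹ ∈ o2 P := fun g hg y hy =>
    (mem_normalizer_iff.mp (hSn hg) y).mp hy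
  have hn2 : n ^ 2 ∈ o2 P := by
    have h3 : n ^ 2 = (q * (n * q * n⁻¹))⁻¹ * (q * n) ^ 2 := by
      rw [pow_two, pow_two]; group
    rw [h3]
    exact mul_mem (inv_mem (mul_mem hq (hc n hn.1 q hq))) ha2
  have hncen : ∀ s ∈ S, n * s * n⁻¹ * s⁻¹ ∈ o2 P := by
    intro s hs
    have h1 := hcen s hs
    have h3 : n * s * n⁻¹ * s⁻¹ = q⁻¹ * (q * n * s * (q * n)⁻¹ * s⁻¹) * (s * q * s⁻¹) := by group
    rw [h3]
    exact mul_mem (mul_mem (inv_mem hq) h1) (hc s hs q hq)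
  have h1 := inverts' h hn hnQ hn2 hncen hx
  have h3 : q * n * x * (q * n)⁻¹ * x = q * (n * x * n⁻¹ * q⁻¹ * (n * x * n⁻¹)⁻¹) *
      (n * x * n⁻¹ * x) := by group
  rw [h3, h1]
  have h4 : x⁻¹ * x = 1 := inv_mul_cancel x
  rw [h4, mul_one]
  refine mul_mem hq ?_
  have h5 : x⁻¹ ∈ P := inv_mem (h.R_le hx)
  have h6 := (mem_normalizer_iff.mp (le_normalizer_o2 P h5) q⁻¹).mp (inv_mem hq)
  simpa using h6

/-! ### (G3), (G4): sections -/

/-- The transfer of `ActFour.nine` to sections. -/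
theorem sec_nine (hr : SectionalPRankLE 2 4 G) {A B : Subgroup G} (hs : Sec P A B) (hR : R ≤ P)
    (hRc : ∀ x ∈ R, ∀ y ∈ R, x * y = y * x) (hR3 : ∀ x ∈ R, x ^ 3 = 1) (hR9 : Nat.card R = 9)
    (hf : ∀ x ∈ R, (∀ a ∈ A, x * a * x⁻¹ * a⁻¹ ∈ B) → x = 1) :
    Nat.card A = 16 * Nat.card B ∧ ∃ (B1 B2 : Subgroup G) (h1 : B1 ≤ R) (h2 : B2 ≤ R),
      Nat.card B1 = 3 ∧ Nat.card B2 = 3 ∧ B1 ⊓ B2 = ⊥ ∧ B1 ⊔ B2 = R ∧
      Nat.card (hs.cen (h1.trans hR)) = 4 * Nat.card B ∧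
      Nat.card (hs.cen (h2.trans hR)) = 4 * Nat.card B ∧
      hs.cen (h1.trans hR) ⊓ hs.cen (h2.trans hR) = B ∧
      hs.cen (h1.trans hR) ⊔ hs.cen (h2.trans hR) = A ∧
      ∀ z ∈ R, z ∉ B1 → z ∉ B2 → ∀ a ∈ A, z * a * z⁻¹ * a⁻¹ ∈ B → a ∈ B := by
  obtain ⟨Y, _, _, π, V, hsur, hVn, hVc, hV2, hcard, hV, hπ⟩ := hs.exists_quot
  have h16 : Nat.card V ≤ 16 := by
    have h1 := hs.card_le hr
    rw [← hcard] at h1
    exact Nat.le_of_mul_le_mul_right h1 Nat.card_pos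
  -- the image of `R`
  have hinj : ∀ x : P, (x : G) ∈ R → π x = 1 → x = 1 := by
    intro x hx hx1
    have hxB : (x : G) ∈ B := (hπ x).mp hx1
    refine Subtype.ext (hf x hx fun a ha => ?_)
    exact hs.comm _ (hs.le hxB) a ha
  have hinj' : Function.Injective (π.comp (R.subgroupOf P).subtype) := by
    rw [injective_iff_map_eq_one]
    intro x hx
    exact Subtype.ext (hinj x.1 (mem_subgroupOf.mp x.2) hx)
  have hcardmap : ∀ C : Subgroup G, C ≤ R → Nat.card ((C.subgroupOf P).map π) = Nat.card C := by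
    intro C hC
    have hinjC : Function.Injective (π.comp (C.subgroupOf P).subtype) := by
      rw [injective_iff_map_eq_one]
      intro x hx
      exact Subtype.ext (hinj x.1 (hC (mem_subgroupOf.mp x.2)) hx)
    have e1 : (π.comp (C.subgroupOf P).subtype).range = (C.subgroupOf P).map π := by
      rw [MonoidHom.range_comp, range_subtype]
    rw [← e1, ← Par.card_subgroupOf (hC.trans hR)]
    exact (Nat.card_congr (MonoidHom.ofInjective hinjC).toEquiv).symm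
  set R' := (R.subgroupOf P).map π with hR'
  have key := ActFour.nine (V := V) (R := R') hVc hV2 h16
    (by
      rintro _ ⟨x, hx, rfl⟩ _ ⟨y, hy, rfl⟩
      rw [← map_mul, ← map_mul]
      congr 1
      exact Subtype.ext (hRc x hx y hy))
    (by
      rintro _ ⟨x, hx, rfl⟩
      rw [← map_pow]
      have : x ^ 3 = 1 := Subtype.ext (by push_cast; exact hR3 x hx)
      rw [this, map_one])
    (by rw [hR', hcardmap R le_rfl, hR9])
    (fun x _ => by rw [Subgroup.normalizer_eq_top]; exact mem_top _)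
    (by
      rw [Subgroup.eq_bot_iff_forall]
      rintro y hy
      obtain ⟨⟨x, hx, rfl⟩, hyc⟩ := mem_inf.mp hy
      have hx' : (x : G) ∈ R := hx
      have : x = 1 := by
        refine Subtype.ext (hf x hx' fun a ha => ?_)
        have h1 := mem_centralizer_iff.mp hyc (π ⟨a, hs.leP ha⟩) ((hV _).mpr ha)
        exact (Sec.comm_iff hπ x ⟨a, hs.leP ha⟩).mp h1.symm
      rw [this, map_one])
  obtain ⟨hV16, C1, C2, hC1, hC2, hc1, hc2, hint, hsup, hk1, hk2, hki, hks, hfix⟩ := key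
  refine ⟨by rw [← hcard, hV16], ?_⟩
  -- pull back
  have pull : ∀ C : Subgroup Y, C ≤ R' →
      ((R.subgroupOf P ⊓ C.comap π).map P.subtype ≤ R ∧
        (((R.subgroupOf P ⊓ C.comap π).map P.subtype).subgroupOf P).map π = C) := by
    intro C hC
    constructor
    · rintro _ ⟨x, hx, rfl⟩
      exact mem_subgroupOf.mp hx.1
    · ext y
      constructor
      · rintro ⟨x, hx, rfl⟩
        obtain ⟨x', hx', hxx⟩ := mem_subgroupOf.mp hx
        have : x' = x := Subtype.ext hxx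
        rw [← this]
        exact hx'.2
      · intro hy
        obtain ⟨x, hx, rfl⟩ := hC hy
        exact ⟨x, mem_subgroupOf.mpr ⟨x, mem_inf.mpr ⟨hx, hy⟩, rfl⟩, rfl⟩
  obtain ⟨p1, q1⟩ := pull C1 hC1
  obtain ⟨p2, q2⟩ := pull C2 hC2
  set B1 := (R.subgroupOf P ⊓ C1.comap π).map P.subtype with hB1
  set B2 := (R.subgroupOf P ⊓ C2.comap π).map P.subtype with hB2
  have hcB1 : Nat.card B1 = 3 := by rw [← hcardmap B1 p1, q1, hc1]
  have hcB2 : Nat.card B2 = 3 := by rw [← hcardmap B2 p2, q2, hc2]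
  have hmem : ∀ (C : Subgroup Y) (x : G) (hx : x ∈ P), x ∈ R →
      (x ∈ (R.subgroupOf P ⊓ C.comap π).map P.subtype ↔ π ⟨x, hx⟩ ∈ C) := by
    intro C x hx hxR
    constructor
    · rintro ⟨y, hy, hyx⟩
      have : y = ⟨x, hx⟩ := Subtype.ext hyx
      rw [← this]
      exact hy.2
    · intro h1
      exact ⟨⟨x, hx⟩, mem_inf.mpr ⟨mem_subgroupOf.mpr hxR, h1⟩, rfl⟩
  refine ⟨B1, B2, p1, p2, hcB1, hcB2, ?_, ?_, ?_, ?_, ?_, ?_, ?_⟩
  · rw [Subgroup.eq_bot_iff_forall]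
    intro x hx
    obtain ⟨hx1, hx2⟩ := mem_inf.mp hx
    have hxR := p1 hx1
    have h1 := (hmem C1 x (hR hxR) hxR).mp hx1
    have h2 := (hmem C2 x (hR hxR) hxR).mp hx2
    have h3 : π ⟨x, hR hxR⟩ ∈ C1 ⊓ C2 := mem_inf.mpr ⟨h1, h2⟩
    rw [hint] at h3
    exact congrArg Subtype.val (hinj ⟨x, hR hxR⟩ hxR (Subgroup.mem_bot.mp h3))
  · apply le_antisymm (sup_le p1 p2)
    have e1 : ((B1 ⊔ B2).subgroupOf P).map π = R' := by
      apply le_antisymm
      · rw [hR']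
        exact map_mono fun x hx => mem_subgroupOf.mpr ((sup_le p1 p2) (mem_subgroupOf.mp hx))
      · rw [← hsup, ← q1, ← q2]
        refine sup_le (map_mono fun x hx => ?_) (map_mono fun x hx => ?_)
        · exact mem_subgroupOf.mpr (mem_sup_left (mem_subgroupOf.mp hx))
        · exact mem_subgroupOf.mpr (mem_sup_right (mem_subgroupOf.mp hx))
    have e2 : Nat.card (B1 ⊔ B2 : Subgroup G) = Nat.card R := by
      rw [← hcardmap _ (sup_le p1 p2), e1, hR', hcardmap R le_rfl]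
    exact (Subgroup.eq_of_le_of_card_ge (sup_le p1 p2) e2.ge).ge
  · rw [hs.card_cen (p1.trans hR) hsur hV hπ, q1, hk1, mul_comm]
  · rw [hs.card_cen (p2.trans hR) hsur hV hπ, q2, hk2, mul_comm]
  · apply le_antisymm
    · intro a ha
      obtain ⟨ha1, ha2⟩ := mem_inf.mp ha
      have haP := hs.leP (hs.cen_le _ ha1)
      have h1 := (hs.cen_iff (p1.trans hR) hV hπ ⟨a, haP⟩).mpr ha1
      have h2 := (hs.cen_iff (p2.trans hR) hV hπ ⟨a, haP⟩).mpr ha2
      rw [q1] at h1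
      rw [q2] at h2
      have h3 := mem_inf.mpr ⟨h1, h2⟩
      rw [hki] at h3
      exact (hπ _).mp (Subgroup.mem_bot.mp h3)
    · exact le_inf (hs.le_cen _) (hs.le_cen _)
  · apply le_antisymm (sup_le (hs.cen_le _) (hs.cen_le _))
    intro a ha
    have haP := hs.leP ha
    have h1 : π ⟨a, haP⟩ ∈ V := (hV _).mpr ha
    rw [← hks] at h1
    have hcm : ∀ v ∈ (V ⊓ centralizer (C1 : Set Y)), v ∈ normalizer
        ((V ⊓ centralizer (C2 : Set Y) : Subgroup Y) : Set Y) := by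
      intro v hv
      refine mem_normalizer_iff.mpr fun w => ?_
      constructor
      · intro hw
        have : v * w * v⁻¹ = w := by rw [hVc v hv.1 w hw.1]; group
        rwa [this]
      · intro hw
        have hwV : w ∈ V := by
          have e : w = v⁻¹ * (v * w * v⁻¹) * v := by group
          rw [e]; exact mul_mem (mul_mem (inv_mem hv.1) hw.1) hv.1
        have : v * w * v⁻¹ = w := by rw [hVc v hv.1 w hwV]; group
        rwa [this] at hw
    rw [← SetLike.mem_coe, coe_mul_of_left_le_normalizer_right _ _ hcm] at h1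
    obtain ⟨v, hv, w, hw, hvw⟩ := h1
    have hvw : v * w = π ⟨a, haP⟩ := hvw
    obtain ⟨x, rfl⟩ := hsur v
    obtain ⟨y, rfl⟩ := hsur w
    have hv' : π x ∈ V ⊓ centralizer (C1 : Set Y) := hv
    have hw' : π y ∈ V ⊓ centralizer (C2 : Set Y) := hw
    rw [← q1] at hv'
    rw [← q2] at hw'
    have hx := (hs.cen_iff (p1.trans hR) hV hπ x).mp hv'
    have hy := (hs.cen_iff (p2.trans hR) hV hπ y).mp hw'
    have h3 : ((x * y)⁻¹ * ⟨a, haP⟩ : P).1 ∈ B := by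
      rw [← hπ, map_mul, map_inv, map_mul, hvw, inv_mul_cancel]
    have h4 : a = (x : G) * (y * ((x * y)⁻¹ * ⟨a, haP⟩ : P).1) := by push_cast; group
    rw [h4]
    exact mul_mem (mem_sup_left hx) (mem_sup_right (mul_mem hy (hs.le_cen _ h3)))
  · intro z hz hz1 hz2 a ha hza
    have h1 := hfix (π ⟨z, hR hz⟩) ⟨⟨z, hR hz⟩, hz, rfl⟩ (fun h => hz1 ((hmem C1 z (hR hz) hz).mpr h))
      (fun h => hz2 ((hmem C2 z (hR hz) hz).mpr h))
    have h2 : π ⟨a, hs.leP ha⟩ ∈ V ⊓ centralizer ({π ⟨z, hR hz⟩} : Set Y) := by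
      refine mem_inf.mpr ⟨(hV _).mpr ha, mem_centralizer_singleton_iff.mpr ?_⟩
      exact ((Sec.comm_iff hπ ⟨z, hR hz⟩ ⟨a, hs.leP ha⟩).mpr hza).symm
    rw [h1] at h2
    exact (hπ _).mp (Subgroup.mem_bot.mp h2)

/-- `R` acts faithfully on every section on which it acts nontrivially. -/
theorem faithful_sec (h : Defs.Par S P R p) {A B : Subgroup G} (hs : Sec P A B)
    (hn : ∃ a ∈ A, ∃ x ∈ R, x * a * x⁻¹ * a⁻¹ ∉ B) :
    ∀ x ∈ R, (∀ a ∈ A, x * a * x⁻¹ * a⁻¹ ∈ B) → x = 1 := by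
  let R0 : Subgroup G :=
    { carrier := {x | x ∈ R ∧ ∀ a ∈ A, x * a * x⁻¹ * a⁻¹ ∈ B}
      one_mem' := ⟨one_mem _, fun a _ => by simp⟩
      mul_mem' := by
        rintro x y ⟨hx, hx'⟩ ⟨hy, hy'⟩
        refine ⟨mul_mem hx hy, fun a ha => ?_⟩
        have h1 : x * y * a * (x * y)⁻¹ * a⁻¹ =
            (x * (y * a * y⁻¹) * x⁻¹ * (y * a * y⁻¹)⁻¹) * (y * a * y⁻¹ * a⁻¹) := by group
        rw [h1]
        exact mul_mem (hx' _ (hs.conjA (h.R_le hy) ha)) (hy' a ha)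
      inv_mem' := by
        rintro x ⟨hx, hx'⟩
        refine ⟨inv_mem hx, fun a ha => ?_⟩
        have h1 : x⁻¹ * a * x⁻¹⁻¹ * a⁻¹ =
            (x * (x⁻¹ * a * x⁻¹⁻¹) * x⁻¹ * (x⁻¹ * a * x⁻¹⁻¹)⁻¹)⁻¹ := by group
        rw [h1]
        exact inv_mem (hx' _ (hs.conjA (inv_mem (h.R_le hx)) ha)) }
  have hinv : S ⊓ normalizer (R : Set G) ≤ normalizer (R0 : Set G) := by
    refine le_normalizer_of fun s hs' x hx => ⟨(mem_normalizer_iff.mp hs'.2 x).mp hx.1, fun a ha => ?_⟩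
    have hsP := h.le hs'.1
    have h1 := hx.2 _ (hs.conjA (inv_mem hsP) ha)
    have h2 := hs.conjB hsP h1
    have h3 : s * (x * (s⁻¹ * a * s⁻¹⁻¹) * x⁻¹ * (s⁻¹ * a * s⁻¹⁻¹)⁻¹) * s⁻¹ =
        s * x * s⁻¹ * a * (s * x * s⁻¹)⁻¹ * a⁻¹ := by group
    rwa [h3] at h2
  rcases h.irr R0 (fun x hx => hx.1) hinv with h1 | h1
  · intro x hx hxa
    have h2 : x ∈ R0 := ⟨hx, hxa⟩
    rw [h1] at h2
    exact Subgroup.mem_bot.mp h2
  · exfalso
    obtain ⟨a, ha, x, hx, hxa⟩ := hn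
    have h2 : x ∈ R0 := by rw [h1]; exact hx
    exact hxa (h2.2 a ha)

/-- (G4) for `|R| = 9`. -/
theorem nine (hr : SectionalPRankLE 2 4 G) (h : Defs.Par S P R p) (hcard : Nat.card R = 9)
    {A B : Subgroup G} (hs : Sec P A B) (hn : ∃ a ∈ A, ∃ x ∈ R, x * a * x⁻¹ * a⁻¹ ∉ B) :
    Nat.card A = 16 * Nat.card B ∧ ∃ (B1 B2 : Subgroup G) (h1 : B1 ≤ R) (h2 : B2 ≤ R),
      Nat.card B1 = 3 ∧ Nat.card B2 = 3 ∧ B1 ⊓ B2 = ⊥ ∧ B1 ⊔ B2 = R ∧
      Nat.card (hs.cen (h1.trans h.R_le)) = 4 * Nat.card B ∧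
      Nat.card (hs.cen (h2.trans h.R_le)) = 4 * Nat.card B ∧
      hs.cen (h1.trans h.R_le) ⊓ hs.cen (h2.trans h.R_le) = B ∧
      hs.cen (h1.trans h.R_le) ⊔ hs.cen (h2.trans h.R_le) = A ∧
      (∀ z ∈ R, z ∉ B1 → z ∉ B2 → ∀ a ∈ A, z * a * z⁻¹ * a⁻¹ ∈ B → a ∈ B) ∧
      (∀ g ∈ P, g ∈ normalizer (R : Set G) →
        ((∀ x ∈ B1, g * x * g⁻¹ ∈ B1) ∧ (∀ x ∈ B2, g * x * g⁻¹ ∈ B2)) ∨
        ((∀ x ∈ B1, g * x * g⁻¹ ∈ B2) ∧ (∀ x ∈ B2, g * x * g⁻¹ ∈ B1))) ∧
      ∃ s ∈ S ⊓ normalizer (R : Set G),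
        (∀ x ∈ B1, s * x * s⁻¹ ∈ B2) ∧ (∀ x ∈ B2, s * x * s⁻¹ ∈ B1) := by
  have hp3 : p = 3 := by
    rcases h.card_R with h1 | ⟨h1, -⟩
    · exfalso
      rw [hcard] at h1
      rcases h.p_eq with h2 | h2 <;> omega
    · exact h1
  subst hp3
  obtain ⟨hA, B1, B2, h1, h2, hc1, hc2, hint, hsup, hk1, hk2, hki, hks, hfix⟩ :=
    sec_nine hr hs h.R_le h.comm_R h.pow_R hcard (faithful_sec h hs hn)
  have h3 : Fact (Nat.Prime 3) := ⟨Nat.prime_three⟩
  have hBcard : Nat.card A ≠ Nat.card B := by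
    have := Nat.card_pos (α := B)
    omega
  -- a nontrivial element of `R` with fixed points lies in `B1 ∪ B2`
  have hone : ∀ (C : Subgroup G) (hC : C ≤ R), Nat.card (hs.cen (hC.trans h.R_le)) = 4 * Nat.card B →
      ∀ x ∈ C, x ∈ B1 ∨ x ∈ B2 := by
    intro C hC hcC x hx
    by_contra hcon
    push Not at hcon
    have h4 := hfix x (hC hx) hcon.1 hcon.2
    have h5 : hs.cen (hC.trans h.R_le) ≤ B := fun a ha => h4 a ha.1 (ha.2 x hx)
    have h6 := Subgroup.card_le_of_le h5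
    have := Nat.card_pos (α := B)
    omega
  have hprime : ∀ (C D : Subgroup G), Nat.card C = 3 → Nat.card D = 3 → ∀ x ∈ C, x ∈ D → x ≠ 1 →
      C = D := by
    intro C D hC hD x hxC hxD hx1
    have e1 : ∀ E : Subgroup G, Nat.card E = 3 → x ∈ E → zpowers x = E := by
      intro E hE hxE
      refine Subgroup.eq_of_le_of_card_ge (zpowers_le.mpr hxE) ?_
      rw [hE, Nat.card_zpowers]
      have h4 : orderOf x ∣ 3 := by
        rw [← hE, ← Nat.card_zpowers]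
        exact card_dvd_of_le (zpowers_le.mpr hxE)
      rcases (Nat.dvd_prime Nat.prime_three).mp h4 with h5 | h5
      · exact absurd (orderOf_eq_one_iff.mp h5) hx1
      · exact h5.ge
    rw [← e1 C hC hxC, e1 D hD hxD]
  have hne : B1 ≠ B2 := by
    intro h4
    rw [h4, inf_idem] at hint
    rw [hint, Subgroup.card_bot] at hc2
    omega
  -- conjugates
  have hconj : ∀ g ∈ P, g ∈ normalizer (R : Set G) → ∀ (C : Subgroup G) (hC : C ≤ R), Nat.card C = 3 →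
      Nat.card (hs.cen (hC.trans h.R_le)) = 4 * Nat.card B →
      (∀ x ∈ C, g * x * g⁻¹ ∈ B1) ∨ (∀ x ∈ C, g * x * g⁻¹ ∈ B2) := by
    intro g hg hgR C hC hC3 hCc
    set D := C.map (MulAut.conj g).toMonoidHom with hD
    have hDR : D ≤ R := by
      rintro _ ⟨x, hx, rfl⟩
      exact (mem_normalizer_iff.mp hgR x).mp (hC hx)
    have hD3 : Nat.card D = 3 := by
      rw [hD, Subgroup.card_map_of_injective (MulAut.conj g).injective, hC3]
    have hDc : Nat.card (hs.cen (hDR.trans h.R_le)) = 4 * Nat.card B := by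
      rw [← hCc]
      have e1 : (hs.cen (hC.trans h.R_le)).map (MulAut.conj g).toMonoidHom =
          hs.cen (hDR.trans h.R_le) := by
        apply le_antisymm
        · rintro _ ⟨a, ha, rfl⟩
          refine hs.conj_mem_cen (hC.trans h.R_le) (hDR.trans h.R_le) hg ?_ ha
          rintro _ ⟨x, hx, rfl⟩
          show g⁻¹ * (g * x * g⁻¹) * g ∈ C
          have : g⁻¹ * (g * x * g⁻¹) * g = x := by group
          rwa [this]
        · intro a ha
          refine ⟨g⁻¹ * a * g⁻¹⁻¹, ?_, ?_⟩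
          · refine hs.conj_mem_cen (hDR.trans h.R_le) (hC.trans h.R_le) (inv_mem hg) ?_ ha
            intro x hx
            exact ⟨x, hx, by show g * x * g⁻¹ = _; group⟩
          · show g * (g⁻¹ * a * g⁻¹⁻¹) * g⁻¹ = a
            group
      rw [← e1, Subgroup.card_map_of_injective (MulAut.conj g).injective]
    obtain ⟨x, hx, hx1⟩ := exists_ne_one (B := D) (by rw [hD3]; norm_num)
    rcases hone D hDR hDc x hx with h4 | h4
    · left
      have h5 := hprime D B1 hD3 hc1 x hx h4 hx1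
      intro y hy
      rw [← h5]
      exact ⟨y, hy, rfl⟩
    · right
      have h5 := hprime D B2 hD3 hc2 x hx h4 hx1
      intro y hy
      rw [← h5]
      exact ⟨y, hy, rfl⟩
  have hperm : ∀ g ∈ P, g ∈ normalizer (R : Set G) →
      ((∀ x ∈ B1, g * x * g⁻¹ ∈ B1) ∧ (∀ x ∈ B2, g * x * g⁻¹ ∈ B2)) ∨
      ((∀ x ∈ B1, g * x * g⁻¹ ∈ B2) ∧ (∀ x ∈ B2, g * x * g⁻¹ ∈ B1)) := by
    intro g hg hgR
    obtain ⟨x1, hx1, hx11⟩ := exists_ne_one (B := B1) (by rw [hc1]; norm_num)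
    obtain ⟨x2, hx2, hx21⟩ := exists_ne_one (B := B2) (by rw [hc2]; norm_num)
    have hne1 : ∀ x : G, x ≠ 1 → g * x * g⁻¹ ≠ 1 := fun x hx h4 => hx (by
      calc x = g⁻¹ * (g * x * g⁻¹) * g := by group
        _ = 1 := by rw [h4]; group)
    have himg : ∀ (C D : Subgroup G), Nat.card C = 3 → Nat.card D = 3 →
        (∀ x ∈ C, g * x * g⁻¹ ∈ D) → C.map (MulAut.conj g).toMonoidHom = D := by
      intro C D hC hD h4
      refine Subgroup.eq_of_le_of_card_ge ?_ ?_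
      · rintro _ ⟨x, hx, rfl⟩
        exact h4 x hx
      · rw [Subgroup.card_map_of_injective (MulAut.conj g).injective, hC, hD]
    have hinj : ∀ (C C' D : Subgroup G), Nat.card C = 3 → Nat.card C' = 3 → Nat.card D = 3 →
        (∀ x ∈ C, g * x * g⁻¹ ∈ D) → (∀ x ∈ C', g * x * g⁻¹ ∈ D) → C = C' := by
      intro C C' D hC hC' hD h4 h5
      have h6 := (himg C D hC hD h4).trans (himg C' D hC' hD h5).symm
      exact Subgroup.map_injective (MulAut.conj g).injective h6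
    rcases hconj g hg hgR B1 h1 hc1 hk1 with h4 | h4 <;>
      rcases hconj g hg hgR B2 h2 hc2 hk2 with h5 | h5
    · exact absurd (hinj _ _ _ hc1 hc2 hc1 h4 h5) hne
    · exact Or.inl ⟨h4, h5⟩
    · exact Or.inr ⟨h4, h5⟩
    · exact absurd (hinj _ _ _ hc1 hc2 hc2 h4 h5) hne
  refine ⟨hA, B1, B2, h1, h2, hc1, hc2, hint, hsup, hk1, hk2, hki, hks, hfix, hperm, ?_⟩
  by_contra hcon
  push Not at hcon
  have hinv : S ⊓ normalizer (R : Set G) ≤ normalizer (B1 : Set G) := by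
    refine le_normalizer_of fun s hs' x hx => ?_
    rcases hperm s (h.le hs'.1) hs'.2 with h4 | h4
    · exact h4.1 x hx
    · obtain ⟨y, hy, hy'⟩ := hcon s hs' h4.1
      exact absurd (h4.2 y hy) hy'
  rcases h.irr B1 h1 hinv with h4 | h4
  · rw [h4, Subgroup.card_bot] at hc1; omega
  · rw [h4, hcard] at hc1; omega

/-- (G3) For `|R| ≠ 3` every section on which `R` acts nontrivially has order 16 and is
`P`-irreducible. -/
theorem irred16 (hr : SectionalPRankLE 2 4 G) (h : Defs.Par S P R p) (hcard : Nat.card R ≠ 3)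
    {A B : Subgroup G} (hs : Sec P A B) (hn : ∃ a ∈ A, ∃ x ∈ R, x * a * x⁻¹ * a⁻¹ ∉ B) :
    Nat.card A = 16 * Nat.card B ∧ (∀ a ∈ A, (∀ x ∈ R, x * a * x⁻¹ * a⁻¹ ∈ B) → a ∈ B) ∧
      ∀ D, B ≤ D → D ≤ A → P ≤ normalizer (D : Set G) → D = B ∨ D = A := by
  have key : ∀ A : Subgroup G, ∀ hs : Sec P A B, (∃ a ∈ A, ∃ x ∈ R, x * a * x⁻¹ * a⁻¹ ∉ B) →
      Nat.card A = 16 * Nat.card B ∧ (∀ a ∈ A, (∀ x ∈ R, x * a * x⁻¹ * a⁻¹ ∈ B) → a ∈ B) := by
    intro A hs hn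
    rcases h.card_R with h1 | ⟨-, h1⟩
    · have hp5 : p = 5 := by
        rcases h.p_eq with h2 | h2
        · rw [h1, h2] at hcard; exact absurd rfl hcard
        · exact h2
      subst hp5
      obtain ⟨a, ha, x, hx, hxa⟩ := hn
      obtain ⟨e1, e2⟩ := hs.five hr (h.R_le hx) (h.pow_R x hx) (fun h2 => hxa (h2 a ha))
      exact ⟨e1, fun b hb hb' => e2 b hb (hb' x hx)⟩
    · obtain ⟨e1, B1, B2, h1', h2', hc1, hc2, hint, hsup, hk1, hk2, hki, hks, hfix, -⟩ :=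
        nine hr h h1 hs hn
      refine ⟨e1, fun a ha ha' => ?_⟩
      rw [← hki]
      exact mem_inf.mpr ⟨⟨ha, fun x hx => ha' x (h1' hx)⟩, ⟨ha, fun x hx => ha' x (h2' hx)⟩⟩
  obtain ⟨e1, e2⟩ := key A hs hn
  refine ⟨e1, e2, fun D hBD hDA hDP => ?_⟩
  have hsD : Sec P D B := ⟨hBD, hDA.trans hs.leP, hDP, hs.nB,
    fun a ha b hb => hs.comm a (hDA ha) b (hDA hb), fun a ha => hs.sq a (hDA ha)⟩
  by_cases hnD : ∃ a ∈ D, ∃ x ∈ R, x * a * x⁻¹ * a⁻¹ ∉ B
  · right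
    obtain ⟨e3, -⟩ := key D hsD hnD
    exact Subgroup.eq_of_le_of_card_ge hDA (by rw [e1, e3])
  · left
    push Not at hnD
    exact le_antisymm (fun a ha => e2 a (hDA ha) (hnD a ha)) hBD

/-- (G4) A fixed point free element. -/
theorem exists_fpf (hr : SectionalPRankLE 2 4 G) (h : Defs.Par S P R p) (hcard : Nat.card R ≠ 3)
    {A B : Subgroup G} (hs : Sec P A B) (hn : ∃ a ∈ A, ∃ x ∈ R, x * a * x⁻¹ * a⁻¹ ∉ B) :
    ∃ x ∈ R, x ≠ 1 ∧ ∀ a ∈ A, x * a * x⁻¹ * a⁻¹ ∈ B → a ∈ B := by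
  rcases h.card_R with h1 | ⟨-, h1⟩
  · have hp5 : p = 5 := by
      rcases h.p_eq with h2 | h2
      · rw [h1, h2] at hcard; exact absurd rfl hcard
      · exact h2
    subst hp5
    obtain ⟨a, ha, x, hx, hxa⟩ := hn
    obtain ⟨-, e2⟩ := hs.five hr (h.R_le hx) (h.pow_R x hx) (fun h2 => hxa (h2 a ha))
    exact ⟨x, hx, fun h2 => hxa (by rw [h2]; simp), e2⟩
  · obtain ⟨e1, B1, B2, h1', h2', hc1, hc2, hint, hsup, hk1, hk2, hki, hks, hfix, -⟩ :=
      nine hr h h1 hs hn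
    obtain ⟨x1, hx1, hx11⟩ := exists_ne_one (B := B1) (by rw [hc1]; norm_num)
    obtain ⟨x2, hx2, hx21⟩ := exists_ne_one (B := B2) (by rw [hc2]; norm_num)
    have hbot : ∀ x, x ∈ B1 → x ∈ B2 → x = 1 := fun x h4 h5 => by
      have h6 := mem_inf.mpr ⟨h4, h5⟩
      rw [hint] at h6
      exact Subgroup.mem_bot.mp h6
    refine ⟨x1 * x2, mul_mem (h1' hx1) (h2' hx2), fun h4 => ?_,
      hfix _ (mul_mem (h1' hx1) (h2' hx2)) (fun h4 => ?_) (fun h4 => ?_)⟩
    · have h5 : x1 = x2⁻¹ := mul_eq_one_iff_eq_inv.mp h4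
      exact hx11 (hbot x1 hx1 (by rw [h5]; exact inv_mem hx2))
    · have h5 : x2 = x1⁻¹ * (x1 * x2) := by group
      exact hx21 (hbot x2 (by rw [h5]; exact mul_mem (inv_mem hx1) h4) hx2)
    · have h5 : x1 = x1 * x2 * x2⁻¹ := by group
      exact hx11 (hbot x1 hx1 (by rw [h5]; exact mul_mem h4 (inv_mem hx2)))

end Cfsg.Agent.SectRankFour.C2.ParFacts
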