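import Mathlib
import Cfsg.Agent.SectRankFour.C2.BThreeK
import Cfsg.Agent.SectRankFour.C2.ParFacts

/-!
# S0517, two maximal 2-locals, rank 4: the case `b ≥ 3`

`main`: `Pair S P1 P2`, `V = zl S P1 ≤ o2 P2` and `⟨V^{P2}⟩` abelian imply `Conf64` or `Conf128`.

* `cov_of_index`: if `|P : S| = 3` and `y ∈ P` has order 3 then `P = S ∪ yS ∪ y⁻¹S`.
-/

set_option autoImplicit false

namespace Cfsg.Agent.SectRankFour.C2.BThree

open Subgroup Cfsg Cfsg.Agent.ZN Cfsg.Agent.SectRankFour.C2.Defs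
  Cfsg.Agent.SectRankFour.C2.BThreeA
open Cfsg.Agent.MinSimple.VModule
open Cfsg.Agent.MinSimple.Basic (zc_ne_bot)
open Cfsg.Agent.SectRankFour.C2.ParFacts (le_normalizer_of o2_le_S)
open Cfsg.Agent.SectRankFour.C2.ActFour (exists_ne_one)

universe u

variable {G : Type u} [Group G] [Finite G] {S P P1 P2 R : Subgroup G}

/-- `P = S ∪ yS ∪ y⁻¹S`. -/
theorem cov_of_index (hSP : S ≤ P) (hidx : S.relIndex P = 3) {y : G} (hy : y ∈ P)
    (hyS : y ∉ S) (hy3 : y * y * y = 1) :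
    ∀ g ∈ P, g ∈ S ∨ y⁻¹ * g ∈ S ∨ y * g ∈ S := by
  intro g hg
  by_contra hcon
  push Not at hcon
  obtain ⟨h1, h2, h3⟩ := hcon
  have hyy := inv_mul_inv hy3
  let q : P → P ⧸ S.subgroupOf P := fun x => (x : P ⧸ S.subgroupOf P)
  have hq : ∀ a b : P, q a = q b ↔ (a : G)⁻¹ * b ∈ S := by
    intro a b
    refine QuotientGroup.eq.trans ?_
    rw [mem_subgroupOf]
    rfl
  have hcard : Nat.card (P ⧸ S.subgroupOf P) = 3 := hidx
  classical
  have hfin : Fintype (P ⧸ S.subgroupOf P) := Fintype.ofFinite _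
  have hle := Finset.card_le_univ ({q 1, q ⟨y, hy⟩, q ⟨y⁻¹, inv_mem hy⟩, q ⟨g, hg⟩} :
    Finset (P ⧸ S.subgroupOf P))
  rw [← Nat.card_eq_fintype_card, hcard, Finset.card_insert_of_notMem,
    Finset.card_insert_of_notMem, Finset.card_insert_of_notMem, Finset.card_singleton] at hle
  · exact absurd hle (by norm_num)
  · simp only [Finset.mem_singleton, hq]
    show ¬ y⁻¹⁻¹ * g ∈ S
    rw [inv_inv]; exact h3
  · simp only [Finset.mem_insert, Finset.mem_singleton, hq, not_or]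
    refine ⟨?_, ?_⟩
    · show ¬ y⁻¹ * y⁻¹ ∈ S
      rw [hyy]; exact hyS
    · show ¬ y⁻¹ * g ∈ S
      exact h2
  · simp only [Finset.mem_insert, Finset.mem_singleton, hq, not_or]
    refine ⟨?_, ?_, ?_⟩
    · show ¬ (1 : G)⁻¹ * y ∈ S
      rw [inv_one, one_mul]; exact hyS
    · show ¬ (1 : G)⁻¹ * y⁻¹ ∈ S
      rw [inv_one, one_mul]; exact fun h => hyS (by simpa using inv_mem h)
    · show ¬ (1 : G)⁻¹ * g ∈ S
      rw [inv_one, one_mul]; exact h1

omit [Finite G] in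
theorem half_of_cov (hSP : S ≤ P) {y : G} (hy : y ∈ P) (hyS : y ∉ S) (hy3 : y * y * y = 1)
    (cov : ∀ g ∈ P, g ∈ S ∨ y⁻¹ * g ∈ S ∨ y * g ∈ S) : Half S y where
  cube := hy3
  notmem := hyS
  dich := by
    intro s hs
    have hyi : y⁻¹ ∉ S := fun h => hyS (by simpa using inv_mem h)
    have c1 : y⁻¹ * s * y ∈ S ∨ y * s * y ∈ S := by
      rcases cov (s * y) (mul_mem (hSP hs) hy) with h1 | h1 | h1
      · exfalso
        have h2 := mul_mem (inv_mem hs) h1
        rw [inv_mul_cancel_left] at h2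
        exact hyS h2
      · left; rwa [← mul_assoc] at h1
      · right; rwa [← mul_assoc] at h1
    have c2 : y⁻¹ * s * y⁻¹ ∈ S ∨ y * s * y⁻¹ ∈ S := by
      rcases cov (s * y⁻¹) (mul_mem (hSP hs) (inv_mem hy)) with h1 | h1 | h1
      · exfalso
        have h2 := mul_mem (inv_mem hs) h1
        rw [inv_mul_cancel_left] at h2
        exact hyi h2
      · left; rwa [← mul_assoc] at h1
      · right; rwa [← mul_assoc] at h1
    have hyy : y * y ∉ S := by rw [sq_eq_inv hy3]; exact hyi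
    rcases c1 with c1 | c1 <;> rcases c2 with c2 | c2
    · exfalso
      have h1 := mul_mem (inv_mem c2) c1
      have e : (y⁻¹ * s * y⁻¹)⁻¹ * (y⁻¹ * s * y) = y * y := by group
      rw [e] at h1
      exact hyy h1
    · left; exact ⟨c1, c2⟩
    · right; exact ⟨c1, c2⟩
    · exfalso
      have h1 := mul_mem (inv_mem c2) c1
      have e : (y * s * y⁻¹)⁻¹ * (y * s * y) = y * y := by group
      rw [e] at h1
      exact hyy h1

/-- The element of order 3. -/
theorem exists_y {p : ℕ} (h : Par S P R p) (hR : Nat.card R = 3) :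
    ∃ y ∈ R, y * y * y = 1 ∧ y ∉ S ∧ ∀ g ∈ P, g ∈ S ∨ y⁻¹ * g ∈ S ∨ y * g ∈ S := by
  obtain ⟨y, hy, hy1⟩ := exists_ne_one (B := R) (by rw [hR]; norm_num)
  have hp : p = 3 := by
    rcases h.card_R with h1 | ⟨h1, -⟩
    · rw [← h1, hR]
    · exact h1
  have hy3 : y * y * y = 1 := by
    have h1 := h.pow_R y hy
    rw [hp, pow_succ, pow_two] at h1
    exact h1
  have hyS : y ∉ S := by
    intro h1
    obtain ⟨k, hk⟩ := h.two ⟨y, h1⟩
    have h2 : y ^ 2 ^ k = 1 := congrArg Subtype.val hk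
    have h3 : y ^ 3 = 1 := by rw [pow_succ, pow_two]; exact hy3
    have h4 := orderOf_dvd_of_pow_eq_one h2
    have h5 := orderOf_dvd_of_pow_eq_one h3
    have h6 : Nat.Coprime (2 ^ k) 3 := Nat.Coprime.pow_left k (by norm_num)
    have h7 : orderOf y = 1 := Nat.eq_one_of_dvd_coprimes h6 h4 h5
    exact hy1 (orderOf_eq_one_iff.mp h7)
  exact ⟨y, hy, hy3, hyS, cov_of_index h.le (h.relIndex.trans hR) (h.R_le hy) hyS hy3⟩

theorem le_normalizer_of_cov {U : Subgroup G} {y : G}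
    (cov : ∀ g ∈ P, g ∈ S ∨ y⁻¹ * g ∈ S ∨ y * g ∈ S)
    (hS : ∀ s ∈ S, ∀ u ∈ U, s * u * s⁻¹ ∈ U) (hy : ∀ u ∈ U, y * u * y⁻¹ ∈ U) :
    P ≤ normalizer (U : Set G) := by
  have h1 : S ≤ normalizer (U : Set G) := le_normalizer_of hS
  have h2 : y ∈ normalizer (U : Set G) := by
    apply mem_normalizer_of_map_le
    rintro _ ⟨u, hu, rfl⟩
    exact hy u hu
  intro g hg
  rcases cov g hg with h3 | h3 | h3
  · exact h1 h3
  · have h4 := mul_mem h2 (h1 h3)
    rwa [mul_inv_cancel_left] at h4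
  · have h4 := mul_mem (inv_mem h2) (h1 h3)
    rwa [inv_mul_cancel_left] at h4

omit [Finite G] in
theorem le_normalizer_bot (P : Subgroup G) : P ≤ normalizer ((⊥ : Subgroup G) : Set G) := by
  apply le_normalizer_of
  intro x _ a ha
  rw [Subgroup.mem_bot] at ha ⊢
  rw [ha]; group

/-- [R4-3] -/
theorem main (h : Pair S P1 P2) (hV : zl S P1 ≤ o2 P2)
    (hab : ∀ a ∈ vh S P1 P2, ∀ b ∈ vh S P1 P2, a * b = b * a) :
    (∃ a b u s x, Conf64 S P1 a b u s x) ∨ (∃ a b u f s x, Conf128 S P1 a b u f s x) := by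
  have hfact : Fact (Nat.Prime 2) := ⟨Nat.prime_two⟩
  obtain ⟨R1, p1, hp1⟩ := h.par1
  obtain ⟨R2, p2, hp2⟩ := h.par2
  have hr := h.hyp.rank
  have hS := hp1.two
  have hZne : zc S ≠ ⊥ := by
    apply zc_ne_bot hS
    intro h1
    apply hp1.o2_ne
    rw [← le_bot_iff, ← h1]
    exact o2_le_S hp1
  have hP2Z : P2 ≤ normalizer (zc S : Set G) := h.cent.trans (centralizer_le_normalizer _)
  have nl : ∀ U : Subgroup G, U ≤ S → P1 ≤ normalizer (U : Set G) → P2 ≤ normalizer (U : Set G) →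
      U = ⊥ := fun U hU h1 h2 => h.nonlocal U (hS.to_le hU) h1 h2
  have hP1Z : ¬ P1 ≤ normalizer (zc S : Set G) := fun h1 =>
    hZne (nl _ (zc_le S) h1 hP2Z)
  -- `V`
  obtain ⟨V, hVdef⟩ : ∃ V, V = zl S P1 := ⟨_, rfl⟩
  obtain ⟨A, hAdef⟩ : ∃ A, A = vh S P1 P2 := ⟨_, rfl⟩
  rw [← hVdef] at hV
  rw [← hAdef] at hab
  have hZV : zc S ≤ V := hVdef ▸ zc_le_zl S P1
  have hVc : ∀ a ∈ V, ∀ b ∈ V, a * b = b * a := hVdef ▸ zl_comm hp1.le hS hp1.syl hp1.char2
  have hV2 : ∀ a ∈ V, a ^ 2 = 1 := hVdef ▸ zl_sq hp1.le hS hp1.syl hp1.char2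
  have hVP1 : P1 ≤ normalizer (V : Set G) := hVdef ▸ le_normalizer_zl S P1
  have hVS : V ≤ S := hV.trans (o2_le_S hp2)
  -- `A = ⟨V^{P2}⟩`
  have hA : A = closure {g | ∃ x ∈ P2, ∃ a ∈ V, g = x * a * x⁻¹} := by
    rw [hAdef, hVdef]; rfl
  have hVA : V ≤ A := by
    intro v hv
    rw [hA]
    exact subset_closure ⟨1, one_mem _, v, hv, by simp⟩
  have hAmem : ∀ x ∈ P2, ∀ v ∈ V, x * v * x⁻¹ ∈ A := by
    intro x hx v hv
    rw [hA]
    exact subset_closure ⟨x, hx, v, hv, rfl⟩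
  have hAQ : A ≤ o2 P2 := by
    rw [hA, closure_le]
    rintro _ ⟨x, hx, a, ha, rfl⟩
    exact (mem_normalizer_iff.mp (le_normalizer_o2 P2 hx) _).mp (hV ha)
  have hAS : A ≤ S := hAQ.trans (o2_le_S hp2)
  have hAP2 : P2 ≤ normalizer (A : Set G) := by
    apply le_normalizer_of
    intro x hx
    have key : ∀ a ∈ closure {g | ∃ x ∈ P2, ∃ a ∈ V, g = x * a * x⁻¹}, x * a * x⁻¹ ∈ A := by
      refine BThreeB.closure_conj ?_
      rintro _ ⟨x', hx', a, ha, rfl⟩
      have e : x * (x' * a * x'⁻¹) * x⁻¹ = (x * x') * a * (x * x')⁻¹ := by group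
      rw [e]
      exact hAmem _ (mul_mem hx hx') a ha
    rwa [← hA] at key
  have hA2 : ∀ a ∈ A, a ^ 2 = 1 := by
    intro a ha
    rw [pow_two]
    rw [hA] at ha
    refine Subgroup.mem_bot.1 (sq_closure (Z := ⊥) ?_ ?_ ?_ a ha)
    · intro ζ hζ x _
      rw [Subgroup.mem_bot.1 hζ]; simp
    · rintro _ ⟨x, hx, a, ha, rfl⟩ _ ⟨x', hx', b, hb, rfl⟩
      rw [Subgroup.mem_bot, hab _ (hAmem x hx a ha) _ (hAmem x' hx' b hb)]
      group
    · rintro _ ⟨x, hx, a, ha, rfl⟩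
      rw [Subgroup.mem_bot]
      have h1 := hV2 a ha
      rw [pow_two] at h1
      calc x * a * x⁻¹ * (x * a * x⁻¹) = x * (a * a) * x⁻¹ := by group
        _ = 1 := by rw [h1]; group
  have hVne : V ≠ ⊥ := fun h1 => hZne (le_bot_iff.1 (h1 ▸ hZV))
  have hVP2 : ¬ P2 ≤ normalizer (V : Set G) := fun h1 => hVne (nl V hVS hVP1 h1)
  have hcom : ∀ a b : G, a * b = b * a → a * b * a⁻¹ * b⁻¹ = 1 := by
    intro a b hab
    rw [hab]; group
  have hcomm_V : ∀ a ∈ V, ∀ b ∈ V, a * b * a⁻¹ * b⁻¹ ∈ (⊥ : Subgroup G) := fun a ha b hb =>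
    Subgroup.mem_bot.2 (hcom a b (hVc a ha b hb))
  have secV : Par.Sec P1 V ⊥ := ⟨bot_le, hVS.trans hp1.le, hVP1, le_normalizer_bot P1,
    hcomm_V, fun a ha => Subgroup.mem_bot.2 (hV2 a ha)⟩
  have secA : Par.Sec P2 A ⊥ := ⟨bot_le, hAS.trans hp2.le, hAP2, le_normalizer_bot P2,
    fun a ha b hb => Subgroup.mem_bot.2 (hcom a b (hab a ha b hb)),
    fun a ha => Subgroup.mem_bot.2 (hA2 a ha)⟩
  have cA := secA.card_le hr
  rw [Subgroup.card_bot, mul_one] at cA
  have cVA : 2 * Nat.card V ≤ Nat.card A := by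
    obtain ⟨a, ha, ha'⟩ : ∃ a ∈ A, a ∉ V := by
      by_contra hcon
      push Not at hcon
      apply hVP2
      rw [le_antisymm hVA hcon]
      exact hAP2
    exact two_mul_card_le hVA ha ha'
  -- `|R1| = 3`
  have hR1 : Nat.card R1 = 3 := by
    by_contra hne
    have hn : ∃ a ∈ V, ∃ x ∈ R1, x * a * x⁻¹ * a⁻¹ ∉ (⊥ : Subgroup G) := by
      by_contra hcon
      push Not at hcon
      apply hP1Z
      refine le_trans ?_ (centralizer_le_normalizer _)
      rw [← hp1.sup_eq]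
      have hSc := le_centralizer_zc S
      refine sup_le (sup_le ((o2_le_S hp1).trans hSc) ?_) hSc
      intro x hx
      rw [mem_centralizer_iff]
      intro a ha
      have h1 := Subgroup.mem_bot.1 (hcon a (hZV ha) x hx)
      symm
      calc x * a = x * a * x⁻¹ * a⁻¹ * (a * x) := by group
        _ = a * x := by rw [h1, one_mul]
    have h1 := (ParFacts.irred16 hr hp1 hne secV hn).1
    rw [Subgroup.card_bot] at h1
    omega
  -- `|Z| ≥ 2`
  have cZ : 2 ≤ Nat.card (zc S) := by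
    obtain ⟨a, ha⟩ := Subgroup.ne_bot_iff_exists_ne_one.mp hZne
    have h1 := two_mul_card_le (A := ⊥) (B := zc S) bot_le a.2
      (fun h1 => ha (Subtype.ext (Subgroup.mem_bot.1 h1)))
    rw [Subgroup.card_bot] at h1
    omega
  -- `|R2| = 3`
  have secAZ : Par.Sec P2 A (zc S) := ⟨hZV.trans hVA, hAS.trans hp2.le, hAP2, hP2Z,
    fun a ha b hb => by rw [hcom a b (hab a ha b hb)]; exact one_mem _,
    fun a ha => by rw [hA2 a ha]; exact one_mem _⟩
  have hR2 : Nat.card R2 = 3 := by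
    by_contra hne
    have hn : ∃ a ∈ A, ∃ x ∈ R2, x * a * x⁻¹ * a⁻¹ ∉ zc S := by
      by_contra hcon
      push Not at hcon
      have hR2c : ∀ x ∈ R2, ∀ a ∈ A, x * a * x⁻¹ = a := by
        intro x hx a ha
        obtain ⟨ζ, hζ⟩ : ∃ ζ, ζ = x * a * x⁻¹ * a⁻¹ := ⟨_, rfl⟩
        have h1 : ζ ∈ zc S := hζ ▸ hcon a ha x hx
        have h2 : x * ζ = ζ * x := (mem_centralizer_iff.mp (h.cent (hp2.R_le hx)) ζ h1).symm
        have h3 : ζ ^ 2 = 1 := (mem_zc.mp h1).2.2
        have e1 : x * a * x⁻¹ = ζ * a := by rw [hζ]; group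
        have e2 : ∀ n : ℕ, x ^ n * a * (x ^ n)⁻¹ = ζ ^ n * a := by
          intro n
          induction n with
          | zero => simp
          | succ n ih =>
            have e3 : x * ζ ^ n = ζ ^ n * x := ((show Commute x ζ from h2).pow_right n).eq
            calc x ^ (n + 1) * a * (x ^ (n + 1))⁻¹ = x * (x ^ n * a * (x ^ n)⁻¹) * x⁻¹ := by
                  rw [pow_succ' x n]; group
              _ = (x * ζ ^ n) * a * x⁻¹ := by rw [ih]; group
              _ = ζ ^ n * (x * a * x⁻¹) := by rw [e3]; group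
              _ = ζ ^ (n + 1) * a := by rw [e1, pow_succ]; group
        have e4 := e2 p2
        rw [hp2.pow_R x hx] at e4
        have e5 : ζ ^ p2 = 1 := by
          have : ζ ^ p2 * a = 1 * a := by rw [← e4]; group
          exact mul_right_cancel this
        have e6 : ζ = 1 := by
          have h4 := orderOf_dvd_of_pow_eq_one h3
          have h5 := orderOf_dvd_of_pow_eq_one e5
          have h6 : Nat.Coprime 2 p2 := by
            rcases hp2.p_eq with h7 | h7 <;> rw [h7] <;> norm_num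
          exact orderOf_eq_one_iff.mp (Nat.eq_one_of_dvd_coprimes h6 h4 h5)
        rw [e1, e6, one_mul]
      apply hVP2
      rw [← hp2.sup_eq]
      have hSV : S ≤ normalizer (V : Set G) := hp1.le.trans hVP1
      refine sup_le (sup_le ((o2_le_S hp2).trans hSV) ?_) hSV
      apply le_normalizer_of
      intro x hx v hv
      rw [hR2c x hx v (hVA hv)]
      exact hv
    have h1 := (ParFacts.irred16 hr hp2 hne secAZ hn).1
    omega
  -- the elements `y`, `w`
  obtain ⟨y, hyR, hy3, hyS, covy⟩ := exists_y hp1 hR1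
  obtain ⟨w, hwR, hw3, hwS, covw⟩ := exists_y hp2 hR2
  have hyP := hp1.R_le hyR
  have hwP := hp2.R_le hwR
  have hHy := half_of_cov hp1.le hyP hyS hy3 covy
  have hHw := half_of_cov hp2.le hwP hwS hw3 covw
  have hSZ : S ≤ centralizer (zc S : Set G) := le_centralizer_zc S
  have hconjV : ∀ v ∈ V, y * v * y⁻¹ ∈ V := fun v hv =>
    (mem_normalizer_iff.mp (hVP1 hyP) v).mp hv
  -- `|Z| = 2`
  have hZy : (zc S ⊓ cj y (zc S) : Subgroup G) = ⊥ := by
    obtain ⟨U, hU⟩ : ∃ U, U = zc S ⊓ cj y (zc S) := ⟨_, rfl⟩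
    rw [← hU]
    have hUZ : U ≤ zc S := hU ▸ inf_le_left
    -- the centraliser of `U` contains `S` and `y S y⁻¹`
    have hcS : S ≤ centralizer (U : Set G) := hSZ.trans (centralizer_le hUZ)
    have hcyS : ∀ s ∈ S, y * s * y⁻¹ ∈ centralizer (U : Set G) := by
      intro s hs
      rw [mem_centralizer_iff]
      intro u hu
      have h1 : u ∈ cj y (zc S) := (hU ▸ hu : u ∈ zc S ⊓ cj y (zc S)).2
      rw [mem_cj] at h1
      have h2 := mem_centralizer_iff.mp (hSZ hs) _ h1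
      calc u * (y * s * y⁻¹) = y * ((y⁻¹ * u * y) * s) * y⁻¹ := by group
        _ = y * (s * (y⁻¹ * u * y)) * y⁻¹ := by rw [h2]
        _ = y * s * y⁻¹ * u := by group
    have hmax := hp1.max (P1 ⊓ centralizer (U : Set G)) (le_inf hp1.le hcS) inf_le_left
    rcases hmax with h1 | h1
    · exfalso
      -- `y S y⁻¹ = S`, so `y` normalises `zc S`
      have h2 : ∀ s ∈ S, y * s * y⁻¹ ∈ S := by
        intro s hs
        have h2 : y * s * y⁻¹ ∈ P1 ⊓ centralizer (U : Set G) :=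
          mem_inf.mpr ⟨mul_mem (mul_mem hyP (hp1.le hs)) (inv_mem hyP), hcyS s hs⟩
        rwa [h1] at h2
      have h3 : P1 ≤ normalizer (S : Set G) := le_normalizer_of_cov covy
        (fun s hs u hu => mul_mem (mul_mem hs hu) (inv_mem hs)) h2
      exact hP1Z (h3.trans (normalizer_le_normalizer_zc S))
    · apply nl U (hUZ.trans (zc_le S))
      · rw [← h1]
        exact inf_le_right.trans (centralizer_le_normalizer _)
      · exact (h.cent.trans (centralizer_le hUZ)).trans (centralizer_le_normalizer _)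
  have cardcj : Nat.card (cj y (zc S)) = Nat.card (zc S) := by
    refine (Nat.card_congr
      { toFun := fun a : zc S => (⟨y * a * y⁻¹, conj_mem_cj a.2⟩ : cj y (zc S))
        invFun := fun a => ⟨y⁻¹ * a * y, a.2⟩
        left_inv := fun a => Subtype.ext (by show y⁻¹ * (y * a * y⁻¹) * y = a; group)
        right_inv := fun a => Subtype.ext (by show y * (y⁻¹ * a * y) * y⁻¹ = a; group) }).symm
  have cZ2 : Nat.card (zc S) = 2 := by
    have h1 : cj y (zc S) ≤ V := by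
      intro a ha
      have h2 := hconjV _ (hZV (mem_cj.1 ha))
      have e : y * (y⁻¹ * a * y) * y⁻¹ = a := by group
      rwa [e] at h2
    have h2 := ActFour.card_mul_le hZV h1
    rw [hZy, cardcj, Subgroup.card_bot, mul_one] at h2
    have h3 : Nat.card (zc S) * Nat.card (zc S) ≤ 8 := by omega
    have h4 : Nat.card (zc S) < 3 := by
      by_contra hcon
      push Not at hcon
      have := Nat.mul_le_mul hcon hcon
      omega
    omega
  obtain ⟨z, hz, hz1⟩ := exists_ne_one (B := zc S) (by rw [cZ2]; norm_num)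
  have hZz : ∀ g ∈ zc S, g = 1 ∨ g = z := by
    intro g hg
    by_contra hcon
    push Not at hcon
    have h1 := card_eq_two_mul (A := zpowers z) (B := zc S) (by rwa [zpowers_le]) (p := g) hg
    classical
    have h2 : ({(⟨1, one_mem _⟩ : zc S), ⟨z, hz⟩, ⟨g, hg⟩} : Set (zc S)).ncard = 3 := by
      rw [Set.ncard_insert_of_notMem, Set.ncard_insert_of_notMem, Set.ncard_singleton]
      · simp only [Set.mem_singleton_iff, Subtype.mk.injEq]
        exact fun h3 => hcon.2 h3.symm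
      · simp only [Set.mem_insert_iff, Set.mem_singleton_iff, Subtype.mk.injEq, not_or]
        exact ⟨fun h3 => hz1 h3.symm, fun h3 => hcon.1 h3.symm⟩
    have h3 := Set.ncard_le_card ({(⟨1, one_mem _⟩ : zc S), ⟨z, hz⟩, ⟨g, hg⟩} : Set (zc S))
    rw [h2, cZ2] at h3
    omega
  obtain ⟨hzS, hzc, hzsq⟩ := mem_zc.mp hz
  have hzV := hZV hz
  obtain ⟨z1, hz1e⟩ : ∃ z1, y * z * y⁻¹ = z1 := ⟨_, rfl⟩
  obtain ⟨z2, hz2e⟩ : ∃ z2, y * z1 * y⁻¹ = z2 := ⟨_, rfl⟩
  obtain ⟨v1, hv1e⟩ : ∃ v1, w * z1 * w⁻¹ = v1 := ⟨_, rfl⟩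
  obtain ⟨v2, hv2e⟩ : ∃ v2, w * v1 * w⁻¹ = v2 := ⟨_, rfl⟩
  have hz1V : z1 ∈ V := hz1e ▸ hconjV z hzV
  have hz2V : z2 ∈ V := hz2e ▸ hconjV z1 hz1V
  have hconjA : ∀ a ∈ A, w * a * w⁻¹ ∈ A := fun a ha => (mem_normalizer_iff.mp (hAP2 hwP) a).mp ha
  have hv1A : v1 ∈ A := hv1e ▸ hconjA z1 (hVA hz1V)
  have hv2A : v2 ∈ A := hv2e ▸ hconjA v1 hv1A
  have hwz : w * z * w⁻¹ = z := by
    have h1 := mem_centralizer_iff.mp (h.cent hwP) z hz
    rw [← h1]; group
  have D : BThreeB.Data S z z1 z2 v1 v2 y w :=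
    { two := hS
      hy := hHy
      hw := hHw
      z_mem := hzS
      z1_mem := hVS hz1V
      z2_mem := hVS hz2V
      v1_mem := hAS hv1A
      v2_mem := hAS hv2A
      yz := hz1e
      yz1 := hz2e
      yz2 := by
        rw [← hz2e, ← hz1e]
        calc y * (y * (y * z * y⁻¹) * y⁻¹) * y⁻¹ = (y * y * y) * z * (y * y * y)⁻¹ := by group
          _ = z := by rw [hy3]; simp
      wz := hwz
      wz1 := hv1e
      wv1 := hv2e
      wv2 := by
        rw [← hv2e, ← hv1e]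
        calc w * (w * (w * z1 * w⁻¹) * w⁻¹) * w⁻¹ = (w * w * w) * z1 * (w * w * w)⁻¹ := by group
          _ = z1 := by rw [hw3]; simp
      z_sq := by rw [← pow_two]; exact hzsq
      z_ne := hz1
      z_comm := fun s hs => (mem_centralizer_iff.mp (hSZ hs) z hz).symm
      z_uniq := fun g hg hg2 hgc => hZz g (mem_zc.mpr ⟨hg, fun b hb => by
        first | exact hgc b hb | exact (hgc b hb).symm, by rw [pow_two]; exact hg2⟩)
      ne := by
        intro h1
        rw [h1] at hz1e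
        have h2 : ∀ u ∈ zc S, y * u * y⁻¹ ∈ zc S := by
          intro u hu
          rcases hZz u hu with h3 | h3
          · rw [h3]; simp
          · rw [h3, hz1e]; exact hz
        apply hP1Z
        refine le_normalizer_of_cov covy (fun s hs u hu => ?_) h2
        have h3 := mem_centralizer_iff.mp (hSZ hs) u hu
        rw [← h3, mul_inv_cancel_right]
        exact hu
      abel := hab z1 (hVA hz1V) v1 hv1A
      core := fun U hU h1 h2 h3 => nl U hU (le_normalizer_of_cov covy h1 h2)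
        (le_normalizer_of_cov covw h1 h3)
      rank := by
        intro H K hKH hHS hsq
        refine TwoFusion.SectionalRank.sectionalPRankLE_iff.mp hr H K ⟨hKH, ?_, ?_⟩
        · intro a ha b hb
          have e : a * b * a⁻¹ * b⁻¹ = ((a * b) * (a * b)) * (b⁻¹ * a⁻¹ * b * (b⁻¹ * a⁻¹ * b)) *
            (b * b)⁻¹ := by group
          rw [e]
          exact mul_mem (mul_mem (hsq _ (mul_mem ha hb))
            (hsq _ (mul_mem (mul_mem (inv_mem hb) (inv_mem ha)) hb))) (inv_mem (hsq b hb))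
        · intro a ha
          rw [pow_two]
          exact hsq a ha }
  exact BThreeK.conf D hp1.le hyP covy

end Cfsg.Agent.SectRankFour.C2.BThree
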