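import Mathlib
import Cfsg.Agent.SectRankFour.C2.Defs
import Cfsg.Agent.MinSimple.DBlkNot
import Cfsg.Agent.MinSimple.Killing
import Cfsg.Agent.MinSimple.CaseD8
import Cfsg.Agent.ZN.Block
import Cfsg.Agent.TwoFusion.SectionalRank

/-!
# S0517, C2, sectional 2-rank at most 4: section (2a)

If `V = zl S P1 ≤ o2 P2` and `vh S P1 P2 = ⟨V^{P2}⟩` is nonabelian, then `|V| = 4`.
-/

set_option autoImplicit false

namespace Cfsg.Agent.SectRankFour.C2.BTwoA

open Subgroup Cfsg Cfsg.Agent.ZN Cfsg.Agent.MinSimple.MinParabolic Cfsg.Agent.MinSimple.VModule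
open Cfsg.Agent.MinSimple Cfsg.Agent.SectRankFour.C2.Defs
open Cfsg.Agent.PLocal.FFCoprime (omegaJoin omegaJoin_def)
open Cfsg.Agent.MinSimple.Killing

universe u

variable {G : Type u} [Group G]

/-! ### General facts -/

/-- An elementary abelian 2-subgroup has order at most 16. -/
theorem card_le [Finite G] (h : Hyp G) {E : Subgroup G} (hc : ∀ x ∈ E, ∀ y ∈ E, x * y = y * x)
    (h2 : ∀ x ∈ E, x ^ 2 = 1) : Nat.card E ≤ 16 := by
  have h1 := (TwoFusion.SectionalRank.sectionalPRankLE_iff (p := 2) (k := 4)).1 h.rank E ⊥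
    { le := bot_le
      comm := by
        intro a ha b hb
        rw [mem_bot, hc a ha b hb]; group
      pow := by
        intro a ha
        rw [mem_bot]; exact h2 a ha }
  simpa using h1

/-- The sectional version. -/
theorem card_section_le [Finite G] (h : Hyp G) {X Y : Subgroup G} (hYX : Y ≤ X)
    (hc : ∀ x ∈ X, ∀ y ∈ X, x * y * x⁻¹ * y⁻¹ ∈ Y) (h2 : ∀ x ∈ X, x ^ 2 ∈ Y) :
    Nat.card X ≤ 16 * Nat.card Y :=
  (TwoFusion.SectionalRank.sectionalPRankLE_iff (p := 2) (k := 4)).1 h.rank X Y ⟨hYX, hc, h2⟩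

/-- An involution centralizing an elementary abelian group of order 16 lies in it. -/
theorem mem_of_comm [Finite G] (h : Hyp G) {E : Subgroup G} (hc : ∀ x ∈ E, ∀ y ∈ E, x * y = y * x)
    (h2 : ∀ x ∈ E, x ^ 2 = 1) (hcard : Nat.card E = 16) {x : G} (hx : x ^ 2 = 1)
    (hxE : ∀ y ∈ E, x * y = y * x) : x ∈ E := by
  have hfin : Finite (E ⊔ zpowers x : Subgroup G) := inferInstance
  have hcomm : ∀ a ∈ E ⊔ zpowers x, ∀ b ∈ E ⊔ zpowers x, a * b = b * a := by
    have h1 : E ⊔ zpowers x ≤ centralizer ((E ⊔ zpowers x : Subgroup G) : Set G) := by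
      have hxx : zpowers x ≤ centralizer (E : Set G) := by
        rw [zpowers_le, mem_centralizer_iff]
        exact fun y hy => (hxE y hy).symm
      refine sup_le ?_ ?_
      · rw [le_centralizer_iff]
        refine sup_le ?_ hxx
        exact fun a ha => mem_centralizer_iff.2 fun b hb => hc b hb a ha
      · rw [le_centralizer_iff]
        refine sup_le (le_centralizer_iff.1 hxx) ?_
        rw [zpowers_le, mem_centralizer_iff]
        rintro y ⟨k, rfl⟩
        exact ((Commute.refl x).zpow_left k).eq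
    intro a ha b hb
    exact (mem_centralizer_iff.1 (h1 ha) b hb).symm
  have hsq : ∀ a ∈ E ⊔ zpowers x, a ^ 2 = 1 := by
    intro a ha
    refine closure_induction (p := fun y _ => y ^ 2 = 1) (k := (E : Set G) ∪ {x}) ?_ ?_ ?_ ?_ ?_
    · rintro y (hy | hy)
      · exact h2 y hy
      · rw [Set.mem_singleton_iff.1 hy]; exact hx
    · exact one_pow 2
    · intro y z hy hz hy2 hz2
      have hcl : closure ((E : Set G) ∪ {x}) = E ⊔ zpowers x := by
        rw [Subgroup.closure_union, Subgroup.closure_eq, zpowers_eq_closure]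
      rw [hcl] at hy hz
      have : Commute y z := hcomm y hy z hz
      rw [this.mul_pow, hy2, hz2, one_mul]
    · intro y _ hy
      rw [inv_pow, hy, inv_one]
    · rw [Subgroup.closure_union, Subgroup.closure_eq, ← zpowers_eq_closure]; exact ha
  have h3 := card_le h hcomm hsq
  have h4 : E = E ⊔ zpowers x := eq_of_le_of_card_ge le_sup_left (by rw [hcard]; exact h3)
  rw [h4]
  exact mem_sup_right (mem_zpowers x)

theorem conj_comm_of {E : Subgroup G} (hc : ∀ x ∈ E, ∀ y ∈ E, x * y = y * x) (g : G) :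
    ∀ x ∈ E.map (MulAut.conj g).toMonoidHom, ∀ y ∈ E.map (MulAut.conj g).toMonoidHom,
      x * y = y * x := by
  rintro _ ⟨x, hx, rfl⟩ _ ⟨y, hy, rfl⟩
  rw [← map_mul, ← map_mul, hc x hx y hy]

theorem conj_sq_of {E : Subgroup G} (h2 : ∀ x ∈ E, x ^ 2 = 1) (g : G) :
    ∀ x ∈ E.map (MulAut.conj g).toMonoidHom, x ^ 2 = 1 := by
  rintro _ ⟨x, hx, rfl⟩
  rw [← map_pow, h2 x hx, map_one]

theorem card_conj (E : Subgroup G) (g : G) :
    Nat.card (E.map (MulAut.conj g).toMonoidHom) = Nat.card E :=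
  card_map_of_injective (MulAut.conj g).injective

/-- `|V| ≡ |C_V(R)|` mod `p`. -/
theorem card_modEq [Finite G] {p : ℕ} [Fact p.Prime] {R V : Subgroup G} (hR : IsPGroup p R)
    (hRV : R ≤ normalizer (V : Set G)) :
    Nat.card V ≡ Nat.card (V ⊓ centralizer (R : Set G) : Subgroup G) [MOD p] := by
  let act : MulAction R V :=
    { smul := fun r v => ⟨(r : G) * v * (r : G)⁻¹, (mem_normalizer_iff.1 (hRV r.2) v).1 v.2⟩
      one_smul := fun v => Subtype.ext (by
        change ((1 : R) : G) * v * ((1 : R) : G)⁻¹ = v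
        simp)
      mul_smul := fun r s v => Subtype.ext (by
        change ((r * s : R) : G) * v * ((r * s : R) : G)⁻¹ =
          (r : G) * ((s : G) * v * (s : G)⁻¹) * (r : G)⁻¹
        rw [coe_mul]; group) }
  have h1 := hR.card_modEq_card_fixedPoints V
  refine h1.trans ?_
  have h2 : Nat.card (MulAction.fixedPoints R V) =
      Nat.card (V ⊓ centralizer (R : Set G) : Subgroup G) := by
    refine Nat.card_congr ⟨fun v => ⟨v.1, v.1.2, ?_⟩, fun v => ⟨⟨v.1, v.2.1⟩, ?_⟩, ?_, ?_⟩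
    · refine mem_centralizer_iff.2 ?_
      intro r hr
      have := congrArg Subtype.val (v.2 ⟨r, hr⟩)
      change r * (v.1 : G) * r⁻¹ = v.1 at this
      calc r * (v.1 : G) = r * (v.1 : G) * r⁻¹ * r := by group
        _ = v.1 * r := by rw [this]
    · intro r
      refine Subtype.ext ?_
      change (r : G) * (v : G) * (r : G)⁻¹ = v
      rw [mem_centralizer_iff.1 v.2.2 r r.2]; group
    · intro v; rfl
    · intro v; rfl
  rw [h2]

/-! ### Facts on the pair -/

section Pair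

variable [Finite G] {S P1 P2 : Subgroup G}

theorem centralizer_le_normalizer' (H : Subgroup G) :
    centralizer (H : Set G) ≤ normalizer (H : Set G) := centralizer_le_normalizer _

theorem S_ne_bot (h : Pair S P1 P2) : S ≠ ⊥ := by
  obtain ⟨R, p, hp⟩ := h.par1
  intro h0
  have h1 := o2_le_of_sylow hp.two hp.syl
  rw [h0] at h1
  exact hp.o2_ne (le_bot_iff.1 h1)

theorem zc_ne_bot (h : Pair S P1 P2) : zc S ≠ ⊥ := by
  obtain ⟨R, p, hp⟩ := h.par1
  obtain ⟨c, -, hc, hc1⟩ := CaseD8.exists_mem_zc hp.two le_rfl le_normalizer (S_ne_bot h)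
  intro h0
  rw [h0, mem_bot] at hc
  exact hc1 hc

theorem zc_isPGroup (h : Pair S P1 P2) : IsPGroup 2 (zc S) := by
  obtain ⟨R, p, hp⟩ := h.par1
  exact hp.two.to_le (VModule.zc_le S)

theorem not_norm (h : Pair S P1 P2) : ¬ P1 ≤ normalizer (zc S : Set G) := fun h1 =>
  zc_ne_bot h (h.nonlocal _ (zc_isPGroup h) h1 (h.cent.trans (centralizer_le_normalizer' _)))

theorem inf_centralizer (h : Pair S P1 P2) : S ⊓ centralizer (zl S P1 : Set G) = o2 P1 := by
  obtain ⟨R, p, hp⟩ := h.par1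
  exact inf_centralizer_zl hp.min hp.two hp.syl hp.char2 (not_norm h)

theorem cent_oddGen (h : Pair S P1 P2) : zl S P1 ⊓ centralizer (oddGen P1 : Set G) = ⊥ := by
  obtain ⟨R, p, hp⟩ := h.par1
  rw [(zl_decomp hp.min hp.two hp.syl hp.solv hp.char2).2.2.2]
  refine h.nonlocal _ ((zc_isPGroup h).to_le inf_le_left) ?_ ?_
  · exact (le_centralizer_iff.1 inf_le_right).trans (centralizer_le_normalizer' _)
  · have h1 : zc S ⊓ centralizer (P1 : Set G) ≤ zc S := inf_le_left
    exact (h.cent.trans (centralizer_le h1)).trans (centralizer_le_normalizer' _)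

theorem V_comm (h : Pair S P1 P2) : ∀ x ∈ zl S P1, ∀ y ∈ zl S P1, x * y = y * x := by
  obtain ⟨R, p, hp⟩ := h.par1
  exact zl_comm hp.le hp.two hp.syl hp.char2

theorem V_sq (h : Pair S P1 P2) : ∀ x ∈ zl S P1, x ^ 2 = 1 := by
  obtain ⟨R, p, hp⟩ := h.par1
  exact zl_sq hp.le hp.two hp.syl hp.char2

theorem V_le_o2 (h : Pair S P1 P2) : zl S P1 ≤ o2 P1 := by
  obtain ⟨R, p, hp⟩ := h.par1
  exact (zl_le_zc hp.le hp.two hp.syl hp.char2).trans (VModule.zc_le _)

theorem o2_le_S1 (h : Pair S P1 P2) : o2 P1 ≤ S := by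
  obtain ⟨R, p, hp⟩ := h.par1
  exact o2_le_of_sylow hp.two hp.syl

theorem o2_le_S2 (h : Pair S P1 P2) : o2 P2 ≤ S := by
  obtain ⟨R, p, hp⟩ := h.par2
  exact o2_le_of_sylow hp.two hp.syl

theorem S_le1 (h : Pair S P1 P2) : S ≤ P1 := by
  obtain ⟨R, p, hp⟩ := h.par1
  exact hp.le

theorem S_le2 (h : Pair S P1 P2) : S ≤ P2 := by
  obtain ⟨R, p, hp⟩ := h.par2
  exact hp.le

end Pair

/-! ### The decomposition `V = W true × W false` -/

structure Dec (S V : Subgroup G) (W : Bool → Subgroup G) (d : Bool → G) : Prop where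
  card : ∀ i, Nat.card (W i) = 4
  le : ∀ i, W i ≤ V
  sup : W true ⊔ W false = V
  inf : W true ⊓ W false = ⊥
  dn : ∀ i, d i ∈ normalizer (W i : Set G)
  ne : ∀ i, ∃ v ∈ W i, d i * v * (d i)⁻¹ ≠ v
  cube : ∀ i, ∀ v ∈ W i, d i ^ 3 * v * (d i ^ 3)⁻¹ = v
  dc : ∀ i, ∀ v ∈ W (!i), d i * v = v * d i
  swap : ∃ s ∈ S, (W true).map (MulAut.conj s).toMonoidHom = W false
  nrm : ∀ B : Subgroup G, B ≤ S → (∀ x ∈ B, ∀ y ∈ B, x * y = y * x) → (∀ x ∈ B, x ^ 2 = 1) →
    Nat.card B = 16 → ∀ i, B ≤ normalizer (W i : Set G)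

/-- An elementary abelian subgroup of order 16 lies in `J(S)`. -/
theorem le_jj [Finite G] {S P1 P2 B : Subgroup G} (h : Pair S P1 P2) (hBS : B ≤ S)
    (hBc : ∀ x ∈ B, ∀ y ∈ B, x * y = y * x) (hB2 : ∀ x ∈ B, x ^ 2 = 1)
    (hB16 : Nat.card B = 16) : B ≤ jj S := by
  have h1 : B.subgroupOf S ∈ maxElementaryAbelianSubgroups 2 ↥S := by
    rw [PLocal.ThompsonJ.mem_maxElementaryAbelianSubgroups_iff]
    constructor
    · rw [PLocal.ThompsonJ.isElementaryAbelian_iff]
      constructor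
      · intro a ha b hb
        exact Subtype.ext (hBc a ha b hb)
      · intro a ha
        exact Subtype.ext (hB2 a ha)
    · intro E hE
      rw [PLocal.ThompsonJ.isElementaryAbelian_iff] at hE
      have h2 : Nat.card (B.subgroupOf S) = 16 := by
        rw [← hB16]
        exact Nat.card_congr (subgroupOfEquivOfLe hBS).toEquiv
      rw [h2, ← card_map_of_injective S.subtype_injective (K := E)]
      refine card_le h.hyp ?_ ?_
      · rintro _ ⟨a, ha, rfl⟩ _ ⟨b, hb, rfl⟩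
        exact congrArg Subtype.val (hE.1 a ha b hb)
      · rintro _ ⟨a, ha, rfl⟩
        exact congrArg Subtype.val (hE.2 a ha)
  have h2 := PLocal.ThompsonJ.le_thompsonSubgroup h1
  have h3 := Subgroup.map_mono (f := S.subtype) h2
  rwa [subgroupOf_map_subtype, inf_eq_left.2 hBS] at h3

theorem map_conj_subtype {P : Subgroup G} (V : Subgroup P) (s : P) :
    (V.map (MulAut.conj s).toMonoidHom).map P.subtype =
      (V.map P.subtype).map (MulAut.conj (s : G)).toMonoidHom := by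
  rw [Subgroup.map_map, Subgroup.map_map]
  rfl

/-- If an elementary abelian subgroup of order 16 of `S` does not centralize `V`, `|V| = 16`, then
`V` is the product of two four-groups `W true`, `W false`. -/
theorem exists_dec [Finite G] {S P1 P2 B : Subgroup G} (h : Pair S P1 P2)
    (hcard : Nat.card (zl S P1) = 16) (hBS : B ≤ S)
    (hBc : ∀ x ∈ B, ∀ y ∈ B, x * y = y * x) (hB2 : ∀ x ∈ B, x ^ 2 = 1)
    (hB16 : Nat.card B = 16) (hBV : ¬ B ≤ centralizer (zl S P1 : Set G)) :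
    ∃ W d, Dec S (zl S P1) W d := by
  obtain ⟨R, p, hp⟩ := h.par1
  have hfact : Fact (Nat.Prime 2) := ⟨Nat.prime_two⟩
  have hinj : Function.Injective P1.subtype := P1.subtype_injective
  have ho := inf_centralizer h
  have hJV : ¬ jj S ≤ centralizer (zl S P1 : Set G) :=
    fun h1 => hBV ((le_jj h hBS hBc hB2 hB16).trans h1)
  obtain ⟨n, V, hff⟩ := DBlkNot.exists_ff1 hp.solv hp.two hp.le hp.syl hp.char2 ho.symm hJV
  have hT2 : IsPGroup 2 (S.subgroupOf P1) := hff.two
  have hTi : ¬ 2 ∣ (S.subgroupOf P1).index := hff.sylow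
  have hTT : (S.subgroupOf P1).map P1.subtype = S := by
    rw [subgroupOf_map_subtype, inf_eq_left.2 hp.le]
  have hNN : (⊤ : Subgroup ↥P1).map P1.subtype = P1 := by
    rw [← MonoidHom.range_eq_map, Subgroup.range_subtype]
  have hzl : zl S P1 = (omegaJoin 2 ↥P1).map P1.subtype := by
    rw [DBlkNot.omegaJoin_eq hT2 hTi, ← zl_map P1.subtype hinj, hTT, hNN]
  -- `J(P1)`
  set J : Subgroup ↥P1 := thompsonSubgroup 2 ↥P1 with hJdef
  have hJn : J.Normal := by
    haveI := PLocal.ThompsonJ.thompsonSubgroup_characteristic 2 ↥P1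
    infer_instance
  set J' : Subgroup G := J.map P1.subtype with hJ'
  have hJ'n : P1 ≤ normalizer (J' : Set G) := le_normalizer_map_of_normal hJn
  have hjjJ : jj S ≤ J' := by
    have h1 := Subgroup.map_mono (f := P1.subtype) (DBlkNot.jj_le_thompson hT2 hTi)
    rwa [← jj_map P1.subtype hinj, hTT] at h1
  have hJS : J' ⊔ S = P1 := by
    rcases hp.min.sup_eq_or_inf_le (p := 2) hp.two hp.syl (N := J') (map_subtype_le _) hJ'n
      with h1 | h1
    · exact h1
    · exfalso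
      apply hJV
      have h2 : jj S ≤ o2 P1 := (le_inf (PLocal.ThompsonJ.thompsonSubgroupOf_le_self 2 S)
        hjjJ).trans h1
      exact h2.trans (ho.ge.trans inf_le_right)
  have hL : oddGen P1 ≤ J' := oddGen_le_of_sup hJ'n hJS.ge hp.le (map_subtype_le _) hp.two
  have hCW : omegaJoin 2 ↥P1 ⊓ centralizer (J : Set ↥P1) = ⊥ := by
    rw [← (Subgroup.map_injective hinj).eq_iff, Subgroup.map_bot,
      ← centralizer_map_inf P1.subtype hinj, ← hzl, ← hJ', eq_bot_iff, ← cent_oddGen h]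
    exact inf_le_inf_left _ (centralizer_le hL)
  have hJT : J ⊔ S.subgroupOf P1 = ⊤ := by
    apply Subgroup.map_injective hinj
    rw [Subgroup.map_sup, hTT, ← hJ', hNN, hJS]
  -- no `V i` is normalized by `S`
  have hns : ∀ i, ¬ S.subgroupOf P1 ≤ normalizer (V i : Set ↥P1) := by
    intro i hi
    have hVn : (V i).Normal := by
      rw [← normalizer_eq_top_iff, eq_top_iff, ← hJT]
      exact sup_le (hff.nrm i) hi
    set N : Subgroup ↥P1 := centralizer (V i : Set ↥P1) with hNdef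
    have hNn : N.Normal := by rw [hNdef]; infer_instance
    have hN'n : P1 ≤ normalizer ((N.map P1.subtype : Subgroup G) : Set G) :=
      le_normalizer_map_of_normal hNn
    rcases hp.min.sup_eq_or_inf_le (p := 2) hp.two hp.syl (N := N.map P1.subtype)
      (map_subtype_le _) hN'n with h1 | h1
    · have h2 : oddGen P1 ≤ N.map P1.subtype :=
        oddGen_le_of_sup hN'n h1.ge hp.le (map_subtype_le _) hp.two
      obtain ⟨d, -, ⟨v, hv, hdv⟩, hd3, -⟩ := hff.d i
      have hd3N : d ^ 3 ∈ N := by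
        rw [hNdef, PlaneAct.mem_centralizer_iff']
        exact hd3
      obtain ⟨k, m, hm, hkm⟩ := Nat.exists_eq_two_pow_mul_odd (n := orderOf d)
        (orderOf_pos d).ne'
      have hdk : d ^ 2 ^ k ∈ N := by
        have h3 : ((d ^ 2 ^ k : ↥P1) : G) ∈ oddGen P1 := by
          refine mem_oddGen (d ^ 2 ^ k).2 ?_
          rw [Subgroup.orderOf_coe, orderOf_pow_of_dvd (pow_ne_zero k two_ne_zero)
            (hkm ▸ dvd_mul_right _ _), hkm, Nat.mul_div_cancel_left _ (by positivity)]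
          exact hm
        obtain ⟨y, hy, hyd⟩ := h2 h3
        have : y = d ^ 2 ^ k := Subtype.ext hyd
        rwa [this] at hy
      have hdN : d ∈ N := by
        rw [← QuotientGroup.eq_one_iff] at hd3N hdk ⊢
        rw [QuotientGroup.mk_pow] at hd3N hdk
        have h4 : orderOf (d : ↥P1 ⧸ N) = 1 := Nat.eq_one_of_dvd_coprimes
          (Nat.Coprime.pow_left k (by norm_num : Nat.Coprime 2 3))
          (orderOf_dvd_of_pow_eq_one hdk) (orderOf_dvd_of_pow_eq_one hd3N)
        exact orderOf_eq_one_iff.1 h4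
      rw [hNdef, PlaneAct.mem_centralizer_iff'] at hdN
      exact hdv (hdN v hv)
    · have hall : ∀ j, j = i := by
        intro j
        by_contra hji
        obtain ⟨t, ht, ⟨v, hv, htv⟩, htr⟩ := hff.t j
        have htT : t ∈ S.subgroupOf P1 := jj_le _ ht
        have htN : t ∈ N := by
          rw [hNdef, mem_centralizer_iff]
          exact fun w hw => (htr i (Ne.symm hji) w hw).symm
        have ht2 : (t : G) ∈ (pCore 2 ↥P1).map P1.subtype :=
          h1 ⟨mem_subgroupOf.1 htT, ⟨t, htN, rfl⟩⟩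
        obtain ⟨t', ht', htt⟩ := ht2
        have : t' = t := Subtype.ext htt
        rw [this] at ht'
        have hvW : v ∈ omegaJoin 2 ↥P1 := by
          rw [← hff.sup]
          exact mem_sup_right (mem_iSup_of_mem j hv)
        have h3 := mem_centralizer_iff.1 (hff.Wcent ht') v hvW
        apply htv
        rw [← h3]; group
      have hsup := hff.sup
      have hcard2 : Nat.card (omegaJoin 2 ↥P1) = 16 := by
        rw [← hcard, hzl, card_map_of_injective hinj]
      have h3 : (⨆ j, V j) = V i := by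
        apply le_antisymm
        · exact iSup_le fun j => by rw [hall j]
        · exact le_iSup V i
      rw [hCW, h3, bot_sup_eq] at hsup
      rw [← hsup, hff.card i] at hcard2
      norm_num at hcard2
  obtain ⟨i0⟩ := hff.nonempty
  obtain ⟨s, hsT, hsn⟩ := SetLike.not_le_iff_exists.1 (hns i0)
  obtain ⟨j0, hj0⟩ := hff.perm s i0
  have hij : j0 ≠ i0 := by
    rintro rfl
    exact hsn (mem_normalizer_iff_map_conj_eq.2 hj0)
  have hdis : V i0 ⊓ V j0 = ⊥ := by
    have h1 := hff.indep.pairwiseDisjoint (show (some i0 : Option (Fin n)) ≠ some j0 from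
      fun h1 => hij (Option.some_injective _ h1).symm)
    exact h1.eq_bot
  have hVW : ∀ i, V i ≤ omegaJoin 2 ↥P1 := by
    intro i
    rw [← hff.sup]
    exact (le_iSup V i).trans le_sup_right
  have hVz : ∀ i, (V i).map P1.subtype ≤ zl S P1 := fun i => by
    rw [hzl]; exact Subgroup.map_mono (hVW i)
  obtain ⟨d0, hd0J, hd0v, hd03, hd0t⟩ := hff.d i0
  obtain ⟨d1, hd1J, hd1v, hd13, hd1t⟩ := hff.d j0
  have hnrm : ∀ (i : Fin n), ∀ x ∈ J, (x : G) ∈ normalizer (((V i).map P1.subtype : Subgroup G) :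
      Set G) := by
    intro i x hx
    exact mem_normalizer_iff_map_conj_eq.2 ((map_conj_subtype (V i) x).symm.trans
      (congrArg (Subgroup.map P1.subtype) (mem_normalizer_iff_map_conj_eq.1 (hff.nrm i hx))))
  have hcard4 : ∀ i, Nat.card ((V i).map P1.subtype) = 4 := fun i => by
    rw [card_map_of_injective hinj, hff.card i]
  have hinf' : (V i0).map P1.subtype ⊓ (V j0).map P1.subtype = ⊥ := by
    rw [← Subgroup.map_inf _ _ _ hinj, hdis, Subgroup.map_bot]
  refine ⟨fun b => if b then (V i0).map P1.subtype else (V j0).map P1.subtype,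
    fun b => if b then (d0 : G) else (d1 : G), ?_⟩
  refine
    { card := ?_
      le := ?_
      sup := ?_
      inf := ?_
      dn := ?_
      ne := ?_
      cube := ?_
      dc := ?_
      swap := ?_
      nrm := ?_ }
  · rintro (_ | _)
    · exact hcard4 j0
    · exact hcard4 i0
  · rintro (_ | _)
    · exact hVz j0
    · exact hVz i0
  · refine eq_of_le_of_card_ge (sup_le (hVz i0) (hVz j0)) ?_
    have h1 : (V i0).map P1.subtype ≤
        normalizer (((V j0).map P1.subtype : Subgroup G) : Set G) := by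
      refine ZN.Block.le_normalizer_of_forall fun a ha b hb => ?_
      rw [V_comm h a (hVz _ ha) b (hVz _ hb), mul_inv_cancel_right]
      exact hb
    have h2 := ZN.Block.card_sup_mul_card_inf h1
    rw [hinf', card_bot, hcard4, hcard4, mul_one] at h2
    change Nat.card (zl S P1) ≤ Nat.card ↥((V i0).map P1.subtype ⊔ (V j0).map P1.subtype)
    rw [h2, hcard]
  · exact hinf'
  · rintro (_ | _)
    · exact hnrm j0 d1 hd1J
    · exact hnrm i0 d0 hd0J
  · rintro (_ | _)
    · obtain ⟨v, hv, hv2⟩ := hd1v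
      exact ⟨v, ⟨v, hv, rfl⟩, fun h1 => hv2 (Subtype.ext h1)⟩
    · obtain ⟨v, hv, hv2⟩ := hd0v
      exact ⟨v, ⟨v, hv, rfl⟩, fun h1 => hv2 (Subtype.ext h1)⟩
  · rintro (_ | _)
    · rintro _ ⟨v, hv, rfl⟩
      exact congrArg Subtype.val (hd13 v hv)
    · rintro _ ⟨v, hv, rfl⟩
      exact congrArg Subtype.val (hd03 v hv)
  · rintro (_ | _)
    · rintro _ ⟨v, hv, rfl⟩
      exact congrArg Subtype.val (hd1t i0 hij.symm v hv)
    · rintro _ ⟨v, hv, rfl⟩
      exact congrArg Subtype.val (hd0t j0 hij v hv)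
  · refine ⟨s, mem_subgroupOf.1 hsT, ?_⟩
    change ((V i0).map P1.subtype).map (MulAut.conj (s : G)).toMonoidHom = (V j0).map P1.subtype
    rw [← map_conj_subtype, hj0]
  · intro B' hB'S hB'c hB'2 hB'16 b x hx
    obtain ⟨y, hy, rfl⟩ := hjjJ (le_jj h hB'S hB'c hB'2 hB'16 hx)
    rcases b with _ | _
    · exact hnrm j0 y hy
    · exact hnrm i0 y hy

/-! ### The order of `V` -/

theorem locSolv' (h : Hyp G) : ∀ U : Subgroup G, IsPGroup 2 U → U ≠ ⊥ →
    Group.IsSolvable (normalizer (U : Set G)) := fun U hU hU1 => h.locSolv _ ⟨U, hU, hU1, rfl⟩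

theorem inf_centralizer_R [Finite G] {S P1 P2 R : Subgroup G} {p : ℕ} (h : Pair S P1 P2)
    (hp : Par S P1 R p) : zl S P1 ⊓ centralizer (R : Set G) = ⊥ := by
  rw [eq_bot_iff, ← cent_oddGen h]
  refine le_inf inf_le_left ?_
  refine le_trans ?_ (centralizer_le hp.oddGen_le)
  have h1 : R ≤ centralizer ((zl S P1 ⊓ centralizer (R : Set G) : Subgroup G) : Set G) :=
    le_centralizer_iff.1 inf_le_right
  have h2 : o2 P1 ≤ centralizer ((zl S P1 ⊓ centralizer (R : Set G) : Subgroup G) : Set G) :=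
    (o2_le_centralizer_zl hp.le hp.two hp.syl hp.char2).trans (centralizer_le
      (show zl S P1 ⊓ centralizer (R : Set G) ≤ zl S P1 from inf_le_left))
  exact le_centralizer_iff.1 (sup_le h2 h1)

theorem R_isPGroup {S P R : Subgroup G} {p : ℕ} (hp : Par S P R p) : IsPGroup p R := by
  rintro ⟨x, hx⟩
  exact ⟨1, Subtype.ext (by simpa using hp.pow_R x hx)⟩

theorem prime_of_par {S P R : Subgroup G} {p : ℕ} (hp : Par S P R p) : Fact p.Prime := by
  rcases hp.p_eq with rfl | rfl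
  · exact ⟨Nat.prime_three⟩
  · exact ⟨Nat.prime_five⟩

theorem card_cases [Finite G] {S P1 P2 : Subgroup G} (h : Pair S P1 P2) :
    Nat.card (zl S P1) = 4 ∨ Nat.card (zl S P1) = 16 := by
  obtain ⟨R, p, hp⟩ := h.par1
  have hfact := prime_of_par hp
  have hfact2 : Fact (Nat.Prime 2) := ⟨Nat.prime_two⟩
  have h1 := card_modEq (R_isPGroup hp) (hp.R_le.trans (VModule.le_normalizer_zl S P1))
  rw [inf_centralizer_R h hp, card_bot] at h1
  have h2 : IsPGroup 2 (zl S P1) := hp.two.to_le ((V_le_o2 h).trans (o2_le_S1 h))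
  obtain ⟨k, hk⟩ := IsPGroup.iff_card.1 h2
  have h3 := card_le h.hyp (V_comm h) (V_sq h)
  have h4 : Nat.card (zl S P1) ≠ 1 := by
    rw [Ne, card_eq_one]
    intro h5
    exact zc_ne_bot h (le_bot_iff.1 (h5 ▸ zc_le_zl S P1))
  have hk4 : k ≤ 4 := by
    by_contra hk4
    have : 2 ^ 5 ≤ 2 ^ k := Nat.pow_le_pow_right (by norm_num) (by omega)
    omega
  rcases hp.p_eq with rfl | rfl
  · interval_cases k <;> simp_all [Nat.ModEq]
  · interval_cases k <;> simp_all [Nat.ModEq]

/-- Some `P2`-conjugate of `V` does not centralize `V`, if `vh` is nonabelian. -/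
theorem exists_conj {S P1 P2 : Subgroup G}
    (hna : ¬ ∀ x ∈ vh S P1 P2, ∀ y ∈ vh S P1 P2, x * y = y * x) :
    ∃ g ∈ P2, ¬ (zl S P1).map (MulAut.conj g).toMonoidHom ≤ centralizer (zl S P1 : Set G) := by
  by_contra hcon
  push Not at hcon
  apply hna
  have key : vh S P1 P2 ≤ centralizer (vh S P1 P2 : Set G) := by
    rw [vh, cl, centralizer_closure, closure_le]
    rintro _ ⟨x, hx, a, ha, rfl⟩
    refine mem_centralizer_iff.2 ?_
    rintro _ ⟨y, hy, b, hb, rfl⟩
    have h1 := mem_centralizer_iff.1 (hcon (y⁻¹ * x) (mul_mem (inv_mem hy) hx) ⟨a, ha, rfl⟩) b hb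
    change b * ((y⁻¹ * x) * a * (y⁻¹ * x)⁻¹) = ((y⁻¹ * x) * a * (y⁻¹ * x)⁻¹) * b at h1
    calc y * b * y⁻¹ * (x * a * x⁻¹) = y * (b * ((y⁻¹ * x) * a * (y⁻¹ * x)⁻¹)) * y⁻¹ := by group
      _ = y * (((y⁻¹ * x) * a * (y⁻¹ * x)⁻¹) * b) * y⁻¹ := by rw [h1]
      _ = x * a * x⁻¹ * (y * b * y⁻¹) := by group
  intro x hx y hy
  exact (mem_centralizer_iff.1 (key hx) y hy).symm

theorem comp_fixed {A1 A2 : Subgroup G} (hinf : A1 ⊓ A2 = ⊥) {b c1 c2 : G}
    (hb1 : b ∈ normalizer (A1 : Set G)) (hb2 : b ∈ normalizer (A2 : Set G)) (h1 : c1 ∈ A1)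
    (h2 : c2 ∈ A2) (hz : b * (c1 * c2) * b⁻¹ = c1 * c2) : b * c1 * b⁻¹ = c1 := by
  have e : c1⁻¹ * (b * c1 * b⁻¹) = c2 * (b * c2 * b⁻¹)⁻¹ := by
    have h3 : b * c1 * b⁻¹ * (b * c2 * b⁻¹) = c1 * c2 := by rw [← hz]; group
    calc c1⁻¹ * (b * c1 * b⁻¹) = c1⁻¹ * (b * c1 * b⁻¹ * (b * c2 * b⁻¹)) * (b * c2 * b⁻¹)⁻¹ := by
          group
      _ = c1⁻¹ * (c1 * c2) * (b * c2 * b⁻¹)⁻¹ := by rw [h3]
      _ = c2 * (b * c2 * b⁻¹)⁻¹ := by group
  have h3 : c1⁻¹ * (b * c1 * b⁻¹) ∈ A1 ⊓ A2 :=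
    mem_inf.2 ⟨mul_mem (inv_mem h1) ((mem_normalizer_iff.1 hb1 c1).1 h1),
      e ▸ mul_mem h2 (inv_mem ((mem_normalizer_iff.1 hb2 c2).1 h2))⟩
  rw [hinf, mem_bot] at h3
  exact (inv_mul_eq_one.1 h3).symm

theorem le_ncl {W X : Subgroup G} (hW : Nat.card W = 4) (hsq : ∀ v ∈ W, v ^ 2 = 1) {d : G}
    (hd : d ∈ normalizer (W : Set G)) (hne : ∃ v ∈ W, d * v * d⁻¹ ≠ v)
    (h3 : ∀ v ∈ W, d ^ 3 * v * (d ^ 3)⁻¹ = v) (hdX : d ∈ X) {c : G} (hc : c ∈ W) (hc1 : c ≠ 1) :
    W ≤ ncl X c := by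
  have h1 : d * c * d⁻¹ ∈ ncl X c := conj_mem_ncl hdX
  have h2 : d * c * d⁻¹ ∈ W := (mem_normalizer_iff.1 hd c).1 hc
  have h4 : c ≠ d * c * d⁻¹ := fun h5 => hc1 (PlaneAct.eq_one_of_fixed hW hsq hd hne h3 hc h5.symm)
  have h5 : d * c * d⁻¹ ≠ 1 := by
    intro h6
    apply hc1
    have := congrArg (fun x => d⁻¹ * x * d) h6
    simpa [mul_assoc] using this
  intro w hw
  rcases PlaneAct.mem_cases hW hsq hc h2 hc1 h5 h4 w hw with rfl | rfl | rfl | rfl
  · exact one_mem _
  · exact self_mem_ncl _ _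
  · exact h1
  · exact mul_mem (self_mem_ncl _ _) h1

theorem conj_mem_map {A : Subgroup G} {g b : G}
    (hb : g⁻¹ * b * g ∈ normalizer (A : Set G)) :
    b ∈ normalizer ((A.map (MulAut.conj g).toMonoidHom : Subgroup G) : Set G) := by
  rw [mem_normalizer_iff]
  have key : ∀ x, x ∈ A.map (MulAut.conj g).toMonoidHom ↔ g⁻¹ * x * g ∈ A := by
    intro x
    constructor
    · rintro ⟨a, ha, rfl⟩
      change g⁻¹ * (g * a * g⁻¹) * g ∈ A
      have e1 : g⁻¹ * (g * a * g⁻¹) * g = a := by group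
      rw [e1]
      exact ha
    · intro hx
      exact ⟨_, hx, by change g * (g⁻¹ * x * g) * g⁻¹ = x; group⟩
  intro x
  rw [key, key, mem_normalizer_iff.1 hb]
  have e : g⁻¹ * b * g * (g⁻¹ * x * g) * (g⁻¹ * b * g)⁻¹ = g⁻¹ * (b * x * b⁻¹) * g := by group
  rw [e]

/-- **Section (2a)**. -/
theorem card_eq_four [Finite G] {S P1 P2 : Subgroup G} (h : Pair S P1 P2)
    (hV : zl S P1 ≤ o2 P2) (hna : ¬ ∀ x ∈ vh S P1 P2, ∀ y ∈ vh S P1 P2, x * y = y * x) :
    Nat.card (zl S P1) = 4 := by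
  rcases card_cases h with h4 | hcard
  · exact h4
  exfalso
  obtain ⟨g, hg, hBV⟩ := exists_conj hna
  have hVc := V_comm h
  have hV2 := V_sq h
  have hconjS : ∀ g ∈ P2, (zl S P1).map (MulAut.conj g).toMonoidHom ≤ S := by
    intro g hg
    refine le_trans ?_ (o2_le_S2 h)
    rintro _ ⟨v, hv, rfl⟩
    exact (mem_normalizer_iff.1 (VModule.le_normalizer_o2 P2 hg) v).1 (hV hv)
  set V := zl S P1 with hVdef
  obtain ⟨W, d, D⟩ := exists_dec h hcard (hconjS g hg) (conj_comm_of hVc g) (conj_sq_of hV2 g)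
    ((card_conj V g).trans hcard) hBV
  rw [← hVdef] at D
  have hWc : ∀ i, ∀ x ∈ W i, ∀ y ∈ V, x * y = y * x := fun i x hx y hy => hVc x (D.le i hx) y hy
  have hW2 : ∀ i, ∀ x ∈ W i, x ^ 2 = 1 := fun i x hx => hV2 x (D.le i hx)
  -- normalizers
  have hn1 : ∀ i, ∀ b ∈ V.map (MulAut.conj g).toMonoidHom, b ∈ normalizer (W i : Set G) :=
    fun i b hb => D.nrm _ (hconjS g hg) (conj_comm_of hVc g) (conj_sq_of hV2 g)
      ((card_conj V g).trans hcard) i hb
  have hn2 : ∀ i, ∀ v ∈ V, v ∈ normalizer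
      (((W i).map (MulAut.conj g).toMonoidHom : Subgroup G) : Set G) := by
    intro i v hv
    apply conj_mem_map
    refine D.nrm _ (hconjS g⁻¹ (inv_mem hg)) (conj_comm_of hVc g⁻¹) (conj_sq_of hV2 g⁻¹)
      ((card_conj V g⁻¹).trans hcard) i ⟨v, hv, ?_⟩
    change g⁻¹ * v * g⁻¹⁻¹ = g⁻¹ * v * g
    rw [inv_inv]
  -- `z`
  obtain ⟨z, hz, hz1⟩ := (Subgroup.ne_bot_iff_exists_ne_one.1 (zc_ne_bot h)).elim
    fun z hz1 => (⟨z, z.2, fun h1 => hz1 (Subtype.ext h1)⟩ : ∃ z : G, z ∈ zc S ∧ z ≠ 1)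
  have hzg : g * z * g⁻¹ = z := by
    rw [← mem_centralizer_iff.1 (h.cent hg) z hz]; group
  have hzV : z ∈ V := zc_le_zl S P1 hz
  have hinf : ∀ i, W i ⊓ W (!i) = ⊥ := by
    rintro (_ | _)
    · rw [inf_comm]; exact D.inf
    · exact D.inf
  obtain ⟨c, hcW, hcz⟩ : ∃ c : Bool → G, (∀ i, c i ∈ W i) ∧ ∀ i, c i * c (!i) = z := by
    have h1 : W true ≤ normalizer (W false : Set G) := by
      refine ZN.Block.le_normalizer_of_forall fun a ha b hb => ?_
      rw [hVc a (D.le _ ha) b (D.le _ hb), mul_inv_cancel_right]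
      exact hb
    have h2 : z ∈ ((W true ⊔ W false : Subgroup G) : Set G) := by
      rw [D.sup]; exact hzV
    rw [Subgroup.coe_mul_of_left_le_normalizer_right _ _ h1] at h2
    obtain ⟨a, ha, b, hb, hab⟩ := h2
    refine ⟨fun i => if i then a else b, ?_, ?_⟩
    · rintro (_ | _)
      · exact hb
      · exact ha
    · rintro (_ | _)
      · change b * a = z
        rw [hVc b (D.le _ hb) a (D.le _ ha)]; exact hab
      · exact hab
  have hc1 : ∀ i, c i ≠ 1 := by
    obtain ⟨s, hsS, hsW⟩ := D.swap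
    have hsz : s * z * s⁻¹ = z := by
      rw [(VModule.mem_zc.1 hz).2.1 s hsS]; group
    have hmap : ∀ a ∈ W true, s * a * s⁻¹ ∈ W false := fun a ha => hsW ▸ ⟨a, ha, rfl⟩
    have hmap' : ∀ a ∈ W false, s⁻¹ * a * s ∈ W true := by
      intro a ha
      rw [← hsW] at ha
      obtain ⟨b, hb, rfl⟩ := ha
      change s⁻¹ * (s * b * s⁻¹) * s ∈ W true
      have e1 : s⁻¹ * (s * b * s⁻¹) * s = b := by group
      rw [e1]
      exact hb
    rintro (_ | _) h0
    · -- `c false = 1`: `z ∈ W true`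
      have h1 : c true = z := by
        have := hcz true
        rwa [Bool.not_true, h0, mul_one] at this
      have h2 : z ∈ W true := h1 ▸ hcW true
      have h3 : z ∈ W false := hsz ▸ hmap z h2
      have h4 : z ∈ W true ⊓ W false := ⟨h2, h3⟩
      rw [D.inf, mem_bot] at h4
      exact hz1 h4
    · have h1 : c false = z := by
        have := hcz true
        rwa [Bool.not_true, h0, one_mul] at this
      have h2 : z ∈ W false := h1 ▸ hcW false
      have h3 : z ∈ W true := by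
        have h5 := hmap' z h2
        have h6 : s⁻¹ * z * s = z := by
          calc s⁻¹ * z * s = s⁻¹ * (s * z * s⁻¹) * s := by rw [hsz]
            _ = z := by group
        rwa [h6] at h5
      have h4 : z ∈ W true ⊓ W false := ⟨h3, h2⟩
      rw [D.inf, mem_bot] at h4
      exact hz1 h4
  -- noncommuting components
  obtain ⟨i, j, v, hv, w, hw, hvw⟩ : ∃ i j : Bool, ∃ v ∈ W i, ∃ w ∈ W j,
      v * (g * w * g⁻¹) ≠ g * w * g⁻¹ * v := by
    by_contra hcon
    push Not at hcon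
    apply hBV
    have h1 : ∀ j, (W j).map (MulAut.conj g).toMonoidHom ≤ centralizer (V : Set G) := by
      intro j
      rw [le_centralizer_iff, ← D.sup]
      refine sup_le ?_ ?_
      · intro v hv
        refine mem_centralizer_iff.2 ?_
        rintro _ ⟨w, hw, rfl⟩
        exact (hcon true j v hv w hw).symm
      · intro v hv
        refine mem_centralizer_iff.2 ?_
        rintro _ ⟨w, hw, rfl⟩
        exact (hcon false j v hv w hw).symm
    have h2 : V.map (MulAut.conj g).toMonoidHom =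
        (W true).map (MulAut.conj g).toMonoidHom ⊔ (W false).map (MulAut.conj g).toMonoidHom := by
      rw [← Subgroup.map_sup, D.sup]
    rw [h2]
    exact sup_le (h1 true) (h1 false)
  set b := g * w * g⁻¹ with hb
  have hbWj : b ∈ (W j).map (MulAut.conj g).toMonoidHom := ⟨w, hw, rfl⟩
  have hWB : ∀ j, (W j).map (MulAut.conj g).toMonoidHom ≤ V.map (MulAut.conj g).toMonoidHom :=
    fun j => Subgroup.map_mono (D.le j)
  have hbB := hWB j hbWj
  have hvV := D.le i hv
  set e := v * b * v⁻¹ * b⁻¹ with he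
  have he1 : e ≠ 1 := by
    intro h1
    apply hvw
    calc v * b = v * b * v⁻¹ * b⁻¹ * b * v := by group
      _ = b * v := by rw [← he, h1, one_mul]
  have heW : e ∈ W i := by
    have h1 : e = v * (b * v⁻¹ * b⁻¹) := by rw [he]; group
    rw [h1]
    exact mul_mem hv ((mem_normalizer_iff.1 (hn1 i b hbB) _).1 (inv_mem hv))
  have heB : e ∈ (W j).map (MulAut.conj g).toMonoidHom :=
    mul_mem ((mem_normalizer_iff.1 (hn2 j v hvV) _).1 hbWj) (inv_mem hbWj)
  -- the components of `z`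
  have hzB : z ∈ V.map (MulAut.conj g).toMonoidHom := ⟨z, hzV, hzg⟩
  have hci : c i = e := by
    refine PlaneAct.fixed_unique (D.card i) (hW2 i) (t := b) ⟨v, hv, ?_⟩ (hcW i) heW (hc1 i) he1
      ?_ ?_
    · intro h1
      apply hvw
      calc v * b = b * v * b⁻¹ * b := by rw [h1]
        _ = b * v := by group
    · refine comp_fixed (hinf i) (hn1 i b hbB) (hn1 _ b hbB) (hcW i) (hcW _) ?_
      rw [hcz i, conj_comm_of hVc g b hbB z hzB]; group
    · rw [conj_comm_of hVc g b hbB e (hWB j heB)]; group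
  have hcj : g * c j * g⁻¹ = e := by
    refine PlaneAct.fixed_unique ((card_conj (W j) g).trans (D.card j))
      (conj_sq_of (hW2 j) g) (t := v) ⟨b, hbWj, ?_⟩ ⟨c j, hcW j, rfl⟩ heB ?_ he1 ?_ ?_
    · intro h1
      apply hvw
      calc v * b = v * b * v⁻¹ * v := by group
        _ = b * v := by rw [h1]
    · intro h1
      apply hc1 j
      have := congrArg (fun x => g⁻¹ * x * g) h1
      simpa [mul_assoc] using this
    · refine comp_fixed (A1 := (W j).map (MulAut.conj g).toMonoidHom)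
        (A2 := (W (!j)).map (MulAut.conj g).toMonoidHom) (c2 := g * c (!j) * g⁻¹) ?_
        (hn2 j v hvV) (hn2 _ v hvV) ⟨c j, hcW j, rfl⟩ ⟨c (!j), hcW _, rfl⟩ ?_
      · rw [← Subgroup.map_inf _ _ _ (MulAut.conj g).injective, hinf j, Subgroup.map_bot]
      · have h1 : g * c j * g⁻¹ * (g * c (!j) * g⁻¹) = z := by
          rw [← hzg, ← hcz j]; group
        rw [h1, hVc v hvV z hzV]; group
    · rw [hVc v hvV e (D.le i heW)]; group
  have hf : c (!i) = g * c (!j) * g⁻¹ := by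
    have h1 : c i * c (!i) = g * c j * g⁻¹ * (g * c (!j) * g⁻¹) := by
      rw [hcz i]
      conv_lhs => rw [← hzg, ← hcz j]
      group
    rw [hci, hcj] at h1
    exact mul_left_cancel h1
  -- killing
  refine killing_centralizer (locSolv' h.hyp) (X := W i ⊔ closure {d i})
    (Y := (W j).map (MulAut.conj g).toMonoidHom ⊔ closure {g * d j * g⁻¹}) (v := e)
    (mem_sup_left heW) he1 (V := W i) (W := (W j).map (MulAut.conj g).toMonoidHom) ?_ ?_ ?_
    (u := c (!i)) ?_ ?_ ?_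
  · exact le_ncl (D.card i) (hW2 i) (D.dn i) (D.ne i) (D.cube i)
      (mem_sup_right (subset_closure (Set.mem_singleton _))) heW he1
  · have hdY : g * d j * g⁻¹ ∈
        (W j).map (MulAut.conj g).toMonoidHom ⊔ closure {g * d j * g⁻¹} :=
      mem_sup_right (subset_closure (Set.mem_singleton _))
    refine le_ncl ((card_conj (W j) g).trans (D.card j)) (conj_sq_of (hW2 j) g)
      (d := g * d j * g⁻¹) ?_ ?_ ?_ hdY heB he1
    · apply conj_mem_map
      have e1 : g⁻¹ * (g * d j * g⁻¹) * g = d j := by group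
      rw [e1]
      exact D.dn j
    · obtain ⟨u, hu, hu2⟩ := D.ne j
      refine ⟨g * u * g⁻¹, ⟨u, hu, rfl⟩, fun h1 => hu2 ?_⟩
      have h2 := congrArg (fun x => g⁻¹ * x * g) h1
      calc d j * u * (d j)⁻¹ =
          g⁻¹ * (g * d j * g⁻¹ * (g * u * g⁻¹) * (g * d j * g⁻¹)⁻¹) * g := by group
        _ = g⁻¹ * (g * u * g⁻¹) * g := h2
        _ = u := by group
    · rintro _ ⟨u, hu, rfl⟩
      change (g * d j * g⁻¹) ^ 3 * (g * u * g⁻¹) * ((g * d j * g⁻¹) ^ 3)⁻¹ = g * u * g⁻¹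
      calc (g * d j * g⁻¹) ^ 3 * (g * u * g⁻¹) * ((g * d j * g⁻¹) ^ 3)⁻¹ =
          g * (d j ^ 3 * u * (d j ^ 3)⁻¹) * g⁻¹ := by rw [conj_pow]; group
        _ = g * u * g⁻¹ := by rw [D.cube j u hu]
  · exact commutator_mem_commutator hv hbWj
  · exact orderOf_eq_prime (hW2 _ _ (hcW _)) (hc1 _)
  · refine sup_le ?_ ?_
    · intro x hx
      refine mem_centralizer_iff.2 ?_
      rintro _ rfl
      exact (hWc i x hx _ (D.le _ (hcW _))).symm
    · rw [closure_le, Set.singleton_subset_iff]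
      refine mem_centralizer_iff.2 ?_
      rintro _ rfl
      exact (D.dc i _ (hcW _)).symm
  · refine sup_le ?_ ?_
    · rintro _ ⟨x, hx, rfl⟩
      refine mem_centralizer_iff.2 ?_
      rintro _ rfl
      rw [hf]
      change g * c (!j) * g⁻¹ * (g * x * g⁻¹) = g * x * g⁻¹ * (g * c (!j) * g⁻¹)
      calc g * c (!j) * g⁻¹ * (g * x * g⁻¹) = g * (c (!j) * x) * g⁻¹ := by group
        _ = g * (x * c (!j)) * g⁻¹ := by rw [hWc _ _ (hcW _) x (D.le _ hx)]
        _ = g * x * g⁻¹ * (g * c (!j) * g⁻¹) := by group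
    · rw [closure_le, Set.singleton_subset_iff]
      refine mem_centralizer_iff.2 ?_
      rintro _ rfl
      rw [hf]
      calc g * c (!j) * g⁻¹ * (g * d j * g⁻¹) = g * (c (!j) * d j) * g⁻¹ := by group
        _ = g * (d j * c (!j)) * g⁻¹ := by rw [D.dc j _ (hcW _)]
        _ = g * d j * g⁻¹ * (g * c (!j) * g⁻¹) := by group

end Cfsg.Agent.SectRankFour.C2.BTwoA
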