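import Mathlib
import Cfsg.Agent.SectRankFour.C2.ParFacts
import Cfsg.Agent.Lib.CoprimeCommutator
import Cfsg.Agent.Lib.FrattiniPGroup

/-!
# S0517, C2, sectional rank 4, section 1: sections of `Q`, the Frattini section, the pair

* `Sect P R A B` : a `Par.Sec` inside `o2 P` on which `R` acts nontrivially; `irred16`,
  `exists_fpf`, `structure9` in this language;
* `ph Q` : the Frattini subgroup of `Q` as a subgroup of `G`; `sect_ph` : the section `Q / Φ(Q)`;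
* basic API of `Pair`.
-/

set_option autoImplicit false
set_option linter.unusedSectionVars false
set_option linter.unusedVariables false

namespace Cfsg.Agent.SectRankFour.C2.BOneFacts

open Subgroup Cfsg Cfsg.Agent.ZN Cfsg.Agent.MinSimple Cfsg.Agent.MinSimple.MinParabolic
  Cfsg.Agent.MinSimple.VModule Cfsg.Agent.SectRankFour.C2.Defs

universe u

variable {G : Type u} [Group G]

/-! ### General facts -/

theorem conj_mem {A B : Subgroup G} (h : A ≤ normalizer (B : Set G)) {a b : G} (ha : a ∈ A)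
    (hb : b ∈ B) : a * b * a⁻¹ ∈ B := (mem_normalizer_iff.mp (h ha) b).mp hb

theorem conj_mem' {A B : Subgroup G} (h : A ≤ normalizer (B : Set G)) {a b : G} (ha : a ∈ A)
    (hb : b ∈ B) : a⁻¹ * b * a ∈ B := by
  have := conj_mem h (inv_mem ha) hb
  rwa [inv_inv] at this

/-- `A` normalizes `B` as soon as conjugation by elements of `A` maps `B` into `B`. -/
theorem le_normalizer_of {A B : Subgroup G} (h : ∀ a ∈ A, ∀ b ∈ B, a * b * a⁻¹ ∈ B) :
    A ≤ normalizer (B : Set G) := by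
  intro a ha
  rw [mem_normalizer_iff]
  intro b
  refine ⟨h a ha b, fun hb => ?_⟩
  have := h a⁻¹ (inv_mem ha) _ hb
  have e : a⁻¹ * (a * b * a⁻¹) * a⁻¹⁻¹ = b := by group
  rwa [e] at this

/-- `x` of odd order, `x q x⁻¹ = z q`, `z` an involution or `1` commuting with `x`: `z = 1`. -/
theorem odd_comm {x q z : G} {n : ℕ} (hn : Odd n) (hx : x ^ n = 1) (h1 : x * q * x⁻¹ = z * q)
    (hxz : x * z = z * x) (hz : z ^ 2 = 1) : z = 1 := by
  have key : ∀ k : ℕ, x ^ k * q * (x ^ k)⁻¹ = z ^ k * q := by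
    intro k
    induction k with
    | zero => simp
    | succ k ih =>
      have hc : Commute x z := hxz
      calc x ^ (k + 1) * q * (x ^ (k + 1))⁻¹ = x * (x ^ k * q * (x ^ k)⁻¹) * x⁻¹ := by
            rw [pow_succ']; group
        _ = (x * z ^ k) * q * x⁻¹ := by rw [ih]; group
        _ = z ^ k * (x * q * x⁻¹) := by rw [(hc.pow_right k).eq]; group
        _ = z ^ (k + 1) * q := by rw [h1, pow_succ]; group
  have h2 := key n
  rw [hx, one_mul, inv_one, mul_one] at h2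
  have h3 : z ^ n = 1 := by
    have : z ^ n * q = 1 * q := by rw [← h2, one_mul]
    exact mul_right_cancel this
  obtain ⟨m, rfl⟩ := hn
  rwa [pow_succ, pow_mul, hz, one_pow, one_mul] at h3

theorem eq_one_of_odd_of_two {Q : Subgroup G} (hQ : IsPGroup 2 Q) {x : G} (hx : x ∈ Q)
    (ho : Odd (orderOf x)) : x = 1 := by
  obtain ⟨n, hn⟩ := hQ ⟨x, hx⟩
  have h1 : x ^ 2 ^ n = 1 := congrArg Subtype.val hn
  have h2 : orderOf x ∣ 2 ^ n := orderOf_dvd_of_pow_eq_one h1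
  have h3 : (orderOf x).Coprime (2 ^ n) := Nat.Coprime.pow_right n (Nat.coprime_two_right.mpr ho)
  exact orderOf_eq_one_iff.mp (Nat.Coprime.eq_one_of_dvd h3 h2)

/-! ### Sections -/

section Sect

variable [Finite G] {S P R : Subgroup G} {p : ℕ}

/-- An elementary abelian section of `o2 P`, normal in `P`, not centralised by `R`. -/
structure Sect (P R A B : Subgroup G) : Prop where
  le : B ≤ A
  leQ : A ≤ o2 P
  normA : P ≤ normalizer (A : Set G)
  normB : P ≤ normalizer (B : Set G)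
  comm : ∀ a ∈ A, ∀ b ∈ A, a * b * a⁻¹ * b⁻¹ ∈ B
  sq : ∀ a ∈ A, a ^ 2 ∈ B
  ne : ¬ ∀ a ∈ A, ∀ r ∈ R, r * a * r⁻¹ * a⁻¹ ∈ B

theorem Sect.sec {A B : Subgroup G} (h : Sect P R A B) : Par.Sec P A B :=
  ⟨h.le, h.leQ.trans (o2_le P), h.normA, h.normB, h.comm, h.sq⟩

theorem Sect.ex {A B : Subgroup G} (h : Sect P R A B) :
    ∃ a ∈ A, ∃ x ∈ R, x * a * x⁻¹ * a⁻¹ ∉ B := by
  have := h.ne
  push Not at this
  exact this

theorem irred16 (hyp : Hyp G) (h : Defs.Par S P R p) (h3 : Nat.card R ≠ 3) {A B : Subgroup G}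
    (hs : Sect P R A B) : B.relIndex A = 16 ∧
      ∀ C : Subgroup G, B ≤ C → C ≤ A → P ≤ normalizer (C : Set G) → C = B ∨ C = A := by
  obtain ⟨h1, -, h2⟩ := ParFacts.irred16 hyp.rank h h3 hs.sec hs.ex
  refine ⟨?_, h2⟩
  have h4 := Par.card_mul_relIndex hs.le
  rw [h1, mul_comm] at h4
  exact Nat.eq_of_mul_eq_mul_right Nat.card_pos h4

theorem exists_fpf (hyp : Hyp G) (h : Defs.Par S P R p) (h3 : Nat.card R ≠ 3) {A B : Subgroup G}
    (hs : Sect P R A B) : ∃ x ∈ R, ∀ a ∈ A, x * a * x⁻¹ * a⁻¹ ∈ B → a ∈ B := by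
  obtain ⟨x, hx, -, h1⟩ := ParFacts.exists_fpf hyp.rank h h3 hs.sec hs.ex
  exact ⟨x, hx, h1⟩

/-- A subgroup of order 3 of `R` is generated by an element with the same centraliser. -/
theorem exists_gen {A B : Subgroup G} (hs : Par.Sec P A B) {R1 : Subgroup G} (hR1 : R1 ≤ P)
    (hc : Nat.card R1 = 3) : ∃ y ∈ R1, y ^ 3 = 1 ∧
      ∀ a ∈ A, a ∈ hs.cen hR1 ↔ y * a * y⁻¹ * a⁻¹ ∈ B := by
  have hf : Fact (Nat.Prime 3) := ⟨Nat.prime_three⟩
  obtain ⟨y, hy⟩ : ∃ y : R1, y ≠ 1 := by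
    have : Nontrivial R1 := Finite.one_lt_card_iff_nontrivial.mp (by omega)
    exact exists_ne 1
  have hy3 : (y : G) ^ 3 = 1 := by
    have h1 : y ^ Nat.card R1 = 1 := pow_card_eq_one'
    rw [hc] at h1
    exact congrArg Subtype.val h1
  refine ⟨y, y.2, hy3, fun a ha => ?_⟩
  rw [Par.Sec.mem_cen]
  constructor
  · exact fun h => h.2 y y.2
  · intro h
    refine ⟨ha, fun x hx => ?_⟩
    -- `x` is a power of `y`
    have h2 : zpowers y = ⊤ := by
      have h3 : Nat.card (zpowers y) ∣ 3 := hc ▸ Subgroup.card_subgroup_dvd_card _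
      rcases (Nat.dvd_prime Nat.prime_three).mp h3 with h4 | h4
      · exfalso
        apply hy
        rw [Nat.card_zpowers, orderOf_eq_one_iff] at h4
        exact h4
      · exact Subgroup.eq_top_of_card_eq _ (by rw [h4, hc])
    obtain ⟨k, hk⟩ := mem_zpowers_iff.mp (h2 ▸ mem_top (⟨x, hx⟩ : R1) : (⟨x, hx⟩ : R1) ∈ zpowers y)
    let T : Subgroup G :=
      { carrier := {z | z ∈ P ∧ z * a * z⁻¹ * a⁻¹ ∈ B}
        one_mem' := ⟨one_mem _, by simp⟩
        mul_mem' := by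
          rintro z w ⟨hz, hz'⟩ ⟨hw, hw'⟩
          refine ⟨mul_mem hz hw, ?_⟩
          have e : z * w * a * (z * w)⁻¹ * a⁻¹ =
              (z * (w * a * w⁻¹ * a⁻¹) * z⁻¹) * (z * a * z⁻¹ * a⁻¹) := by group
          rw [e]
          exact mul_mem (hs.conjB hz hw') hz'
        inv_mem' := by
          rintro z ⟨hz, hz'⟩
          refine ⟨inv_mem hz, ?_⟩
          have e : z⁻¹ * a * z⁻¹⁻¹ * a⁻¹ = z⁻¹ * (z * a * z⁻¹ * a⁻¹)⁻¹ * z⁻¹⁻¹ := by group
          rw [e]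
          exact hs.conjB (inv_mem hz) (inv_mem hz') }
    have h3 : (y : G) ∈ T := ⟨hR1 y.2, h⟩
    have h4 : x ∈ T := by
      have h5 : x = (y : G) ^ k := by
        have := congrArg Subtype.val hk
        exact this.symm
      rw [h5]
      exact zpow_mem h3 k
    exact h4.2

theorem structure9 (hyp : Hyp G) (h : Defs.Par S P R p) (h9 : Nat.card R = 9) {A B : Subgroup G}
    (hs : Sect P R A B) : ∃ y' ∈ R, ∃ y'' ∈ R, ∃ A' A'' : Subgroup G,
      B ≤ A' ∧ B ≤ A'' ∧ A' ⊔ A'' = A ∧ A' ⊓ A'' = B ∧ B.relIndex A' = 4 ∧ B.relIndex A'' = 4 ∧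
      y' ^ 3 = 1 ∧ y'' ^ 3 = 1 ∧
      (∀ a ∈ A, a ∈ A' ↔ y'' * a * y''⁻¹ * a⁻¹ ∈ B) ∧
      (∀ a ∈ A, a ∈ A'' ↔ y' * a * y'⁻¹ * a⁻¹ ∈ B) := by
  obtain ⟨-, B1, B2, h1, h2, hc1, hc2, -, -, hk1, hk2, hki, hks, -⟩ :=
    ParFacts.nine hyp.rank h h9 hs.sec hs.ex
  obtain ⟨y1, hy1, hy13, hy1c⟩ := exists_gen hs.sec (h1.trans h.R_le) hc1
  obtain ⟨y2, hy2, hy23, hy2c⟩ := exists_gen hs.sec (h2.trans h.R_le) hc2
  have hri : ∀ {R1 : Subgroup G} (hR1 : R1 ≤ P), Nat.card (hs.sec.cen hR1) = 4 * Nat.card B →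
      B.relIndex (hs.sec.cen hR1) = 4 := by
    intro R1 hR1 hc
    have h4 := Par.card_mul_relIndex (hs.sec.le_cen hR1)
    rw [hc, mul_comm] at h4
    exact Nat.eq_of_mul_eq_mul_right Nat.card_pos h4
  exact ⟨y2, h2 hy2, y1, h1 hy1, hs.sec.cen (h1.trans h.R_le), hs.sec.cen (h2.trans h.R_le),
    hs.sec.le_cen _, hs.sec.le_cen _, hks, hki, hri _ hk1, hri _ hk2, hy23, hy13, hy1c, hy2c⟩

end Sect

/-! ### The Frattini subgroup -/

/-- `Φ(Q)` as a subgroup of `G`. -/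
def ph (Q : Subgroup G) : Subgroup G := (frattini Q).map Q.subtype

theorem ph_le (Q : Subgroup G) : ph Q ≤ Q := map_subtype_le _

theorem normalizer_le_ph (Q : Subgroup G) : normalizer (Q : Set G) ≤ normalizer (ph Q : Set G) := by
  refine le_normalizer_of fun g hg b hb => ?_
  obtain ⟨c, hc, rfl⟩ := hb
  have h1 := characteristic_iff_map_le.mp (frattini_characteristic (G := Q))
    (Q.normalizerMonoidHom ⟨g, hg⟩)
  have h2 : (Q.normalizerMonoidHom ⟨g, hg⟩) c ∈ frattini Q := h1 ⟨c, hc, rfl⟩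
  exact ⟨_, h2, rfl⟩

theorem comm_mem_ph [Finite G] {Q : Subgroup G} (hQ : IsPGroup 2 Q) {a b : G} (ha : a ∈ Q)
    (hb : b ∈ Q) : a * b * a⁻¹ * b⁻¹ ∈ ph Q := by
  have hf : Fact (Nat.Prime 2) := ⟨Nat.prime_two⟩
  have h1 := Lib.FrattiniPGroup.commutator_mem_frattini hQ (⟨a, ha⟩ : Q) ⟨b, hb⟩
  exact ⟨_, h1, rfl⟩

theorem sq_mem_ph [Finite G] {Q : Subgroup G} (hQ : IsPGroup 2 Q) {a : G} (ha : a ∈ Q) :
    a ^ 2 ∈ ph Q := by
  have hf : Fact (Nat.Prime 2) := ⟨Nat.prime_two⟩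
  exact ⟨(⟨a, ha⟩ : Q) ^ 2, Lib.FrattiniPGroup.pow_mem_frattini hQ _, rfl⟩

theorem ph_le_of [Finite G] {Q I : Subgroup G} (hI : I ≤ Q) (hn : Q ≤ normalizer (I : Set G))
    (hc : ∀ a ∈ Q, ∀ b ∈ Q, a * b * a⁻¹ * b⁻¹ ∈ I) (hs : ∀ a ∈ Q, a ^ 2 ∈ I) : ph Q ≤ I := by
  have hf : Fact (Nat.Prime 2) := ⟨Nat.prime_two⟩
  have h1 : (I.subgroupOf Q).Normal := normal_subgroupOf_of_le_normalizer hn
  have h2 := Lib.FrattiniPGroup.frattini_le (p := 2) (I.subgroupOf Q)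
    (fun x y => hc x x.2 y y.2) (fun x => hs x x.2)
  rintro _ ⟨c, hc, rfl⟩
  exact h2 hc

theorem eq_of_sup_ph [Finite G] {Q F : Subgroup G} (hF : F ≤ Q) (h : Q ≤ F ⊔ ph Q) : F = Q := by
  refine le_antisymm hF ?_
  have h1 : F.subgroupOf Q ⊔ frattini Q = ⊤ := by
    rw [eq_top_iff]
    intro x _
    have h2 : (F.subgroupOf Q ⊔ frattini Q).map Q.subtype = F ⊔ ph Q := by
      rw [Subgroup.map_sup, subgroupOf_map_subtype, inf_eq_left.mpr hF]
      rfl
    have h3 : (x : G) ∈ (F.subgroupOf Q ⊔ frattini Q).map Q.subtype := h2 ▸ h x.2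
    obtain ⟨y, hy, hyx⟩ := h3
    have : y = x := Subtype.ext hyx
    exact this ▸ hy
  have h2 := frattini_nongenerating h1
  intro x hx
  have : (⟨x, hx⟩ : Q) ∈ F.subgroupOf Q := h2 ▸ mem_top _
  exact this

section Frat

variable [Finite G] {S P : Subgroup G}

theorem odd_card_R {R : Subgroup G} {p : ℕ} (hR : Defs.Par S P R p) : Odd (Nat.card R) := by
  rcases hR.card_R with h | ⟨-, h⟩
  · rw [h]
    rcases hR.p_eq with rfl | rfl <;> decide
  · rw [h]; decide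

theorem not_dvd_two {Q : Subgroup G} (hQ : IsPGroup 2 Q) {p : ℕ} (hp : p = 3 ∨ p = 5) :
    ¬ p ∣ Nat.card Q := by
  have hf : Fact (Nat.Prime 2) := ⟨Nat.prime_two⟩
  obtain ⟨n, hn⟩ := IsPGroup.iff_card.mp hQ
  rw [hn]
  intro h
  rcases hp with rfl | rfl
  · have := (Nat.prime_three).dvd_of_dvd_pow h
    omega
  · have := (Nat.prime_five).dvd_of_dvd_pow h
    omega

/-- The section `Q / Φ(Q)`, `Q = o2 P`. -/
theorem sect_ph {R : Subgroup G} {p : ℕ} (hR : Defs.Par S P R p) :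
    Sect P R (o2 P) (ph (o2 P)) where
  le := ph_le _
  leQ := le_rfl
  normA := le_normalizer_o2 P
  normB := (le_normalizer_o2 P).trans (normalizer_le_ph _)
  comm := fun a ha b hb => comm_mem_ph (o2_isPGroup P) ha hb
  sq := fun a ha => sq_mem_ph (o2_isPGroup P) ha
  ne := by
    intro hc
    have hfp : Fact p.Prime := ⟨ParFacts.p_prime hR⟩
    set Q := o2 P with hQdef
    have hphn : P ≤ normalizer (ph Q : Set G) := (le_normalizer_o2 P).trans (normalizer_le_ph _)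
    -- `Q = C_Q(R) Φ(Q)`
    have h1 : Q ⊓ centralizer (R : Set G) = Q := by
      refine eq_of_sup_ph inf_le_left fun q hq => ?_
      obtain ⟨c, hc1, hc2⟩ := Lib.CoprimeCommutator.exists_fixed_in_coset p R (ph Q)
        (ParFacts.isPGroup_R hR) (hR.R_le.trans hphn)
        (not_dvd_two ((o2_isPGroup P).to_le (ph_le _)) hR.p_eq) q (by
          intro r hr
          have h2 := conj_mem' (le_normalizer.trans (normalizer_le_ph Q)) hq (hc q hq r hr)
          have e : q⁻¹ * (r * q * r⁻¹ * q⁻¹) * q = q⁻¹ * (r * q * r⁻¹) := by group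
          rwa [e] at h2)
      have hcQ : c ∈ Q := by
        have := mul_mem hq (ph_le Q hc2)
        rwa [mul_inv_cancel_left] at this
      have e : q = c * (q⁻¹ * c)⁻¹ := by group
      rw [e]
      exact mul_mem (mem_sup_left ⟨hcQ, hc1⟩) (mem_sup_right (inv_mem hc2))
    have h2 : R ≤ Q := by
      intro r hr
      refine hR.char2 ⟨hR.R_le hr, mem_centralizer_iff.mpr fun q hq => ?_⟩
      have h3 : q ∈ Q ⊓ centralizer (R : Set G) := h1.symm ▸ hq
      exact (mem_centralizer_iff.mp h3.2 r hr).symm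
    have h3 : Nat.card R = 1 := by
      rw [Subgroup.card_eq_one, eq_bot_iff]
      intro r hr
      rw [mem_bot]
      refine eq_one_of_odd_of_two (o2_isPGroup P) (h2 hr) ?_
      exact Odd.of_dvd_nat (odd_card_R hR) (by
        have := orderOf_dvd_natCard (⟨r, hr⟩ : R)
        rwa [orderOf_mk] at this)
    have := ParFacts.one_lt_card_R hR
    omega

end Frat

/-! ### Basic facts on the pair -/

section Pair

variable [Finite G] {S P1 P2 : Subgroup G}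

theorem isPGroup (h : Pair S P1 P2) : IsPGroup 2 S := by
  obtain ⟨R, p, hR⟩ := h.par1
  exact hR.two

theorem ne_bot (h : Pair S P1 P2) : S ≠ ⊥ := by
  obtain ⟨R, p, hR⟩ := h.par1
  intro h0
  apply hR.o2_ne
  exact le_bot_iff.mp ((o2_le_of_sylow hR.two hR.syl).trans h0.le)

theorem zc_ne (h : Pair S P1 P2) : zc S ≠ ⊥ := Basic.zc_ne_bot (isPGroup h) (ne_bot h)

theorem zc_isPGroup (h : Pair S P1 P2) : IsPGroup 2 (zc S) := (isPGroup h).to_le (zc_le S)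

theorem P2_le_zc (h : Pair S P1 P2) : P2 ≤ normalizer (zc S : Set G) :=
  h.cent.trans (le_normalizer_of fun a ha b hb => by
    rw [← mem_centralizer_iff.mp ha b hb, mul_inv_cancel_right]; exact hb)

theorem not_norm (h : Pair S P1 P2) : ¬ P1 ≤ normalizer (zc S : Set G) := fun h1 =>
  zc_ne h (h.nonlocal _ (zc_isPGroup h) h1 (P2_le_zc h))

theorem le1 (h : Pair S P1 P2) : S ≤ P1 := by
  obtain ⟨R, p, hR⟩ := h.par1
  exact hR.le

theorem le2 (h : Pair S P1 P2) : S ≤ P2 := by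
  obtain ⟨R, p, hR⟩ := h.par2
  exact hR.le

theorem Q1_le (h : Pair S P1 P2) : o2 P1 ≤ S := by
  obtain ⟨R, p, hR⟩ := h.par1
  exact o2_le_of_sylow hR.two hR.syl

theorem Q2_le (h : Pair S P1 P2) : o2 P2 ≤ S := by
  obtain ⟨R, p, hR⟩ := h.par2
  exact o2_le_of_sylow hR.two hR.syl

theorem V_le_zc (h : Pair S P1 P2) : zl S P1 ≤ zc (o2 P1) := by
  obtain ⟨R, p, hR⟩ := h.par1
  exact zl_le_zc hR.le hR.two hR.syl hR.char2

theorem V_le_Q1 (h : Pair S P1 P2) : zl S P1 ≤ o2 P1 := (V_le_zc h).trans (zc_le _)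

theorem V_le (h : Pair S P1 P2) : zl S P1 ≤ S := (V_le_Q1 h).trans (Q1_le h)

theorem V_comm (h : Pair S P1 P2) : ∀ x ∈ zl S P1, ∀ y ∈ zl S P1, x * y = y * x :=
  fun _ hx _ hy => zc_comm _ _ (V_le_zc h hx) _ (V_le_zc h hy)

theorem V_sq (h : Pair S P1 P2) : ∀ x ∈ zl S P1, x ^ 2 = 1 := fun _ hx => zc_sq _ _ (V_le_zc h hx)

theorem V_Q1 (h : Pair S P1 P2) : ∀ q ∈ o2 P1, ∀ v ∈ zl S P1, q * v = v * q :=
  fun _ hq _ hv => (mem_zc.mp (V_le_zc h hv)).2.1 _ hq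

/-- `C_S(V) = Q_1`. -/
theorem mem_Q1_iff (h : Pair S P1 P2) {s : G} (hs : s ∈ S) :
    s ∈ o2 P1 ↔ ∀ v ∈ zl S P1, s * v = v * s := by
  obtain ⟨R, p, hR⟩ := h.par1
  have h1 := inf_centralizer_zl hR.min hR.two hR.syl hR.char2 (not_norm h)
  constructor
  · exact fun hs' v hv => V_Q1 h s hs' v hv
  · intro hv
    rw [← h1]
    exact ⟨hs, mem_centralizer_iff.mpr fun v hv' => (hv v hv').symm⟩

theorem P1_V (_ : Pair S P1 P2) : P1 ≤ normalizer (zl S P1 : Set G) := le_normalizer_zl S P1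

theorem S_V (h : Pair S P1 P2) : S ≤ normalizer (zl S P1 : Set G) := (le1 h).trans (P1_V h)

theorem Q2_V (h : Pair S P1 P2) : o2 P2 ≤ normalizer (zl S P1 : Set G) := (Q2_le h).trans (S_V h)

theorem P2_Q2 (_ : Pair S P1 P2) : P2 ≤ normalizer (o2 P2 : Set G) := le_normalizer_o2 P2

theorem S_Q2 (h : Pair S P1 P2) : S ≤ normalizer (o2 P2 : Set G) := (le2 h).trans (P2_Q2 h)

theorem Z_le_V (S P1 : Subgroup G) : zc S ≤ zl S P1 := zc_le_zl S P1

/-- `V ∩ Z(S) = Z`. -/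
theorem mem_Z_of (h : Pair S P1 P2) {v : G} (hv : v ∈ zl S P1) (hc : ∀ s ∈ S, s * v = v * s) :
    v ∈ zc S := mem_zc.mpr ⟨V_le h hv, hc, V_sq h v hv⟩

/-- `Z ≤ Q_2`. -/
theorem Z_le_Q2 (h : Pair S P1 P2) : zc S ≤ o2 P2 := by
  obtain ⟨R, p, hR⟩ := h.par2
  intro z hz
  refine hR.char2 ⟨le2 h (zc_le S hz), mem_centralizer_iff.mpr fun q hq => ?_⟩
  exact (mem_zc.mp hz).2.1 q (Q2_le h hq)

theorem P2_Z (h : Pair S P1 P2) {g z : G} (hg : g ∈ P2) (hz : z ∈ zc S) : g * z = z * g :=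
  (mem_centralizer_iff.mp (h.cent hg) z hz).symm

end Pair

end Cfsg.Agent.SectRankFour.C2.BOneFacts
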