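import Mathlib
import Cfsg.Prelude.Def_CaseTheorems
import Cfsg.Agent.Classification.NonConnFused

/-!
# S0517, case C2, section (2b): counting tools

* `card_le_of_section`: elementary abelian sections have order at most 16;
* `card_dvd_sub`: a group acting by conjugation, freely on `H ∖ K`;
* `dvd_sub_centralizer`: an element of prime order `p` normalising `H`: `p ∣ |H| - |C_H(x)|`.
-/

set_option autoImplicit false

namespace Cfsg.Agent.SectRankFour.C2.BTwoBTools

open Subgroup

variable {G : Type*} [Group G]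

/-- An elementary abelian section `H / K` of a group of sectional 2-rank at most 4 has order at
most 16. -/
theorem card_le_of_section [Finite G] (hr : Cfsg.SectionalPRankLE 2 4 G) {H K : Subgroup G}
    (hKH : K ≤ H) (hn : ∀ h ∈ H, ∀ k ∈ K, h * k * h⁻¹ ∈ K) (hsq : ∀ h ∈ H, h * h ∈ K) :
    Nat.card H ≤ 16 * Nat.card K := by
  have hN : (K.subgroupOf H).Normal := by
    constructor
    rintro ⟨n, hn1⟩ hn2 ⟨g, hg⟩
    exact hn g hg n hn2
  have h1 := hr H (K.subgroupOf H)
  have hsq' : ∀ q : H ⧸ K.subgroupOf H, q * q = 1 := by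
    intro q
    induction q using QuotientGroup.induction_on with
    | H q =>
      rw [← QuotientGroup.mk_mul, QuotientGroup.eq_one_iff]
      exact hsq q q.2
  have h2 : Nat.card (⊤ : Subgroup (H ⧸ K.subgroupOf H)) ≤ 2 ^ 4 := by
    refine h1 ⊤ ⟨⟨fun a b => ?_⟩⟩ ?_
    · have h3 := hsq' ((a : H ⧸ K.subgroupOf H) * b)
      have h4 := hsq' (a : H ⧸ K.subgroupOf H)
      have h5 := hsq' (b : H ⧸ K.subgroupOf H)
      apply Subtype.ext
      change (a : H ⧸ K.subgroupOf H) * b = b * a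
      have h6 : ((a : H ⧸ K.subgroupOf H) * b)⁻¹ = (a : H ⧸ K.subgroupOf H) * b :=
        inv_eq_of_mul_eq_one_left h3
      rw [← h6, mul_inv_rev, inv_eq_of_mul_eq_one_left h4, inv_eq_of_mul_eq_one_left h5]
    · intro a _
      rw [pow_two]; exact hsq' a
  rw [Subgroup.card_top] at h2
  have h3 := Subgroup.card_eq_card_quotient_mul_card_subgroup (K.subgroupOf H)
  rw [Nat.card_congr (Subgroup.subgroupOfEquivOfLe hKH).toEquiv] at h3
  rw [h3]
  exact Nat.mul_le_mul_right _ h2

/-- `R` acts by conjugation on `H ∖ K`, freely. -/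
theorem card_dvd_sub [Finite G] {R H K : Subgroup G} (hKH : K ≤ H)
    (hRH : ∀ r ∈ R, ∀ h ∈ H, r * h * r⁻¹ ∈ H) (hRK : ∀ r ∈ R, ∀ h ∈ K, r * h * r⁻¹ ∈ K)
    (hfree : ∀ r ∈ R, ∀ h ∈ H, h ∉ K → r * h = h * r → r = 1) :
    Nat.card R ∣ Nat.card H - Nat.card K := by
  classical
  have hK' : ∀ r ∈ R, ∀ h, r * h * r⁻¹ ∈ K → h ∈ K := by
    intro r hr h hh
    have := hRK r⁻¹ (R.inv_mem hr) _ hh
    have h1 : r⁻¹ * (r * h * r⁻¹) * r⁻¹⁻¹ = h := by group
    rwa [h1] at this
  let act : MulAction R {h : G // h ∈ H ∧ h ∉ K} :=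
    { smul := fun r h => ⟨(r : G) * h.1 * (r : G)⁻¹, hRH r r.2 _ h.2.1,
        fun hh => h.2.2 (hK' r r.2 _ hh)⟩
      one_smul := fun h => Subtype.ext (by change 1 * h.1 * 1⁻¹ = h.1; group)
      mul_smul := fun r s h => Subtype.ext (by
        change ((r : G) * s) * h.1 * ((r : G) * s)⁻¹ = r * (s * h.1 * (s : G)⁻¹) * (r : G)⁻¹
        group) }
  have h1 : Nat.card R ∣ Nat.card {h : G // h ∈ H ∧ h ∉ K} := by
    apply Cfsg.Agent.Classification.NonConnFused.card_dvd_of_free
    rintro ⟨r, hr⟩ ⟨h, hh1, hh2⟩ he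
    apply Subtype.ext
    apply hfree r hr h hh1 hh2
    have h2 : r * h * r⁻¹ = h := congrArg Subtype.val he
    exact mul_inv_eq_iff_eq_mul.1 h2
  have h2 : Nat.card {h : G // h ∈ H ∧ h ∉ K} = Nat.card H - Nat.card K := by
    have e : {h : G // h ∈ H ∧ h ∉ K} = ((H : Set G) \ (K : Set G) : Set G) := rfl
    have h3 : Nat.card ((H : Set G) \ (K : Set G) : Set G) = _ :=
      Set.ncard_sdiff (s := (K : Set G)) (t := (H : Set G)) hKH (Set.toFinite _)
    exact h3
  rwa [h2] at h1

/-- An element `x` with `x ^ p = 1` normalising `H`: `p ∣ |H| - |C_H(x)|`. -/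
theorem dvd_sub_centralizer [Finite G] {x : G} {p : ℕ} [hp : Fact p.Prime] (hx : x ^ p = 1)
    {H : Subgroup G} (hxH : ∀ h ∈ H, x * h * x⁻¹ ∈ H) :
    p ∣ Nat.card H - Nat.card (H ⊓ centralizer {x} : Subgroup G) := by
  by_cases hx1 : x = 1
  · have : H ⊓ centralizer {x} = H := by
      rw [inf_eq_left, hx1]
      intro h _
      rw [mem_centralizer_singleton_iff, one_mul, mul_one]
    rw [this, Nat.sub_self]
    exact dvd_zero _
  · have hord : orderOf x = p := orderOf_eq_prime hx hx1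
    have hc : Nat.card (zpowers x) = p := by rw [Nat.card_zpowers, hord]
    have hpow : ∀ r ∈ zpowers x, ∀ h ∈ H, r * h * r⁻¹ ∈ H := by
      have hn : ∀ n : ℕ, ∀ h ∈ H, x ^ n * h * (x ^ n)⁻¹ ∈ H := by
        intro n
        induction n with
        | zero => intro h hh; simpa using hh
        | succ n ih =>
          intro h hh
          have := hxH _ (ih h hh)
          have e : x ^ (n + 1) * h * (x ^ (n + 1))⁻¹ = x * (x ^ n * h * (x ^ n)⁻¹) * x⁻¹ := by
            rw [pow_succ']; group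
          rw [e]; exact this
      intro r hr h hh
      obtain ⟨n, hn'⟩ := (mem_powers_iff_mem_zpowers (x := x)).2 hr
      have hn'' : x ^ n = r := hn'
      rw [← hn'']
      exact hn n h hh
    rw [← hc]
    refine card_dvd_sub inf_le_left hpow ?_ ?_
    · intro r hr h hh
      obtain ⟨hh1, hh2⟩ := mem_inf.1 hh
      refine mem_inf.2 ⟨hpow r hr h hh1, ?_⟩
      rw [mem_centralizer_singleton_iff] at hh2 ⊢
      have hrx : Commute r x := by
        obtain ⟨n, hn⟩ := mem_zpowers_iff.1 hr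
        rw [← hn]
        exact (Commute.refl x).zpow_left n
      have hhx : Commute h x := hh2
      exact ((hrx.mul_left hhx).mul_left hrx.inv_left).eq
    · intro r hr h hh hh2 hrh
      by_contra hr1
      apply hh2
      refine mem_inf.2 ⟨hh, ?_⟩
      rw [mem_centralizer_singleton_iff]
      have h1 : (⟨x, mem_zpowers x⟩ : zpowers x) ∈ zpowers (⟨r, hr⟩ : zpowers x) :=
        mem_zpowers_of_prime_card hc (fun e => hr1 (congrArg Subtype.val e))
      obtain ⟨n, hn⟩ := mem_zpowers_iff.1 h1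
      have h2 : r ^ n = x := congrArg Subtype.val hn
      rw [← h2]
      have h3 : Commute h r := hrh.symm
      exact (h3.zpow_right n).eq

/-- A subgroup `R` acting freely by conjugation on a set. -/
theorem card_dvd_set [Finite G] {R : Subgroup G} {X : Set G}
    (hinv : ∀ r ∈ R, ∀ h ∈ X, r * h * r⁻¹ ∈ X)
    (hfree : ∀ r ∈ R, ∀ h ∈ X, r * h = h * r → r = 1) : Nat.card R ∣ X.ncard := by
  let act : MulAction R X :=
    { smul := fun r h => ⟨(r : G) * h.1 * (r : G)⁻¹, hinv r r.2 _ h.2⟩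
      one_smul := fun h => Subtype.ext (by change 1 * h.1 * 1⁻¹ = h.1; group)
      mul_smul := fun r s h => Subtype.ext (by
        change ((r : G) * s) * h.1 * ((r : G) * s)⁻¹ = r * (s * h.1 * (s : G)⁻¹) * (r : G)⁻¹
        group) }
  rw [← Nat.card_coe_set_eq]
  apply Cfsg.Agent.Classification.NonConnFused.card_dvd_of_free
  rintro ⟨r, hr⟩ ⟨h, hh⟩ he
  apply Subtype.ext
  apply hfree r hr h hh
  have h2 : r * h * r⁻¹ = h := congrArg Subtype.val he
  exact mul_inv_eq_iff_eq_mul.1 h2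

/-- A subgroup `V` stabilising a set by left multiplication. -/
theorem card_dvd_mul_set [Finite G] {V : Subgroup G} {X : Set G}
    (hinv : ∀ r ∈ V, ∀ h ∈ X, r * h ∈ X) : Nat.card V ∣ X.ncard := by
  let act : MulAction V X :=
    { smul := fun r h => ⟨(r : G) * h.1, hinv r r.2 _ h.2⟩
      one_smul := fun h => Subtype.ext (by change 1 * h.1 = h.1; group)
      mul_smul := fun r s h => Subtype.ext (by
        change ((r : G) * s) * h.1 = r * (s * h.1); group) }
  rw [← Nat.card_coe_set_eq]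
  apply Cfsg.Agent.Classification.NonConnFused.card_dvd_of_free
  rintro ⟨r, hr⟩ ⟨h, hh⟩ he
  apply Subtype.ext
  have h2 : r * h = h := congrArg Subtype.val he
  exact mul_eq_right.1 h2

theorem card_le_two_mul_of_cover [Finite G] {A C : Subgroup G} (s : G)
    (h : ∀ a ∈ A, a ∈ C ∨ s⁻¹ * a ∈ C) : Nat.card A ≤ 2 * Nat.card C := by
  have h1 : (A : Set G) ⊆ (C : Set G) ∪ (fun c => s * c) '' (C : Set G) := by
    intro a ha
    rcases h a ha with e | e
    · exact Or.inl e
    · exact Or.inr ⟨s⁻¹ * a, e, by simp⟩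
  have h2 := Set.ncard_le_ncard h1 (Set.toFinite _)
  have h3 := Set.ncard_union_le (C : Set G) ((fun c => s * c) '' (C : Set G))
  have h4 := Set.ncard_image_le (f := fun c => s * c) (Set.toFinite (C : Set G))
  have e1 : (A : Set G).ncard = Nat.card A := rfl
  have e2 : (C : Set G).ncard = Nat.card C := rfl
  omega

theorem inv_mul_mem_of_card [Finite G] {V D : Subgroup G} (hVD : V ≤ D)
    (hc : Nat.card D = 2 * Nat.card V) {a b : G} (ha : a ∈ D) (hb : b ∈ D) (haV : a ∉ V)
    (hbV : b ∉ V) : a⁻¹ * b ∈ V := by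
  have h1 : (V.subgroupOf D).index = 2 := by
    have h2 := Subgroup.card_mul_index (V.subgroupOf D)
    rw [Nat.card_congr (Subgroup.subgroupOfEquivOfLe hVD).toEquiv, hc, mul_comm] at h2
    exact Nat.eq_of_mul_eq_mul_right Nat.card_pos h2
  have h3 := (Subgroup.mul_mem_iff_of_index_two h1 (a := (⟨a, ha⟩ : D)⁻¹) (b := ⟨b, hb⟩))
  have h4 : (⟨a, ha⟩ : D)⁻¹ ∉ V.subgroupOf D := by
    rw [inv_mem_iff]; exact haV
  have h5 : (⟨b, hb⟩ : D) ∉ V.subgroupOf D := hbV
  have h6 := h3.2 ⟨fun h => absurd h h4, fun h => absurd h h5⟩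
  exact h6

/-- adjoin an element normalising `E` whose square lies in `E` -/
def adjN (E : Subgroup G) (e : G) (he : e * e ∈ E) (hn : ∀ a ∈ E, e⁻¹ * a * e ∈ E) :
    Subgroup G where
  carrier := {a | a ∈ E ∨ a * e ∈ E}
  one_mem' := Or.inl E.one_mem
  mul_mem' := by
    rintro a b (ha | ha) (hb | hb)
    · exact Or.inl (E.mul_mem ha hb)
    · right
      rw [mul_assoc]; exact E.mul_mem ha hb
    · right
      have : a * b * e = a * e * (e⁻¹ * b * e) := by group
      rw [this]; exact E.mul_mem ha (hn b hb)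
    · left
      have : a * b = a * e * (e⁻¹ * (b * e) * e) * (e * e)⁻¹ := by group
      rw [this]
      exact E.mul_mem (E.mul_mem ha (hn _ hb)) (E.inv_mem he)
  inv_mem' := by
    rintro a (ha | ha)
    · exact Or.inl (E.inv_mem ha)
    · right
      have : a⁻¹ * e = (e⁻¹ * (a * e) * e * (e * e)⁻¹)⁻¹ := by group
      rw [this]
      exact E.inv_mem (E.mul_mem (hn _ ha) (E.inv_mem he))

section adjN

variable {E : Subgroup G} {e : G} {he : e * e ∈ E} {hn : ∀ a ∈ E, e⁻¹ * a * e ∈ E}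

theorem mem_adjN {a : G} : a ∈ adjN E e he hn ↔ a ∈ E ∨ a * e ∈ E := Iff.rfl

theorem le_adjN : E ≤ adjN E e he hn := fun _ ha => Or.inl ha

theorem self_mem_adjN : e ∈ adjN E e he hn := Or.inr he

theorem adjN_le {H : Subgroup G} (h1 : E ≤ H) (h2 : e ∈ H) : adjN E e he hn ≤ H := by
  rintro a (ha | ha)
  · exact h1 ha
  · have := H.mul_mem (h1 ha) (H.inv_mem h2)
    rwa [mul_inv_cancel_right] at this

theorem card_adjN [Finite G] (hne : e ∉ E) : Nat.card (adjN E e he hn) = 2 * Nat.card E := by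
  have h1 : (E.subgroupOf (adjN E e he hn)).index = 2 := by
    rw [Subgroup.index_eq_two_iff]
    refine ⟨⟨e, self_mem_adjN⟩, ?_⟩
    rintro ⟨b, hb⟩
    simp only [Subgroup.mem_subgroupOf, Subgroup.coe_mul]
    rcases hb with hb | hb
    · right
      refine ⟨hb, fun h => hne ?_⟩
      have := E.mul_mem (E.inv_mem hb) h
      rwa [inv_mul_cancel_left] at this
    · left
      refine ⟨hb, fun h => hne ?_⟩
      have := E.mul_mem (E.inv_mem h) hb
      rwa [inv_mul_cancel_left] at this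
  have h2 := Subgroup.card_mul_index (E.subgroupOf (adjN E e he hn))
  rw [h1, Nat.card_congr (Subgroup.subgroupOfEquivOfLe le_adjN).toEquiv] at h2
  omega

end adjN

end Cfsg.Agent.SectRankFour.C2.BTwoBTools
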