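import Mathlib
import Cfsg.Agent.SectRankFour.C2.BTwoBTools

/-!
# S0517, case C2, section (2b): the configuration

`Q = O₂(P2)` extraspecial of order 32, `V = {1, z, v, vz} ≤ Q` normal in `P1 ∋ t, u`, `u` permutes
`z, v, vz` cyclically, `t ∈ Q` swaps `v, vz`, `u = t t2` with `t2 ∈ u Q u⁻¹`.
-/

set_option autoImplicit false

namespace Cfsg.Agent.SectRankFour.C2.BTwoBCore

open Subgroup
open Cfsg.Agent.SectRankFour.C2.BTwoBTools

variable {G : Type*} [Group G]

/-- an extraspecial group of order 32 -/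
structure Ex (Q : Subgroup G) (z : G) : Prop where
  card : Nat.card Q = 32
  zQ : z ∈ Q
  z1 : z ≠ 1
  z2 : z * z = 1
  zc : ∀ q ∈ Q, q * z = z * q
  sq : ∀ q ∈ Q, q * q = 1 ∨ q * q = z
  com : ∀ a ∈ Q, ∀ b ∈ Q, a * b = b * a ∨ a * b = b * a * z
  hZ : ∀ a ∈ Q, (∀ b ∈ Q, a * b = b * a) → a = 1 ∨ a = z

namespace Ex

variable {Q : Subgroup G} {z : G}

theorem conj_or (h : Ex Q z) {a b : G} (ha : a ∈ Q) (hb : b ∈ Q) :
    a * b * a⁻¹ = b ∨ a * b * a⁻¹ = b * z := by
  rcases h.com a ha b hb with e | e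
  · left; rw [e, mul_inv_cancel_right]
  · right
    rw [e]
    have h1 := h.zc a ha
    calc b * a * z * a⁻¹ = b * (a * z) * a⁻¹ := by simp only [mul_assoc]
      _ = b * z := by rw [h1]; group

/-- two elements not commuting with `t`: the quotient commutes -/
theorem inv_mul_comm (h : Ex Q z) {a b t : G} (ha : a ∈ Q) (hb : b ∈ Q) (ht : t ∈ Q)
    (hat : a * t ≠ t * a) (hbt : b * t ≠ t * b) : (a⁻¹ * b) * t = t * (a⁻¹ * b) := by
  have h1 := (h.com a ha t ht).resolve_left hat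
  have h2 := (h.com b hb t ht).resolve_left hbt
  have h3 := h.zc b hb
  have h4 : a⁻¹ * (t * a) = t * z := by
    have h5 : t * a = a * t * z := by
      rw [h1]
      calc t * a = t * a * (z * z) := by rw [h.z2, mul_one]
        _ = t * a * z * z := (mul_assoc _ _ _).symm
    rw [h5]; group
  have h6 := h.zc t ht
  calc (a⁻¹ * b) * t = a⁻¹ * (b * t) := by rw [mul_assoc]
    _ = a⁻¹ * t * b * z := by rw [h2]; group
    _ = (a⁻¹ * (t * a)) * a⁻¹ * b * z := by group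
    _ = t * z * a⁻¹ * (b * z) := by rw [h4]; simp only [mul_assoc]
    _ = t * z * a⁻¹ * (z * b) := by rw [h3]
    _ = t * (z * (a⁻¹ * z)) * b := by simp only [mul_assoc]
    _ = t * (z * (z * a⁻¹)) * b := by rw [h.zc a⁻¹ (inv_mem ha)]
    _ = t * (a⁻¹ * b) := by rw [← mul_assoc z z, h.z2, one_mul, mul_assoc]

/-- centralisers have index at most 2 -/
theorem card_le (h : Ex Q z) [Finite G] {A : Subgroup G} (hA : A ≤ Q) {t : G} (ht : t ∈ Q) :
    Nat.card A ≤ 2 * Nat.card (A ⊓ centralizer {t} : Subgroup G) := by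
  by_cases hall : ∀ a ∈ A, a * t = t * a
  · have : A ⊓ centralizer {t} = A := by
      rw [inf_eq_left]
      intro a ha
      rw [mem_centralizer_singleton_iff]
      exact hall a ha
    rw [this]; omega
  · push Not at hall
    obtain ⟨s, hs, hst⟩ := hall
    apply card_le_two_mul_of_cover s
    intro a ha
    by_cases hat : a * t = t * a
    · left
      exact mem_inf.2 ⟨ha, mem_centralizer_singleton_iff.2 hat⟩
    · right
      refine mem_inf.2 ⟨mul_mem (inv_mem hs) ha, mem_centralizer_singleton_iff.2 ?_⟩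
      exact h.inv_mul_comm (hA hs) (hA ha) ht hst hat

/-- abelian subgroups have order at most 8 -/
theorem card_abelian_le (h : Ex Q z) [Finite G] {A : Subgroup G} (hA : A ≤ Q)
    (hab : ∀ a ∈ A, ∀ b ∈ A, a * b = b * a) : Nat.card A ≤ 8 := by
  by_contra hlt
  -- `|A| = 16` or `32`
  have hdvd : Nat.card A ∣ 2 ^ 5 := by
    have := card_dvd_of_le hA
    rw [h.card] at this
    exact this
  obtain ⟨k, hk, hk2⟩ := (Nat.dvd_prime_pow Nat.prime_two).1 hdvd
  have hk4 : 4 ≤ k := by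
    by_contra hk3
    have : 2 ^ k ≤ 2 ^ 3 := Nat.pow_le_pow_right (by norm_num) (by omega)
    omega
  have hA16 : 16 ≤ Nat.card A := by
    rw [hk2]
    calc 16 = 2 ^ 4 := by norm_num
      _ ≤ 2 ^ k := Nat.pow_le_pow_right (by norm_num) hk4
  -- choose `t ∈ Q ∖ A` (if any)
  have hcen : ∀ t ∈ Q, (∀ q ∈ Q, q ∈ A ∨ t⁻¹ * q ∈ A) → False := by
    intro t ht hcov
    have h1 := h.card_le hA ht
    have hB : A ⊓ centralizer {t} ≤ zpowers z := by
      intro a ha
      obtain ⟨ha1, ha2⟩ := mem_inf.1 ha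
      rw [mem_centralizer_singleton_iff] at ha2
      have h3 : a = 1 ∨ a = z := by
        apply h.hZ a (hA ha1)
        intro b hb
        rcases hcov b hb with hb' | hb'
        · exact hab a ha1 b hb'
        · have c1 : Commute a (t⁻¹ * b) := hab a ha1 _ hb'
          have c2 : Commute a t := ha2
          have e : b = t * (t⁻¹ * b) := by group
          rw [e]
          exact (c2.mul_right c1).eq
      rcases h3 with e | e <;> rw [e]
      · exact one_mem _
      · exact mem_zpowers z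
    have h4 := card_le_of_le hB
    have h5 : Nat.card (zpowers z) = 2 := by
      rw [Nat.card_zpowers]
      exact orderOf_eq_prime (by rw [pow_two, h.z2]) h.z1
    omega
  by_cases hAQ : ∃ t ∈ Q, t ∉ A
  · obtain ⟨t, ht, htA⟩ := hAQ
    apply hcen t ht
    intro q hq
    by_contra hcon
    push Not at hcon
    -- then `|Q| ≥ 3 |A|`
    have h1 : (A : Set G) ∪ (fun c => t * c) '' (A : Set G) ⊆ (Q : Set G) \ {q} := by
      rintro c (hc | ⟨d, hd, rfl⟩)
      · exact ⟨hA hc, fun e => hcon.1 (by rw [← Set.mem_singleton_iff.1 e]; exact hc)⟩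
      · refine ⟨mul_mem ht (hA hd), fun e => hcon.2 ?_⟩
        rw [← Set.mem_singleton_iff.1 e]
        simpa using hd
    have h2 := Set.ncard_le_ncard h1 (Set.toFinite _)
    have hdisj : Disjoint (A : Set G) ((fun c => t * c) '' (A : Set G)) := by
      rw [Set.disjoint_left]
      rintro c hc ⟨d, hd, e⟩
      apply htA
      have e' : t * d = c := e
      have : t = c * d⁻¹ := by rw [← e']; group
      rw [this]
      exact mul_mem hc (inv_mem hd)
    rw [Set.ncard_union_eq hdisj (Set.toFinite _) (Set.toFinite _),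
      Set.ncard_image_of_injective _ (mul_right_injective t),
      Set.ncard_sdiff_singleton_of_mem hq] at h2
    have e1 : (A : Set G).ncard = Nat.card A := rfl
    have e2 : (Q : Set G).ncard = Nat.card Q := rfl
    rw [e1, e2, h.card] at h2
    omega
  · push Not at hAQ
    exact hcen 1 (one_mem _) (fun q hq => Or.inl (hAQ q hq))

theorem card_centralizer (h : Ex Q z) [Finite G] {v : G} (hv : v ∈ Q) (hv1 : v ≠ 1)
    (hvz : v ≠ z) : Nat.card (Q ⊓ centralizer {v} : Subgroup G) = 16 := by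
  have h1 := h.card_le le_rfl hv
  rw [h.card] at h1
  have hdvd : Nat.card (Q ⊓ centralizer {v} : Subgroup G) ∣ 2 ^ 5 := by
    have := card_dvd_of_le (inf_le_left : Q ⊓ centralizer {v} ≤ Q)
    rw [h.card] at this
    exact this
  obtain ⟨k, hk, hk2⟩ := (Nat.dvd_prime_pow Nat.prime_two).1 hdvd
  rw [hk2] at h1 ⊢
  have hk5 : k ≠ 5 := by
    rintro rfl
    have h3 : Q ⊓ centralizer {v} = Q :=
      eq_of_le_of_card_ge inf_le_left (by rw [hk2, h.card]; norm_num)
    rcases h.hZ v hv (fun b hb => by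
      rw [← h3] at hb
      exact (mem_centralizer_singleton_iff.1 (mem_inf.1 hb).2).symm) with e | e
    · exact hv1 e
    · exact hvz e
  have : k = 0 ∨ k = 1 ∨ k = 2 ∨ k = 3 ∨ k = 4 := by omega
  rcases this with rfl | rfl | rfl | rfl | rfl
  · norm_num at h1
  · norm_num at h1
  · norm_num at h1
  · norm_num at h1
  · norm_num

end Ex

/-- the configuration -/
structure Base (S P1 Q : Subgroup G) (z v t u : G) : Prop where
  ex : Ex Q z
  QS : Q ≤ S
  SQ : ∀ s ∈ S, ∀ q ∈ Q, s * q * s⁻¹ ∈ Q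
  SP : S ≤ P1
  uP : u ∈ P1
  stab : ∀ g ∈ P1, g * z = z * g → g ∈ S
  Sz : ∀ s ∈ S, s * z = z * s
  vQ : v ∈ Q
  v1 : v ≠ 1
  vz : v ≠ z
  v2 : v * v = 1
  Sv : ∀ s ∈ S, s * v * s⁻¹ = v ∨ s * v * s⁻¹ = v * z
  tQ : t ∈ Q
  tv : t * v * t⁻¹ = v * z
  uz : u * z * u⁻¹ = v
  uv : u * v * u⁻¹ = v * z
  ut : ∃ q ∈ Q, t⁻¹ * u = u * q * u⁻¹

namespace Base

variable {S P1 Q : Subgroup G} {z v t u : G}

theorem zv (h : Base S P1 Q z v t u) : z * v = v * z := (h.ex.zc v h.vQ).symm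

theorem tS (h : Base S P1 Q z v t u) : t ∈ S := h.QS h.tQ

theorem uvz (h : Base S P1 Q z v t u) : u * (v * z) * u⁻¹ = z := by
  calc u * (v * z) * u⁻¹ = (u * v * u⁻¹) * (u * z * u⁻¹) := by group
    _ = v * z * v := by rw [h.uv, h.uz]
    _ = v * v * z := by rw [mul_assoc, h.zv, mul_assoc]
    _ = z := by rw [h.v2, one_mul]

/-- the four-group -/
def V (h : Base S P1 Q z v t u) : Subgroup G :=
  adjN (zpowers z) v (by rw [h.v2]; exact one_mem _) (by
    intro a ha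
    obtain ⟨n, rfl⟩ := mem_zpowers_iff.1 ha
    have h1 : Commute (z ^ n) v := (show Commute z v from h.zv).zpow_left n
    have h2 : v⁻¹ * z ^ n * v = z ^ n := by
      rw [mul_assoc, h1.eq]; group
    rw [h2]; exact zpow_mem (mem_zpowers z) n)

theorem mem_zpowers_z (h : Base S P1 Q z v t u) {a : G} : a ∈ zpowers z ↔ a = 1 ∨ a = z := by
  constructor
  · intro ha
    obtain ⟨n, hn⟩ := mem_zpowers_iff.1 ha
    rcases Int.even_or_odd' n with ⟨m, rfl | rfl⟩
    · left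
      rw [← hn, zpow_mul, zpow_two, h.ex.z2, one_zpow]
    · right
      rw [← hn, zpow_add, zpow_mul, zpow_two, h.ex.z2, one_zpow, one_mul, zpow_one]
  · rintro (rfl | rfl)
    · exact one_mem _
    · exact mem_zpowers _

theorem card_zpowers_z (h : Base S P1 Q z v t u) : Nat.card (zpowers z) = 2 := by
  rw [Nat.card_zpowers]
  exact orderOf_eq_prime (by rw [pow_two, h.ex.z2]) h.ex.z1

theorem mem_V (h : Base S P1 Q z v t u) {a : G} :
    a ∈ h.V ↔ (a = 1 ∨ a = z ∨ a = v ∨ a = v * z) := by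
  have hvi : v⁻¹ = v := inv_eq_of_mul_eq_one_left h.v2
  have h1 : a * v = 1 ↔ a = v := by
    rw [mul_eq_one_iff_eq_inv, hvi]
  have h2 : a * v = z ↔ a = v * z := by
    rw [← eq_mul_inv_iff_mul_eq, hvi, h.zv]
  rw [V, mem_adjN, h.mem_zpowers_z, h.mem_zpowers_z, h1, h2, or_assoc]

theorem z_mem_V (h : Base S P1 Q z v t u) : z ∈ h.V := h.mem_V.2 (Or.inr (Or.inl rfl))
theorem v_mem_V (h : Base S P1 Q z v t u) : v ∈ h.V := h.mem_V.2 (Or.inr (Or.inr (Or.inl rfl)))

theorem card_V [Finite G] (h : Base S P1 Q z v t u) : Nat.card h.V = 4 := by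
  have h1 : v ∉ zpowers z := by
    rw [h.mem_zpowers_z]
    rintro (e | e)
    · exact h.v1 e
    · exact h.vz e
  rw [V, card_adjN h1, h.card_zpowers_z]

theorem V_le (h : Base S P1 Q z v t u) : h.V ≤ Q := by
  intro a ha
  rcases h.mem_V.1 ha with e | e | e | e <;> rw [e]
  · exact one_mem _
  · exact h.ex.zQ
  · exact h.vQ
  · exact mul_mem h.vQ h.ex.zQ

theorem V_comm (h : Base S P1 Q z v t u) {g : G} (hz : g * z = z * g) (hv : g * v = v * g) :
    ∀ a ∈ h.V, g * a = a * g := by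
  intro a ha
  have c1 : Commute g z := hz
  have c2 : Commute g v := hv
  rcases h.mem_V.1 ha with e | e | e | e <;> rw [e]
  · rw [one_mul, mul_one]
  · exact hz
  · exact hv
  · exact (c2.mul_right c1).eq

theorem V_sq (h : Base S P1 Q z v t u) : ∀ a ∈ h.V, a * a = 1 := by
  have hz2 := h.ex.z2
  have hv2 := h.v2
  have hzv := h.zv
  intro a ha
  rcases h.mem_V.1 ha with e | e | e | e <;> rw [e]
  · rw [one_mul]
  · exact hz2
  · exact hv2
  · calc v * z * (v * z) = v * (z * v) * z := by simp only [mul_assoc]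
      _ = (v * v) * (z * z) := by rw [hzv]; simp only [mul_assoc]
      _ = 1 := by rw [hz2, hv2, one_mul]

theorem uV (h : Base S P1 Q z v t u) : ∀ a ∈ h.V, u * a * u⁻¹ ∈ h.V := by
  intro a ha
  rw [h.mem_V] at ha ⊢
  rcases ha with e | e | e | e <;> rw [e]
  · left; group
  · right; right; left; exact h.uz
  · right; right; right; exact h.uv
  · right; left; exact h.uvz

theorem uV' (h : Base S P1 Q z v t u) {a : G} (ha : u * a * u⁻¹ ∈ h.V) : a ∈ h.V := by
  rw [h.mem_V] at ha ⊢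
  have key : ∀ b c : G, u * b * u⁻¹ = c → u * a * u⁻¹ = c → a = b := by
    intro b c h1 h2
    have h3 : u * a * u⁻¹ = u * b * u⁻¹ := h2.trans h1.symm
    simpa using h3
  rcases ha with e | e | e | e
  · left; exact key 1 1 (by group) e
  · right; right; right; exact key _ _ h.uvz e
  · right; left; exact key _ _ h.uz e
  · right; right; left; exact key _ _ h.uv e

/-- `S` normalises `V`, trivially modulo `z` -/
theorem SV (h : Base S P1 Q z v t u) {s : G} (hs : s ∈ S) :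
    ∀ a ∈ h.V, s * a * s⁻¹ = a ∨ s * a * s⁻¹ = a * z := by
  intro a ha
  have hsz : s * z * s⁻¹ = z := by rw [h.Sz s hs, mul_inv_cancel_right]
  rcases h.mem_V.1 ha with e | e | e | e <;> rw [e]
  · left; group
  · left; exact hsz
  · exact h.Sv s hs
  · have h1 : s * (v * z) * s⁻¹ = (s * v * s⁻¹) * z := by
      calc s * (v * z) * s⁻¹ = (s * v * s⁻¹) * (s * z * s⁻¹) := by group
        _ = _ := by rw [hsz]
    rcases h.Sv s hs with e1 | e1
    · left; rw [h1, e1]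
    · right; rw [h1, e1]

theorem SV_mem (h : Base S P1 Q z v t u) {s : G} (hs : s ∈ S) :
    ∀ a ∈ h.V, s * a * s⁻¹ ∈ h.V := by
  intro a ha
  rcases h.SV hs a ha with e | e <;> rw [e]
  · exact ha
  · exact mul_mem ha h.z_mem_V

/-- `Q1 = C_S(V)` -/
def Q1 (_h : Base S P1 Q z v t u) : Subgroup G := S ⊓ centralizer {v}

theorem mem_Q1 (h : Base S P1 Q z v t u) {g : G} : g ∈ h.Q1 ↔ g ∈ S ∧ g * v = v * g := by
  rw [Q1, mem_inf, mem_centralizer_singleton_iff]

theorem mem_Q1' (h : Base S P1 Q z v t u) {g : G} :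
    g ∈ h.Q1 ↔ g ∈ P1 ∧ g * z = z * g ∧ g * v = v * g := by
  rw [mem_Q1]
  constructor
  · rintro ⟨h1, h2⟩
    exact ⟨h.SP h1, h.Sz g h1, h2⟩
  · rintro ⟨h1, h2, h3⟩
    exact ⟨h.stab g h1 h2, h3⟩

/-- elements of `P1` normalise `V`, and a conjugate by an element of `P1` centralises `V` -/
theorem conj_Q1 (h : Base S P1 Q z v t u) {g x : G} (hg : g ∈ P1)
    (hgV : ∀ a ∈ h.V, g⁻¹ * a * g ∈ h.V) (hx : x ∈ h.Q1) : g * x * g⁻¹ ∈ h.Q1 := by
  have hx' := h.mem_Q1'.1 hx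
  have key : ∀ a ∈ h.V, (g * x * g⁻¹) * a = a * (g * x * g⁻¹) := by
    intro a ha
    have h1 := h.V_comm hx'.2.1 hx'.2.2 _ (hgV a ha)
    calc (g * x * g⁻¹) * a = g * (x * (g⁻¹ * a * g)) * g⁻¹ := by group
      _ = g * ((g⁻¹ * a * g) * x) * g⁻¹ := by rw [h1]
      _ = a * (g * x * g⁻¹) := by group
  rw [h.mem_Q1']
  exact ⟨mul_mem (mul_mem hg hx'.1) (inv_mem hg), key z h.z_mem_V, key v h.v_mem_V⟩

theorem uQ1 (h : Base S P1 Q z v t u) {x : G} (hx : x ∈ h.Q1) : u * x * u⁻¹ ∈ h.Q1 := by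
  apply h.conj_Q1 h.uP _ hx
  intro a ha
  apply h.uV'
  have : u * (u⁻¹ * a * u) * u⁻¹ = a := by group
  rwa [this]

theorem uQ1' (h : Base S P1 Q z v t u) {x : G} (hx : x ∈ h.Q1) : u⁻¹ * x * u ∈ h.Q1 := by
  have h1 := h.conj_Q1 (g := u⁻¹) (x := x) (inv_mem h.uP) (by
    intro a ha
    rw [inv_inv]; exact h.uV a ha) hx
  rwa [inv_inv] at h1

theorem SQ1 (h : Base S P1 Q z v t u) {s x : G} (hs : s ∈ S) (hx : x ∈ h.Q1) :
    s * x * s⁻¹ ∈ h.Q1 := by
  apply h.conj_Q1 (h.SP hs) _ hx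
  intro a ha
  have h1 := h.SV_mem (inv_mem hs) a ha
  rwa [inv_inv] at h1

theorem V_le_Q1 (h : Base S P1 Q z v t u) : h.V ≤ h.Q1 := by
  intro a ha
  rw [h.mem_Q1]
  exact ⟨h.QS (h.V_le ha), (h.V_comm h.zv.symm rfl a ha).symm⟩

theorem V_central (h : Base S P1 Q z v t u) {g a : G} (hg : g ∈ h.Q1) (ha : a ∈ h.V) :
    g * a = a * g :=
  h.V_comm (h.mem_Q1'.1 hg).2.1 (h.mem_Q1'.1 hg).2.2 a ha

theorem SQ' (h : Base S P1 Q z v t u) {s q : G} (hs : s ∈ S) (hq : q ∈ Q) : s⁻¹ * q * s ∈ Q := by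
  have := h.SQ s⁻¹ (inv_mem hs) q hq
  rwa [inv_inv] at this

/-- membership in `V_2 = u Q u⁻¹` -/
abbrev In2 (Q : Subgroup G) (u a : G) : Prop := u⁻¹ * a * u ∈ Q

/-- `Q1` normalises `u Q u⁻¹` -/
theorem Q1_In2 (h : Base S P1 Q z v t u) {s a : G} (hs : s ∈ h.Q1) (ha : In2 Q u a) :
    In2 Q u (s * a * s⁻¹) := by
  have h1 := (h.mem_Q1.1 (h.uQ1' hs)).1
  have h2 := h.SQ _ h1 _ ha
  have h3 : u⁻¹ * (s * a * s⁻¹) * u = u⁻¹ * s * u * (u⁻¹ * a * u) * (u⁻¹ * s * u)⁻¹ := by group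
  change u⁻¹ * (s * a * s⁻¹) * u ∈ Q
  rw [h3]; exact h2

theorem In2_mul {Q : Subgroup G} {u a b : G} (ha : In2 Q u a) (hb : In2 Q u b) : In2 Q u (a * b) := by
  have : u⁻¹ * (a * b) * u = (u⁻¹ * a * u) * (u⁻¹ * b * u) := by group
  change u⁻¹ * (a * b) * u ∈ Q
  rw [this]; exact mul_mem ha hb

theorem In2_inv {Q : Subgroup G} {u a : G} (ha : In2 Q u a) : In2 Q u a⁻¹ := by
  have : u⁻¹ * a⁻¹ * u = (u⁻¹ * a * u)⁻¹ := by group
  change u⁻¹ * a⁻¹ * u ∈ Q
  rw [this]; exact inv_mem ha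

theorem V_In2 (h : Base S P1 Q z v t u) {a : G} (ha : a ∈ h.V) : In2 Q u a := by
  apply h.V_le
  apply h.uV'
  have : u * (u⁻¹ * a * u) * u⁻¹ = a := by group
  rwa [this]

/-- conjugation inside `u Q u⁻¹` is trivial modulo `v` -/
theorem In2_conj_or (h : Base S P1 Q z v t u) {a b : G} (ha : In2 Q u a) (hb : In2 Q u b) :
    a * b * a⁻¹ = b ∨ a * b * a⁻¹ = b * v := by
  have h1 := h.ex.conj_or ha hb
  have h2 : a * b * a⁻¹ = u * ((u⁻¹ * a * u) * (u⁻¹ * b * u) * (u⁻¹ * a * u)⁻¹) * u⁻¹ := by group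
  rcases h1 with e | e
  · left; rw [h2, e]; group
  · right
    rw [h2, e]
    calc u * (u⁻¹ * b * u * z) * u⁻¹ = b * (u * z * u⁻¹) := by group
      _ = b * v := by rw [h.uz]

theorem In2_sq (h : Base S P1 Q z v t u) {a : G} (ha : In2 Q u a) : a * a = 1 ∨ a * a = v := by
  have h2 : a * a = u * ((u⁻¹ * a * u) * (u⁻¹ * a * u)) * u⁻¹ := by group
  rcases h.ex.sq _ ha with e | e
  · left; rw [h2, e]; group
  · right; rw [h2, e, h.uz]

/-- elements of `Q ∩ u Q u⁻¹` are involutions centralising `V` -/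
theorem sq_of_both (h : Base S P1 Q z v t u) {a : G} (ha : a ∈ Q) (ha2 : In2 Q u a) :
    a * a = 1 := by
  rcases h.ex.sq a ha with e | e
  · exact e
  · rcases h.In2_sq ha2 with e' | e'
    · exact e'
    · exact absurd (e'.symm.trans e) h.vz

theorem comm_v_of_In2 (h : Base S P1 Q z v t u) {a : G} (ha2 : In2 Q u a) : a * v = v * a := by
  have h1 := h.ex.zc _ ha2
  calc a * v = u * ((u⁻¹ * a * u) * z) * u⁻¹ := by rw [← h.uz]; group
    _ = u * (z * (u⁻¹ * a * u)) * u⁻¹ := by rw [h1]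
    _ = (u * z * u⁻¹) * a := by group
    _ = v * a := by rw [h.uz]

theorem Q1_of_both (h : Base S P1 Q z v t u) {a : G} (ha : a ∈ Q) (ha2 : In2 Q u a) : a ∈ h.Q1 :=
  h.mem_Q1.2 ⟨h.QS ha, h.comm_v_of_In2 ha2⟩

theorem comm_of_both (h : Base S P1 Q z v t u) {a b : G} (ha : a ∈ Q) (ha2 : In2 Q u a)
    (hb : b ∈ Q) (hb2 : In2 Q u b) : a * b = b * a := by
  rcases h.ex.conj_or ha hb with e | e
  · exact mul_inv_eq_iff_eq_mul.1 e
  · rcases h.In2_conj_or ha2 hb2 with e' | e'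
    · exact mul_inv_eq_iff_eq_mul.1 e'
    · have := e'.symm.trans e
      exact absurd (mul_left_cancel this) h.vz

end Base

end Cfsg.Agent.SectRankFour.C2.BTwoBCore
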