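import Mathlib
import Cfsg.Agent.SectRankFour.C2.BTwoBCore

/-!
# S0517, case C2, section (2b): an element of order 5
-/

set_option autoImplicit false

namespace Cfsg.Agent.SectRankFour.C2.BTwoBCore

open Subgroup
open Cfsg.Agent.SectRankFour.C2.BTwoBTools

variable {G : Type*} [Group G]

namespace Base

variable {S P1 Q : Subgroup G} {z v t u : G}

/-- if an element of order 5 acts on `Q`, all elements of `C_Q(v) ∖ V` have square `z` -/
theorem mem_V_of_sq [Finite G] (h : Base S P1 Q z v t u) {x : G} (hx5 : x ^ 5 = 1)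
    (hxQ : ∀ q ∈ Q, x * q * x⁻¹ ∈ Q) (hxz : x * z = z * x)
    (hxn : ¬ ∀ q ∈ Q, x * q = q * x) {a : G} (ha : a ∈ Q) (hav : a * v = v * a)
    (ha2 : a * a = 1) : a ∈ h.V := by
  have : Fact (Nat.Prime 5) := ⟨Nat.prime_five⟩
  have hE := h.ex
  have hx1 : x ≠ 1 := by
    rintro rfl
    exact hxn (fun q _ => by rw [one_mul, mul_one])
  -- `C_Q(x) = ⟨z⟩`
  have hC : ∀ q ∈ Q, x * q = q * x → q = 1 ∨ q = z := by
    have h1 := dvd_sub_centralizer hx5 hxQ
    rw [hE.card] at h1
    have hdvd : Nat.card (Q ⊓ centralizer {x} : Subgroup G) ∣ 2 ^ 5 := by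
      have := card_dvd_of_le (inf_le_left : Q ⊓ centralizer {x} ≤ Q)
      rw [hE.card] at this
      exact this
    obtain ⟨k, hk, hk2⟩ := (Nat.dvd_prime_pow Nat.prime_two).1 hdvd
    rw [hk2] at h1
    have hk5 : k ≠ 5 := by
      rintro rfl
      apply hxn
      have h3 : Q ⊓ centralizer {x} = Q :=
        eq_of_le_of_card_ge inf_le_left (by rw [hk2, hE.card]; norm_num)
      intro q hq
      rw [← h3] at hq
      exact (mem_centralizer_singleton_iff.1 (mem_inf.1 hq).2).symm
    have hk1 : k = 1 := by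
      have : k = 0 ∨ k = 1 ∨ k = 2 ∨ k = 3 ∨ k = 4 := by omega
      rcases this with rfl | rfl | rfl | rfl | rfl
      · norm_num at h1
      · rfl
      · norm_num at h1
      · norm_num at h1
      · norm_num at h1
    rw [hk1, pow_one] at hk2
    have hle : zpowers z ≤ Q ⊓ centralizer {x} := by
      rw [Subgroup.zpowers_le]
      exact mem_inf.2 ⟨hE.zQ, mem_centralizer_singleton_iff.2 hxz.symm⟩
    have heq := eq_of_le_of_card_ge hle (by rw [hk2, h.card_zpowers_z])
    intro q hq hxq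
    apply h.mem_zpowers_z.1
    rw [heq]
    exact mem_inf.2 ⟨hq, mem_centralizer_singleton_iff.2 hxq.symm⟩
  -- the involutions of `Q`
  let I : Set G := {q | q ∈ Q ∧ q * q = 1 ∧ ¬ (q = 1 ∨ q = z)}
  have hI : 5 ∣ I.ncard := by
    have hc : Nat.card (zpowers x) = 5 := by
      rw [Nat.card_zpowers]; exact orderOf_eq_prime hx5 hx1
    rw [← hc]
    have hpow : ∀ n : ℕ, ∀ h ∈ I, x ^ n * h * (x ^ n)⁻¹ ∈ I := by
      intro n
      induction n with
      | zero => intro q hq; simpa using hq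
      | succ n ih =>
        intro q hq
        have h1 := ih q hq
        have e : x ^ (n + 1) * q * (x ^ (n + 1))⁻¹ = x * (x ^ n * q * (x ^ n)⁻¹) * x⁻¹ := by
          rw [pow_succ']; group
        rw [e]
        generalize x ^ n * q * (x ^ n)⁻¹ = p at h1
        refine ⟨hxQ p h1.1, ?_, ?_⟩
        · calc x * p * x⁻¹ * (x * p * x⁻¹) = x * (p * p) * x⁻¹ := by group
            _ = 1 := by rw [h1.2.1]; group
        · rintro (e1 | e1)
          · apply h1.2.2; left
            have : p = x⁻¹ * (x * p * x⁻¹) * x := by group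
            rw [this, e1]; group
          · apply h1.2.2; right
            have : p = x⁻¹ * (x * p * x⁻¹) * x := by group
            rw [this, e1]
            calc x⁻¹ * z * x = x⁻¹ * (z * x) := by rw [mul_assoc]
              _ = x⁻¹ * (x * z) := by rw [hxz]
              _ = z := by group
    apply card_dvd_set
    · intro r hr q hq
      obtain ⟨n, hn⟩ := (mem_powers_iff_mem_zpowers (x := x)).2 hr
      have hn' : x ^ n = r := hn
      rw [← hn']
      exact hpow n q hq
    · intro r hr q hq hrq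
      by_contra hr1
      apply hq.2.2
      apply hC q hq.1
      have h1 : (⟨x, mem_zpowers x⟩ : zpowers x) ∈ zpowers (⟨r, hr⟩ : zpowers x) :=
        mem_zpowers_of_prime_card hc (fun e => hr1 (congrArg Subtype.val e))
      obtain ⟨n, hn⟩ := mem_zpowers_iff.1 h1
      have h2 : r ^ n = x := congrArg Subtype.val hn
      rw [← h2]
      have h3 : Commute r q := hrq
      exact (h3.zpow_left n).eq
  set D1 : Subgroup G := Q ⊓ centralizer {v} with hD1
  have hD1c : Nat.card D1 = 16 := hE.card_centralizer h.vQ h.v1 h.vz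
  have memD1 : ∀ q, q ∈ D1 ↔ q ∈ Q ∧ q * v = v * q := by
    intro q; rw [hD1, mem_inf, mem_centralizer_singleton_iff]
  have hzD1 : z ∈ D1 := (memD1 z).2 ⟨hE.zQ, h.zv⟩
  have hvD1 : v ∈ D1 := (memD1 v).2 ⟨h.vQ, rfl⟩
  let A : Set G := {q | q ∈ Q ∧ q ∉ D1 ∧ q * q = 1}
  let B : Set G := {q | q ∈ Q ∧ q ∉ D1 ∧ q * q = z}
  let N : Set G := {q | q ∈ D1 ∧ q ∉ h.V ∧ q * q = 1}
  -- `|A| = 8`
  have hmulv : ∀ q ∈ Q, q ∉ D1 → (q * v) * (q * v) = q * q * z := by
    intro q hq hqD
    have h1 : v * q = q * v * z := by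
      have h2 := (hE.com q hq v h.vQ).resolve_left (fun e => hqD ((memD1 q).2 ⟨hq, e⟩))
      rw [h2]
      calc v * q = v * q * (z * z) := by rw [hE.z2, mul_one]
        _ = v * q * z * z := (mul_assoc _ _ _).symm
    calc (q * v) * (q * v) = q * (v * q) * v := by simp only [mul_assoc]
      _ = q * q * v * (z * v) := by rw [h1]; simp only [mul_assoc]
      _ = q * q * (v * v) * z := by rw [h.zv]; simp only [mul_assoc]
      _ = q * q * z := by rw [h.v2, mul_one]
  have hAB : A.ncard = B.ncard := by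
    apply Set.ncard_congr (fun q _ => q * v)
    · rintro q ⟨hq, hqD, hq2⟩
      refine ⟨mul_mem hq h.vQ, fun e => hqD ?_, ?_⟩
      · have := mul_mem e (inv_mem hvD1)
        rwa [mul_inv_cancel_right] at this
      · rw [hmulv q hq hqD, hq2, one_mul]
    · intro a b _ _ e
      exact mul_right_cancel e
    · rintro b ⟨hb, hbD, hb2⟩
      refine ⟨b * v, ⟨mul_mem hb h.vQ, fun e => hbD ?_, ?_⟩, ?_⟩
      · have := mul_mem e (inv_mem hvD1)
        rwa [mul_inv_cancel_right] at this
      · rw [hmulv b hb hbD, hb2, hE.z2]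
      · rw [mul_assoc, h.v2, mul_one]
  have hABu : A ∪ B = (Q : Set G) \ (D1 : Set G) := by
    ext q
    constructor
    · rintro (⟨h1, h2, -⟩ | ⟨h1, h2, -⟩)
      · exact ⟨h1, h2⟩
      · exact ⟨h1, h2⟩
    · rintro ⟨h1, h2⟩
      rcases hE.sq q h1 with e | e
      · exact Or.inl ⟨h1, h2, e⟩
      · exact Or.inr ⟨h1, h2, e⟩
  have hABd : Disjoint A B := by
    rw [Set.disjoint_left]
    rintro q ⟨_, _, e⟩ ⟨_, _, e'⟩
    exact hE.z1 (e'.symm.trans e)
  have hA8 : A.ncard = 8 := by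
    have h1 := Set.ncard_union_eq hABd (Set.toFinite _) (Set.toFinite _)
    rw [hABu, Set.ncard_sdiff (show (D1 : Set G) ⊆ (Q : Set G) from
      fun q hq => ((memD1 q).1 hq).1) (Set.toFinite _)] at h1
    have e1 : (Q : Set G).ncard = Nat.card Q := rfl
    have e2 : (D1 : Set G).ncard = Nat.card D1 := rfl
    rw [e1, e2, hE.card, hD1c] at h1
    omega
  -- `4 ∣ |N|`, `|N| ≤ 12`
  have hVD1 : h.V ≤ D1 := fun q hq => (memD1 q).2 ⟨h.V_le hq, (h.V_comm h.zv.symm rfl q hq).symm⟩
  have hN4 : 4 ∣ N.ncard := by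
    rw [← h.card_V]
    apply card_dvd_mul_set
    rintro r hr q ⟨hq, hqV, hq2⟩
    refine ⟨mul_mem (hVD1 hr) hq, fun e => hqV ?_, ?_⟩
    · have := mul_mem (inv_mem hr) e
      rwa [inv_mul_cancel_left] at this
    · have hq' := (memD1 q).1 hq
      have h1 := h.V_comm (hE.zc q hq'.1) hq'.2 r hr
      calc r * q * (r * q) = r * (q * r) * q := by simp only [mul_assoc]
        _ = (r * r) * (q * q) := by rw [h1]; simp only [mul_assoc]
        _ = 1 := by rw [h.V_sq r hr, hq2, one_mul]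
  have hN12 : N.ncard ≤ 12 := by
    have h1 : N ⊆ (D1 : Set G) \ (h.V : Set G) := fun q hq => ⟨hq.1, hq.2.1⟩
    have h2 := Set.ncard_le_ncard h1 (Set.toFinite _)
    rw [Set.ncard_sdiff (show (h.V : Set G) ⊆ (D1 : Set G) from hVD1) (Set.toFinite _)] at h2
    have e1 : (h.V : Set G).ncard = Nat.card h.V := rfl
    have e2 : (D1 : Set G).ncard = Nat.card D1 := rfl
    rw [e1, e2, hD1c, h.card_V] at h2
    omega
  have hIu : I = (A ∪ N) ∪ {v, v * z} := by
    ext q
    constructor
    · rintro ⟨h1, h2, h3⟩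
      by_cases hqD : q ∈ D1
      · by_cases hqV : q ∈ h.V
        · right
          rcases h.mem_V.1 hqV with e | e | e | e
          · exact absurd (Or.inl e) h3
          · exact absurd (Or.inr e) h3
          · exact Or.inl e
          · exact Or.inr e
        · left; right; exact ⟨hqD, hqV, h2⟩
      · left; left; exact ⟨h1, hqD, h2⟩
    · rintro ((⟨h1, h2, h3⟩ | ⟨h1, h2, h3⟩) | e)
      · refine ⟨h1, h3, ?_⟩
        rintro (e | e)
        · exact h2 (by rw [e]; exact one_mem _)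
        · exact h2 (by rw [e]; exact hzD1)
      · refine ⟨((memD1 q).1 h1).1, h3, ?_⟩
        rintro (e | e)
        · exact h2 (by rw [e]; exact one_mem _)
        · exact h2 (by rw [e]; exact h.z_mem_V)
      · have hqV : q ∈ h.V := by
          rcases e with e | e
          · rw [e]; exact h.v_mem_V
          · rw [Set.mem_singleton_iff.1 e]; exact mul_mem h.v_mem_V h.z_mem_V
        refine ⟨h.V_le hqV, h.V_sq q hqV, ?_⟩
        rcases e with e | e
        · rw [e]
          rintro (e' | e')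
          · exact h.v1 e'
          · exact h.vz e'
        · rw [Set.mem_singleton_iff.1 e]
          rintro (e' | e')
          · apply h.vz
            rw [eq_inv_of_mul_eq_one_left e']
            exact inv_eq_of_mul_eq_one_left hE.z2
          · exact h.v1 (mul_eq_right.1 e')
  have hvz2 : ({v, v * z} : Set G).ncard = 2 :=
    Set.ncard_pair (fun e => hE.z1 (left_eq_mul.1 e))
  have hd1 : Disjoint A N := by
    rw [Set.disjoint_left]
    rintro q ⟨_, h2, _⟩ ⟨h3, _, _⟩
    exact h2 h3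
  have hd2 : Disjoint (A ∪ N) {v, v * z} := by
    rw [Set.disjoint_left]
    rintro q hq e
    have hqV : q ∈ h.V := by
      rcases e with e | e
      · rw [e]; exact h.v_mem_V
      · rw [Set.mem_singleton_iff.1 e]; exact mul_mem h.v_mem_V h.z_mem_V
    rcases hq with ⟨_, h2, _⟩ | ⟨_, h2, _⟩
    · exact h2 (hVD1 hqV)
    · exact h2 hqV
  have hIc : I.ncard = 8 + N.ncard + 2 := by
    rw [hIu, Set.ncard_union_eq hd2 (Set.toFinite _) (Set.toFinite _),
      Set.ncard_union_eq hd1 (Set.toFinite _) (Set.toFinite _), hA8, hvz2]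
  have hN0 : N.ncard = 0 := by omega
  rw [Set.ncard_eq_zero (Set.toFinite _)] at hN0
  by_contra haV
  have : a ∈ N := ⟨(memD1 a).2 ⟨ha, hav⟩, haV, ha2⟩
  rw [hN0] at this
  exact this

/-- **The case of an element of order 5.** -/
theorem false_of_five [Finite G] (h : Base S P1 Q z v t u) {x : G} (hx5 : x ^ 5 = 1)
    (hxQ : ∀ q ∈ Q, x * q * x⁻¹ ∈ Q) (hxz : x * z = z * x)
    (hxn : ¬ ∀ q ∈ Q, x * q = q * x)
    (hcyc : ∀ s ∈ S, ∀ s' ∈ S, s ∉ Q → s' ∉ Q → s * s ∈ Q → s' * s' ∈ Q → s⁻¹ * s' ∈ Q) :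
    False := by
  have hE := h.ex
  set D1 : Subgroup G := Q ⊓ centralizer {v} with hD1
  have hD1c : Nat.card D1 = 16 := hE.card_centralizer h.vQ h.v1 h.vz
  have memD1 : ∀ q, q ∈ D1 ↔ q ∈ Q ∧ q * v = v * q := by
    intro q; rw [hD1, mem_inf, mem_centralizer_singleton_iff]
  let D2 : Subgroup G := D1.map (MulAut.conj u).toMonoidHom
  have hD2c : Nat.card D2 = 16 := by
    rw [← hD1c]
    exact (Nat.card_congr (D1.equivMapOfInjective _ (MulAut.conj u).injective).toEquiv).symm
  have memD2 : ∀ q ∈ D2, q ∈ h.Q1 ∧ In2 Q u q := by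
    rintro _ ⟨d, hd, rfl⟩
    have hd' := (memD1 d).1 hd
    refine ⟨h.uQ1 (h.mem_Q1.2 ⟨h.QS hd'.1, hd'.2⟩), ?_⟩
    change u⁻¹ * (u * d * u⁻¹) * u ∈ Q
    have : u⁻¹ * (u * d * u⁻¹) * u = d := by group
    rw [this]; exact hd'.1
  -- elements of `D2 ∩ Q` lie in `V`
  have hDV : ∀ q ∈ D2, q ∈ Q → q ∈ h.V := by
    intro q hq hqQ
    have h1 := memD2 q hq
    exact h.mem_V_of_sq hx5 hxQ hxz hxn hqQ (h.comm_v_of_In2 h1.2) (h.sq_of_both hqQ h1.2)
  have hsqQ : ∀ q ∈ D2, q * q ∈ Q := by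
    intro q hq
    rcases h.In2_sq (memD2 q hq).2 with e | e <;> rw [e]
    · exact one_mem _
    · exact h.vQ
  have hVcard := h.card_V
  by_cases hall : ∀ q ∈ D2, q ∈ h.V
  · have := card_le_of_le (show D2 ≤ h.V from hall)
    omega
  · push Not at hall
    obtain ⟨c, hc, hcV⟩ := hall
    have hcQ : c ∉ Q := fun e => hcV (hDV c hc e)
    have h1 : Nat.card D2 ≤ 2 * Nat.card h.V := by
      apply card_le_two_mul_of_cover c
      intro d hd
      by_cases hdV : d ∈ h.V
      · exact Or.inl hdV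
      · right
        have hdQ : d ∉ Q := fun e => hdV (hDV d hd e)
        apply hDV _ (mul_mem (inv_mem hc) hd)
        exact hcyc c (h.mem_Q1.1 (memD2 c hc).1).1 d (h.mem_Q1.1 (memD2 d hd).1).1 hcQ hdQ
          (hsqQ c hc) (hsqQ d hd)
    omega

end Base

end Cfsg.Agent.SectRankFour.C2.BTwoBCore
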