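import Mathlib
import Cfsg.Agent.SectRankFour.C2.BTwoBTools
import Cfsg.Agent.Lib.ProductSet

/-!
# S0517, case C2, section (2b): the action of `3²` on a group of order 32

`Q` of order 32 with `z` central, squares and commutators in `{1, z}`; `R` elementary abelian of
order 9 acts faithfully and centralises `z`. Then `Q = Qa Qb`, `Qa = C_Q(xb)`, `Qb = C_Q(xa)` of
order 8, `[Qa, Qb] = 1`, `Qa ∩ Qb = {1, z}`.
-/

set_option autoImplicit false

namespace Cfsg.Agent.SectRankFour.C2.BTwoBNine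

open Subgroup
open scoped Pointwise
open Cfsg.Agent.SectRankFour.C2.BTwoBTools

variable {G : Type*} [Group G]

/-- hypotheses -/
structure Nine (Q R : Subgroup G) (z : G) : Prop where
  cardQ : Nat.card Q = 32
  zQ : z ∈ Q
  z1 : z ≠ 1
  z2 : z * z = 1
  zc : ∀ q ∈ Q, q * z = z * q
  sq : ∀ q ∈ Q, q * q = 1 ∨ q * q = z
  com : ∀ a ∈ Q, ∀ b ∈ Q, a * b = b * a ∨ a * b = b * a * z
  cardR : Nat.card R = 9
  commR : ∀ x ∈ R, ∀ y ∈ R, x * y = y * x
  powR : ∀ x ∈ R, x ^ 3 = 1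
  RQ : ∀ x ∈ R, ∀ q ∈ Q, x * q * x⁻¹ ∈ Q
  Rz : ∀ x ∈ R, x * z = z * x
  faithful : ∀ x ∈ R, (∀ q ∈ Q, x * q = q * x) → x = 1

/-- an element of order 3 centralising `z` and fixing `n` modulo `⟨z⟩` centralises `n` -/
theorem odd_fix {x n z : G} (hx : x ^ 3 = 1) (hz1 : z ≠ 1) (hz2 : z * z = 1) (hxz : x * z = z * x)
    (h : x * n * x⁻¹ = n ∨ x * n * x⁻¹ = n * z) : x * n = n * x := by
  rcases h with h | h
  · exact mul_inv_eq_iff_eq_mul.1 h
  · exfalso
    have e1 : x * (n * z) * x⁻¹ = n := by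
      calc x * (n * z) * x⁻¹ = (x * n * x⁻¹) * (x * z * x⁻¹) := by group
        _ = n * z * z := by rw [h, hxz, mul_inv_cancel_right]
        _ = n := by rw [mul_assoc, hz2, mul_one]
    have e2 : x ^ 3 * n * (x ^ 3)⁻¹ = n * z := by
      calc x ^ 3 * n * (x ^ 3)⁻¹ = x * (x * (x * n * x⁻¹) * x⁻¹) * x⁻¹ := by
            simp only [pow_succ, pow_zero]; group
        _ = n * z := by rw [h, e1, h]
    rw [hx] at e2
    apply hz1
    have e3 : n = n * z := by simpa using e2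
    exact left_eq_mul.1 e3

namespace Nine

variable {Q R : Subgroup G} {z : G}

theorem card_zpowers (h : Nine Q R z) : Nat.card (zpowers z) = 2 := by
  rw [Nat.card_zpowers]
  exact orderOf_eq_prime (by rw [pow_two, h.z2]) h.z1

theorem mem_zpowers (h : Nine Q R z) {a : G} : a ∈ zpowers z ↔ a = 1 ∨ a = z := by
  constructor
  · intro ha
    obtain ⟨n, hn⟩ := mem_zpowers_iff.1 ha
    rcases Int.even_or_odd' n with ⟨m, rfl | rfl⟩
    · left
      rw [← hn, zpow_mul, zpow_two, h.z2, one_zpow]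
    · right
      rw [← hn, zpow_add, zpow_mul, zpow_two, h.z2, one_zpow, one_mul, zpow_one]
  · rintro (rfl | rfl)
    · exact one_mem _
    · exact Subgroup.mem_zpowers _

theorem zpowers_le (h : Nine Q R z) : zpowers z ≤ Q := by
  rw [Subgroup.zpowers_le]; exact h.zQ

/-- `C_Q(x)` -/
abbrev C (Q : Subgroup G) (x : G) : Subgroup G := Q ⊓ centralizer {x}

theorem mem_C {x q : G} : q ∈ C Q x ↔ q ∈ Q ∧ x * q = q * x := by
  rw [mem_inf, mem_centralizer_singleton_iff]
  exact and_congr_right fun _ => eq_comm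

theorem z_mem_C (h : Nine Q R z) {x : G} (hx : x ∈ R) : z ∈ C Q x := mem_C.2 ⟨h.zQ, h.Rz x hx⟩

theorem zpowers_le_C (h : Nine Q R z) {x : G} (hx : x ∈ R) : zpowers z ≤ C Q x := by
  rw [Subgroup.zpowers_le]; exact h.z_mem_C hx

/-- `R` normalises `C_Q(x)` -/
theorem R_C (h : Nine Q R z) {x : G} (hx : x ∈ R) : ∀ r ∈ R, ∀ q ∈ C Q x, r * q * r⁻¹ ∈ C Q x := by
  intro r hr q hq
  rw [mem_C] at hq ⊢
  refine ⟨h.RQ r hr q hq.1, ?_⟩
  have h1 : Commute x r := h.commR x hx r hr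
  have h2 : Commute x q := hq.2
  exact ((h1.mul_right h2).mul_right h1.inv_right).eq

/-- orders of the centralisers, restricted to an `x`-invariant subgroup containing `z` -/
theorem card_dvd (h : Nine Q R z) [Finite G] {H : Subgroup G} {x : G} (hx : x ∈ R)
    (hxH : ∀ q ∈ H, x * q * x⁻¹ ∈ H) : 3 ∣ Nat.card H - Nat.card (C H x) := by
  have : Fact (Nat.Prime 3) := ⟨Nat.prime_three⟩
  exact dvd_sub_centralizer (h.powR x hx) hxH

theorem card_C [Finite G] (h : Nine Q R z) {x : G} (hx : x ∈ R) (hx1 : x ≠ 1) :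
    Nat.card (C Q x) = 2 ∨ Nat.card (C Q x) = 8 := by
  have h1 := h.card_dvd hx (h.RQ x hx)
  rw [h.cardQ] at h1
  have h2 : Nat.card (C Q x) ∣ 2 ^ 5 := by
    have := card_dvd_of_le (inf_le_left : C Q x ≤ Q)
    rw [h.cardQ] at this
    exact this
  obtain ⟨k, hk, hk2⟩ := (Nat.dvd_prime_pow Nat.prime_two).1 h2
  rw [hk2] at h1 ⊢
  have hk5 : k ≠ 5 := by
    rintro rfl
    apply hx1
    apply h.faithful x hx
    have h3 : C Q x = Q := eq_of_le_of_card_ge inf_le_left (by rw [hk2, h.cardQ]; norm_num)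
    intro q hq
    rw [← h3] at hq
    exact (mem_C.1 hq).2
  have hk0 : k ≠ 0 := by
    rintro rfl
    have h3 := card_le_of_le (h.zpowers_le_C hx)
    rw [h.card_zpowers, hk2] at h3
    norm_num at h3
  have : k = 1 ∨ k = 2 ∨ k = 3 ∨ k = 4 := by omega
  rcases this with rfl | rfl | rfl | rfl
  · left; rfl
  · norm_num at h1
  · right; rfl
  · norm_num at h1

theorem exists_xb [Finite G] (h : Nine Q R z) : ∃ x ∈ R, x ≠ 1 ∧ Nat.card (C Q x) = 8 := by
  by_contra hcon
  push Not at hcon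
  have h1 : ∀ x ∈ R, x ≠ 1 → C Q x = zpowers z := by
    intro x hx hx1
    have h2 := (h.card_C hx hx1).resolve_right (hcon x hx hx1)
    exact (eq_of_le_of_card_ge (h.zpowers_le_C hx) (by rw [h2, h.card_zpowers])).symm
  have h2 := card_dvd_sub h.zpowers_le (R := R) h.RQ ?_ ?_
  · rw [h.cardR, h.cardQ, h.card_zpowers] at h2
    norm_num at h2
  · intro r hr q hq
    have h3 : r * q * r⁻¹ = q := by
      have hrz := h.Rz r hr
      rcases h.mem_zpowers.1 hq with e | e
      · rw [e]; group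
      · rw [e, hrz, mul_inv_cancel_right]
    rw [h3]; exact hq
  · intro r hr q hq hqz hrq
    by_contra hr1
    apply hqz
    rw [← h1 r hr hr1]
    exact mem_C.2 ⟨hq, hrq⟩

end Nine

/-- the decomposition -/
structure Split (Q R : Subgroup G) (z : G) (xa xb : G) : Prop where
  nine : Nine Q R z
  xa_mem : xa ∈ R
  xb_mem : xb ∈ R
  xa1 : xa ≠ 1
  xb1 : xb ≠ 1
  carda : Nat.card (Nine.C Q xb) = 8
  cardb : Nat.card (Nine.C Q xa) = 8
  inf : ∀ q, q ∈ Nine.C Q xb → q ∈ Nine.C Q xa → q = 1 ∨ q = z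

open Nine in
theorem Nine.exists_split [Finite G] {Q R : Subgroup G} {z : G} (h : Nine Q R z) :
    ∃ xa xb : G, Split Q R z xa xb := by
  obtain ⟨xb, hxb, hxb1, hcb⟩ := h.exists_xb
  -- `R` does not act freely on `Q ∖ Qa`
  have h1 : ∃ xa ∈ R, xa ≠ 1 ∧ ∃ q ∈ Q, q ∉ C Q xb ∧ xa * q = q * xa := by
    by_contra hcon
    push Not at hcon
    have h2 := card_dvd_sub (R := R) (K := C Q xb) inf_le_left h.RQ (h.R_C hxb) ?_
    · rw [h.cardR, h.cardQ, hcb] at h2
      norm_num at h2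
    · intro r hr q hq hq2 hrq
      by_contra hr1
      exact hcon r hr hr1 q hq hq2 hrq
  obtain ⟨xa, hxa, hxa1, q, hq, hqb, hqa⟩ := h1
  have hqa' : q ∈ C Q xa := mem_C.2 ⟨hq, hqa⟩
  have hca : Nat.card (C Q xa) = 8 := by
    refine (h.card_C hxa hxa1).resolve_left fun h2 => ?_
    have h3 : zpowers z = C Q xa :=
      eq_of_le_of_card_ge (h.zpowers_le_C hxa) (by rw [h2, h.card_zpowers])
    apply hqb
    apply h.zpowers_le_C hxb
    rw [h3]; exact hqa'
  refine ⟨xa, xb, h, hxa, hxb, hxa1, hxb1, hcb, hca, ?_⟩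
  -- the intersection
  have h3 := h.card_dvd hxa (h.R_C hxb xa hxa)
  rw [hcb] at h3
  have h4 : Nat.card (C (C Q xb) xa) ∣ 2 ^ 3 := by
    have := card_dvd_of_le (inf_le_left : C (C Q xb) xa ≤ C Q xb)
    rw [hcb] at this
    exact this
  obtain ⟨k, hk, hk2⟩ := (Nat.dvd_prime_pow Nat.prime_two).1 h4
  rw [hk2] at h3
  have hzle : zpowers z ≤ C (C Q xb) xa := by
    rw [Subgroup.zpowers_le, mem_C]
    exact ⟨h.z_mem_C hxb, h.Rz xa hxa⟩
  have hk0 : k ≠ 0 := by
    rintro rfl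
    have h5 := card_le_of_le hzle
    rw [h.card_zpowers, hk2] at h5
    norm_num at h5
  have hk3 : k ≠ 3 := by
    rintro rfl
    have h5 : C (C Q xb) xa = C Q xb := eq_of_le_of_card_ge inf_le_left (by rw [hk2, hcb]; norm_num)
    have h6 : C Q xb ≤ C Q xa := by
      intro a ha
      rw [← h5, mem_C] at ha
      exact mem_C.2 ⟨(mem_C.1 ha.1).1, ha.2⟩
    have h7 : C Q xb = C Q xa := eq_of_le_of_card_ge h6 (by rw [hcb, hca])
    exact hqb (by rw [h7]; exact hqa')
  have hk1 : k = 1 := by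
    have : k = 1 ∨ k = 2 := by omega
    rcases this with rfl | rfl
    · rfl
    · norm_num at h3
  subst hk1
  have h5 : zpowers z = C (C Q xb) xa :=
    eq_of_le_of_card_ge hzle (by rw [hk2, h.card_zpowers]; norm_num)
  intro a ha1 ha2
  apply h.mem_zpowers.1
  rw [h5]
  exact mem_C.2 ⟨ha1, (mem_C.1 ha2).2⟩

namespace Split

open Nine

variable {Q R : Subgroup G} {z xa xb : G}

theorem symm (h : Split Q R z xa xb) : Split Q R z xb xa where
  nine := h.nine
  xa_mem := h.xb_mem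
  xb_mem := h.xa_mem
  xa1 := h.xb1
  xb1 := h.xa1
  carda := h.cardb
  cardb := h.carda
  inf := fun q h1 h2 => h.inf q h2 h1

/-- the norm of an element of `Qa` under `xa` lies in `⟨z⟩` -/
theorem norm_mem (h : Split Q R z xa xb) {q : G} (hq : q ∈ C Q xb) :
    q * (xa * q * xa⁻¹) * (xa * (xa * q * xa⁻¹) * xa⁻¹) = 1 ∨
      q * (xa * q * xa⁻¹) * (xa * (xa * q * xa⁻¹) * xa⁻¹) = z := by
  have hN := h.nine
  set q1 := xa * q * xa⁻¹ with hq1
  set q2 := xa * q1 * xa⁻¹ with hq2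
  have m1 : q1 ∈ C Q xb := hN.R_C h.xb_mem xa h.xa_mem q hq
  have m2 : q2 ∈ C Q xb := hN.R_C h.xb_mem xa h.xa_mem q1 m1
  have e3 : xa * q2 * xa⁻¹ = q := by
    have h3 := hN.powR xa h.xa_mem
    calc xa * q2 * xa⁻¹ = xa ^ 3 * q * (xa ^ 3)⁻¹ := by
          rw [hq2, hq1]; simp only [pow_succ, pow_zero]; group
      _ = q := by rw [h3]; simp
  have mn : q * q1 * q2 ∈ C Q xb := mul_mem (mul_mem hq m1) m2
  have e4 : xa * (q * q1 * q2) * xa⁻¹ = q1 * q2 * q := by
    calc xa * (q * q1 * q2) * xa⁻¹ = (xa * q * xa⁻¹) * (xa * q1 * xa⁻¹) * (xa * q2 * xa⁻¹) := by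
          group
      _ = q1 * q2 * q := by rw [e3]
  have e5 : xa * (q * q1 * q2) * xa⁻¹ = q * q1 * q2 ∨
      xa * (q * q1 * q2) * xa⁻¹ = q * q1 * q2 * z := by
    rw [e4]
    rcases hN.com (q1 * q2) (mul_mem (mem_C.1 m1).1 (mem_C.1 m2).1) q (mem_C.1 hq).1 with e | e
    · left; exact e.trans (mul_assoc _ _ _).symm
    · right; rw [e]; simp only [mul_assoc]
  have e6 := odd_fix (hN.powR xa h.xa_mem) hN.z1 hN.z2 (hN.Rz xa h.xa_mem) e5
  exact h.inf _ mn (mem_C.2 ⟨(mem_C.1 mn).1, e6⟩)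

/-- `Qa` and `Qb` commute -/
theorem commute (h : Split Q R z xa xb) {a b : G} (ha : a ∈ C Q xb) (hb : b ∈ C Q xa) :
    a * b = b * a := by
  have hN := h.nine
  by_contra hab
  have key : ∀ c ∈ C Q xb, c * b ≠ b * c → c * b = b * c * z := fun c hc hcb =>
    (hN.com c (mem_C.1 hc).1 b (mem_C.1 hb).1).resolve_left hcb
  have conj : ∀ c, c * b = b * c ↔ (xa * c * xa⁻¹) * b = b * (xa * c * xa⁻¹) := by
    intro c
    have hxb : Commute xa b := (mem_C.1 hb).2
    constructor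
    · intro hc
      have hcb : Commute c b := hc
      exact ((hxb.mul_left hcb).mul_left hxb.inv_left).eq
    · intro hc
      have hcb : Commute (xa * c * xa⁻¹) b := hc
      have e : c = xa⁻¹ * (xa * c * xa⁻¹) * xa := by group
      rw [e]
      exact ((hxb.inv_left.mul_left hcb).mul_left hxb).eq
  set a1 := xa * a * xa⁻¹ with ha1
  set a2 := xa * a1 * xa⁻¹ with ha2
  have m1 : a1 ∈ C Q xb := hN.R_C h.xb_mem xa h.xa_mem a ha
  have m2 : a2 ∈ C Q xb := hN.R_C h.xb_mem xa h.xa_mem a1 m1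
  have n1 : a1 * b ≠ b * a1 := fun e => hab ((conj a).2 e)
  have n2 : a2 * b ≠ b * a2 := fun e => n1 ((conj a1).2 e)
  have k0 := key a ha hab
  have k1 := key a1 m1 n1
  -- `a a1` commutes with `b`
  have hzb : z * b = b * z := (hN.zc b (mem_C.1 hb).1).symm
  have hza1 : z * a1 = a1 * z := (hN.zc a1 (mem_C.1 m1).1).symm
  have k2 : (a * a1) * b = b * (a * a1) := by
    calc (a * a1) * b = a * (a1 * b) := by rw [mul_assoc]
      _ = a * b * a1 * z := by rw [k1]; simp only [mul_assoc]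
      _ = b * a * (z * a1) * z := by rw [k0]; simp only [mul_assoc]
      _ = b * a * a1 * (z * z) := by rw [hza1]; simp only [mul_assoc]
      _ = b * (a * a1) := by rw [hN.z2, mul_one, mul_assoc]
  rcases h.norm_mem ha with e | e
  · apply n2
    have e1 : a2 = (a * a1)⁻¹ := (inv_eq_of_mul_eq_one_right e).symm
    rw [e1]
    have k3 : Commute (a * a1) b := k2
    exact k3.inv_left.eq
  · apply n2
    have e1 : a2 = (a * a1)⁻¹ * z := eq_inv_mul_of_mul_eq e
    rw [e1]
    have k3 : Commute (a * a1) b := k2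
    have k4 : Commute z b := hzb
    exact (k3.inv_left.mul_left k4).eq

/-- `Q = Qa Qb` -/
theorem exists_mul [Finite G] (h : Split Q R z xa xb) {q : G} (hq : q ∈ Q) :
    ∃ a ∈ C Q xb, ∃ b ∈ C Q xa, q = a * b := by
  have hN := h.nine
  have h1 := Cfsg.Agent.Lib.ProductSet.card_mul_card_inf (C Q xb) (C Q xa)
  rw [h.carda, h.cardb] at h1
  have h2 : Nat.card (C Q xb ⊓ C Q xa : Subgroup G) ≤ 2 := by
    rw [← hN.card_zpowers]
    apply card_le_of_le
    intro a ha
    exact hN.mem_zpowers.2 (h.inf a (mem_inf.1 ha).1 (mem_inf.1 ha).2)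
  have h3 : 32 ≤ Nat.card ((C Q xb : Set G) * (C Q xa : Set G) : Set G) := by
    by_contra hlt
    have h4 : Nat.card ((C Q xb : Set G) * (C Q xa : Set G) : Set G) *
        Nat.card (C Q xb ⊓ C Q xa : Subgroup G) ≤ 31 * 2 := Nat.mul_le_mul (by omega) h2
    omega
  have hsub : ((C Q xb : Set G) * (C Q xa : Set G) : Set G) ⊆ (Q : Set G) := by
    rintro _ ⟨a, ha, b, hb, rfl⟩
    exact Q.mul_mem (mem_C.1 ha).1 (mem_C.1 hb).1
  have h4 : ((C Q xb : Set G) * (C Q xa : Set G) : Set G) = (Q : Set G) := by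
    apply Set.eq_of_subset_of_ncard_le hsub _ (Set.toFinite _)
    rw [← Nat.card_coe_set_eq, ← Nat.card_coe_set_eq]
    change Nat.card Q ≤ _
    rw [hN.cardQ]
    exact h3
  have h5 : q ∈ ((C Q xb : Set G) * (C Q xa : Set G) : Set G) := by rw [h4]; exact hq
  obtain ⟨a, ha, b, hb, rfl⟩ := h5
  exact ⟨a, ha, b, hb, rfl⟩

/-- `xa` acts without fixed points on `Qa / ⟨z⟩` -/
theorem fpf (h : Split Q R z xa xb) {q : G} (hq : q ∈ C Q xb)
    (hx : xa * q * xa⁻¹ = q ∨ xa * q * xa⁻¹ = q * z) : q = 1 ∨ q = z := by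
  have hN := h.nine
  have e := odd_fix (hN.powR xa h.xa_mem) hN.z1 hN.z2 (hN.Rz xa h.xa_mem) hx
  exact h.inf q hq (mem_C.2 ⟨(mem_C.1 hq).1, e⟩)

/-- if `Z(Q) = ⟨z⟩` then `z` is the only involution of `Qa` -/
theorem sq_eq [Finite G] (h : Split Q R z xa xb)
    (hZ : ∀ a ∈ Q, (∀ b ∈ Q, a * b = b * a) → a = 1 ∨ a = z)
    {q : G} (hq : q ∈ C Q xb) (hq2 : q * q = 1) : q = 1 ∨ q = z := by
  have hN := h.nine
  by_contra hcon
  have hq0 : ¬ (xa * q * xa⁻¹ = q ∨ xa * q * xa⁻¹ = q * z) := fun e => hcon (h.fpf hq e)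
  set q1 := xa * q * xa⁻¹ with hq1
  set q2 := xa * q1 * xa⁻¹ with hq2'
  have m1 : q1 ∈ C Q xb := hN.R_C h.xb_mem xa h.xa_mem q hq
  have m2 : q2 ∈ C Q xb := hN.R_C h.xb_mem xa h.xa_mem q1 m1
  have s1 : q1 * q1 = 1 := by
    calc q1 * q1 = xa * (q * q) * xa⁻¹ := by rw [hq1]; group
      _ = 1 := by rw [hq2]; group
  have s2 : q2 * q2 = 1 := by
    calc q2 * q2 = xa * (q1 * q1) * xa⁻¹ := by rw [hq2']; group
      _ = 1 := by rw [s1]; group
  have hzq2 : z * q2 = q2 * z := (hN.zc q2 (mem_C.1 m2).1).symm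
  have i2 : q2⁻¹ = q2 := inv_eq_of_mul_eq_one_left s2
  have hqq1 : q * q1 = q2 ∨ q * q1 = q2 * z := by
    rcases h.norm_mem hq with e | e
    · left; rw [← i2]; exact eq_inv_of_mul_eq_one_left e
    · right
      have e1 : q * q1 = z * q2⁻¹ := eq_mul_inv_of_mul_eq e
      rw [e1, i2, hzq2]
  have s3 : (q * q1) * (q * q1) = 1 := by
    rcases hqq1 with e | e
    · rw [e, s2]
    · rw [e]
      calc q2 * z * (q2 * z) = q2 * (z * q2) * z := by simp only [mul_assoc]
        _ = (q2 * q2) * (z * z) := by rw [hzq2]; simp only [mul_assoc]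
        _ = 1 := by rw [s2, hN.z2, one_mul]
  have hcomm : q * q1 = q1 * q := by
    have i0 : q⁻¹ = q := inv_eq_of_mul_eq_one_left hq2
    have i1 : q1⁻¹ = q1 := inv_eq_of_mul_eq_one_left s1
    have i3 : (q * q1)⁻¹ = q * q1 := inv_eq_of_mul_eq_one_left s3
    rw [← i3, mul_inv_rev, i0, i1]
  -- `q` centralises `Qa`
  have hD : C (C Q xb) q = C Q xb := by
    apply eq_of_le_of_card_ge inf_le_left
    rw [h.carda]
    have hq_mem : q ∈ C (C Q xb) q := mem_C.2 ⟨hq, rfl⟩
    have hz_mem : z ∈ C (C Q xb) q := mem_C.2 ⟨hN.z_mem_C h.xb_mem, hN.zc q (mem_C.1 hq).1⟩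
    have hq1_mem : q1 ∈ C (C Q xb) q := mem_C.2 ⟨m1, hcomm⟩
    have hdvd : Nat.card (C (C Q xb) q) ∣ 2 ^ 3 := by
      have := card_dvd_of_le (inf_le_left : C (C Q xb) q ≤ C Q xb)
      rw [h.carda] at this
      exact this
    obtain ⟨k, hk, hk2⟩ := (Nat.dvd_prime_pow Nat.prime_two).1 hdvd
    -- five different elements
    by_contra hlt
    have hk' : k ≤ 2 := by
      by_contra hk3
      have : k = 3 := by omega
      rw [this] at hk2
      rw [hk2] at hlt
      norm_num at hlt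
    have h4 : Nat.card (C (C Q xb) q) ≤ 4 := by
      rw [hk2]
      calc 2 ^ k ≤ 2 ^ 2 := Nat.pow_le_pow_right (by norm_num) hk'
        _ = 4 := by norm_num
    have hqz : q * z ≠ 1 ∧ q * z ≠ z ∧ q * z ≠ q := by
      refine ⟨fun e => hcon (Or.inr ?_), fun e => hcon (Or.inl ?_), fun e => hN.z1 ?_⟩
      · rw [eq_inv_of_mul_eq_one_left e]
        exact inv_eq_of_mul_eq_one_left hN.z2
      · exact mul_eq_right.1 e
      · exact mul_eq_left.1 e
    have hq1z : q1 ≠ 1 ∧ q1 ≠ z := by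
      have hx : ∀ c, xa * q * xa⁻¹ = c → q = xa⁻¹ * c * xa := by
        intro c hc; rw [← hc]; group
      constructor
      · intro e
        apply hcon; left
        rw [hx 1 e]; group
      · intro e
        apply hcon; right
        rw [hx z e]
        calc xa⁻¹ * z * xa = xa⁻¹ * (z * xa) := by rw [mul_assoc]
          _ = xa⁻¹ * (xa * z) := by rw [hN.Rz xa h.xa_mem]
          _ = z := by group
    have hcard5 : ({1, z, q, q * z, q1} : Set G).ncard = 5 := by
      have n1 : (1 : G) ∉ ({z, q, q * z, q1} : Set G) := by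
        simp only [Set.mem_insert_iff, Set.mem_singleton_iff, not_or]
        exact ⟨fun e => hN.z1 e.symm, fun e => hcon (Or.inl e.symm), fun e => hqz.1 e.symm,
          fun e => hq1z.1 e.symm⟩
      have n2 : z ∉ ({q, q * z, q1} : Set G) := by
        simp only [Set.mem_insert_iff, Set.mem_singleton_iff, not_or]
        exact ⟨fun e => hcon (Or.inr e.symm), fun e => hqz.2.1 e.symm, fun e => hq1z.2 e.symm⟩
      have n3 : q ∉ ({q * z, q1} : Set G) := by
        simp only [Set.mem_insert_iff, Set.mem_singleton_iff, not_or]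
        exact ⟨fun e => hqz.2.2 e.symm, fun e => hq0 (Or.inl e.symm)⟩
      have n4 : q * z ∉ ({q1} : Set G) := by
        simp only [Set.mem_singleton_iff]
        exact fun e => hq0 (Or.inr e.symm)
      rw [Set.ncard_insert_of_notMem n1 (Set.toFinite _), Set.ncard_insert_of_notMem n2
        (Set.toFinite _), Set.ncard_insert_of_notMem n3 (Set.toFinite _),
        Set.ncard_insert_of_notMem n4 (Set.toFinite _), Set.ncard_singleton]
    have hsub : ({1, z, q, q * z, q1} : Set G) ⊆ (C (C Q xb) q : Set G) := by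
      intro c hc
      simp only [Set.mem_insert_iff, Set.mem_singleton_iff] at hc
      rcases hc with e | e | e | e | e <;> rw [e]
      · exact one_mem _
      · exact hz_mem
      · exact hq_mem
      · exact mul_mem hq_mem hz_mem
      · exact hq1_mem
    have h5 := Set.ncard_le_ncard hsub (Set.toFinite _)
    rw [hcard5, ← Nat.card_coe_set_eq] at h5
    have h6 : Nat.card (C (C Q xb) q : Set G) = Nat.card (C (C Q xb) q) := rfl
    omega
  apply hcon
  apply hZ q (mem_C.1 hq).1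
  intro c hc
  obtain ⟨a, ha, b, hb, rfl⟩ := h.exists_mul hc
  have h1 : Commute q a := by
    rw [← hD] at ha
    exact (mem_C.1 ha).2
  have h2 : Commute q b := h.commute hq hb
  exact (h1.mul_right h2).eq

/-- the only centralisers of order 8 are `Qa` and `Qb` -/
theorem eq_or_eq [Finite G] (h : Split Q R z xa xb) {x : G} (hx : x ∈ R)
    (hc : Nat.card (C Q x) = 8) : C Q x = C Q xb ∨ C Q x = C Q xa := by
  have hN := h.nine
  by_contra hcon
  push Not at hcon
  -- the intersections with `Qa` and `Qb`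
  have key : ∀ y ∈ R, Nat.card (C Q y) = 8 → C Q x ≠ C Q y →
      ∀ q ∈ C Q y, x * q = q * x → q = 1 ∨ q = z := by
    intro y hy hcy hne q hq hxq
    have h3 := hN.card_dvd hx (hN.R_C hy x hx)
    rw [hcy] at h3
    have h4 : Nat.card (C (C Q y) x) ∣ 2 ^ 3 := by
      have := card_dvd_of_le (inf_le_left : C (C Q y) x ≤ C Q y)
      rw [hcy] at this
      exact this
    obtain ⟨k, hk, hk2⟩ := (Nat.dvd_prime_pow Nat.prime_two).1 h4
    rw [hk2] at h3
    have hzle : zpowers z ≤ C (C Q y) x := by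
      rw [Subgroup.zpowers_le, mem_C]
      exact ⟨hN.z_mem_C hy, hN.Rz x hx⟩
    have hk0 : k ≠ 0 := by
      rintro rfl
      have h5 := card_le_of_le hzle
      rw [hN.card_zpowers, hk2] at h5
      norm_num at h5
    have hk3 : k ≠ 3 := by
      rintro rfl
      have h5 : C (C Q y) x = C Q y :=
        eq_of_le_of_card_ge inf_le_left (by rw [hk2, hcy]; norm_num)
      have h6 : C Q y ≤ C Q x := by
        intro a ha
        rw [← h5, mem_C] at ha
        exact mem_C.2 ⟨(mem_C.1 ha.1).1, ha.2⟩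
      exact hne (eq_of_le_of_card_ge h6 (by rw [hcy, hc])).symm
    have hk1 : k = 1 := by
      have : k = 1 ∨ k = 2 := by omega
      rcases this with rfl | rfl
      · rfl
      · norm_num at h3
    subst hk1
    have h5 : zpowers z = C (C Q y) x :=
      eq_of_le_of_card_ge hzle (by rw [hk2, hN.card_zpowers]; norm_num)
    apply hN.mem_zpowers.1
    rw [h5]
    exact mem_C.2 ⟨hq, hxq⟩
  have hle : C Q x ≤ zpowers z := by
    intro q hq
    rw [mem_C] at hq
    obtain ⟨a, ha, b, hb, rfl⟩ := h.exists_mul hq.1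
    have ma := hN.R_C h.xb_mem x hx a ha
    have mb := hN.R_C h.xa_mem x hx b hb
    have e1 : (x * a * x⁻¹) * (x * b * x⁻¹) = a * b := by
      calc (x * a * x⁻¹) * (x * b * x⁻¹) = x * (a * b) * x⁻¹ := by group
        _ = a * b := by rw [hq.2, mul_inv_cancel_right]
    have e2 : a⁻¹ * (x * a * x⁻¹) = b * (x * b * x⁻¹)⁻¹ := by
      calc a⁻¹ * (x * a * x⁻¹) = a⁻¹ * ((x * a * x⁻¹) * (x * b * x⁻¹)) * (x * b * x⁻¹)⁻¹ := by group
        _ = b * (x * b * x⁻¹)⁻¹ := by rw [e1]; group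
    have e3 : a⁻¹ * (x * a * x⁻¹) = 1 ∨ a⁻¹ * (x * a * x⁻¹) = z := by
      apply h.inf _ (mul_mem (inv_mem ha) ma)
      rw [e2]
      exact mul_mem hb (inv_mem mb)
    have ha' : a = 1 ∨ a = z := by
      apply key xb h.xb_mem h.carda hcon.1 a ha
      apply odd_fix (hN.powR x hx) hN.z1 hN.z2 (hN.Rz x hx)
      rcases e3 with e | e
      · left; exact (inv_mul_eq_one.1 e).symm
      · right; exact inv_mul_eq_iff_eq_mul.1 e
    have hb' : b = 1 ∨ b = z := by
      apply key xa h.xa_mem h.cardb hcon.2 b hb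
      apply odd_fix (hN.powR x hx) hN.z1 hN.z2 (hN.Rz x hx)
      rw [e2] at e3
      have hzb := hN.zc b (mem_C.1 hb).1
      have hzb' := hN.zc _ (mem_C.1 mb).1
      rcases e3 with e | e
      · left
        exact (mul_inv_eq_one.1 e).symm
      · right
        have e5 : b = z * (x * b * x⁻¹) := mul_inv_eq_iff_eq_mul.1 e
        have e6 : b = (x * b * x⁻¹) * z := by rw [hzb']; exact e5
        calc x * b * x⁻¹ = (x * b * x⁻¹) * (z * z) := by rw [hN.z2, mul_one]
          _ = ((x * b * x⁻¹) * z) * z := (mul_assoc _ _ _).symm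
          _ = b * z := congrArg (· * z) e6.symm
    have mz := Subgroup.mem_zpowers z
    rcases ha' with e | e <;> rcases hb' with e' | e' <;> rw [e, e']
    · exact mul_mem (one_mem _) (one_mem _)
    · exact mul_mem (one_mem _) mz
    · exact mul_mem mz (one_mem _)
    · exact mul_mem mz mz
  have h2 := card_le_of_le hle
  rw [hc, hN.card_zpowers] at h2
  norm_num at h2

end Split

theorem Nine.conj_or {Q R : Subgroup G} {z : G} (h : Nine Q R z) {a b : G} (ha : a ∈ Q)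
    (hb : b ∈ Q) : a * b * a⁻¹ = b ∨ a * b * a⁻¹ = b * z := by
  rcases h.com a ha b hb with e | e
  · left; rw [e, mul_inv_cancel_right]
  · right
    rw [e]
    have h1 := h.zc a ha
    calc b * a * z * a⁻¹ = b * (a * z) * a⁻¹ := by simp only [mul_assoc]
      _ = b * z := by rw [h1]; group

/-- transport of centralisers -/
theorem Nine.conj_C {Q R : Subgroup G} {z : G} (h : Nine Q R z) {s x x' q0 : G}
    (hsQ : ∀ q ∈ Q, s * q * s⁻¹ ∈ Q) (hsz : s * z = z * s) (hx : x ∈ R) (hx' : x' ∈ R)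
    (hq0 : q0 ∈ Q) (he : s * x * s⁻¹ = q0 * x') {q : G} (hq : q ∈ Q) :
    x * q = q * x ↔ x' * (s * q * s⁻¹) = (s * q * s⁻¹) * x' := by
  have hp := hsQ q hq
  constructor
  · intro h1
    apply odd_fix (h.powR x' hx') h.z1 h.z2 (h.Rz x' hx')
    have h2 : q0 * x' * (s * q * s⁻¹) = (s * q * s⁻¹) * (q0 * x') := by
      rw [← he]
      calc s * x * s⁻¹ * (s * q * s⁻¹) = s * (x * q) * s⁻¹ := by group
        _ = s * (q * x) * s⁻¹ := by rw [h1]
        _ = _ := by group
    generalize s * q * s⁻¹ = p at *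
    have h3 : x' * p * x'⁻¹ = q0⁻¹ * p * (q0⁻¹)⁻¹ := by
      calc x' * p * x'⁻¹ = q0⁻¹ * (q0 * x' * p) * x'⁻¹ := by group
        _ = q0⁻¹ * (p * (q0 * x')) * x'⁻¹ := by rw [h2]
        _ = _ := by group
    rw [h3]
    exact h.conj_or (inv_mem hq0) hp
  · intro h1
    apply odd_fix (h.powR x hx) h.z1 h.z2 (h.Rz x hx)
    have h2 : (s * x * s⁻¹) * (s * q * s⁻¹) * (s * x * s⁻¹)⁻¹ = q0 * (s * q * s⁻¹) * q0⁻¹ := by
      rw [he]
      calc q0 * x' * (s * q * s⁻¹) * (q0 * x')⁻¹ = q0 * (x' * (s * q * s⁻¹)) * x'⁻¹ * q0⁻¹ := by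
            group
        _ = q0 * ((s * q * s⁻¹) * x') * x'⁻¹ * q0⁻¹ := by rw [h1]
        _ = _ := by group
    have h3 : x * q * x⁻¹ = s⁻¹ * (q0 * (s * q * s⁻¹) * q0⁻¹) * s := by
      rw [← h2]; group
    rcases h.conj_or hq0 hp with e | e
    · left; rw [h3, e]; group
    · right
      rw [h3, e]
      calc s⁻¹ * (s * q * s⁻¹ * z) * s = q * s⁻¹ * (z * s) := by group
        _ = q * z := by rw [← hsz]; group

open Nine in
/-- an element normalising `Q`, `Q R` and centralising `z` normalises or swaps `Qa`, `Qb` -/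
theorem Split.conj_cases [Finite G] {Q R : Subgroup G} {z xa xb : G} (h : Split Q R z xa xb)
    {s : G} (hsQ : ∀ q ∈ Q, s * q * s⁻¹ ∈ Q) (hsz : s * z = z * s)
    (hsR : ∀ x ∈ R, ∃ q0 ∈ Q, ∃ x' ∈ R, s * x * s⁻¹ = q0 * x') :
    ((∀ q ∈ C Q xb, s * q * s⁻¹ ∈ C Q xb) ∧ (∀ q ∈ C Q xa, s * q * s⁻¹ ∈ C Q xa)) ∨
    ((∀ q ∈ C Q xb, s * q * s⁻¹ ∈ C Q xa) ∧ (∀ q ∈ C Q xa, s * q * s⁻¹ ∈ C Q xb)) := by
  have hN := h.nine
  have key : ∀ x ∈ R, Nat.card (C Q x) = 8 →
      (C Q x).map (MulAut.conj s).toMonoidHom = C Q xb ∨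
      (C Q x).map (MulAut.conj s).toMonoidHom = C Q xa := by
    intro x hx hc
    obtain ⟨q0, hq0, x', hx', he⟩ := hsR x hx
    have hle : (C Q x).map (MulAut.conj s).toMonoidHom ≤ C Q x' := by
      rintro _ ⟨q, hq, rfl⟩
      have hq' := mem_C.1 hq
      exact mem_C.2 ⟨hsQ q hq'.1, (hN.conj_C hsQ hsz hx hx' hq0 he hq'.1).1 hq'.2⟩
    have hc8 : Nat.card ((C Q x).map (MulAut.conj s).toMonoidHom : Subgroup G) = 8 := by
      rw [← hc]
      exact (Nat.card_congr ((C Q x).equivMapOfInjective _ (MulAut.conj s).injective).toEquiv).symm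
    have hx1 : x' ≠ 1 := by
      rintro rfl
      -- then `x` would centralise all of `Q`
      have h1 : ∀ q ∈ Q, x * q = q * x := by
        intro q hq
        rw [hN.conj_C hsQ hsz hx hx' hq0 he hq, one_mul, mul_one]
      have h2 : C Q x = Q := by
        apply le_antisymm inf_le_left
        intro q hq
        exact mem_C.2 ⟨hq, h1 q hq⟩
      rw [h2, hN.cardQ] at hc
      norm_num at hc
    have hc' : Nat.card (C Q x') = 8 := by
      refine (hN.card_C hx' hx1).resolve_left fun h2 => ?_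
      have := card_le_of_le hle
      rw [hc8, h2] at this
      norm_num at this
    have heq : (C Q x).map (MulAut.conj s).toMonoidHom = C Q x' :=
      eq_of_le_of_card_ge hle (by rw [hc8, hc'])
    rw [heq]
    exact h.eq_or_eq hx' hc'
  have hne : C Q xb ≠ C Q xa := by
    intro e
    have h1 : C Q xb ≤ zpowers z := by
      intro q hq
      exact hN.mem_zpowers.2 (h.inf q hq (e ▸ hq))
    have h2 := card_le_of_le h1
    rw [h.carda, hN.card_zpowers] at h2
    norm_num at h2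
  have hmap : ∀ A B : Subgroup G, A.map (MulAut.conj s).toMonoidHom = B →
      ∀ q ∈ A, s * q * s⁻¹ ∈ B := by
    rintro A B rfl q hq
    exact ⟨q, hq, rfl⟩
  have hinj : Function.Injective (Subgroup.map (MulAut.conj s).toMonoidHom) :=
    Subgroup.map_injective (MulAut.conj s).injective
  rcases key xb h.xb_mem h.carda with e1 | e1 <;> rcases key xa h.xa_mem h.cardb with e2 | e2
  · exact absurd (hinj (e1.trans e2.symm)) hne
  · exact Or.inl ⟨hmap _ _ e1, hmap _ _ e2⟩
  · exact Or.inr ⟨hmap _ _ e1, hmap _ _ e2⟩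
  · exact absurd (hinj (e1.trans e2.symm)) hne

end Cfsg.Agent.SectRankFour.C2.BTwoBNine
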