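import Mathlib
import Cfsg.Agent.SectRankFour.C2.BTwoBCore
import Cfsg.Agent.SectRankFour.C2.BTwoBNine

/-!
# S0517, case C2, section (2b): `R` of order 9, `Q ∩ u Q u⁻¹ = V`
-/

set_option autoImplicit false

namespace Cfsg.Agent.SectRankFour.C2.BTwoBCore

open Subgroup
open Cfsg.Agent.SectRankFour.C2.BTwoBTools Cfsg.Agent.SectRankFour.C2.BTwoBNine

variable {G : Type*} [Group G]

/-- the hypotheses on the action of `P2` for `|R| = 9` -/
structure NineHyp (S Q R : Subgroup G) (z xa xb : G) : Prop where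
  split : Split Q R z xa xb
  SR : ∀ s ∈ S, ∀ x ∈ R, ∃ q0 ∈ Q, ∃ x' ∈ R, s * x * s⁻¹ = q0 * x'
  faith : ∀ s ∈ S, (∀ q ∈ Q, s * q * s⁻¹ = q ∨ s * q * s⁻¹ = q * z) → s ∈ Q
  nonel : ∃ g ∈ S, g * g ∉ Q

namespace Base

variable {S P1 Q R : Subgroup G} {z v t u xa xb : G}

/-- `Q ∩ u Q u⁻¹` -/
def D (Q : Subgroup G) (u : G) : Subgroup G where
  carrier := {a | a ∈ Q ∧ In2 Q u a}
  one_mem' := ⟨one_mem _, by change u⁻¹ * 1 * u ∈ Q; simp⟩
  mul_mem' := fun ha hb => ⟨mul_mem ha.1 hb.1, In2_mul ha.2 hb.2⟩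
  inv_mem' := fun ha => ⟨inv_mem ha.1, In2_inv ha.2⟩

theorem mem_D {a : G} : a ∈ D Q u ↔ a ∈ Q ∧ In2 Q u a := Iff.rfl

theorem D_comm (h : Base S P1 Q z v t u) : ∀ a ∈ D Q u, ∀ b ∈ D Q u, a * b = b * a :=
  fun _ ha _ hb => h.comm_of_both ha.1 ha.2 hb.1 hb.2

theorem V_le_D (h : Base S P1 Q z v t u) : h.V ≤ D Q u := fun _ ha => ⟨h.V_le ha, h.V_In2 ha⟩

/-- an element of `S` lies in `Q1` or in `t Q1` -/
theorem mem_or (h : Base S P1 Q z v t u) {s : G} (hs : s ∈ S) : s ∈ h.Q1 ∨ t⁻¹ * s ∈ h.Q1 := by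
  rcases h.Sv s hs with e | e
  · left
    exact h.mem_Q1.2 ⟨hs, mul_inv_eq_iff_eq_mul.1 e⟩
  · right
    refine h.mem_Q1.2 ⟨mul_mem (inv_mem h.tS) hs, ?_⟩
    have h1 : s * v = v * z * s := mul_inv_eq_iff_eq_mul.1 e
    have h2 : t * v = v * z * t := mul_inv_eq_iff_eq_mul.1 h.tv
    have h3 : t⁻¹ * (v * z) = v * t⁻¹ := by
      calc t⁻¹ * (v * z) = t⁻¹ * (v * z * t) * t⁻¹ := by group
        _ = t⁻¹ * (t * v) * t⁻¹ := by rw [h2]
        _ = v * t⁻¹ := by group
    calc t⁻¹ * s * v = t⁻¹ * (s * v) := by rw [mul_assoc]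
      _ = t⁻¹ * (v * z) * s := by rw [h1]; simp only [mul_assoc]
      _ = v * (t⁻¹ * s) := by rw [h3, mul_assoc]

theorem S_D (h : Base S P1 Q z v t u) {s a : G} (hs : s ∈ S) (ha : a ∈ D Q u) :
    s * a * s⁻¹ ∈ D Q u := by
  have key : ∀ r ∈ h.Q1, r * a * r⁻¹ ∈ D Q u := fun r hr =>
    ⟨h.SQ r (h.mem_Q1.1 hr).1 a ha.1, h.Q1_In2 hr ha.2⟩
  rcases h.mem_or hs with hr | hr
  · exact key s hr
  · have h1 := key _ hr
    have h2 : s * a * s⁻¹ = t * ((t⁻¹ * s) * a * (t⁻¹ * s)⁻¹) * t⁻¹ := by group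
    rw [h2]
    generalize (t⁻¹ * s) * a * (t⁻¹ * s)⁻¹ = b at h1
    rcases h.ex.conj_or h.tQ h1.1 with e | e <;> rw [e]
    · exact h1
    · exact mul_mem h1 (h.V_le_D h.z_mem_V)

/-- **`Q ∩ u Q u⁻¹ = V`** when `|R| = 9`. -/
theorem D_eq_V [Finite G] (h : Base S P1 Q z v t u) (hn : NineHyp S Q R z xa xb) :
    ∀ a ∈ Q, In2 Q u a → a ∈ h.V := by
  by_contra hcon
  push Not at hcon
  obtain ⟨d0, hd0, hd02, hd0V⟩ := hcon
  have hE := h.ex
  have hsp := hn.split
  have hDQ : D Q u ≤ Q := fun a ha => ha.1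
  have hDc : Nat.card (D Q u) = 2 * Nat.card h.V := by
    rw [h.card_V]
    have h1 := hE.card_abelian_le hDQ h.D_comm
    have h2 : Nat.card h.V < Nat.card (D Q u) := by
      by_contra hlt
      have h3 : h.V = D Q u := eq_of_le_of_card_ge h.V_le_D (by omega)
      apply hd0V
      rw [h3]; exact ⟨hd0, hd02⟩
    rw [h.card_V] at h2
    have hdvd : Nat.card (D Q u) ∣ 2 ^ 5 := by
      have := card_dvd_of_le hDQ
      rw [hE.card] at this
      exact this
    obtain ⟨k, hk, hk2⟩ := (Nat.dvd_prime_pow Nat.prime_two).1 hdvd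
    rw [hk2] at h1 h2 ⊢
    have : k = 0 ∨ k = 1 ∨ k = 2 ∨ k = 3 ∨ k = 4 ∨ k = 5 := by omega
    rcases this with rfl | rfl | rfl | rfl | rfl | rfl <;> omega
  -- `D` is self-centralising in `Q`
  have hself : ∀ q ∈ Q, (∀ d ∈ D Q u, q * d = d * q) → q ∈ D Q u := by
    intro q hq hqd
    by_contra hqD
    have hq2 : q * q ∈ D Q u := by
      rcases hE.sq q hq with e | e <;> rw [e]
      · exact one_mem _
      · exact h.V_le_D h.z_mem_V
    have hqn : ∀ a ∈ D Q u, q⁻¹ * a * q ∈ D Q u := by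
      intro a ha
      have : q⁻¹ * a * q = a := by
        rw [mul_assoc, ← hqd a ha]; group
      rw [this]; exact ha
    have h1 := hE.card_abelian_le (A := adjN (D Q u) q hq2 hqn) (adjN_le hDQ hq) ?_
    · rw [card_adjN hqD, hDc, h.card_V] at h1
      norm_num at h1
    · -- commutativity
      have key : ∀ a ∈ adjN (D Q u) q hq2 hqn, ∀ d ∈ D Q u, a * d = d * a := by
        rintro a (ha | ha) d hd
        · exact h.D_comm a ha d hd
        · have c1 : Commute (a * q) d := h.D_comm _ ha d hd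
          have c2 : Commute q d := hqd d hd
          have e : a = (a * q) * q⁻¹ := by group
          rw [e]
          exact (c1.mul_left c2.inv_left).eq
      have key2 : ∀ a ∈ adjN (D Q u) q hq2 hqn, a * q = q * a := by
        rintro a (ha | ha)
        · exact (hqd a ha).symm
        · have c1 : Commute (a * q) q := (hqd _ ha).symm
          have e : a = (a * q) * q⁻¹ := by group
          have c2 : Commute a q := by
            rw [e]
            exact c1.mul_left (Commute.refl q).inv_left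
          exact c2.eq
      rintro a ha b (hb | hb)
      · exact key a ha b hb
      · have c1 : Commute a (b * q) := key a ha _ hb
        have c2 : Commute a q := key2 a ha
        have e : b = (b * q) * q⁻¹ := by group
        rw [e]
        exact (c1.mul_right c2.inv_right).eq
  obtain ⟨g, hg, hgg⟩ := hn.nonel
  apply hgg
  have hnS : g * g ∈ S := mul_mem hg hg
  apply hn.faith _ hnS
  -- `n = g²` normalises `Qa` and `Qb`
  have hcases := hsp.conj_cases (fun q hq => h.SQ g hg q hq) (h.Sz g hg) (hn.SR g hg)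
  have hnab : (∀ q ∈ Nine.C Q xb, (g * g) * q * (g * g)⁻¹ ∈ Nine.C Q xb) ∧
      (∀ q ∈ Nine.C Q xa, (g * g) * q * (g * g)⁻¹ ∈ Nine.C Q xa) := by
    have e : ∀ q : G, (g * g) * q * (g * g)⁻¹ = g * (g * q * g⁻¹) * g⁻¹ := by
      intro q; group
    rcases hcases with ⟨h1, h2⟩ | ⟨h1, h2⟩
    · exact ⟨fun q hq => by rw [e]; exact h1 _ (h1 q hq), fun q hq => by rw [e]; exact h2 _ (h2 q hq)⟩
    · exact ⟨fun q hq => by rw [e]; exact h2 _ (h1 q hq), fun q hq => by rw [e]; exact h1 _ (h2 q hq)⟩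
  -- `n` acts trivially on `D / ⟨z⟩`
  have hgz : ∀ a : G, g * (a * z) * g⁻¹ = g * a * g⁻¹ * z := by
    intro a
    have := h.Sz g hg
    calc g * (a * z) * g⁻¹ = g * a * (z * g⁻¹) := by group
      _ = g * a * (g⁻¹ * (g * z) * g⁻¹) := by group
      _ = g * a * (g⁻¹ * (z * g) * g⁻¹) := by rw [this]
      _ = g * a * g⁻¹ * z := by group
  have hnd : ∀ d ∈ D Q u, (g * g) * d * (g * g)⁻¹ = d ∨ (g * g) * d * (g * g)⁻¹ = d * z := by
    intro d hd
    have e0 : (g * g) * d * (g * g)⁻¹ = g * (g * d * g⁻¹) * g⁻¹ := by group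
    rw [e0]
    by_cases hdV : d ∈ h.V
    · rcases h.SV hg d hdV with e | e
      · rw [e]; exact h.SV hg d hdV
      · rw [e, hgz]
        rcases h.SV hg d hdV with e' | e'
        · right; rw [e']
        · left; rw [e', mul_assoc, hE.z2, mul_one]
    · have h1 := h.S_D hg hd
      have h2 : g * d * g⁻¹ ∉ h.V := by
        intro e
        apply hdV
        have h3 := h.SV_mem (inv_mem hg) _ e
        have h4 : g⁻¹ * (g * d * g⁻¹) * g⁻¹⁻¹ = d := by group
        rwa [h4] at h3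
      have hw := inv_mul_mem_of_card h.V_le_D hDc hd h1 hdV h2
      set w := d⁻¹ * (g * d * g⁻¹) with hwdef
      have h5 : g * d * g⁻¹ = d * w := by rw [hwdef]; group
      have h6 : g * (d * w) * g⁻¹ = d * (w * (g * w * g⁻¹)) := by
        calc g * (d * w) * g⁻¹ = (g * d * g⁻¹) * (g * w * g⁻¹) := by group
          _ = _ := by rw [h5, mul_assoc]
      rw [h5, h6]
      have hw2 := h.V_sq w hw
      rcases h.SV hg w hw with e | e
      · left; rw [e, hw2, mul_one]
      · right; rw [e, ← mul_assoc w, hw2, one_mul]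
  -- `[Q, n] ≤ D`
  have hcomm : ∀ q ∈ Q, (g * g) * q * (g * g)⁻¹ * q⁻¹ ∈ D Q u := by
    intro q hq
    have hnq : (g * g) * q * (g * g)⁻¹ ∈ Q := h.SQ _ hnS q hq
    apply hself _ (mul_mem hnq (inv_mem hq))
    intro d hd
    generalize hp : (g * g) * q * (g * g)⁻¹ = p at hnq
    -- `p` and `q` induce the same on `d`
    have h1 : p * d * p⁻¹ = q * d * q⁻¹ := by
      have h2 : p * ((g * g) * d * (g * g)⁻¹) * p⁻¹ = (g * g) * (q * d * q⁻¹) * (g * g)⁻¹ := by
        rw [← hp]; group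
      have hzz : ∀ a b : G, b ∈ Q → b * (a * z) * b⁻¹ = b * a * b⁻¹ * z := by
        intro a b hb
        have := hE.zc b⁻¹ (inv_mem hb)
        calc b * (a * z) * b⁻¹ = b * a * (z * b⁻¹) := by group
          _ = b * a * (b⁻¹ * z) := by rw [this]
          _ = b * a * b⁻¹ * z := by group
      have hzg : ∀ a : G, (g * g) * (a * z) * (g * g)⁻¹ = (g * g) * a * (g * g)⁻¹ * z := by
        intro a
        have e0 : (g * g) * (a * z) * (g * g)⁻¹ = g * (g * (a * z) * g⁻¹) * g⁻¹ := by group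
        rw [e0, hgz, hgz]; group
      have hcan : ∀ a b : G, a * z = b * z → a = b := fun a b e => mul_right_cancel e
      rcases hnd d hd with e1 | e1 <;> rcases hE.conj_or hq hd.1 with e2 | e2
      · rw [e1, e2, e1] at h2; rw [h2, e2]
      · rw [e1, e2, hzg, e1] at h2; rw [h2, e2]
      · rw [e1, e2, e1, hzz _ _ hnq] at h2
        rw [hcan _ _ h2, e2]
      · rw [e1, e2, hzg, e1, hzz _ _ hnq] at h2
        rw [hcan _ _ h2, e2]
    calc p * q⁻¹ * d = p * (q⁻¹ * d * q) * q⁻¹ := by group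
      _ = p * (p⁻¹ * (p * (q⁻¹ * d * q) * p⁻¹) * p) * q⁻¹ := by group
      _ = d * (p * q⁻¹) := by
        have h3 : p * (q⁻¹ * d * q) = d * p := by
          -- `q⁻¹ d q = p⁻¹ d p`
          have h4 : q⁻¹ * d * q = p⁻¹ * d * p := by
            rcases hE.conj_or hq hd.1 with e2 | e2
            · have e3 := h1.trans e2
              have e4 : q * d = d * q := mul_inv_eq_iff_eq_mul.1 e2
              have e5 : p * d = d * p := mul_inv_eq_iff_eq_mul.1 e3
              calc q⁻¹ * d * q = q⁻¹ * (d * q) := by rw [mul_assoc]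
                _ = p⁻¹ * (p * d) := by rw [← e4]; group
                _ = p⁻¹ * d * p := by rw [e5, mul_assoc]
            · have e3 := h1.trans e2
              have key : ∀ b ∈ Q, b * d * b⁻¹ = d * z → b⁻¹ * d * b = d * z := by
                intro b hb hbe
                have h7 : b * d = d * z * b := mul_inv_eq_iff_eq_mul.1 hbe
                have h8 := hE.zc b hb
                have h9 : d * b = b * d * z := by
                  rw [h7]
                  calc d * b = d * (z * z) * b := by rw [hE.z2, mul_one]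
                    _ = d * z * (z * b) := by simp only [mul_assoc]
                    _ = d * z * b * z := by rw [← h8]; simp only [mul_assoc]
                rw [mul_assoc, h9]; group
              rw [key q hq e2, key p hnq e3]
          rw [h4]; group
        rw [h3]; group
  have hfa : ∀ q ∈ Nine.C Q xb, (g * g) * q * (g * g)⁻¹ = q ∨
      (g * g) * q * (g * g)⁻¹ = q * z := by
    intro q hq
    have hqQ := (Nine.mem_C.1 hq).1
    have h1 := hcomm q hqQ
    have h2 := hsp.sq_eq hE.hZ (mul_mem (hnab.1 q hq) (inv_mem hq)) (h.sq_of_both h1.1 h1.2)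
    rcases h2 with e | e
    · left; exact mul_inv_eq_one.1 e
    · right
      rw [mul_inv_eq_iff_eq_mul.1 e]
      exact (hE.zc q hqQ).symm
  have hfb : ∀ q ∈ Nine.C Q xa, (g * g) * q * (g * g)⁻¹ = q ∨
      (g * g) * q * (g * g)⁻¹ = q * z := by
    intro q hq
    have hqQ := (Nine.mem_C.1 hq).1
    have h1 := hcomm q hqQ
    have h2 := hsp.symm.sq_eq hE.hZ (mul_mem (hnab.2 q hq) (inv_mem hq))
      (h.sq_of_both h1.1 h1.2)
    rcases h2 with e | e
    · left; exact mul_inv_eq_one.1 e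
    · right
      rw [mul_inv_eq_iff_eq_mul.1 e]
      exact (hE.zc q hqQ).symm
  intro q hq
  obtain ⟨a, ha, b, hb, rfl⟩ := hsp.exists_mul hq
  have e0 : (g * g) * (a * b) * (g * g)⁻¹ =
      ((g * g) * a * (g * g)⁻¹) * ((g * g) * b * (g * g)⁻¹) := by group
  rw [e0]
  have hbQ := (Nine.mem_C.1 hb).1
  have hzb := hE.zc b hbQ
  rcases hfa a ha with e1 | e1 <;> rcases hfb b hb with e2 | e2 <;> rw [e1, e2]
  · left; rfl
  · right; rw [mul_assoc]
  · right; rw [mul_assoc, ← hzb, mul_assoc]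
  · left
    calc a * z * (b * z) = a * (z * b) * z := by simp only [mul_assoc]
      _ = a * b * (z * z) := by rw [← hzb]; simp only [mul_assoc]
      _ = a * b := by rw [hE.z2, mul_one]

end Base

end Cfsg.Agent.SectRankFour.C2.BTwoBCore
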