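import Mathlib
import Cfsg.Agent.SectRankFour.C2.BTwoBEight
import Cfsg.Agent.MinSimple.CaseD9
import Cfsg.Agent.MinSimple.VModule

/-!
# S0517, case C2, section (2b): `R` of order 9, the end
-/

set_option autoImplicit false

namespace Cfsg.Agent.SectRankFour.C2.BTwoBCore

open Subgroup
open Cfsg.Agent.SectRankFour.C2.BTwoBTools Cfsg.Agent.SectRankFour.C2.BTwoBNine

variable {G : Type*} [Group G]

namespace Base

variable {S P1 Q R : Subgroup G} {z v t u xa xb : G}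

/-- Lemma K: for `a ∈ D1`, `c = u a u⁻¹`: `t c t⁻¹ ∈ a c V` and `u c u⁻¹ ∈ a c V`. -/
theorem lemK (h : Base S P1 Q z v t u) (hD : ∀ a ∈ Q, In2 Q u a → a ∈ h.V) {a : G}
    (ha : a ∈ Q) (hav : a * v = v * a) :
    (∃ w ∈ h.V, t * (u * a * u⁻¹) * t⁻¹ = a * (u * a * u⁻¹) * w) ∧
    (∃ w ∈ h.V, u * (u * a * u⁻¹) * u⁻¹ = a * (u * a * u⁻¹) * w) := by
  have hE := h.ex
  have haQ1 : a ∈ h.Q1 := h.mem_Q1.2 ⟨h.QS ha, hav⟩
  set c := u * a * u⁻¹ with hc
  have hcQ1 : c ∈ h.Q1 := h.uQ1 haQ1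
  have hc2 : In2 Q u c := by
    change u⁻¹ * c * u ∈ Q
    have : u⁻¹ * c * u = a := by rw [hc]; group
    rw [this]; exact ha
  obtain ⟨q2, hq2, hut⟩ := h.ut
  set t2 := t⁻¹ * u with ht2
  have ht2In : In2 Q u t2 := by
    change u⁻¹ * t2 * u ∈ Q
    have : u⁻¹ * t2 * u = q2 := by rw [hut]; group
    rw [this]; exact hq2
  have hu : u = t * t2 := by rw [ht2]; group
  have ht2P : t2 ∈ P1 := mul_mem (inv_mem (h.SP h.tS)) h.uP
  -- `t2` normalises `Q1`
  have ht2V : ∀ w ∈ h.V, t2 * w * t2⁻¹ ∈ h.V := by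
    intro w hw
    have e : t2 * w * t2⁻¹ = t⁻¹ * (u * w * u⁻¹) * t⁻¹⁻¹ := by rw [ht2]; group
    rw [e]
    exact h.SV_mem (inv_mem h.tS) _ (h.uV w hw)
  have ht2V' : ∀ w ∈ h.V, t2⁻¹ * w * t2 ∈ h.V := by
    intro w hw
    apply h.uV'
    have e : u * (t2⁻¹ * w * t2) * u⁻¹ = t * w * t⁻¹ := by rw [hu]; group
    rw [e]
    exact h.SV_mem h.tS w hw
  have ht2Q1 : ∀ x ∈ h.Q1, t2 * x * t2⁻¹ ∈ h.Q1 := fun x hx => h.conj_Q1 ht2P ht2V' hx
  -- `c' = [t2, a]`
  set c' := t2 * a * t2⁻¹ * a⁻¹ with hc'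
  have hc'Q1 : c' ∈ h.Q1 := mul_mem (ht2Q1 a haQ1) (inv_mem haQ1)
  have hc'2 : In2 Q u c' := by
    have e : c' = t2 * (a * t2⁻¹ * a⁻¹) := by rw [hc']; group
    rw [e]
    exact In2_mul ht2In (h.Q1_In2 haQ1 (In2_inv ht2In))
  -- `b' = [t, c']`
  set b' := t * c' * t⁻¹ * c'⁻¹ with hb'
  have hb'Q1 : b' ∈ h.Q1 := mul_mem (h.SQ1 h.tS hc'Q1) (inv_mem hc'Q1)
  have hb'Q : b' ∈ Q := by
    have e : b' = t * (c' * t⁻¹ * c'⁻¹) := by rw [hb']; group
    rw [e]
    exact mul_mem h.tQ (h.SQ c' (h.mem_Q1.1 hc'Q1).1 _ (inv_mem h.tQ))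
  -- `c = b' c' a w`
  obtain ⟨w, hw, hta⟩ : ∃ w ∈ h.V, t * a * t⁻¹ = a * w := by
    rcases hE.conj_or h.tQ ha with e | e
    · exact ⟨1, one_mem _, by rw [e, mul_one]⟩
    · exact ⟨z, h.z_mem_V, e⟩
  have e1 : c = b' * c' * a * w := by
    have e2 : t2 * a * t2⁻¹ = c' * a := by rw [hc']; group
    have e3 : t * c' * t⁻¹ = b' * c' := by rw [hb']; group
    calc c = t * (t2 * a * t2⁻¹) * t⁻¹ := by rw [hc, hu]; group
      _ = (t * c' * t⁻¹) * (t * a * t⁻¹) := by rw [e2]; group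
      _ = b' * c' * (a * w) := by rw [e3, hta]
      _ = _ := by simp only [mul_assoc]
  -- `[c', a] ∈ V`
  have hcomV : ∀ x y : G, x ∈ h.Q1 → In2 Q u x → y ∈ h.Q1 → y ∈ Q →
      ∃ w ∈ h.V, x * y = y * x * w := by
    intro x y hx hx2 hy hyQ
    refine ⟨x⁻¹ * y⁻¹ * x * y, ?_, by group⟩
    apply hD
    · have e : x⁻¹ * y⁻¹ * x * y = (x⁻¹ * y⁻¹ * x⁻¹⁻¹) * y := by group
      rw [e]
      exact mul_mem (h.SQ _ (inv_mem (h.mem_Q1.1 hx).1) _ (inv_mem hyQ)) hyQ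
    · have e : x⁻¹ * y⁻¹ * x * y = x⁻¹ * (y⁻¹ * x * y⁻¹⁻¹) := by group
      rw [e]
      exact In2_mul (In2_inv hx2) (h.Q1_In2 (inv_mem hy) hx2)
  obtain ⟨w2, hw2, e2⟩ := hcomV c' a hc'Q1 hc'2 haQ1 ha
  have cen : ∀ x ∈ h.Q1, ∀ w ∈ h.V, x * w = w * x := fun x hx w hw => h.V_central hx hw
  have hVQ1 : ∀ w ∈ h.V, w ∈ h.Q1 := fun w hw => h.V_le_Q1 hw
  -- `b' a = c c'⁻¹ w⁻¹ w2⁻¹ ∈ V`
  have hba : b' * a ∈ h.V := by
    have e3 : b' * a = c * (w⁻¹ * w2⁻¹) * c'⁻¹ := by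
      have e4 : c = b' * a * c' * (w2 * w) := by
        rw [e1]
        calc b' * c' * a * w = b' * (c' * a) * w := by simp only [mul_assoc]
          _ = b' * a * c' * (w2 * w) := by rw [e2]; simp only [mul_assoc]
      rw [e4]
      have e5 : c' * (w2 * w * (w⁻¹ * w2⁻¹)) * c'⁻¹ = 1 := by group
      calc b' * a = b' * a * (c' * (w2 * w * (w⁻¹ * w2⁻¹)) * c'⁻¹) := by rw [e5, mul_one]
        _ = _ := by group
    apply hD
    · exact mul_mem hb'Q ha
    · rw [e3]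
      exact In2_mul (In2_mul hc2 (h.V_In2 (mul_mem (inv_mem hw) (inv_mem hw2)))) (In2_inv hc'2)
  -- conclusions
  have haa : a * a ∈ h.V := by
    rcases hE.sq a ha with e | e <;> rw [e]
    · exact one_mem _
    · exact h.z_mem_V
  -- `b' = a w3`
  obtain ⟨w3, hw3, hb3⟩ : ∃ w3 ∈ h.V, b' = a * w3 := by
    refine ⟨a⁻¹ * b', ?_, by group⟩
    have e : a⁻¹ * b' = a⁻¹ * (b' * a) * a * (a * a)⁻¹ := by group
    have e' : a⁻¹ * (b' * a) * a = b' * a := by
      rw [mul_assoc, ← cen a haQ1 _ hba]; group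
    rw [e, e']
    exact mul_mem hba (inv_mem haa)
  -- `c' = c w4`
  obtain ⟨w4, hw4, hc4⟩ : ∃ w4 ∈ h.V, c' = c * w4 := by
    have e4 : c = (b' * a) * c' * (w2 * w) := by
      rw [e1]
      calc b' * c' * a * w = b' * (c' * a) * w := by simp only [mul_assoc]
        _ = (b' * a) * c' * (w2 * w) := by rw [e2]; simp only [mul_assoc]
    refine ⟨c⁻¹ * c', ?_, by group⟩
    have e5 : c = c' * ((b' * a) * (w2 * w)) := by
      calc c = (b' * a) * c' * (w2 * w) := e4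
        _ = c' * (b' * a) * (w2 * w) := by rw [cen c' hc'Q1 _ hba]
        _ = _ := by rw [mul_assoc]
    have e6 : c⁻¹ * c' = ((b' * a) * (w2 * w))⁻¹ := by
      rw [e5]; group
    rw [e6]
    exact inv_mem (mul_mem hba (mul_mem hw2 hw))
  have K1 : ∃ w ∈ h.V, t * c * t⁻¹ = a * c * w := by
    have e5 : t * c' * t⁻¹ = b' * c' := by rw [hb']; group
    have e6 : t * c * t⁻¹ = (t * c' * t⁻¹) * (t * w4⁻¹ * t⁻¹) := by
      rw [hc4]; group
    refine ⟨w3 * w4 * (t * w4⁻¹ * t⁻¹), mul_mem (mul_mem hw3 hw4)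
      (h.SV_mem h.tS _ (inv_mem hw4)), ?_⟩
    rw [e6, e5, hb3, hc4]
    have e7 : c * w3 = w3 * c := cen c hcQ1 w3 hw3
    calc a * w3 * (c * w4) * (t * w4⁻¹ * t⁻¹) = a * (w3 * c) * w4 * (t * w4⁻¹ * t⁻¹) := by
          simp only [mul_assoc]
      _ = a * (c * w3) * w4 * (t * w4⁻¹ * t⁻¹) := by rw [e7]
      _ = _ := by simp only [mul_assoc]
  refine ⟨K1, ?_⟩
  obtain ⟨w5, hw5, hK1⟩ := K1
  have e7 : u * c * u⁻¹ = t * (t2 * c * t2⁻¹) * t⁻¹ := by
    conv_lhs => rw [hu]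
    group
  rw [e7]
  rcases h.In2_conj_or ht2In hc2 with e | e
  · rw [e]; exact ⟨w5, hw5, hK1⟩
  · rw [e]
    refine ⟨w5 * (t * v * t⁻¹), mul_mem hw5 (h.SV_mem h.tS v h.v_mem_V), ?_⟩
    calc t * (c * v) * t⁻¹ = (t * c * t⁻¹) * (t * v * t⁻¹) := by group
      _ = _ := by rw [hK1]; simp only [mul_assoc]

/-- existence of the involution `a ∈ D1 ∖ V` -/
theorem exists_a [Finite G] (h : Base S P1 Q z v t u) (hn : NineHyp S Q R z xa xb) :
    ∃ a ∈ Q, a * v = v * a ∧ a * a = 1 ∧ a ∉ h.V := by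
  have hE := h.ex
  have hsp := hn.split
  have mQ : ∀ {x q : G}, q ∈ Nine.C Q x → q ∈ Q := fun hq => (Nine.mem_C.1 hq).1
  have hza : z ∈ Nine.C Q xb := hsp.nine.z_mem_C hsp.xb_mem
  have hzb : z ∈ Nine.C Q xa := hsp.nine.z_mem_C hsp.xa_mem
  obtain ⟨α, hα, β, hβ, hv⟩ := hsp.exists_mul h.vQ
  have hvne : ¬ (v = 1 ∨ v = z) := by
    rintro (e | e)
    · exact h.v1 e
    · exact h.vz e
  have hα0 : ¬ (α = 1 ∨ α = z) := by
    intro e
    apply hvne
    have hvb : v ∈ Nine.C Q xa := by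
      rw [hv]
      rcases e with e | e <;> rw [e]
      · rw [one_mul]; exact hβ
      · exact mul_mem hzb hβ
    exact hsp.symm.sq_eq hE.hZ hvb h.v2
  have hβ0 : ¬ (β = 1 ∨ β = z) := by
    intro e
    apply hvne
    have hva : v ∈ Nine.C Q xb := by
      rw [hv]
      rcases e with e | e <;> rw [e]
      · rw [mul_one]; exact hα
      · exact mul_mem hα hza
    exact hsp.sq_eq hE.hZ hva h.v2
  -- `j`, `j'`
  have hj : ∃ j ∈ Nine.C Q xb, j * α ≠ α * j := by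
    by_contra hcon
    push Not at hcon
    apply hα0
    apply hE.hZ α (mQ hα)
    intro c hc
    obtain ⟨p, hp, q, hq, rfl⟩ := hsp.exists_mul hc
    have c1 : Commute α p := (hcon p hp).symm
    have c2 : Commute α q := hsp.commute hα hq
    exact (c1.mul_right c2).eq
  have hj' : ∃ j ∈ Nine.C Q xa, j * β ≠ β * j := by
    by_contra hcon
    push Not at hcon
    apply hβ0
    apply hE.hZ β (mQ hβ)
    intro c hc
    obtain ⟨p, hp, q, hq, rfl⟩ := hsp.exists_mul hc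
    have c1 : Commute β p := (hsp.commute hp hβ).symm
    have c2 : Commute β q := (hcon q hq).symm
    exact (c1.mul_right c2).eq
  obtain ⟨j, hj, hjα⟩ := hj
  obtain ⟨k, hk, hkβ⟩ := hj'
  have e1 := (hE.com j (mQ hj) α (mQ hα)).resolve_left hjα
  have e2 := (hE.com k (mQ hk) β (mQ hβ)).resolve_left hkβ
  have cjk : j * k = k * j := hsp.commute hj hk
  have cαk : α * k = k * α := hsp.commute hα hk
  have cjβ : j * β = β * j := hsp.commute hj hβ
  have czj := hE.zc j (mQ hj)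
  have czk := hE.zc k (mQ hk)
  have czβ := hE.zc β (mQ hβ)
  have hj0 : ¬ (j = 1 ∨ j = z) := by
    rintro (e | e)
    · apply hjα; rw [e, one_mul, mul_one]
    · apply hjα; rw [e, hE.zc α (mQ hα)]
  have hk0 : ¬ (k = 1 ∨ k = z) := by
    rintro (e | e)
    · apply hkβ; rw [e, one_mul, mul_one]
    · apply hkβ; rw [e, czβ]
  have hj2 : j * j = z := (hE.sq j (mQ hj)).resolve_left fun e => hj0 (hsp.sq_eq hE.hZ hj e)
  have hk2 : k * k = z := (hE.sq k (mQ hk)).resolve_left fun e => hk0 (hsp.symm.sq_eq hE.hZ hk e)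
  refine ⟨j * k, mul_mem (mQ hj) (mQ hk), ?_, ?_, ?_⟩
  · rw [hv]
    calc j * k * (α * β) = j * (k * α) * β := by simp only [mul_assoc]
      _ = (j * α) * (k * β) := by rw [← cαk]; simp only [mul_assoc]
      _ = α * j * (z * β) * (k * z) := by rw [e1, e2]; simp only [mul_assoc]
      _ = α * (j * β) * (z * (k * z)) := by rw [← czβ]; simp only [mul_assoc]
      _ = α * β * j * ((z * z) * k) := by rw [cjβ, czk]; simp only [mul_assoc]
      _ = α * β * (j * k) := by rw [hE.z2, one_mul, mul_assoc]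
  · calc j * k * (j * k) = j * (k * j) * k := by simp only [mul_assoc]
      _ = (j * j) * (k * k) := by rw [← cjk]; simp only [mul_assoc]
      _ = 1 := by rw [hj2, hk2, hE.z2]
  · -- `j k ∉ V`
    intro hV
    -- a decomposition argument
    have key : ∀ p ∈ Nine.C Q xb, ∀ q ∈ Nine.C Q xa, j * k = p * q → p⁻¹ * j = 1 ∨ p⁻¹ * j = z := by
      intro p hp q hq e
      have e3 : p⁻¹ * j = q * k⁻¹ := by
        calc p⁻¹ * j = p⁻¹ * (j * k) * k⁻¹ := by group
          _ = q * k⁻¹ := by rw [e]; group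
      apply hsp.inf _ (mul_mem (inv_mem hp) hj)
      rw [e3]
      exact mul_mem hq (inv_mem hk)
    have key2 : ¬ (α⁻¹ * j = 1 ∨ α⁻¹ * j = z) := by
      rintro (e | e)
      · apply hjα; rw [(inv_mul_eq_one.1 e).symm]
      · apply hjα
        rw [inv_mul_eq_iff_eq_mul.1 e]
        have := hE.zc α (mQ hα)
        calc α * z * α = α * (z * α) := mul_assoc _ _ _
          _ = α * (α * z) := by rw [this]
    rcases h.mem_V.1 hV with e | e | e | e
    · rcases key 1 (one_mem _) 1 (one_mem _) (by rw [e, one_mul]) with e' | e'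
      · exact hj0 (Or.inl (by rw [← e']; group))
      · exact hj0 (Or.inr (by rw [← e']; group))
    · rcases key 1 (one_mem _) z hzb (by rw [e, one_mul]) with e' | e'
      · exact hj0 (Or.inl (by rw [← e']; group))
      · exact hj0 (Or.inr (by rw [← e']; group))
    · exact key2 (key α hα β hβ (by rw [e, hv]))
    · exact key2 (key α hα (β * z) (mul_mem hβ hzb) (by rw [e, hv, mul_assoc]))


open scoped Pointwise in
/-- **`R` of order 9 is impossible.** -/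
theorem false_of_nine [Finite G] (h : Base S P1 Q z v t u) (hn : NineHyp S Q R z xa xb)
    (hloc : ∀ U : Subgroup G, IsPGroup 2 U → U ≠ ⊥ →
      Group.IsSolvable (normalizer (U : Set G))) : False := by
  have hE := h.ex
  have hsp := hn.split
  have hN := hsp.nine
  have hD := h.D_eq_V hn
  have mQ : ∀ {x q : G}, q ∈ Nine.C Q x → q ∈ Q := fun hq => (Nine.mem_C.1 hq).1
  obtain ⟨a, ha, hav, ha2, haV⟩ := h.exists_a hn
  have haQ1 : a ∈ h.Q1 := h.mem_Q1.2 ⟨h.QS ha, hav⟩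
  obtain ⟨⟨w1, hw1, K1⟩, ⟨w2, hw2, K2⟩⟩ := h.lemK hD ha hav
  set f := u * a * u⁻¹ with hf
  have hfQ1 : f ∈ h.Q1 := h.uQ1 haQ1
  have hfS : f ∈ S := (h.mem_Q1.1 hfQ1).1
  have hf2 : f * f = 1 := by
    have : f * f = u * (a * a) * u⁻¹ := by rw [hf]; group
    rw [this, ha2]; group
  have hfI : In2 Q u f := by
    change u⁻¹ * f * u ∈ Q
    have : u⁻¹ * f * u = a := by rw [hf]; group
    rw [this]; exact ha
  have hfQ : f ∉ Q := by
    intro e
    exact haV (h.uV' (hD f e hfI))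
  have cen : ∀ x ∈ h.Q1, ∀ w ∈ h.V, x * w = w * x := fun x hx w hw => h.V_central hx hw
  -- `a` and `f` commute
  have haf : a * f = f * a := by
    have h1 : (a * f * w2) * (a * f * w2) = 1 := by
      rw [← K2]
      have : u * f * u⁻¹ * (u * f * u⁻¹) = u * (f * f) * u⁻¹ := by group
      rw [this, hf2]; group
    have h2 : (a * f * w2) * (a * f * w2) = (a * f) * (a * f) := by
      have c := cen (a * f) (mul_mem haQ1 hfQ1) w2 hw2
      calc (a * f * w2) * (a * f * w2) = a * f * (w2 * (a * f)) * w2 := by simp only [mul_assoc]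
        _ = a * f * ((a * f) * w2) * w2 := by rw [c]
        _ = (a * f) * (a * f) * (w2 * w2) := by simp only [mul_assoc]
        _ = (a * f) * (a * f) := by rw [h.V_sq w2 hw2, mul_one]
    rw [h2] at h1
    have h3 : (a * f)⁻¹ = a * f := inv_eq_of_mul_eq_one_left h1
    rw [← h3, mul_inv_rev, inv_eq_of_mul_eq_one_left ha2, inv_eq_of_mul_eq_one_left hf2]
  -- `X`, `F`
  have hXn : ∀ b ∈ h.V, a⁻¹ * b * a ∈ h.V := by
    intro b hb
    have : a⁻¹ * b * a = b := by rw [mul_assoc, ← cen a haQ1 b hb]; group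
    rw [this]; exact hb
  set X := adjN h.V a (by rw [ha2]; exact one_mem _) hXn with hX
  have hXQ : X ≤ Q := adjN_le h.V_le ha
  have hVX : h.V ≤ X := le_adjN
  have haX : a ∈ X := self_mem_adjN
  have hXQ1 : X ≤ h.Q1 := adjN_le h.V_le_Q1 haQ1
  have hXf : ∀ b ∈ X, f * b = b * f := by
    rintro b (hb | hb)
    · exact cen f hfQ1 b hb
    · have c1 : Commute f (b * a) := cen f hfQ1 _ hb
      have c2 : Commute f a := haf.symm
      have e : b = (b * a) * a⁻¹ := by group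
      rw [e]
      exact (c1.mul_right c2.inv_right).eq
  have hXsq : ∀ b ∈ X, b * b = 1 := by
    rintro b (hb | hb)
    · exact h.V_sq b hb
    · have hb' := h.V_sq _ hb
      have c2 : a * (b * a) = (b * a) * a := cen a haQ1 _ hb
      have c3 : b = (b * a) * a⁻¹ := by group
      have c4 : a⁻¹ = a := inv_eq_of_mul_eq_one_left ha2
      rw [c4] at c3
      rw [c3]
      calc (b * a) * a * ((b * a) * a) = (b * a) * (a * (b * a)) * a := by simp only [mul_assoc]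
        _ = ((b * a) * (b * a)) * (a * a) := by rw [c2]; simp only [mul_assoc]
        _ = 1 := by rw [hb', ha2, one_mul]
  have hXc : Nat.card X = 8 := by
    rw [hX, card_adjN haV, h.card_V]
  have hFn : ∀ b ∈ X, f⁻¹ * b * f ∈ X := by
    intro b hb
    have : f⁻¹ * b * f = b := by rw [mul_assoc, ← hXf b hb]; group
    rw [this]; exact hb
  set F := adjN X f (by rw [hf2]; exact one_mem _) hFn with hF
  have hXF : X ≤ F := le_adjN
  have hfF : f ∈ F := self_mem_adjN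
  have hVF : h.V ≤ F := hVX.trans hXF
  have haF : a ∈ F := hXF haX
  have hFQ : ∀ b ∈ F, b ∈ Q → b ∈ X := by
    rintro b (hb | hb) hbQ
    · exact hb
    · exfalso
      apply hfQ
      have := mul_mem (inv_mem hbQ) (hXQ hb)
      rwa [inv_mul_cancel_left] at this
  have hFS : F ≤ S := adjN_le (hXQ.trans h.QS) hfS
  -- normaliser membership
  have hmemJ : ∀ g : G, (∀ b ∈ h.V, g * b * g⁻¹ ∈ F) → g * a * g⁻¹ ∈ F → g * f * g⁻¹ ∈ F →
      g ∈ normalizer (F : Set G) := by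
    intro g h1 h2 h3
    apply Cfsg.Agent.MinSimple.VModule.mem_normalizer_of_map_le
    have hX' : ∀ b ∈ X, g * b * g⁻¹ ∈ F := by
      rintro b (hb | hb)
      · exact h1 b hb
      · have e : g * b * g⁻¹ = (g * (b * a) * g⁻¹) * (g * a * g⁻¹)⁻¹ := by group
        rw [e]
        exact mul_mem (h1 _ hb) (inv_mem h2)
    rintro _ ⟨b, hb, rfl⟩
    change g * b * g⁻¹ ∈ F
    rcases hb with hb | hb
    · exact hX' b hb
    · have e : g * b * g⁻¹ = (g * (b * f) * g⁻¹) * (g * f * g⁻¹)⁻¹ := by group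
      rw [e]
      exact mul_mem (hX' _ hb) (inv_mem h3)
  have hJmem : ∀ {g b : G}, g ∈ normalizer (F : Set G) → b ∈ F → g * b * g⁻¹ ∈ F := by
    intro g b hg hb
    exact (mem_normalizer_iff.1 hg b).1 hb
  -- `Q ∩ Q1 ≤ N(F)`
  have hD1 : ∀ r ∈ Q, r ∈ h.Q1 → r * f * r⁻¹ * f⁻¹ ∈ h.V := by
    intro r hr hrQ1
    apply hD
    · have e : r * f * r⁻¹ * f⁻¹ = r * (f * r⁻¹ * f⁻¹) := by group
      rw [e]
      exact mul_mem hr (h.SQ f hfS _ (inv_mem hr))
    · exact In2_mul (h.Q1_In2 hrQ1 hfI) (In2_inv hfI)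
  have hQ1J : ∀ r ∈ Q, r ∈ h.Q1 → r * f * r⁻¹ ∈ F := by
    intro r hr hrQ1
    have e : r * f * r⁻¹ = (r * f * r⁻¹ * f⁻¹) * f := by group
    rw [e]
    exact mul_mem (hVF (hD1 r hr hrQ1)) hfF
  have htf : t * f * t⁻¹ ∈ F := by
    rw [K1]
    exact mul_mem (mul_mem haF hfF) (hVF hw1)
  have hQaF : ∀ r ∈ Q, r * a * r⁻¹ ∈ F := by
    intro r hr
    rcases hE.conj_or hr ha with e | e <;> rw [e]
    · exact haF
    · exact mul_mem haF (hVF h.z_mem_V)
  have htJ : t ∈ normalizer (F : Set G) :=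
    hmemJ t (fun b hb => hVF (h.SV_mem h.tS b hb)) (hQaF t h.tQ) htf
  have hQJ : ∀ q ∈ Q, q ∈ normalizer (F : Set G) := by
    intro q hq
    rcases h.mem_or (h.QS hq) with hr | hr
    · exact hmemJ q (fun b hb => hVF (h.SV_mem (h.QS hq) b hb)) (hQaF q hq) (hQ1J q hq hr)
    · have hrQ : t⁻¹ * q ∈ Q := mul_mem (inv_mem h.tQ) hq
      have h1 : t⁻¹ * q ∈ normalizer (F : Set G) :=
        hmemJ _ (fun b hb => hVF (h.SV_mem (h.QS hrQ) b hb)) (hQaF _ hrQ) (hQ1J _ hrQ hr)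
      have e : q = t * (t⁻¹ * q) := by group
      rw [e]
      exact mul_mem htJ h1
  have huJ : u ∈ normalizer (F : Set G) := by
    refine hmemJ u (fun b hb => hVF (h.uV b hb)) hfF ?_
    rw [K2]
    exact mul_mem (mul_mem haF hfF) (hVF hw2)
  -- `f` swaps `Qa` and `Qb`
  have hfz : f * z = z * f := h.Sz f hfS
  have hswap := hsp.conj_cases (fun q hq => h.SQ f hfS q hq) hfz (hn.SR f hfS)
  have hffa : ∀ q ∈ Nine.C Q xb, f * q * f⁻¹ ∈ Nine.C Q xa := by
    rcases hswap with ⟨h1, h2⟩ | ⟨h1, _⟩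
    swap
    · exact h1
    exfalso
    apply hfQ
    apply hn.faith f hfS
    have hcomX : ∀ q ∈ Q, f * q * f⁻¹ * q⁻¹ ∈ X := by
      intro q hq
      apply hFQ
      · have e : f * q * f⁻¹ * q⁻¹ = f * (q * f⁻¹ * q⁻¹) := by group
        rw [e]
        exact mul_mem hfF (hJmem (hQJ q hq) (inv_mem hfF))
      · exact mul_mem (h.SQ f hfS q hq) (inv_mem hq)
    have hfa : ∀ q ∈ Nine.C Q xb, f * q * f⁻¹ = q ∨ f * q * f⁻¹ = q * z := by
      intro q hq
      have hqQ := mQ hq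
      rcases hsp.sq_eq hE.hZ (mul_mem (h1 q hq) (inv_mem hq)) (hXsq _ (hcomX q hqQ)) with e | e
      · left; exact mul_inv_eq_one.1 e
      · right
        rw [mul_inv_eq_iff_eq_mul.1 e]
        exact (hE.zc q hqQ).symm
    have hfb : ∀ q ∈ Nine.C Q xa, f * q * f⁻¹ = q ∨ f * q * f⁻¹ = q * z := by
      intro q hq
      have hqQ := mQ hq
      rcases hsp.symm.sq_eq hE.hZ (mul_mem (h2 q hq) (inv_mem hq)) (hXsq _ (hcomX q hqQ)) with e | e
      · left; exact mul_inv_eq_one.1 e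
      · right
        rw [mul_inv_eq_iff_eq_mul.1 e]
        exact (hE.zc q hqQ).symm
    intro q hq
    obtain ⟨α, hα, β, hβ, rfl⟩ := hsp.exists_mul hq
    have e0 : f * (α * β) * f⁻¹ = (f * α * f⁻¹) * (f * β * f⁻¹) := by group
    rw [e0]
    have hzb := hE.zc β (mQ hβ)
    rcases hfa α hα with e1 | e1 <;> rcases hfb β hβ with e2 | e2 <;> rw [e1, e2]
    · left; rfl
    · right; rw [mul_assoc]
    · right; rw [mul_assoc, ← hzb, mul_assoc]
    · left
      calc α * z * (β * z) = α * (z * β) * z := by simp only [mul_assoc]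
        _ = α * β * (z * z) := by rw [← hzb]; simp only [mul_assoc]
        _ = α * β := by rw [hE.z2, mul_one]
  have hffb : ∀ q ∈ Nine.C Q xa, f * q * f⁻¹ ∈ Nine.C Q xb := by
    rcases hswap with ⟨h1, _⟩ | ⟨_, h2⟩
    swap
    · exact h2
    -- `f` normalises `Qa` and maps it into `Qb`: impossible
    exfalso
    have h8 : Nat.card (Nine.C Q xb) ≤ 2 := by
      rw [← h.card_zpowers_z]
      have hle : (Nine.C Q xb).map (MulAut.conj f).toMonoidHom ≤ zpowers z := by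
        rintro _ ⟨q, hq, rfl⟩
        rw [h.mem_zpowers_z]
        exact hsp.inf _ (h1 q hq) (hffa q hq)
      have h9 := card_le_of_le hle
      have h10 : Nat.card ((Nine.C Q xb).map (MulAut.conj f).toMonoidHom : Subgroup G) =
          Nat.card (Nine.C Q xb) :=
        (Nat.card_congr ((Nine.C Q xb).equivMapOfInjective _
          (MulAut.conj f).injective).toEquiv).symm
      rwa [h10] at h9
    rw [hsp.carda] at h8
    norm_num at h8
  have hffinv : ∀ q ∈ Nine.C Q xb, f⁻¹ * q * f ∈ Nine.C Q xa := by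
    intro q hq
    have hfi : f⁻¹ = f := inv_eq_of_mul_eq_one_left hf2
    have := hffa q hq
    rw [hfi] at this ⊢
    exact this
  -- `X = {q ∈ Q : f q f⁻¹ ∈ q ⟨z⟩}`
  have hinvQ : ∀ q ∈ Q, (f * q * f⁻¹ = q ∨ f * q * f⁻¹ = q * z) → q ∈ X := by
    let X' : Subgroup G :=
      { carrier := {q | q ∈ Q ∧ (f * q * f⁻¹ = q ∨ f * q * f⁻¹ = q * z)}
        one_mem' := ⟨one_mem _, Or.inl (by group)⟩
        mul_mem' := by
          rintro p q ⟨hp, hp'⟩ ⟨hq, hq'⟩
          refine ⟨mul_mem hp hq, ?_⟩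
          have e0 : f * (p * q) * f⁻¹ = (f * p * f⁻¹) * (f * q * f⁻¹) := by group
          rw [e0]
          have hzq := hE.zc q hq
          rcases hp' with e1 | e1 <;> rcases hq' with e2 | e2 <;> rw [e1, e2]
          · left; rfl
          · right; rw [mul_assoc]
          · right; rw [mul_assoc, ← hzq, mul_assoc]
          · left
            calc p * z * (q * z) = p * (z * q) * z := by simp only [mul_assoc]
              _ = p * q * (z * z) := by rw [← hzq]; simp only [mul_assoc]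
              _ = p * q := by rw [hE.z2, mul_one]
        inv_mem' := by
          rintro q ⟨hq, hq'⟩
          refine ⟨inv_mem hq, ?_⟩
          have e0 : f * q⁻¹ * f⁻¹ = (f * q * f⁻¹)⁻¹ := by group
          rw [e0]
          rcases hq' with e1 | e1 <;> rw [e1]
          · left; rfl
          · right
            rw [mul_inv_rev, inv_eq_of_mul_eq_one_left hE.z2]
            exact (hE.zc _ (inv_mem hq)).symm }
    have hXX' : X ≤ X' := by
      intro q hq
      refine ⟨hXQ hq, Or.inl ?_⟩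
      rw [hXf q hq, mul_inv_cancel_right]
    have hX'Q : X' ≤ Q := fun q hq => hq.1
    have h1 := Cfsg.Agent.Lib.ProductSet.card_mul_card_inf X' (Nine.C Q xb)
    have h2 : Nat.card (X' ⊓ Nine.C Q xb : Subgroup G) ≤ 2 := by
      rw [← h.card_zpowers_z]
      apply card_le_of_le
      intro q hq
      obtain ⟨hq1, hq2⟩ := mem_inf.1 hq
      rw [h.mem_zpowers_z]
      apply hsp.inf q hq2
      have h3 := hffa q hq2
      rcases hq1.2 with e | e
      · rwa [e] at h3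
      · rw [e] at h3
        have h4 := mul_mem h3 (hN.z_mem_C hsp.xa_mem)
        rwa [mul_assoc, hE.z2, mul_one] at h4
    have h3 : Nat.card ((X' : Set G) * (Nine.C Q xb : Set G) : Set G) ≤ 32 := by
      rw [← hE.card]
      apply Nat.card_mono (Set.toFinite (Q : Set G))
      rintro _ ⟨p, hp, q, hq, rfl⟩
      exact mul_mem (hX'Q hp) (mQ hq)
    rw [hsp.carda] at h1
    have h4 : Nat.card X' ≤ 8 := by
      have h5 : Nat.card ((X' : Set G) * (Nine.C Q xb : Set G) : Set G) *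
        Nat.card (X' ⊓ Nine.C Q xb : Subgroup G) ≤ 32 * 2 := Nat.mul_le_mul h3 h2
      omega
    have h5 : X = X' := eq_of_le_of_card_ge hXX' (by rw [hXc]; exact h4)
    intro q hq hq'
    rw [h5]
    exact ⟨hq, hq'⟩
  have hXinv : ∀ q ∈ X, f * q * f⁻¹ = q := by
    intro q hq
    rw [hXf q hq, mul_inv_cancel_right]
  -- `δ`
  obtain ⟨q1, hq1, x', hx', hfx⟩ := hn.SR f hfS xa hsp.xa_mem
  have hRQ' : ∀ r ∈ R, ∀ q ∈ Q, r⁻¹ * q * r ∈ Q := by
    intro r hr q hq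
    have := hN.RQ r⁻¹ (inv_mem hr) q hq
    rwa [inv_inv] at this
  set y := f * xa * f⁻¹ with hy
  have hffy : f * y * f⁻¹ = xa := by
    have e : f * y * f⁻¹ = (f * f) * xa * (f * f)⁻¹ := by rw [hy]; group
    rw [e, hf2]; group
  set δ := xa * y with hδ
  have hδa : ∀ q ∈ Nine.C Q xb, δ * q * δ⁻¹ = xa * q * xa⁻¹ := by
    intro q hq
    have h1 := (Nine.mem_C.1 (hffinv q hq)).2
    have h2 : y * q = q * y := by
      calc y * q = f * (xa * (f⁻¹ * q * f)) * f⁻¹ := by rw [hy]; group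
        _ = f * ((f⁻¹ * q * f) * xa) * f⁻¹ := by rw [h1]
        _ = q * y := by rw [hy]; group
    calc δ * q * δ⁻¹ = xa * (y * q) * y⁻¹ * xa⁻¹ := by rw [hδ]; group
      _ = xa * q * xa⁻¹ := by rw [h2]; group
  have hyz : y * z = z * y := by
    have c1 : Commute f z := hfz
    have c2 : Commute xa z := hN.Rz xa hsp.xa_mem
    exact ((c1.mul_left c2).mul_left c1.inv_left).eq
  have hδz : δ * z = z * δ := by
    have c1 : Commute xa z := hN.Rz xa hsp.xa_mem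
    have c2 : Commute y z := hyz
    exact (c1.mul_left c2).eq
  set q0 := δ⁻¹ * (f * δ * f⁻¹) with hq0
  have hfδ : f * δ * f⁻¹ = δ * q0 := by rw [hq0]; group
  have hfδ' : f * δ * f⁻¹ = y * xa := by
    calc f * δ * f⁻¹ = (f * xa * f⁻¹) * (f * y * f⁻¹) := by rw [hδ]; group
      _ = y * xa := by rw [hffy]
  have hq0Q : q0 ∈ Q := by
    have hc := hN.commR x' hx' xa hsp.xa_mem
    have e : q0 = x'⁻¹ * (q1⁻¹ * (xa⁻¹ * q1 * xa)) * x' := by
      rw [hq0, hfδ', hδ, hfx]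
      calc (xa * (q1 * x'))⁻¹ * (q1 * x' * xa) = x'⁻¹ * q1⁻¹ * xa⁻¹ * q1 * (x' * xa) := by group
        _ = x'⁻¹ * q1⁻¹ * xa⁻¹ * q1 * (xa * x') := by rw [hc]
        _ = _ := by group
    rw [e]
    exact hRQ' x' hx' _ (mul_mem (inv_mem hq1) (hRQ' xa hsp.xa_mem _ hq1))
  have hδQ : ∀ q ∈ Q, δ * q * δ⁻¹ ∈ Q := by
    intro q hq
    have h1 : y * q * y⁻¹ ∈ Q := by
      rw [hfx]
      have e : q1 * x' * q * (q1 * x')⁻¹ = q1 * (x' * q * x'⁻¹) * q1⁻¹ := by group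
      rw [e]
      exact mul_mem (mul_mem hq1 (hN.RQ x' hx' q hq)) (inv_mem hq1)
    have e : δ * q * δ⁻¹ = xa * (y * q * y⁻¹) * xa⁻¹ := by rw [hδ]; group
    rw [e]
    exact hN.RQ xa hsp.xa_mem _ h1
  have hδX : ∀ q ∈ X, δ * q * δ⁻¹ ∈ X := by
    intro q hq
    have hqQ := hXQ hq
    apply hinvQ _ (hδQ q hqQ)
    have e0 : f * (δ * q * δ⁻¹) * f⁻¹ = (f * δ * f⁻¹) * (f * q * f⁻¹) * (f * δ * f⁻¹)⁻¹ := by
      group
    rw [e0, hfδ, hXinv q hq]
    have e1 : δ * q0 * q * (δ * q0)⁻¹ = δ * (q0 * q * q0⁻¹) * δ⁻¹ := by group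
    rw [e1]
    rcases hE.conj_or hq0Q hqQ with e | e <;> rw [e]
    · left; rfl
    · right
      calc δ * (q * z) * δ⁻¹ = δ * q * (z * δ⁻¹) := by group
        _ = δ * q * (δ⁻¹ * (δ * z) * δ⁻¹) := by group
        _ = δ * q * δ⁻¹ * z := by rw [hδz]; group
  have hδXn : δ ∈ normalizer (X : Set G) := by
    apply Cfsg.Agent.MinSimple.VModule.mem_normalizer_of_map_le
    rintro _ ⟨q, hq, rfl⟩
    exact hδX q hq
  have hδX' : ∀ q ∈ X, δ⁻¹ * q * δ ∈ X := by
    intro q hq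
    have := (mem_normalizer_iff.1 (inv_mem hδXn) q).1 hq
    rwa [inv_inv] at this
  have hδf : δ⁻¹ * f * δ = q0 * f := by
    calc δ⁻¹ * f * δ = δ⁻¹ * (f * δ * f⁻¹) * f := by group
      _ = q0 * f := by rw [hq0]
  have hq0X : q0 ∈ X := by
    apply hinvQ q0 hq0Q
    have h1 : (q0 * f) * (q0 * f) = 1 := by
      rw [← hδf]
      have : δ⁻¹ * f * δ * (δ⁻¹ * f * δ) = δ⁻¹ * (f * f) * δ := by group
      rw [this, hf2]; group
    have h2 : f * q0 * f⁻¹ = q0⁻¹ := by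
      have hfi : f⁻¹ = f := inv_eq_of_mul_eq_one_left hf2
      rw [hfi]
      apply eq_inv_of_mul_eq_one_right
      rw [← h1]; group
    rw [h2]
    rcases hE.sq q0 hq0Q with e | e
    · left; exact inv_eq_of_mul_eq_one_left e
    · right
      rw [inv_eq_iff_mul_eq_one, ← mul_assoc, e, hE.z2]
  have hδJ : δ ∈ normalizer (F : Set G) := by
    rw [← inv_inv δ]
    apply inv_mem
    apply hmemJ
    · intro b hb
      rw [inv_inv]; exact hXF (hδX' b (hVX hb))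
    · rw [inv_inv]; exact hXF (hδX' a haX)
    · rw [inv_inv, hδf]
      exact mul_mem (hXF hq0X) hfF
  -- `t = τ x`
  obtain ⟨τ, hτ, x, hx, htx⟩ : ∃ τ ∈ Nine.C Q xb, ∃ x ∈ X, t = τ * x := by
    obtain ⟨α, hα, β, hβ, he⟩ := hsp.exists_mul h.tQ
    set γ := f * β * f⁻¹ with hγ
    have hγa : γ ∈ Nine.C Q xb := hffb β hβ
    refine ⟨α * γ⁻¹, mul_mem hα (inv_mem hγa), γ * β, ?_, by rw [he]; group⟩
    apply hinvQ _ (mul_mem (mQ hγa) (mQ hβ))
    left
    have e1 : f * γ * f⁻¹ = β := by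
      have e : f * γ * f⁻¹ = (f * f) * β * (f * f)⁻¹ := by rw [hγ]; group
      rw [e, hf2]; group
    calc f * (γ * β) * f⁻¹ = (f * γ * f⁻¹) * (f * β * f⁻¹) := by group
      _ = β * γ := by rw [e1]
      _ = γ * β := (hsp.commute hγa hβ).symm
  have hxv : x * v = v * x := (h.mem_Q1.1 (hXQ1 hx)).2
  have hτv : τ * v ≠ v * τ := by
    intro e
    have h1 := h.tv
    rw [htx] at h1
    have c1 : Commute τ v := e
    have c2 : Commute x v := hxv
    rw [(c1.mul_left c2).eq, mul_inv_cancel_right] at h1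
    exact hE.z1 (mul_eq_left.1 h1.symm)
  -- the killing lemma
  have hFp : IsPGroup 2 F := by
    apply IsPGroup.of_card (n := 4)
    rw [hF, card_adjN (fun e => hfQ (hXQ e)), hXc]
    norm_num
  have hFne : F ≠ ⊥ := by
    intro e
    have := hVF h.z_mem_V
    rw [e, mem_bot] at this
    exact hE.z1 this
  have fin : ∀ b ∈ Nine.C Q xb, b * v = v * b → ∀ g ∈ normalizer (F : Set G), g * b * g⁻¹ = τ →
      b = 1 ∨ b = z := by
    intro b hb hbv g hg hgb
    have hbQ := mQ hb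
    obtain ⟨⟨w, hw, hK⟩, -⟩ := h.lemK hD hbQ hbv
    set e := u * b * u⁻¹ with he
    have heJ : e ∈ normalizer (F : Set G) := mul_mem (mul_mem huJ (hQJ b hbQ)) (inv_mem huJ)
    have hbF : b ∈ F := by
      refine Cfsg.Agent.MinSimple.CaseD9.kill_conj (J := normalizer (F : Set G)) (C := F)
        (hloc F hFp hFne) (fun g hg c hc => hJmem hg hc) (hQJ b hbQ) hg huJ ?_
      rw [hgb, ← he]
      -- `τ e τ⁻¹ e⁻¹ b⁻¹ ∈ F`
      have h1 : x * e * x⁻¹ * e⁻¹ ∈ F := by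
        have e1 : x * e * x⁻¹ * e⁻¹ = x * (e * x⁻¹ * e⁻¹) := by group
        rw [e1]
        exact mul_mem (hXF hx) (hJmem heJ (inv_mem (hXF hx)))
      have h2 : τ * (x * e * x⁻¹ * e⁻¹)⁻¹ * τ⁻¹ ∈ F := hJmem (hQJ τ (mQ hτ)) (inv_mem h1)
      have h3 : b * (e * w * e⁻¹) * b⁻¹ ∈ F := hJmem (hQJ b hbQ) (hJmem heJ (hVF hw))
      have h4 : τ * e * τ⁻¹ * e⁻¹ * b⁻¹ =
          (τ * (x * e * x⁻¹ * e⁻¹)⁻¹ * τ⁻¹) * (b * (e * w * e⁻¹) * b⁻¹) := by
        have h5 : τ * e * τ⁻¹ = (τ * (x * e * x⁻¹ * e⁻¹)⁻¹ * τ⁻¹) * (t * e * t⁻¹) := by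
          rw [htx]; group
        rw [h5, hK]; group
      rw [h4]
      exact mul_mem h2 h3
    exact hsp.sq_eq hE.hZ hb (hXsq b (hFQ b hbF hbQ))
  -- conclusion
  have hτ1 : xa * τ * xa⁻¹ ∈ Nine.C Q xb := hN.R_C hsp.xb_mem xa hsp.xa_mem τ hτ
  have hnorm := hsp.norm_mem hτ
  have hδτ := hδa τ hτ
  have hδτ1 := hδa _ hτ1
  set τ1 := xa * τ * xa⁻¹ with hτ1'
  have hτ2 : xa * τ1 * xa⁻¹ ∈ Nine.C Q xb := hN.R_C hsp.xb_mem xa hsp.xa_mem τ1 hτ1
  set τ2 := xa * τ1 * xa⁻¹ with hτ2'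
  have hzz : ∀ g : G, g * z = z * g → ∀ b : G, g * b * g⁻¹ = τ → ¬ (b = 1 ∨ b = z) := by
    intro g hg b hb hb'
    apply hτv
    rw [← hb]
    rcases hb' with e | e <;> rw [e]
    · group
    · rw [hg, mul_inv_cancel_right]; exact h.zv
  by_cases hc1 : τ1 * v = v * τ1
  · have hg : δ⁻¹ * τ1 * δ⁻¹⁻¹ = τ := by rw [← hδτ]; group
    refine hzz δ⁻¹ ?_ τ1 hg (fin τ1 hτ1 hc1 _ (inv_mem hδJ) hg)
    have c1 : Commute δ z := hδz
    exact c1.inv_left.eq
  · have hc2 : τ2 * v = v * τ2 := by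
      have h1 := hE.inv_mul_comm (mQ hτ) (mQ hτ1) h.vQ hτv hc1
      have c1 : Commute (τ⁻¹ * τ1) v := h1
      have c2 : Commute (τ * τ) v := by
        rcases hE.sq τ (mQ hτ) with e | e <;> rw [e]
        · exact Commute.one_left v
        · exact h.zv
      have c3 : Commute (τ * τ1) v := by
        have e : τ * τ1 = (τ * τ) * (τ⁻¹ * τ1) := by group
        rw [e]; exact c2.mul_left c1
      have c4 : Commute (τ * τ1 * τ2) v := by
        rcases hnorm with e | e <;> rw [e]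
        · exact Commute.one_left v
        · exact h.zv
      have e : τ2 = (τ * τ1)⁻¹ * (τ * τ1 * τ2) := by group
      rw [e]
      exact (c3.inv_left.mul_left c4).eq
    have hg : (δ * δ)⁻¹ * τ2 * (δ * δ)⁻¹⁻¹ = τ := by
      rw [← hδτ1, ← hδτ]; group
    refine hzz (δ * δ)⁻¹ ?_ τ2 hg (fin τ2 hτ2 hc2 _ (inv_mem (mul_mem hδJ hδJ)) hg)
    have c1 : Commute δ z := hδz
    exact (c1.mul_left c1).inv_left.eq

end Base

end Cfsg.Agent.SectRankFour.C2.BTwoBCore
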