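import Cfsg.Agent.SectRankFour.C2.ParFacts
import Cfsg.Agent.SmallSimple.PrimeSylowAut

/-!
# The group `S / O₂(P)` (G5)

* `cyclic_prime`: `|R| = p`: `S / Q` is cyclic of order dividing `p - 1`;
* `index_three`, `index_five`;
* `index_nine`: `|R| = 9`: `S / Q` is cyclic of order 4 or dihedral of order 8.
-/

set_option autoImplicit false
set_option linter.unusedSectionVars false
set_option linter.unusedVariables false

namespace Cfsg.Agent.SectRankFour.C2.ParIndex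

open Subgroup Cfsg Cfsg.Agent.ZN Cfsg.Agent.MinSimple.MinParabolic Cfsg.Agent.MinSimple.VModule
open Cfsg.Agent.SectRankFour.C2.Defs Cfsg.Agent.SectRankFour.C2.ActFour
open Cfsg.Agent.SectRankFour.C2.ParFacts
open Cfsg.Agent.SectRankFour.C2.Par (Sec)
open scoped commutatorElement

universe u

variable {G : Type u} [Group G] [Finite G] {S P R : Subgroup G} {p : ℕ}

/-- `|R| = p`: `S / Q` is cyclic, of order dividing `p - 1`. -/
theorem cyclic_prime (h : Defs.Par S P R p) (hcard : Nat.card R = p) :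
    ∃ s ∈ S ⊓ normalizer (R : Set G), s ∉ o2 P ∧ s ^ (p - 1) ∈ o2 P ∧
      ∀ x ∈ S, ∃ n : ℕ, x * s ^ n ∈ o2 P := by
  have hp := p_prime h
  have hfp : Fact p.Prime := ⟨hp⟩
  obtain ⟨s, hs, hgen⟩ := SmallSimple.PrimeSylowAut.exists_generator_mod_centralizer hp hcard
    (S ⊓ normalizer (R : Set G)) inf_le_right
  have hgen' : ∀ x ∈ S, ∃ n : ℕ, x * s ^ n ∈ o2 P := by
    intro x hx
    obtain ⟨q, hq, m, hm, rfl⟩ := exists_mul h hx
    obtain ⟨n, hn⟩ := hgen m hm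
    refine ⟨n, ?_⟩
    rw [mul_assoc]
    exact mul_mem hq (h.faithful (mem_inf.mpr ⟨mul_mem hm.1 (pow_mem hs.1 n), hn⟩))
  refine ⟨s, hs, fun hsQ => ?_, ?_, hgen'⟩
  · apply S_not_le h
    intro x hx
    obtain ⟨n, hn⟩ := hgen' x hx
    have h1 : x = x * s ^ n * (s ^ n)⁻¹ := by group
    rw [h1]
    exact mul_mem hn (inv_mem (pow_mem hsQ n))
  · -- the automorphism group of `R` has order `p - 1`
    have hc : IsCyclic R := isCyclic_of_prime_card hcard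
    have hcard2 : Nat.card (MulAut R) = p - 1 := by
      rw [Nat.card_congr (IsCyclic.mulAutMulEquiv R).toEquiv, hcard, Nat.card_eq_fintype_card,
        ZMod.card_units_eq_totient, Nat.totient_prime hp]
    have h1 : (R.normalizerMonoidHom ⟨s, hs.2⟩) ^ (p - 1) = 1 := by
      rw [← hcard2]; exact pow_card_eq_one'
    rw [← map_pow] at h1
    have h2 : (⟨s, hs.2⟩ : normalizer (R : Set G)) ^ (p - 1) ∈ R.normalizerMonoidHom.ker := h1
    rw [normalizerMonoidHom_ker] at h2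
    exact h.faithful (mem_inf.mpr ⟨pow_mem hs.1 _, h2⟩)

/-- index from a generator -/
theorem relIndex_dvd_of_gen {Q : Subgroup G} (hQS : Q ≤ S) (hn : S ≤ normalizer (Q : Set G)) {s : G}
    (hs : s ∈ S) {m : ℕ} (hm : s ^ m ∈ Q) (hgen : ∀ x ∈ S, ∃ n : ℕ, x * s ^ n ∈ Q) :
    Q.relIndex S ∣ m := by
  have hQn : (Q.subgroupOf S).Normal := normal_subgroupOf_of_le_normalizer hn
  have h1 : zpowers (QuotientGroup.mk' (Q.subgroupOf S) ⟨s, hs⟩) = ⊤ := by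
    rw [eq_top_iff]
    rintro y -
    obtain ⟨x, rfl⟩ := QuotientGroup.mk'_surjective _ y
    obtain ⟨n, hn⟩ := hgen x.1 x.2
    have h2 : QuotientGroup.mk' (Q.subgroupOf S) (x * ⟨s, hs⟩ ^ n) = 1 := by
      rw [← MonoidHom.mem_ker, QuotientGroup.ker_mk', mem_subgroupOf]
      simpa using hn
    rw [map_mul, map_pow] at h2
    rw [eq_inv_of_mul_eq_one_left h2]
    exact inv_mem (pow_mem (mem_zpowers _) n)
  have h2 : Q.relIndex S = orderOf (QuotientGroup.mk' (Q.subgroupOf S) ⟨s, hs⟩) := by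
    rw [← Nat.card_zpowers, h1, Subgroup.card_top, Subgroup.relIndex, Subgroup.index_eq_card]
  rw [h2]
  refine orderOf_dvd_of_pow_eq_one ?_
  rw [← map_pow, ← MonoidHom.mem_ker, QuotientGroup.ker_mk', mem_subgroupOf]
  simpa using hm

theorem relIndex_ne_one (h : Defs.Par S P R p) : (o2 P).relIndex S ≠ 1 := fun h1 =>
  S_not_le h (relIndex_eq_one.mp h1)

/-- `|R| = 3`: `|S : Q| = 2`. -/
theorem index_three (h : Defs.Par S P R p) (hcard : Nat.card R = 3) : (o2 P).relIndex S = 2 := by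
  have hp3 : p = 3 := by
    rcases h.card_R with h1 | ⟨h1, -⟩
    · rw [← h1, hcard]
    · exact h1
  subst hp3
  obtain ⟨s, hs, hsQ, hs2, hgen⟩ := cyclic_prime h hcard
  have h1 := relIndex_dvd_of_gen (o2_le_S h) (h.le.trans (le_normalizer_o2 P)) hs.1 hs2 hgen
  rcases (Nat.dvd_prime Nat.prime_two).mp h1 with h2 | h2
  · exact absurd h2 (relIndex_ne_one h)
  · exact h2

/-- `|R| = 5`: `|S : Q|` is 2 or 4. -/
theorem index_five (h : Defs.Par S P R p) (hcard : Nat.card R = 5) :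
    (o2 P).relIndex S = 2 ∨ (o2 P).relIndex S = 4 := by
  have hp5 : p = 5 := by
    rcases h.card_R with h1 | ⟨-, h1⟩
    · rw [← h1, hcard]
    · rw [hcard] at h1; omega
  subst hp5
  obtain ⟨s, hs, hsQ, hs2, hgen⟩ := cyclic_prime h hcard
  have h1 := relIndex_dvd_of_gen (o2_le_S h) (h.le.trans (le_normalizer_o2 P)) hs.1 hs2 hgen
  have h2 : (o2 P).relIndex S ∣ 2 ^ 2 := h1
  obtain ⟨k, hk, hk2⟩ := (Nat.dvd_prime_pow Nat.prime_two).mp h2
  interval_cases k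
  · exact absurd hk2 (relIndex_ne_one h)
  · left; exact hk2
  · right; exact hk2

/-- `|R|` prime: two involutions of `S / Q` are equal. -/
theorem mul_mem_of_sq (h : Defs.Par S P R p) (hcard : Nat.card R = p) {s t : G} (hs : s ∈ S)
    (ht : t ∈ S) (hs1 : s ∉ o2 P) (ht1 : t ∉ o2 P) (hs2 : s ^ 2 ∈ o2 P) (ht2 : t ^ 2 ∈ o2 P) :
    s * t ∈ o2 P := by
  obtain ⟨g, hg, hgQ, hg4, hgen⟩ := cyclic_prime h hcard
  have hSn : S ≤ normalizer (o2 P : Set G) := h.le.trans (le_normalizer_o2 P)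
  -- `S / Q` is abelian
  have hab : ∀ x ∈ S, ∀ y ∈ S, x * y * x⁻¹ * y⁻¹ ∈ o2 P := by
    intro x hx y hy
    have hQn : ((o2 P).subgroupOf S).Normal := normal_subgroupOf_of_le_normalizer hSn
    let π := QuotientGroup.mk' ((o2 P).subgroupOf S)
    have hπ : ∀ z : S, π z = 1 ↔ (z : G) ∈ o2 P := fun z => by
      rw [← MonoidHom.mem_ker, QuotientGroup.ker_mk', mem_subgroupOf]
    have key : ∀ z : S, π z ∈ zpowers (π ⟨g, hg.1⟩) := by
      intro z
      obtain ⟨n, hn⟩ := hgen z.1 z.2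
      have h2 : π (z * ⟨g, hg.1⟩ ^ n) = 1 := (hπ _).mpr (by simpa using hn)
      rw [map_mul, map_pow] at h2
      rw [eq_inv_of_mul_eq_one_left h2]
      exact inv_mem (pow_mem (mem_zpowers _) n)
    obtain ⟨i, hi⟩ := mem_zpowers_iff.mp (key ⟨x, hx⟩)
    obtain ⟨j, hj⟩ := mem_zpowers_iff.mp (key ⟨y, hy⟩)
    have h3 : π (⟨x, hx⟩ * ⟨y, hy⟩ * ⟨x, hx⟩⁻¹ * ⟨y, hy⟩⁻¹) = 1 := by
      rw [map_mul, map_mul, map_mul, map_inv, map_inv, ← hi, ← hj]
      group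
    simpa using (hπ _).mp h3
  -- both invert `R`
  obtain ⟨q, hq, s', hs', rfl⟩ := exists_mul h hs
  obtain ⟨q', hq', t', ht', rfl⟩ := exists_mul h ht
  have hc : ∀ g ∈ S, ∀ y ∈ o2 P, g * y * g⁻¹ ∈ o2 P := fun g hg y hy =>
    (mem_normalizer_iff.mp (hSn hg) y).mp hy
  have hs'1 : s' ∉ o2 P := fun h1 => hs1 (mul_mem hq h1)
  have ht'1 : t' ∉ o2 P := fun h1 => ht1 (mul_mem hq' h1)
  have hs'2 : s' ^ 2 ∈ o2 P := by
    have h3 : s' ^ 2 = (q * (s' * q * s'⁻¹))⁻¹ * (q * s') ^ 2 := by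
      rw [pow_two, pow_two]; group
    rw [h3]
    exact mul_mem (inv_mem (mul_mem hq (hc s' hs'.1 q hq))) hs2
  have ht'2 : t' ^ 2 ∈ o2 P := by
    have h3 : t' ^ 2 = (q' * (t' * q' * t'⁻¹))⁻¹ * (q' * t') ^ 2 := by
      rw [pow_two, pow_two]; group
    rw [h3]
    exact mul_mem (inv_mem (mul_mem hq' (hc t' ht'.1 q' hq'))) ht2
  have h1 : s' * t' ∈ o2 P := by
    refine mem_o2_of_comm h (mul_mem hs'.1 ht'.1) fun x hx => ?_
    have e1 := inverts' h ht' ht'1 ht'2 (fun s hs => hab _ ht'.1 s hs) hx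
    have e2 := inverts' h hs' hs'1 hs'2 (fun s hs => hab _ hs'.1 s hs) (inv_mem hx)
    calc s' * t' * x * (s' * t')⁻¹ = s' * (t' * x * t'⁻¹) * s'⁻¹ := by group
      _ = x := by rw [e1, e2, inv_inv]
  have h2 : q * s' * (q' * t') = q * (s' * q' * s'⁻¹) * (s' * t') := by group
  rw [h2]
  exact mul_mem (mul_mem hq (hc s' hs'.1 q' hq')) h1

/-! ### `|R| = 9` -/

/-- An element normalising a subgroup of order 3 centralises or inverts it. -/
theorem cent_or_inv {C : Subgroup G} (hC : Nat.card C = 3) {g : G} (hg : ∀ x ∈ C, g * x * g⁻¹ ∈ C) :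
    (∀ x ∈ C, g * x * g⁻¹ = x) ∨ (∀ x ∈ C, g * x * g⁻¹ = x⁻¹) := by
  have h3 : Fact (Nat.Prime 3) := ⟨Nat.prime_three⟩
  obtain ⟨c, hc, hc1⟩ := exists_ne_one (B := C) (by rw [hC]; norm_num)
  have hmem : ∀ x ∈ C, x = 1 ∨ x = c ∨ x = c⁻¹ := by
    intro x hx
    have h1 := mem_zpowers_of_prime_card (G := C) (g := ⟨c, hc⟩) (g' := ⟨x, hx⟩) hC
      (fun h => hc1 (congrArg Subtype.val h))
    have hc3 : c ^ 3 = 1 := by
      have h2 : (⟨c, hc⟩ : C) ^ Nat.card C = 1 := pow_card_eq_one'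
      rw [hC] at h2
      exact congrArg Subtype.val h2
    obtain ⟨k, hk⟩ := mem_zpowers_iff.mp h1
    have h2 : c ^ k = x := congrArg Subtype.val hk
    rw [← h2]
    have h4 : c ^ k = c ^ (k % 3) := by
      conv_lhs => rw [← Int.emod_add_mul_ediv k 3, zpow_add, zpow_mul]
      rw [show c ^ (3 : ℤ) = 1 from by exact_mod_cast hc3, one_zpow, mul_one]
    rw [h4]
    have h5 : k % 3 = 0 ∨ k % 3 = 1 ∨ k % 3 = 2 := by omega
    rcases h5 with h5 | h5 | h5 <;> rw [h5]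
    · left; simp
    · right; left; simp
    · right; right
      have h6 : c ^ (2 : ℤ) = c ^ 3 * c⁻¹ := by group
      rw [h6, hc3, one_mul]
  have hgc : g * c * g⁻¹ ≠ 1 := fun h => hc1 (by
    calc c = g⁻¹ * (g * c * g⁻¹) * g := by group
      _ = 1 := by rw [h]; group)
  rcases hmem _ (hg c hc) with h1 | h1 | h1
  · exact absurd h1 hgc
  · left
    intro x hx
    rcases hmem x hx with rfl | rfl | rfl
    · group
    · exact h1
    · have : g * c⁻¹ * g⁻¹ = (g * c * g⁻¹)⁻¹ := by group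
      rw [this, h1]
  · right
    intro x hx
    rcases hmem x hx with rfl | rfl | rfl
    · group
    · exact h1
    · have : g * c⁻¹ * g⁻¹ = (g * c * g⁻¹)⁻¹ := by group
      rw [this, h1]

/-- The data of `ParFacts.nine` used for the structure of `S / Q`. -/
structure Sw (S R B1 B2 : Subgroup G) : Prop where
  le1 : B1 ≤ R
  le2 : B2 ≤ R
  card1 : Nat.card B1 = 3
  card2 : Nat.card B2 = 3
  inf : B1 ⊓ B2 = ⊥
  sup : B1 ⊔ B2 = R
  perm : ∀ g ∈ S, g ∈ normalizer (R : Set G) →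
    ((∀ x ∈ B1, g * x * g⁻¹ ∈ B1) ∧ (∀ x ∈ B2, g * x * g⁻¹ ∈ B2)) ∨
    ((∀ x ∈ B1, g * x * g⁻¹ ∈ B2) ∧ (∀ x ∈ B2, g * x * g⁻¹ ∈ B1))
  swap : ∃ s ∈ S ⊓ normalizer (R : Set G),
    (∀ x ∈ B1, s * x * s⁻¹ ∈ B2) ∧ (∀ x ∈ B2, s * x * s⁻¹ ∈ B1)

theorem eq_of_mem {B1 B2 : Subgroup G} (h : Sw S R B1 B2) {x : G} (h1 : x ∈ B1) (h2 : x ∈ B2) :
    x = 1 := by
  have h3 := mem_inf.mpr ⟨h1, h2⟩
  rw [h.inf] at h3
  exact Subgroup.mem_bot.mp h3

theorem fix_of {B1 B2 : Subgroup G} (h : Sw S R B1 B2) {g : G} (h1 : ∀ x ∈ B1, g * x * g⁻¹ = x)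
    (h2 : ∀ x ∈ B2, g * x * g⁻¹ = x) : ∀ x ∈ R, g * x * g⁻¹ = x := by
  have key : R ≤ centralizer ({g} : Set G) := by
    rw [← h.sup]
    refine sup_le (fun x hx => mem_centralizer_singleton_iff.mpr ?_)
      (fun x hx => mem_centralizer_singleton_iff.mpr ?_)
    · calc x * g = g * x * g⁻¹ * g := by rw [h1 x hx]
        _ = g * x := by group
    · calc x * g = g * x * g⁻¹ * g := by rw [h2 x hx]
        _ = g * x := by group
  intro x hx
  rw [← mem_centralizer_singleton_iff.mp (key hx)]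
  group

/-- (G5), `|R| = 9`: either `S / Q` is cyclic of order 4, generated by an element `s` swapping
`B1`, `B2` whose square inverts `R`, or `S / Q` is dihedral of order 8, generated by an involution
`s` (mod `Q`) swapping `B1`, `B2` and an element `t` inverting `B1` and centralising `B2`. -/
theorem index_nine (h : Defs.Par S P R p) {B1 B2 : Subgroup G} (hw : Sw S R B1 B2) :
    ((o2 P).relIndex S = 4 ∧ ∃ s ∈ S ⊓ normalizer (R : Set G),
      (∀ x ∈ B1, s * x * s⁻¹ ∈ B2) ∧ (∀ x ∈ B2, s * x * s⁻¹ ∈ B1) ∧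
      (∀ x ∈ R, s ^ 2 * x * (s ^ 2)⁻¹ = x⁻¹) ∧ s ^ 2 ∉ o2 P ∧ s ^ 4 ∈ o2 P ∧
      ∀ x ∈ S, ∃ n : ℕ, x * s ^ n ∈ o2 P) ∨
    ((o2 P).relIndex S = 8 ∧ ∃ s ∈ S ⊓ normalizer (R : Set G), ∃ t ∈ S ⊓ normalizer (R : Set G),
      (∀ x ∈ B1, s * x * s⁻¹ ∈ B2) ∧ (∀ x ∈ B2, s * x * s⁻¹ ∈ B1) ∧ s ^ 2 ∈ o2 P ∧
      (∀ x ∈ B1, t * x * t⁻¹ = x⁻¹) ∧ (∀ x ∈ B2, t * x * t⁻¹ = x) ∧ t ^ 2 ∈ o2 P ∧ t ∉ o2 P ∧
      ∀ x ∈ S, ∃ i j k : ℕ, x * s ^ k * t ^ i * (s * t * s⁻¹) ^ j ∈ o2 P) := by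
  obtain ⟨s0, hs0, hs01, hs02⟩ := hw.swap
  set S0 := S ⊓ normalizer (R : Set G) with hS0
  have hSn : S ≤ normalizer (o2 P : Set G) := h.le.trans (le_normalizer_o2 P)
  obtain ⟨c1, hc1, hc11⟩ := exists_ne_one (B := B1) (by rw [hw.card1]; norm_num)
  obtain ⟨c2, hc2, hc21⟩ := exists_ne_one (B := B2) (by rw [hw.card2]; norm_num)
  have h3 : Fact (Nat.Prime 3) := ⟨Nat.prime_three⟩
  -- an element of `S0` which is not a swap
  have hns : ∀ g ∈ S0, (∀ x ∈ B1, g * x * g⁻¹ ∈ B1) → (∀ x ∈ B2, g * x * g⁻¹ ∈ B2) →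
      ((∀ x ∈ B1, g * x * g⁻¹ = x) ∨ (∀ x ∈ B1, g * x * g⁻¹ = x⁻¹)) ∧
      ((∀ x ∈ B2, g * x * g⁻¹ = x) ∨ (∀ x ∈ B2, g * x * g⁻¹ = x⁻¹)) := fun g _ h1 h2 =>
    ⟨cent_or_inv hw.card1 h1, cent_or_inv hw.card2 h2⟩
  have hinvne : ∀ x : G, x ∈ R → x ≠ 1 → x⁻¹ ≠ x := by
    intro x hx hx1 h1
    have h2 : x ^ 2 = 1 := by
      rw [pow_two]
      calc x * x = x * x⁻¹ := by rw [h1]
        _ = 1 := mul_inv_cancel x
    have h4 : x ^ p = 1 := h.pow_R x hx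
    have h5 : orderOf x ∣ 2 := orderOf_dvd_of_pow_eq_one h2
    have h6 : orderOf x ∣ p := orderOf_dvd_of_pow_eq_one h4
    have h7 : orderOf x ∣ 1 := by
      have : Nat.gcd 2 p = 1 := (Nat.coprime_primes Nat.prime_two (p_prime h)).mpr (odd_p h).symm
      rw [← this]; exact Nat.dvd_gcd h5 h6
    exact hx1 (orderOf_eq_one_iff.mp (Nat.dvd_one.mp h7))
  -- powers of two in `Q` for elements acting by involutions
  have hmemQ : ∀ g ∈ S0, (∀ x ∈ B1, g * x * g⁻¹ = x) → (∀ x ∈ B2, g * x * g⁻¹ = x) → g ∈ o2 P :=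
    fun g hg h1 h2 => mem_o2_of_comm h hg.1 (fix_of hw h1 h2)
  have hsq : ∀ g ∈ S0, ((∀ x ∈ B1, g * x * g⁻¹ = x) ∨ (∀ x ∈ B1, g * x * g⁻¹ = x⁻¹)) →
      ((∀ x ∈ B2, g * x * g⁻¹ = x) ∨ (∀ x ∈ B2, g * x * g⁻¹ = x⁻¹)) → g ^ 2 ∈ o2 P := by
    intro g hg h1 h2
    have key : ∀ C : Subgroup G, ((∀ x ∈ C, g * x * g⁻¹ = x) ∨ (∀ x ∈ C, g * x * g⁻¹ = x⁻¹)) →
        ∀ x ∈ C, g ^ 2 * x * (g ^ 2)⁻¹ = x := by
      intro C hC x hx
      have e : g ^ 2 * x * (g ^ 2)⁻¹ = g * (g * x * g⁻¹) * g⁻¹ := by rw [pow_two]; group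
      rw [e]
      rcases hC with h4 | h4
      · rw [h4 x hx, h4 x hx]
      · rw [h4 x hx, h4 _ (inv_mem hx), inv_inv]
    exact hmemQ _ (pow_mem hg 2) (key B1 h1) (key B2 h2)
  -- `s0²`
  have hs0sq1 : ∀ x ∈ B1, s0 ^ 2 * x * (s0 ^ 2)⁻¹ ∈ B1 := by
    intro x hx
    have e : s0 ^ 2 * x * (s0 ^ 2)⁻¹ = s0 * (s0 * x * s0⁻¹) * s0⁻¹ := by rw [pow_two]; group
    rw [e]; exact hs02 _ (hs01 x hx)
  have hs0sq2 : ∀ x ∈ B2, s0 ^ 2 * x * (s0 ^ 2)⁻¹ ∈ B2 := by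
    intro x hx
    have e : s0 ^ 2 * x * (s0 ^ 2)⁻¹ = s0 * (s0 * x * s0⁻¹) * s0⁻¹ := by rw [pow_two]; group
    rw [e]; exact hs01 _ (hs02 x hx)
  -- every element of `B2` is `s0 x s0⁻¹`, `x ∈ B1`
  have hs0inv1 : ∀ x ∈ B2, s0⁻¹ * x * s0 ∈ B1 := by
    intro x hx
    have e1 : B1.map (MulAut.conj s0).toMonoidHom = B2 := by
      refine Subgroup.eq_of_le_of_card_ge ?_ ?_
      · rintro _ ⟨y, hy, rfl⟩
        exact hs01 y hy
      · rw [Subgroup.card_map_of_injective (MulAut.conj s0).injective, hw.card1, hw.card2]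
    rw [← e1] at hx
    obtain ⟨y, hy, rfl⟩ := hx
    show s0⁻¹ * (s0 * y * s0⁻¹) * s0 ∈ B1
    have : s0⁻¹ * (s0 * y * s0⁻¹) * s0 = y := by group
    rwa [this]
  have hs0inv2 : ∀ x ∈ B1, s0⁻¹ * x * s0 ∈ B2 := by
    intro x hx
    have e1 : B2.map (MulAut.conj s0).toMonoidHom = B1 := by
      refine Subgroup.eq_of_le_of_card_ge ?_ ?_
      · rintro _ ⟨y, hy, rfl⟩
        exact hs02 y hy
      · rw [Subgroup.card_map_of_injective (MulAut.conj s0).injective, hw.card1, hw.card2]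
    rw [← e1] at hx
    obtain ⟨y, hy, rfl⟩ := hx
    show s0⁻¹ * (s0 * y * s0⁻¹) * s0 ∈ B2
    have : s0⁻¹ * (s0 * y * s0⁻¹) * s0 = y := by group
    rwa [this]
  have hs0pow : (∀ x ∈ R, s0 ^ 2 * x * (s0 ^ 2)⁻¹ = x) ∨
      ((∀ x ∈ B1, s0 ^ 2 * x * (s0 ^ 2)⁻¹ = x⁻¹) ∧ ∀ x ∈ B2, s0 ^ 2 * x * (s0 ^ 2)⁻¹ = x⁻¹) := by
    have tr : ∀ x ∈ B2, s0 ^ 2 * x * (s0 ^ 2)⁻¹ =
        s0 * (s0 ^ 2 * (s0⁻¹ * x * s0) * (s0 ^ 2)⁻¹) * s0⁻¹ := by
      intro x _
      rw [pow_two]; group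
    rcases cent_or_inv hw.card1 hs0sq1 with h4 | h4
    · left
      refine fix_of hw h4 fun x hx => ?_
      rw [tr x hx, h4 _ (hs0inv1 x hx)]; group
    · right
      refine ⟨h4, fun x hx => ?_⟩
      rw [tr x hx, h4 _ (hs0inv1 x hx)]; group
  by_cases hA : ∃ t ∈ S0, (∀ x ∈ B1, t * x * t⁻¹ = x⁻¹) ∧ (∀ x ∈ B2, t * x * t⁻¹ = x)
  · right
    obtain ⟨t, ht, ht1, ht2⟩ := hA
    have htQ : t ∉ o2 P := by
      intro htQ
      have h4 := comm_of_mem h htQ ht.2 (hw.le1 hc1)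
      rw [ht1 c1 hc1] at h4
      exact hinvne c1 (hw.le1 hc1) hc11 h4
    have htsq : t ^ 2 ∈ o2 P := hsq t ht (Or.inr ht1) (Or.inl ht2)
    -- the swap with square in `Q`
    obtain ⟨s, hs, hsw1, hsw2, hss⟩ : ∃ s ∈ S0, (∀ x ∈ B1, s * x * s⁻¹ ∈ B2) ∧
        (∀ x ∈ B2, s * x * s⁻¹ ∈ B1) ∧ s ^ 2 ∈ o2 P := by
      rcases hs0pow with h4 | ⟨h4, h5⟩
      · exact ⟨s0, hs0, hs01, hs02, mem_o2_of_comm h (pow_mem hs0.1 2) h4⟩
      · refine ⟨t * s0, mul_mem ht hs0, ?_, ?_, ?_⟩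
        · intro x hx
          have e : t * s0 * x * (t * s0)⁻¹ = t * (s0 * x * s0⁻¹) * t⁻¹ := by group
          rw [e, ht2 _ (hs01 x hx)]
          exact hs01 x hx
        · intro x hx
          have e : t * s0 * x * (t * s0)⁻¹ = t * (s0 * x * s0⁻¹) * t⁻¹ := by group
          rw [e, ht1 _ (hs02 x hx)]
          exact inv_mem (hs02 x hx)
        · refine hmemQ _ (pow_mem (mul_mem ht hs0) 2) ?_ ?_
          · intro x hx
            have e : (t * s0) ^ 2 * x * ((t * s0) ^ 2)⁻¹ =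
                t * (s0 * (t * (s0 * x * s0⁻¹) * t⁻¹) * s0⁻¹) * t⁻¹ := by rw [pow_two]; group
            rw [e, ht2 _ (hs01 x hx)]
            have e2 : s0 * (s0 * x * s0⁻¹) * s0⁻¹ = s0 ^ 2 * x * (s0 ^ 2)⁻¹ := by
              rw [pow_two]; group
            rw [e2, h4 x hx, ht1 _ (inv_mem hx), inv_inv]
          · intro x hx
            have e : (t * s0) ^ 2 * x * ((t * s0) ^ 2)⁻¹ =
                t * (s0 * (t * (s0 * x * s0⁻¹) * t⁻¹) * s0⁻¹) * t⁻¹ := by rw [pow_two]; group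
            rw [e, ht1 _ (hs02 x hx)]
            have e2 : s0 * (s0 * x * s0⁻¹)⁻¹ * s0⁻¹ = (s0 ^ 2 * x * (s0 ^ 2)⁻¹)⁻¹ := by
              simp only [pow_two, mul_inv_rev, inv_inv, mul_assoc]
            rw [e2, h5 x hx, inv_inv, ht2 x hx]
    set t' := s * t * s⁻¹ with ht'
    have ht'S0 : t' ∈ S0 := mul_mem (mul_mem hs ht) (inv_mem hs)
    have hsinv1 : ∀ x ∈ B2, s⁻¹ * x * s ∈ B1 := by
      intro x hx
      have e1 : B1.map (MulAut.conj s).toMonoidHom = B2 := by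
        refine Subgroup.eq_of_le_of_card_ge ?_ ?_
        · rintro _ ⟨y, hy, rfl⟩
          exact hsw1 y hy
        · rw [Subgroup.card_map_of_injective (MulAut.conj s).injective, hw.card1, hw.card2]
      rw [← e1] at hx
      obtain ⟨y, hy, rfl⟩ := hx
      show s⁻¹ * (s * y * s⁻¹) * s ∈ B1
      have : s⁻¹ * (s * y * s⁻¹) * s = y := by group
      rwa [this]
    have hsinv2 : ∀ x ∈ B1, s⁻¹ * x * s ∈ B2 := by
      intro x hx
      have e1 : B2.map (MulAut.conj s).toMonoidHom = B1 := by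
        refine Subgroup.eq_of_le_of_card_ge ?_ ?_
        · rintro _ ⟨y, hy, rfl⟩
          exact hsw2 y hy
        · rw [Subgroup.card_map_of_injective (MulAut.conj s).injective, hw.card1, hw.card2]
      rw [← e1] at hx
      obtain ⟨y, hy, rfl⟩ := hx
      show s⁻¹ * (s * y * s⁻¹) * s ∈ B2
      have : s⁻¹ * (s * y * s⁻¹) * s = y := by group
      rwa [this]
    have ht'1 : ∀ x ∈ B1, t' * x * t'⁻¹ = x := by
      intro x hx
      have e : t' * x * t'⁻¹ = s * (t * (s⁻¹ * x * s) * t⁻¹) * s⁻¹ := by rw [ht']; group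
      rw [e, ht2 _ (hsinv2 x hx)]; group
    have ht'2 : ∀ x ∈ B2, t' * x * t'⁻¹ = x⁻¹ := by
      intro x hx
      have e : t' * x * t'⁻¹ = s * (t * (s⁻¹ * x * s) * t⁻¹) * s⁻¹ := by rw [ht']; group
      rw [e, ht1 _ (hsinv1 x hx)]; group
    -- elements of `S0` not swapping
    have hgen1 : ∀ g ∈ S0, (∀ x ∈ B1, g * x * g⁻¹ ∈ B1) → (∀ x ∈ B2, g * x * g⁻¹ ∈ B2) →
        ∃ i j : ℕ, i < 2 ∧ j < 2 ∧ g * t ^ i * t' ^ j ∈ o2 P := by
      intro g hg h4 h5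
      rcases cent_or_inv hw.card1 h4 with h6 | h6 <;> rcases cent_or_inv hw.card2 h5 with h7 | h7
      · exact ⟨0, 0, by norm_num, by norm_num, by simpa using hmemQ g hg h6 h7⟩
      · refine ⟨0, 1, by norm_num, by norm_num, ?_⟩
        rw [pow_zero, mul_one, pow_one]
        refine hmemQ _ (mul_mem hg ht'S0) (fun x hx => ?_) (fun x hx => ?_)
        · have e : g * t' * x * (g * t')⁻¹ = g * (t' * x * t'⁻¹) * g⁻¹ := by group
          rw [e, ht'1 x hx, h6 x hx]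
        · have e : g * t' * x * (g * t')⁻¹ = g * (t' * x * t'⁻¹) * g⁻¹ := by group
          rw [e, ht'2 x hx, h7 _ (inv_mem hx), inv_inv]
      · refine ⟨1, 0, by norm_num, by norm_num, ?_⟩
        rw [pow_zero, mul_one, pow_one]
        refine hmemQ _ (mul_mem hg ht) (fun x hx => ?_) (fun x hx => ?_)
        · have e : g * t * x * (g * t)⁻¹ = g * (t * x * t⁻¹) * g⁻¹ := by group
          rw [e, ht1 x hx, h6 _ (inv_mem hx), inv_inv]
        · have e : g * t * x * (g * t)⁻¹ = g * (t * x * t⁻¹) * g⁻¹ := by group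
          rw [e, ht2 x hx, h7 x hx]
      · refine ⟨1, 1, by norm_num, by norm_num, ?_⟩
        rw [pow_one, pow_one]
        refine hmemQ _ (mul_mem (mul_mem hg ht) ht'S0) (fun x hx => ?_) (fun x hx => ?_)
        · have e : g * t * t' * x * (g * t * t')⁻¹ = g * (t * (t' * x * t'⁻¹) * t⁻¹) * g⁻¹ := by group
          rw [e, ht'1 x hx, ht1 x hx, h6 _ (inv_mem hx), inv_inv]
        · have e : g * t * t' * x * (g * t * t')⁻¹ = g * (t * (t' * x * t'⁻¹) * t⁻¹) * g⁻¹ := by group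
          rw [e, ht'2 x hx, ht2 _ (inv_mem hx), h7 _ (inv_mem hx), inv_inv]
    have hgen : ∀ x ∈ S, ∃ i j k : ℕ, i < 2 ∧ j < 2 ∧ k < 2 ∧ x * s ^ k * t ^ i * t' ^ j ∈ o2 P := by
      intro x hx
      obtain ⟨q, hq, n, hn, rfl⟩ := exists_mul h hx
      rcases hw.perm n hn.1 hn.2 with ⟨h4, h5⟩ | ⟨h4, h5⟩
      · obtain ⟨i, j, hi, hj, h6⟩ := hgen1 n hn h4 h5
        refine ⟨i, j, 0, hi, hj, by norm_num, ?_⟩
        rw [pow_zero, mul_one]
        have e : q * n * t ^ i * t' ^ j = q * (n * t ^ i * t' ^ j) := by group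
        rw [e]
        exact mul_mem hq h6
      · obtain ⟨i, j, hi, hj, h6⟩ := hgen1 (n * s) (mul_mem hn hs)
          (fun x hx => by
            have e : n * s * x * (n * s)⁻¹ = n * (s * x * s⁻¹) * n⁻¹ := by group
            rw [e]; exact h5 _ (hsw1 x hx))
          (fun x hx => by
            have e : n * s * x * (n * s)⁻¹ = n * (s * x * s⁻¹) * n⁻¹ := by group
            rw [e]; exact h4 _ (hsw2 x hx))
        refine ⟨i, j, 1, hi, hj, by norm_num, ?_⟩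
        rw [pow_one]
        have e : q * n * s * t ^ i * t' ^ j = q * (n * s * t ^ i * t' ^ j) := by group
        rw [e]
        exact mul_mem hq h6
    refine ⟨?_, s, hs, t, ht, hsw1, hsw2, hss, ht1, ht2, htsq, htQ, fun x hx => ?_⟩
    · -- the index
      have hQn : ((o2 P).subgroupOf S).Normal := normal_subgroupOf_of_le_normalizer hSn
      let π := QuotientGroup.mk' ((o2 P).subgroupOf S)
      have hπ : ∀ z : S, π z = 1 ↔ (z : G) ∈ o2 P := fun z => by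
        rw [← MonoidHom.mem_ker, QuotientGroup.ker_mk', mem_subgroupOf]
      have hπ2 : ∀ z w : S, π z = π w ↔ (z : G) * (w : G)⁻¹ ∈ o2 P := fun z w => by
        rw [← mul_inv_eq_one, ← map_inv, ← map_mul, hπ]
        simp
      have hrel : (o2 P).relIndex S = Nat.card (S ⧸ (o2 P).subgroupOf S) := by
        rw [Subgroup.relIndex, Subgroup.index_eq_card]
      rw [hrel]
      -- upper bound
      have hup : Nat.card (S ⧸ (o2 P).subgroupOf S) ≤ 8 := by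
        let f : Fin 2 × Fin 2 × Fin 2 → (S ⧸ (o2 P).subgroupOf S) := fun v =>
          (π ⟨s, hs.1⟩ ^ (v.2.2 : ℕ) * π ⟨t, ht.1⟩ ^ (v.1 : ℕ) * π ⟨t', ht'S0.1⟩ ^ (v.2.1 : ℕ))⁻¹
        have hf : Function.Surjective f := by
          intro y
          obtain ⟨x, rfl⟩ := QuotientGroup.mk'_surjective _ y
          obtain ⟨i, j, k, hi, hj, hk, h4⟩ := hgen x.1 x.2
          refine ⟨(⟨i, hi⟩, ⟨j, hj⟩, ⟨k, hk⟩), ?_⟩
          have h5 : π (x * ⟨s, hs.1⟩ ^ k * ⟨t, ht.1⟩ ^ i * ⟨t', ht'S0.1⟩ ^ j) = 1 :=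
            (hπ _).mpr (by simpa using h4)
          rw [map_mul, map_mul, map_mul, map_pow, map_pow, map_pow] at h5
          show (π ⟨s, hs.1⟩ ^ k * π ⟨t, ht.1⟩ ^ i * π ⟨t', ht'S0.1⟩ ^ j)⁻¹ = π x
          refine (eq_inv_of_mul_eq_one_left ?_).symm
          rw [← h5]; group
        have h4 := Nat.card_le_card_of_surjective f hf
        simpa using h4
      -- lower bound
      have hlow : 4 < Nat.card (S ⧸ (o2 P).subgroupOf S) := by
        have hne : ∀ z w : S, (∃ x ∈ R, (z : G) * x * (z : G)⁻¹ ≠ w * x * (w : G)⁻¹) →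
            (z : G) ∈ normalizer (R : Set G) → (w : G) ∈ normalizer (R : Set G) → π z ≠ π w := by
          rintro z w ⟨x, hx, hxx⟩ hz hw' heq
          apply hxx
          have h4 := (hπ2 z w).mp heq
          have h5 : w * x * (w : G)⁻¹ ∈ R := (mem_normalizer_iff.mp hw' x).mp hx
          have h6 := comm_of_mem h h4 (mul_mem hz (inv_mem hw')) h5
          rw [← h6]; group
        let f : Fin 5 → (S ⧸ (o2 P).subgroupOf S) :=
          ![π 1, π ⟨t, ht.1⟩, π ⟨t', ht'S0.1⟩, π (⟨t, ht.1⟩ * ⟨t', ht'S0.1⟩), π ⟨s, hs.1⟩]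
        have hi1 := hinvne c1 (hw.le1 hc1) hc11
        have hi2 := hinvne c2 (hw.le2 hc2) hc21
        have n1 : (1 : G) ∈ normalizer (R : Set G) := one_mem _
        have hsc1 : s * c1 * s⁻¹ ∉ B1 := fun h4 => hc11 (by
          have h5 := eq_of_mem hw h4 (hsw1 c1 hc1)
          calc c1 = s⁻¹ * (s * c1 * s⁻¹) * s := by group
            _ = 1 := by rw [h5]; group)
        have f01 : π 1 ≠ π ⟨t, ht.1⟩ := hne _ _ ⟨c1, hw.le1 hc1, by
          show (1 : G) * c1 * (1 : G)⁻¹ ≠ t * c1 * t⁻¹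
          rw [ht1 c1 hc1]; simpa using hi1.symm⟩ n1 ht.2
        have f02 : π 1 ≠ π ⟨t', ht'S0.1⟩ := hne _ _ ⟨c2, hw.le2 hc2, by
          show (1 : G) * c2 * (1 : G)⁻¹ ≠ t' * c2 * t'⁻¹
          rw [ht'2 c2 hc2]; simpa using hi2.symm⟩ n1 ht'S0.2
        have f03 : π 1 ≠ π (⟨t, ht.1⟩ * ⟨t', ht'S0.1⟩) := hne _ _ ⟨c1, hw.le1 hc1, by
          show (1 : G) * c1 * (1 : G)⁻¹ ≠ (t * t') * c1 * (t * t')⁻¹
          have e : (t * t') * c1 * (t * t')⁻¹ = t * (t' * c1 * t'⁻¹) * t⁻¹ := by group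
          rw [e, ht'1 c1 hc1, ht1 c1 hc1]; simpa using hi1.symm⟩ n1 (mul_mem ht.2 ht'S0.2)
        have f04 : π 1 ≠ π ⟨s, hs.1⟩ := hne _ _ ⟨c1, hw.le1 hc1, by
          show (1 : G) * c1 * (1 : G)⁻¹ ≠ s * c1 * s⁻¹
          intro h4
          apply hsc1
          rw [← h4]; simpa using hc1⟩ n1 hs.2
        have f12 : π ⟨t, ht.1⟩ ≠ π ⟨t', ht'S0.1⟩ := hne _ _ ⟨c1, hw.le1 hc1, by
          show t * c1 * t⁻¹ ≠ t' * c1 * t'⁻¹
          rw [ht1 c1 hc1, ht'1 c1 hc1]; exact hi1⟩ ht.2 ht'S0.2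
        have f13 : π ⟨t, ht.1⟩ ≠ π (⟨t, ht.1⟩ * ⟨t', ht'S0.1⟩) := hne _ _ ⟨c2, hw.le2 hc2, by
          show t * c2 * t⁻¹ ≠ (t * t') * c2 * (t * t')⁻¹
          have e : (t * t') * c2 * (t * t')⁻¹ = t * (t' * c2 * t'⁻¹) * t⁻¹ := by group
          rw [e, ht'2 c2 hc2, ht2 c2 hc2, ht2 _ (inv_mem hc2)]; exact hi2.symm⟩ ht.2
            (mul_mem ht.2 ht'S0.2)
        have f14 : π ⟨t, ht.1⟩ ≠ π ⟨s, hs.1⟩ := hne _ _ ⟨c1, hw.le1 hc1, by
          show t * c1 * t⁻¹ ≠ s * c1 * s⁻¹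
          intro h4
          apply hsc1
          rw [← h4, ht1 c1 hc1]; exact inv_mem hc1⟩ ht.2 hs.2
        have f23 : π ⟨t', ht'S0.1⟩ ≠ π (⟨t, ht.1⟩ * ⟨t', ht'S0.1⟩) := hne _ _ ⟨c1, hw.le1 hc1, by
          show t' * c1 * t'⁻¹ ≠ (t * t') * c1 * (t * t')⁻¹
          have e : (t * t') * c1 * (t * t')⁻¹ = t * (t' * c1 * t'⁻¹) * t⁻¹ := by group
          rw [e, ht'1 c1 hc1, ht1 c1 hc1]; exact hi1.symm⟩ ht'S0.2 (mul_mem ht.2 ht'S0.2)
        have f24 : π ⟨t', ht'S0.1⟩ ≠ π ⟨s, hs.1⟩ := hne _ _ ⟨c1, hw.le1 hc1, by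
          show t' * c1 * t'⁻¹ ≠ s * c1 * s⁻¹
          intro h4
          apply hsc1
          rw [← h4, ht'1 c1 hc1]; exact hc1⟩ ht'S0.2 hs.2
        have f34 : π (⟨t, ht.1⟩ * ⟨t', ht'S0.1⟩) ≠ π ⟨s, hs.1⟩ := hne _ _ ⟨c1, hw.le1 hc1, by
          show (t * t') * c1 * (t * t')⁻¹ ≠ s * c1 * s⁻¹
          intro h4
          apply hsc1
          rw [← h4]
          have e : (t * t') * c1 * (t * t')⁻¹ = t * (t' * c1 * t'⁻¹) * t⁻¹ := by group
          rw [e, ht'1 c1 hc1, ht1 c1 hc1]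
          exact inv_mem hc1⟩ (mul_mem ht.2 ht'S0.2) hs.2
        have hf : Function.Injective f := by
          intro i j hij
          fin_cases i <;> fin_cases j <;> first
            | rfl
            | exact absurd hij f01 | exact absurd hij f01.symm
            | exact absurd hij f02 | exact absurd hij f02.symm
            | exact absurd hij f03 | exact absurd hij f03.symm
            | exact absurd hij f04 | exact absurd hij f04.symm
            | exact absurd hij f12 | exact absurd hij f12.symm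
            | exact absurd hij f13 | exact absurd hij f13.symm
            | exact absurd hij f14 | exact absurd hij f14.symm
            | exact absurd hij f23 | exact absurd hij f23.symm
            | exact absurd hij f24 | exact absurd hij f24.symm
            | exact absurd hij f34 | exact absurd hij f34.symm
        have h4 := Nat.card_le_card_of_injective f hf
        simp at h4
        omega
      -- a power of two
      have h2 : Fact (Nat.Prime 2) := ⟨Nat.prime_two⟩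
      have hpg : IsPGroup 2 (S ⧸ (o2 P).subgroupOf S) := h.two.to_quotient _
      obtain ⟨n, hn⟩ := IsPGroup.iff_card.mp hpg
      rw [hn] at hup hlow ⊢
      have h5 : n = 3 := by
        have h6 : n < 4 := by
          by_contra h6
          have : 2 ^ 4 ≤ 2 ^ n := Nat.pow_le_pow_right (by norm_num) (by omega)
          omega
        interval_cases n <;> omega
      rw [h5]; norm_num
    · obtain ⟨i, j, k, -, -, -, h4⟩ := hgen x hx
      exact ⟨i, j, k, h4⟩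
  · left
    -- all elements of `S0` not swapping are `±1` on `R`
    have hsc : ∀ g ∈ S0, (∀ x ∈ B1, g * x * g⁻¹ ∈ B1) → (∀ x ∈ B2, g * x * g⁻¹ ∈ B2) →
        g ∈ o2 P ∨ ((∀ x ∈ B1, g * x * g⁻¹ = x⁻¹) ∧ (∀ x ∈ B2, g * x * g⁻¹ = x⁻¹)) := by
      intro g hg h4 h5
      rcases cent_or_inv hw.card1 h4 with h6 | h6 <;> rcases cent_or_inv hw.card2 h5 with h7 | h7
      · exact Or.inl (hmemQ g hg h6 h7)
      · exfalso
        apply hA
        refine ⟨s0⁻¹ * g * s0, mul_mem (mul_mem (inv_mem hs0) hg) hs0, fun x hx => ?_, fun x hx => ?_⟩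
        · have e : s0⁻¹ * g * s0 * x * (s0⁻¹ * g * s0)⁻¹ = s0⁻¹ * (g * (s0 * x * s0⁻¹) * g⁻¹) * s0 := by
            group
          rw [e, h7 _ (hs01 x hx)]; group
        · have e : s0⁻¹ * g * s0 * x * (s0⁻¹ * g * s0)⁻¹ = s0⁻¹ * (g * (s0 * x * s0⁻¹) * g⁻¹) * s0 := by
            group
          rw [e, h6 _ (hs02 x hx)]; group
      · exact absurd ⟨g, hg, h6, h7⟩ hA
      · exact Or.inr ⟨h6, h7⟩
    -- `s0²` inverts `R`
    have hs0c : ∀ x ∈ S0, s0 * x * s0⁻¹ * x⁻¹ ∈ o2 P := by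
      intro g hg
      rcases hw.perm g hg.1 hg.2 with ⟨h4, h5⟩ | ⟨h4, h5⟩
      · -- `g` acts as a scalar
        rcases hsc g hg h4 h5 with h6 | ⟨h6, h7⟩
        · have h8 : s0 * g * s0⁻¹ ∈ o2 P := (mem_normalizer_iff.mp (hSn hs0.1) g).mp h6
          exact mul_mem h8 (inv_mem h6)
        · refine hmemQ _ (mul_mem (mul_mem (mul_mem hs0 hg) (inv_mem hs0)) (inv_mem hg)) ?_ ?_
          · intro x hx
            have hgi : g⁻¹ * x * g = x⁻¹ := by
              have := h6 x⁻¹ (inv_mem hx)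
              rw [inv_inv] at this
              calc g⁻¹ * x * g = g⁻¹ * (g * x⁻¹ * g⁻¹) * g := by rw [this]
                _ = x⁻¹ := by group
            have e : s0 * g * s0⁻¹ * g⁻¹ * x * (s0 * g * s0⁻¹ * g⁻¹)⁻¹ =
                s0 * (g * (s0⁻¹ * (g⁻¹ * x * g) * s0) * g⁻¹) * s0⁻¹ := by group
            have e2 : s0⁻¹ * x⁻¹ * s0 ∈ B2 := hs0inv2 _ (inv_mem hx)
            rw [e, hgi, h7 _ e2]; group
          · intro x hx
            have hgi : g⁻¹ * x * g = x⁻¹ := by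
              have := h7 x⁻¹ (inv_mem hx)
              rw [inv_inv] at this
              calc g⁻¹ * x * g = g⁻¹ * (g * x⁻¹ * g⁻¹) * g := by rw [this]
                _ = x⁻¹ := by group
            have e : s0 * g * s0⁻¹ * g⁻¹ * x * (s0 * g * s0⁻¹ * g⁻¹)⁻¹ =
                s0 * (g * (s0⁻¹ * (g⁻¹ * x * g) * s0) * g⁻¹) * s0⁻¹ := by group
            have e2 : s0⁻¹ * x⁻¹ * s0 ∈ B1 := hs0inv1 _ (inv_mem hx)
            rw [e, hgi, h6 _ e2]; group
      · -- `g = s0 * d`, `d` a scalar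
        set d := s0⁻¹ * g with hd
        have hdS : d ∈ S0 := mul_mem (inv_mem hs0) hg
        have hd1 : ∀ x ∈ B1, d * x * d⁻¹ ∈ B1 := by
          intro x hx
          have e : d * x * d⁻¹ = s0⁻¹ * (g * x * g⁻¹) * s0 := by rw [hd]; group
          rw [e]; exact hs0inv1 _ (h4 x hx)
        have hd2 : ∀ x ∈ B2, d * x * d⁻¹ ∈ B2 := by
          intro x hx
          have e : d * x * d⁻¹ = s0⁻¹ * (g * x * g⁻¹) * s0 := by rw [hd]; group
          rw [e]; exact hs0inv2 _ (h5 x hx)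
        have hgd : g = s0 * d := by rw [hd]; group
        have e : s0 * g * s0⁻¹ * g⁻¹ = s0 * (s0 * d * s0⁻¹ * d⁻¹) * s0⁻¹ := by rw [hgd]; group
        rw [e]
        refine (mem_normalizer_iff.mp (hSn hs0.1) _).mp ?_
        rcases hsc d hdS hd1 hd2 with h6 | ⟨h6, h7⟩
        · have h8 : s0 * d * s0⁻¹ ∈ o2 P := (mem_normalizer_iff.mp (hSn hs0.1) d).mp h6
          exact mul_mem h8 (inv_mem h6)
        · refine hmemQ _ (mul_mem (mul_mem (mul_mem hs0 hdS) (inv_mem hs0)) (inv_mem hdS)) ?_ ?_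
          · intro x hx
            have hgi : d⁻¹ * x * d = x⁻¹ := by
              have := h6 x⁻¹ (inv_mem hx)
              rw [inv_inv] at this
              calc d⁻¹ * x * d = d⁻¹ * (d * x⁻¹ * d⁻¹) * d := by rw [this]
                _ = x⁻¹ := by group
            have e : s0 * d * s0⁻¹ * d⁻¹ * x * (s0 * d * s0⁻¹ * d⁻¹)⁻¹ =
                s0 * (d * (s0⁻¹ * (d⁻¹ * x * d) * s0) * d⁻¹) * s0⁻¹ := by group
            have e2 : s0⁻¹ * x⁻¹ * s0 ∈ B2 := hs0inv2 _ (inv_mem hx)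
            rw [e, hgi, h7 _ e2]; group
          · intro x hx
            have hgi : d⁻¹ * x * d = x⁻¹ := by
              have := h7 x⁻¹ (inv_mem hx)
              rw [inv_inv] at this
              calc d⁻¹ * x * d = d⁻¹ * (d * x⁻¹ * d⁻¹) * d := by rw [this]
                _ = x⁻¹ := by group
            have e : s0 * d * s0⁻¹ * d⁻¹ * x * (s0 * d * s0⁻¹ * d⁻¹)⁻¹ =
                s0 * (d * (s0⁻¹ * (d⁻¹ * x * d) * s0) * d⁻¹) * s0⁻¹ := by group
            have e2 : s0⁻¹ * x⁻¹ * s0 ∈ B1 := hs0inv1 _ (inv_mem hx)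
            rw [e, hgi, h6 _ e2]; group
    have hs0Q : s0 ∉ o2 P := by
      intro h4
      have h5 := comm_of_mem h h4 hs0.2 (hw.le1 hc1)
      have h6 := hs01 c1 hc1
      rw [h5] at h6
      exact hc11 (eq_of_mem hw hc1 h6)
    have hs0cS : ∀ x ∈ S, s0 * x * s0⁻¹ * x⁻¹ ∈ o2 P := by
      intro x hx
      obtain ⟨q, hq, n, hn, rfl⟩ := exists_mul h hx
      have e : s0 * (q * n) * s0⁻¹ * (q * n)⁻¹ =
          (s0 * q * s0⁻¹) * ((s0 * n * s0⁻¹ * n⁻¹)) * q⁻¹ := by group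
      rw [e]
      exact mul_mem (mul_mem ((mem_normalizer_iff.mp (hSn hs0.1) q).mp hq) (hs0c n hn)) (inv_mem hq)
    have hinvR : (∀ x ∈ B1, s0 ^ 2 * x * (s0 ^ 2)⁻¹ = x⁻¹) ∧
        ∀ x ∈ B2, s0 ^ 2 * x * (s0 ^ 2)⁻¹ = x⁻¹ := by
      rcases hs0pow with h4 | h4
      · exfalso
        have h5 : s0 ^ 2 ∈ o2 P := mem_o2_of_comm h (pow_mem hs0.1 2) h4
        have h6 := inverts' h hs0 hs0Q h5 hs0cS (hw.le1 hc1)
        have h7 := hs01 c1 hc1
        rw [h6] at h7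
        exact hc11 (inv_eq_one.mp (eq_of_mem hw (inv_mem hc1) h7))
      · exact h4
    have hinvR' : ∀ x ∈ R, s0 ^ 2 * x * (s0 ^ 2)⁻¹ = x⁻¹ := by
      have key : R ≤ (⊤ : Subgroup G) := le_top
      intro x hx
      have hx' : x ∈ B1 ⊔ B2 := by rw [hw.sup]; exact hx
      have hB : B1 ≤ normalizer (B2 : Set G) := by
        refine le_normalizer_of fun b hb c hc => ?_
        have : b * c * b⁻¹ = c := by rw [h.comm_R b (hw.le1 hb) c (hw.le2 hc)]; group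
        rwa [this]
      rw [← SetLike.mem_coe, coe_mul_of_left_le_normalizer_right _ _ hB] at hx'
      obtain ⟨b, hb, c, hc, hbc⟩ := hx'
      have hbc : b * c = x := hbc
      rw [← hbc]
      have e : s0 ^ 2 * (b * c) * (s0 ^ 2)⁻¹ = (s0 ^ 2 * b * (s0 ^ 2)⁻¹) * (s0 ^ 2 * c * (s0 ^ 2)⁻¹) := by
        group
      rw [e, hinvR.1 b hb, hinvR.2 c hc, h.comm_R _ (inv_mem (hw.le1 hb)) _ (inv_mem (hw.le2 hc))]
      group
    have hs4 : s0 ^ 4 ∈ o2 P := by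
      refine mem_o2_of_comm h (pow_mem hs0.1 4) fun x hx => ?_
      have e : s0 ^ 4 * x * (s0 ^ 4)⁻¹ = s0 ^ 2 * (s0 ^ 2 * x * (s0 ^ 2)⁻¹) * (s0 ^ 2)⁻¹ := by
        rw [show (4 : ℕ) = 2 + 2 from rfl, pow_add]; group
      rw [e, hinvR' x hx, hinvR' _ (inv_mem hx), inv_inv]
    have hs2Q : s0 ^ 2 ∉ o2 P := by
      intro h4
      have h5 := comm_of_mem h h4 (pow_mem hs0.2 2) (hw.le1 hc1)
      rw [hinvR.1 c1 hc1] at h5
      exact hinvne c1 (hw.le1 hc1) hc11 h5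
    have hgen : ∀ x ∈ S, ∃ n : ℕ, x * s0 ^ n ∈ o2 P := by
      intro x hx
      obtain ⟨q, hq, n, hn, rfl⟩ := exists_mul h hx
      have key : ∀ g ∈ S0, (∀ x ∈ B1, g * x * g⁻¹ ∈ B1) → (∀ x ∈ B2, g * x * g⁻¹ ∈ B2) →
          ∃ m : ℕ, g * s0 ^ m ∈ o2 P := by
        intro g hg h4 h5
        rcases hsc g hg h4 h5 with h6 | ⟨h6, h7⟩
        · exact ⟨0, by simpa using h6⟩
        · refine ⟨2, hmemQ _ (mul_mem hg (pow_mem hs0 2)) (fun x hx => ?_) (fun x hx => ?_)⟩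
          · have e : g * s0 ^ 2 * x * (g * s0 ^ 2)⁻¹ = g * (s0 ^ 2 * x * (s0 ^ 2)⁻¹) * g⁻¹ := by group
            rw [e, hinvR.1 x hx, h6 _ (inv_mem hx), inv_inv]
          · have e : g * s0 ^ 2 * x * (g * s0 ^ 2)⁻¹ = g * (s0 ^ 2 * x * (s0 ^ 2)⁻¹) * g⁻¹ := by group
            rw [e, hinvR.2 x hx, h7 _ (inv_mem hx), inv_inv]
      rcases hw.perm n hn.1 hn.2 with ⟨h4, h5⟩ | ⟨h4, h5⟩
      · obtain ⟨m, hm⟩ := key n hn h4 h5
        exact ⟨m, by rw [mul_assoc]; exact mul_mem hq hm⟩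
      · obtain ⟨m, hm⟩ := key (n * s0) (mul_mem hn hs0)
          (fun x hx => by
            have e : n * s0 * x * (n * s0)⁻¹ = n * (s0 * x * s0⁻¹) * n⁻¹ := by group
            rw [e]; exact h5 _ (hs01 x hx))
          (fun x hx => by
            have e : n * s0 * x * (n * s0)⁻¹ = n * (s0 * x * s0⁻¹) * n⁻¹ := by group
            rw [e]; exact h4 _ (hs02 x hx))
        refine ⟨m + 1, ?_⟩
        have e : q * n * s0 ^ (m + 1) = q * (n * s0 * s0 ^ m) := by rw [pow_succ']; group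
        rw [e]
        exact mul_mem hq hm
    refine ⟨?_, s0, hs0, hs01, hs02, hinvR', hs2Q, hs4, hgen⟩
    have h4 := relIndex_dvd_of_gen (o2_le_S h) hSn hs0.1 hs4 hgen
    have h5 : (o2 P).relIndex S ∣ 2 ^ 2 := h4
    obtain ⟨k, hk, hk2⟩ := (Nat.dvd_prime_pow Nat.prime_two).mp h5
    interval_cases k
    · exact absurd hk2 (relIndex_ne_one h)
    · exfalso
      apply hs2Q
      have hQn : ((o2 P).subgroupOf S).Normal := normal_subgroupOf_of_le_normalizer hSn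
      have h6 := Subgroup.pow_index_mem ((o2 P).subgroupOf S) ⟨s0, hs0.1⟩
      rw [show ((o2 P).subgroupOf S).index = 2 from by rw [← hk2.trans (by norm_num : 2 ^ 1 = 2)]; rfl,
        mem_subgroupOf] at h6
      exact h6
    · exact hk2

end Cfsg.Agent.SectRankFour.C2.ParIndex
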