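import Mathlib
import Cfsg.Agent.SectRankFour.C2.BOneFacts
import Cfsg.Agent.SectRankFour.C2.ParIndex
import Cfsg.Agent.SectRankFour.C2.BTwoBFive
import Cfsg.Agent.SectRankFour.C2.BTwoBFour

/-!
# S0517, case C2, section (2b): `|V| = 4`, `V ≤ Q₂`, `V^` nonabelian ⇒ `|P2 : S| = 3`
-/

set_option autoImplicit false

namespace Cfsg.Agent.SectRankFour.C2.BTwoB

open Subgroup Cfsg Cfsg.Agent.ZN Cfsg.Agent.MinSimple.MinParabolic Cfsg.Agent.MinSimple.VModule
open Cfsg.Agent.SectRankFour.C2.Defs Cfsg.Agent.SectRankFour.C2.BOneFacts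
open Cfsg.Agent.SectRankFour.C2.BTwoBTools Cfsg.Agent.SectRankFour.C2.BTwoBNine
open Cfsg.Agent.SectRankFour.C2.BTwoBCore

universe u

variable {G : Type u} [Group G] [Finite G] {S P1 P2 : Subgroup G}

/-- `Z = {1, z}`, `V = {1, z, v, vz}` -/
theorem exists_zv (h : Pair S P1 P2) (hcard : Nat.card (zl S P1) = 4) :
    ∃ z v : G, z ≠ 1 ∧ v ≠ 1 ∧ v ≠ z ∧ z * z = 1 ∧ v * v = 1 ∧
      (∀ a, a ∈ zc S ↔ a = 1 ∨ a = z) ∧
      (∀ a, a ∈ zl S P1 ↔ a = 1 ∨ a = z ∨ a = v ∨ a = v * z) := by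
  have hZV := Z_le_V S P1
  have hne : zc S ≠ zl S P1 := by
    intro e
    apply not_norm h
    rw [e]; exact P1_V h
  have hdvd : Nat.card (zc S) ∣ 4 := by
    rw [← hcard]; exact card_dvd_of_le hZV
  have h1 : Nat.card (zc S) ≠ 1 := by
    rw [Ne, Subgroup.card_eq_one]; exact zc_ne h
  have h4 : Nat.card (zc S) ≠ 4 := fun e =>
    hne (eq_of_le_of_card_ge hZV (by rw [e, hcard]))
  have h2 : Nat.card (zc S) = 2 := by
    have hle := Nat.le_of_dvd (by norm_num) hdvd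
    interval_cases (Nat.card (zc S)) <;> omega
  obtain ⟨z, hz, hz1⟩ : ∃ z ∈ zc S, z ≠ 1 := by
    by_contra hcon
    push Not at hcon
    exact zc_ne h ((eq_bot_iff_forall _).2 hcon)
  have hVsq := V_sq h
  have hz2 : z * z = 1 := by rw [← pow_two]; exact hVsq z (hZV hz)
  obtain ⟨v, hv, hvZ⟩ : ∃ v ∈ zl S P1, v ∉ zc S := by
    by_contra hcon
    push Not at hcon
    exact hne (le_antisymm hZV hcon)
  have hv2 : v * v = 1 := by rw [← pow_two]; exact hVsq v hv
  have hv1 : v ≠ 1 := fun e => hvZ (by rw [e]; exact one_mem _)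
  have hvz : v ≠ z := fun e => hvZ (by rw [e]; exact hz)
  refine ⟨z, v, hz1, hv1, hvz, hz2, hv2, ?_, ?_⟩
  · -- `Z`
    have hsub : ({1, z} : Set G) ⊆ (zc S : Set G) := by
      rintro a (rfl | ha)
      · exact one_mem _
      · rw [Set.mem_singleton_iff.1 ha]; exact hz
    have hc : ({1, z} : Set G).ncard = 2 := Set.ncard_pair (Ne.symm hz1)
    have he : ({1, z} : Set G) = (zc S : Set G) := by
      apply Set.eq_of_subset_of_ncard_le hsub _ (Set.toFinite _)
      rw [hc, ← Nat.card_coe_set_eq]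
      exact h2.le
    intro a
    rw [← SetLike.mem_coe, ← he]
    simp
  · have hsub : ({1, z, v, v * z} : Set G) ⊆ (zl S P1 : Set G) := by
      rintro a (rfl | rfl | rfl | ha)
      · exact one_mem _
      · exact hZV hz
      · exact hv
      · rw [Set.mem_singleton_iff.1 ha]; exact mul_mem hv (hZV hz)
    have hc : ({1, z, v, v * z} : Set G).ncard = 4 := by
      rw [Set.ncard_insert_of_notMem, Set.ncard_insert_of_notMem, Set.ncard_pair]
      · intro e; exact hz1 (mul_eq_left.1 e.symm)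
      · rintro (e | e)
        · exact hvz e.symm
        · exact hv1 (mul_eq_right.1 (Set.mem_singleton_iff.1 e).symm)
      · rintro (e | e | e)
        · exact hz1 e.symm
        · exact hv1 e.symm
        · have e' : v * z = 1 := (Set.mem_singleton_iff.1 e).symm
          apply hvz
          calc v = v * (z * z) := by rw [hz2, mul_one]
            _ = (v * z) * z := (mul_assoc _ _ _).symm
            _ = z := by rw [e', one_mul]
    have he : ({1, z, v, v * z} : Set G) = (zl S P1 : Set G) := by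
      apply Set.eq_of_subset_of_ncard_le hsub _ (Set.toFinite _)
      rw [hc, ← Nat.card_coe_set_eq]
      exact hcard.le
    intro a
    rw [← SetLike.mem_coe, ← he]
    simp

/-- the structure of `V^` modulo `Z` -/
theorem vh_facts (h : Pair S P1 P2) (hV : zl S P1 ≤ o2 P2)
    (hS : ∀ q ∈ S, ∀ a ∈ zl S P1, q * a * q⁻¹ * a⁻¹ ∈ zc S) :
    zl S P1 ≤ vh S P1 P2 ∧ vh S P1 P2 ≤ o2 P2 ∧ P2 ≤ normalizer (vh S P1 P2 : Set G) ∧
      (∀ q ∈ o2 P2, ∀ a ∈ vh S P1 P2, q * a * q⁻¹ * a⁻¹ ∈ zc S) ∧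
      (∀ a ∈ vh S P1 P2, a ^ 2 ∈ zc S) := by
  have hVh : zl S P1 ≤ vh S P1 P2 := fun a ha =>
    subset_closure ⟨1, one_mem _, a, ha, by group⟩
  have hle : vh S P1 P2 ≤ o2 P2 := by
    rw [vh, cl, closure_le]
    rintro _ ⟨x, hx, a, ha, rfl⟩
    exact conj_mem (P2_Q2 h) hx (hV ha)
  have hnorm : P2 ≤ normalizer (vh S P1 P2 : Set G) := by
    apply BOneFacts.le_normalizer_of
    intro g hg b hb
    rw [vh, cl] at hb ⊢
    induction hb using closure_induction with
    | mem b hb =>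
      obtain ⟨x, hx, a, ha, rfl⟩ := hb
      exact subset_closure ⟨g * x, mul_mem hg hx, a, ha, by group⟩
    | one => rw [mul_one, mul_inv_cancel]; exact one_mem _
    | mul x y _ _ hx hy =>
      have e : g * (x * y) * g⁻¹ = (g * x * g⁻¹) * (g * y * g⁻¹) := by group
      rw [e]; exact mul_mem hx hy
    | inv x _ hx =>
      have e : g * x⁻¹ * g⁻¹ = (g * x * g⁻¹)⁻¹ := by group
      rw [e]; exact inv_mem hx
  have hcz : ∀ g ∈ P2, ∀ ζ ∈ zc S, g * ζ = ζ * g := fun g hg ζ hζ => P2_Z h hg hζ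
  have hQP : o2 P2 ≤ P2 := o2_le P2
  have hcom : ∀ q ∈ o2 P2, ∀ a ∈ vh S P1 P2, q * a * q⁻¹ * a⁻¹ ∈ zc S := by
    intro q hq a ha
    have hgen : ∀ x ∈ P2, ∀ a ∈ zl S P1, q * (x * a * x⁻¹) * q⁻¹ * (x * a * x⁻¹)⁻¹ ∈ zc S := by
      intro x hx a ha
      have h1 := hS (x⁻¹ * q * x) (Q2_le h (conj_mem' (P2_Q2 h) hx hq)) a ha
      have h2 := hcz x hx _ h1
      have e : q * (x * a * x⁻¹) * q⁻¹ * (x * a * x⁻¹)⁻¹ =
          x * ((x⁻¹ * q * x) * a * (x⁻¹ * q * x)⁻¹ * a⁻¹) * x⁻¹ := by group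
      rw [e, h2, mul_inv_cancel_right]
      exact h1
    rw [vh, cl] at ha
    induction ha using closure_induction with
    | mem b hb =>
      obtain ⟨x, hx, a, ha, rfl⟩ := hb
      exact hgen x hx a ha
    | one => simp
    | mul x y hx _ hx' hy' =>
      have hxP : x ∈ P2 := hQP (hle hx)
      have h2 := hcz x hxP _ hy'
      have e : q * (x * y) * q⁻¹ * (x * y)⁻¹ =
          (q * x * q⁻¹ * x⁻¹) * (x * (q * y * q⁻¹ * y⁻¹) * x⁻¹) := by group
      rw [e, h2, mul_inv_cancel_right]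
      exact mul_mem hx' hy'
    | inv x hx hx' =>
      have hxP : x ∈ P2 := hQP (hle hx)
      have h2 := hcz x⁻¹ (inv_mem hxP) _ (inv_mem hx')
      have e : q * x⁻¹ * q⁻¹ * x⁻¹⁻¹ = x⁻¹ * (q * x * q⁻¹ * x⁻¹)⁻¹ * x⁻¹⁻¹ := by group
      rw [e, h2, mul_inv_cancel_right]
      exact inv_mem hx'
  refine ⟨hVh, hle, hnorm, hcom, ?_⟩
  intro a ha
  have ha' := ha
  rw [vh, cl] at ha
  induction ha using closure_induction with
  | mem b hb =>
    obtain ⟨x, hx, a, ha, rfl⟩ := hb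
    have h1 := V_sq h a ha
    have e : (x * a * x⁻¹) ^ 2 = x * a ^ 2 * x⁻¹ := by rw [pow_two, pow_two]; group
    rw [e, h1, mul_one, mul_inv_cancel]
    exact one_mem _
  | one => simp
  | mul x y hx hy hx' hy' =>
    have hyQ : y ∈ o2 P2 := hle hy
    have hxP : x ∈ P2 := hQP (hle hx)
    have h1 := hcom y hyQ x hx
    have h2 := hcz x hxP _ h1
    have e : (x * y) ^ 2 = x * (y * x * y⁻¹ * x⁻¹) * x * y ^ 2 := by
      rw [pow_two, pow_two]; group
    have e2 : x * (y * x * y⁻¹ * x⁻¹) * x * y ^ 2 =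
        (y * x * y⁻¹ * x⁻¹) * x ^ 2 * y ^ 2 := by
      rw [h2, pow_two x]; simp only [mul_assoc]
    rw [e, e2]
    exact mul_mem (mul_mem h1 (hx' hx)) (hy' hy)
  | inv x hx hx' =>
    rw [inv_pow]
    exact inv_mem (hx' hx)

/-- `|R| ≠ 3`: `O₂(P2) = V^` is extraspecial of order 32. -/
theorem ex_of (h : Pair S P1 P2) (hV : zl S P1 ≤ o2 P2)
    (hna : ¬ ∀ x ∈ vh S P1 P2, ∀ y ∈ vh S P1 P2, x * y = y * x) {R : Subgroup G} {p : ℕ}
    (hR : Par S P2 R p) (h3 : Nat.card R ≠ 3) {z : G} (hz1 : z ≠ 1) (hz2 : z * z = 1)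
    (hZ : ∀ a, a ∈ zc S ↔ a = 1 ∨ a = z)
    (hS : ∀ q ∈ S, ∀ a ∈ zl S P1, q * a * q⁻¹ * a⁻¹ ∈ zc S) :
    Ex (o2 P2) z ∧ (∃ x ∈ R, ¬ ∀ q ∈ o2 P2, x * q = q * x) := by
  obtain ⟨hVh, hle, hnorm, hcom, hsq⟩ := vh_facts h hV hS
  have hZV := Z_le_V S P1
  have hQP : o2 P2 ≤ P2 := o2_le P2
  have hzc : z ∈ zc S := (hZ z).2 (Or.inr rfl)
  have hzP : ∀ g ∈ P2, g * z = z * g := fun g hg => P2_Z h hg hzc
  have hsec : Par.Sec P2 (vh S P1 P2) (zc S) :=
    ⟨hZV.trans hVh, hle.trans hQP, hnorm, P2_le_zc h, fun a ha b hb => hcom a (hle ha) b hb, hsq⟩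
  -- `R` acts nontrivially
  have hodd : ∀ x ∈ R, ∀ a ∈ o2 P2, x * a * x⁻¹ * a⁻¹ ∈ zc S → x * a = a * x := by
    intro x hx a ha hc
    have hp : Odd p := by
      rcases hR.p_eq with e | e <;> rw [e] <;> decide
    set ζ := x * a * x⁻¹ * a⁻¹ with hζ
    have h1 : x * a * x⁻¹ = ζ * a := by rw [hζ]; group
    have h2 : x * ζ = ζ * x := P2_Z h (hR.R_le hx) hc
    have h4 : ζ ^ 2 = 1 := V_sq h _ (hZV hc)
    have h5 := odd_comm hp (hR.pow_R x hx) h1 h2 h4
    rw [h5, one_mul] at h1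
    exact mul_inv_eq_iff_eq_mul.1 h1
  have hnt : ∃ a ∈ vh S P1 P2, ∃ x ∈ R, x * a * x⁻¹ * a⁻¹ ∉ zc S := by
    by_contra hcon
    push Not at hcon
    have hRV : ∀ x ∈ R, ∀ a ∈ zl S P1, x * a * x⁻¹ = a := by
      intro x hx a ha
      rw [hodd x hx a (hV ha) (hcon a (hVh ha) x hx), mul_inv_cancel_right]
    have h1 : P2 ≤ normalizer (zl S P1 : Set G) := by
      rw [← hR.sup_eq]
      refine sup_le (sup_le (Q2_V h) ?_) (S_V h)
      apply BOneFacts.le_normalizer_of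
      intro x hx a ha
      rw [hRV x hx a ha]; exact ha
    have h2 : IsPGroup 2 (zl S P1) := (isPGroup h).to_le (V_le h)
    have h3 := h.nonlocal _ h2 (P1_V h) h1
    have h4 := hZV hzc
    rw [h3, mem_bot] at h4
    exact hz1 h4
  obtain ⟨hc16, hfix, hirr⟩ := ParFacts.irred16 h.hyp.rank hR h3 hsec hnt
  have hcZ : Nat.card (zc S) = 2 := by
    have e : (zc S : Set G) = {1, z} := by
      ext a
      rw [SetLike.mem_coe, hZ a]; simp
    have : Nat.card (zc S) = (zc S : Set G).ncard := rfl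
    rw [this, e]
    exact Set.ncard_pair (Ne.symm hz1)
  have hcV : Nat.card (vh S P1 P2) = 32 := by rw [hc16, hcZ]
  -- `Z(V^) = Z`
  have hcen : ∀ a ∈ vh S P1 P2, (∀ b ∈ vh S P1 P2, a * b = b * a) → a ∈ zc S := by
    let D : Subgroup G :=
      { carrier := {a | a ∈ vh S P1 P2 ∧ ∀ b ∈ vh S P1 P2, a * b = b * a}
        one_mem' := ⟨one_mem _, fun b _ => by rw [one_mul, mul_one]⟩
        mul_mem' := by
          rintro a b ⟨ha, ha'⟩ ⟨hb, hb'⟩
          refine ⟨mul_mem ha hb, fun c hc => ?_⟩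
          have c1 : Commute a c := ha' c hc
          have c2 : Commute b c := hb' c hc
          exact (c1.mul_left c2).eq
        inv_mem' := by
          rintro a ⟨ha, ha'⟩
          refine ⟨inv_mem ha, fun c hc => ?_⟩
          have c1 : Commute a c := ha' c hc
          exact c1.inv_left.eq }
    have h1 : zc S ≤ D := fun a ha =>
      ⟨hVh (hZV ha), fun b hb => (P2_Z h (hQP (hle hb)) ha).symm⟩
    have h2 : D ≤ vh S P1 P2 := fun a ha => ha.1
    have h4 : P2 ≤ normalizer (D : Set G) := by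
      apply BOneFacts.le_normalizer_of
      rintro g hg a ⟨ha, ha'⟩
      refine ⟨conj_mem hnorm hg ha, fun b hb => ?_⟩
      have h5 := ha' (g⁻¹ * b * g) (conj_mem' hnorm hg hb)
      calc g * a * g⁻¹ * b = g * (a * (g⁻¹ * b * g)) * g⁻¹ := by group
        _ = g * ((g⁻¹ * b * g) * a) * g⁻¹ := by rw [h5]
        _ = b * (g * a * g⁻¹) := by group
    rcases hirr D h1 h2 h4 with e | e
    · intro a ha hab
      rw [← e]; exact ⟨ha, hab⟩
    · exfalso
      apply hna
      intro x hx y hy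
      rw [← e] at hx
      exact hx.2 y hy
  -- `C_{Q2}(V^) = Z`
  have hCZ : ∀ a ∈ o2 P2, (∀ b ∈ vh S P1 P2, a * b = b * a) → a ∈ zc S := by
    let C : Subgroup G := o2 P2 ⊓ centralizer (vh S P1 P2 : Set G)
    have hCmem : ∀ a, a ∈ C ↔ a ∈ o2 P2 ∧ ∀ b ∈ vh S P1 P2, a * b = b * a := by
      intro a
      rw [mem_inf, mem_centralizer_iff]
      exact and_congr_right fun _ => ⟨fun H b hb => (H b hb).symm, fun H b hb => (H b hb).symm⟩
    have hZC : zc S ≤ C := fun a ha =>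
      (hCmem a).2 ⟨hV (hZV ha), fun b hb => (P2_Z h (hQP (hle hb)) ha).symm⟩
    by_contra hcon
    push Not at hcon
    obtain ⟨a, ha, hab, haZ⟩ := hcon
    -- an element `q ∈ C ∖ Z` with `q² ∈ Z`
    obtain ⟨q, hqC, hqZ, hq2⟩ : ∃ q ∈ C, q ∉ zc S ∧ q * q ∈ zc S := by
      have haC : a ∈ C := (hCmem a).2 ⟨ha, hab⟩
      obtain ⟨k, hk⟩ := o2_isPGroup P2 ⟨a, ha⟩
      have hk' : a ^ 2 ^ k = 1 := by
        have := congrArg Subtype.val hk
        simpa using this
      have hex : ∃ k, a ^ 2 ^ k ∈ zc S := ⟨k, by rw [hk']; exact one_mem _⟩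
      classical
      have hm := Nat.find_spec hex
      have hmin := fun j => Nat.find_min hex (m := j)
      set m := Nat.find hex with hmdef
      have hm0 : m ≠ 0 := by
        intro e
        rw [e, pow_zero, pow_one] at hm
        exact haZ hm
      refine ⟨a ^ 2 ^ (m - 1), pow_mem haC _, hmin (m - 1) (by omega), ?_⟩
      have e : a ^ 2 ^ (m - 1) * a ^ 2 ^ (m - 1) = a ^ 2 ^ m := by
        rw [← pow_add, ← two_mul, ← pow_succ']
        congr 2; omega
      rw [e]; exact hm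
    obtain ⟨hqQ, hqc⟩ := (hCmem q).1 hqC
    have hqV : q ∉ vh S P1 P2 := fun e => hqZ (hcen q e hqc)
    have hn : ∀ b ∈ vh S P1 P2, q⁻¹ * b * q ∈ vh S P1 P2 := by
      intro b hb
      have : q⁻¹ * b * q = b := by rw [mul_assoc, ← hqc b hb]; group
      rw [this]; exact hb
    let H := adjN (vh S P1 P2) q (hVh (hZV hq2)) hn
    have hHQ : H ≤ o2 P2 := adjN_le hle hqQ
    have hH : Nat.card H = 64 := by
      change Nat.card (adjN (vh S P1 P2) q _ hn) = 64
      rw [card_adjN hqV, hcV]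
    have h5 := card_le_of_section h.hyp.rank (H := H) (K := zc S)
      ((hZV.trans hVh).trans le_adjN)
      (fun b hb k hk => by
        rw [P2_Z h (hQP (hHQ hb)) hk, mul_inv_cancel_right]; exact hk) ?_
    · rw [hH, hcZ] at h5
      norm_num at h5
    · rintro b (hb | hb)
      · rw [← pow_two]; exact hsq b hb
      · have h6 := hsq _ hb
        have e1 : q * (b * q) = (b * q) * q := hqc _ hb
        have e2 : q * b = b * q := by
          have := congrArg (· * q⁻¹) e1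
          simpa [mul_assoc] using this
        have e : b * b = (b * q) ^ 2 * (q * q)⁻¹ := by
          rw [pow_two]
          calc b * b = b * (b * q) * q⁻¹ := by group
            _ = b * (q * b) * q⁻¹ := by rw [e2]
            _ = b * q * (b * q) * (q⁻¹ * q⁻¹) := by group
            _ = _ := by group
        rw [e]
        exact mul_mem h6 (inv_mem hq2)
  -- `|Q2| ≤ 32`
  have hcQ : Nat.card (o2 P2) ≤ 32 := by
    have h5 := card_le_of_section h.hyp.rank (H := o2 P2) (K := zc S) (hZV.trans hV)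
      (fun b hb k hk => by
        rw [P2_Z h (hQP hb) hk, mul_inv_cancel_right]; exact hk) ?_
    · rw [hcZ] at h5; exact h5
    · intro q hq
      apply hCZ _ (mul_mem hq hq)
      intro b hb
      have h6 := hcom q hq b hb
      have h7 : q * (q * b * q⁻¹ * b⁻¹) = (q * b * q⁻¹ * b⁻¹) * q := P2_Z h (hQP hq) h6
      have h8 : (q * b * q⁻¹ * b⁻¹) * (q * b * q⁻¹ * b⁻¹) = 1 := by
        rw [← pow_two]; exact V_sq h _ (hZV h6)
      set ζ := q * b * q⁻¹ * b⁻¹ with hζ
      have e1 : q * b = ζ * b * q := by rw [hζ]; group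
      calc q * q * b = q * (q * b) := mul_assoc _ _ _
        _ = (q * ζ) * b * q := by rw [e1]; simp only [mul_assoc]
        _ = ζ * (q * b) * q := by rw [h7]; simp only [mul_assoc]
        _ = (ζ * ζ) * b * q * q := by rw [e1]; simp only [mul_assoc]
        _ = b * (q * q) := by rw [h8, one_mul, mul_assoc]
  have hEq : vh S P1 P2 = o2 P2 := eq_of_le_of_card_ge hle (by rw [hcV]; exact hcQ)
  rw [hEq] at hcen hcV hsq
  refine ⟨⟨hcV, hV (hZV hzc), hz1, hz2, fun q hq => hzP q (hQP hq), ?_, ?_, ?_⟩, ?_⟩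
  · intro q hq
    have := hsq q hq
    rw [pow_two] at this
    exact (hZ _).1 this
  · intro a ha b hb
    have h6 := hcom a ha b (by rw [hEq]; exact hb)
    rcases (hZ _).1 h6 with e | e
    · left
      have : a * b = (a * b * a⁻¹ * b⁻¹) * (b * a) := by group
      rw [this, e, one_mul]
    · right
      have : a * b = (a * b * a⁻¹ * b⁻¹) * (b * a) := by group
      rw [this, e]
      exact (hzP _ (hQP (mul_mem hb ha))).symm
  · intro a ha hab
    exact (hZ _).1 (hcen a ha hab)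
  · obtain ⟨a, ha, x, hx, hax⟩ := hnt
    refine ⟨x, hx, fun H => hax ?_⟩
    rw [H a (hle ha)]
    have : a * x * x⁻¹ * a⁻¹ = 1 := by group
    rw [this]; exact one_mem _

/-- the configuration `Base` -/
theorem exists_base (h : Pair S P1 P2) (hV : zl S P1 ≤ o2 P2) {z v : G} (hE : Ex (o2 P2) z)
    (hv1 : v ≠ 1) (hvz : v ≠ z) (hv2 : v * v = 1)
    (hZ : ∀ a, a ∈ zc S ↔ a = 1 ∨ a = z)
    (hVm : ∀ a, a ∈ zl S P1 ↔ a = 1 ∨ a = z ∨ a = v ∨ a = v * z) :
    ∃ t u : G, Base S P1 (o2 P2) z v t u := by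
  have hzV : z ∈ zl S P1 := (hVm z).2 (Or.inr (Or.inl rfl))
  have hvV : v ∈ zl S P1 := (hVm v).2 (Or.inr (Or.inr (Or.inl rfl)))
  have hzc : z ∈ zc S := (hZ z).2 (Or.inr rfl)
  have hSz : ∀ s ∈ S, s * z = z * s := fun s hs => P2_Z h (le2 h hs) hzc
  obtain ⟨R1, p1, hR1⟩ := h.par1
  have hzv : z * v = v * z := (hE.zc v (hV hvV)).symm
  -- action of elements of `P1` on `V`
  have hval : ∀ g : G, g * v * g⁻¹ ≠ 1 := by
    intro g e
    apply hv1
    calc v = g⁻¹ * (g * v * g⁻¹) * g := by group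
      _ = 1 := by rw [e]; group
  have hzal : ∀ g : G, g * z * g⁻¹ ≠ 1 := by
    intro g e
    apply hE.z1
    calc z = g⁻¹ * (g * z * g⁻¹) * g := by group
      _ = 1 := by rw [e]; group
  have hne : ∀ g : G, g * v * g⁻¹ ≠ g * z * g⁻¹ := by
    intro g e
    apply hvz
    simpa using e
  have hP1 : ∀ g ∈ P1, ∀ a ∈ zl S P1, g * a * g⁻¹ ∈ zl S P1 := fun g hg a ha =>
    conj_mem (P1_V h) hg ha
  have hSv : ∀ s ∈ S, s * v * s⁻¹ = v ∨ s * v * s⁻¹ = v * z := by
    intro s hs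
    have hsz : s * z * s⁻¹ = z := by rw [hSz s hs, mul_inv_cancel_right]
    rcases (hVm _).1 (hP1 s (le1 h hs) v hvV) with e | e | e | e
    · exact absurd e (hval s)
    · exact absurd (e.trans hsz.symm) (hne s)
    · exact Or.inl e
    · exact Or.inr e
  have stab : ∀ g ∈ P1, g * z = z * g → g ∈ S := by
    have h1 := hR1.max (P1 ⊓ centralizer {z})
      (le_inf (le1 h) fun s hs => mem_centralizer_singleton_iff.2 (hSz s hs)) inf_le_left
    rcases h1 with e | e
    · intro g hg hgz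
      rw [← e]
      exact mem_inf.2 ⟨hg, mem_centralizer_singleton_iff.2 hgz⟩
    · exfalso
      apply not_norm h
      apply BOneFacts.le_normalizer_of
      intro g hg a ha
      rw [← e] at hg
      have hgz : g * z = z * g := mem_centralizer_singleton_iff.1 (mem_inf.1 hg).2
      rcases (hZ a).1 ha with e' | e' <;> rw [e']
      · rw [mul_one, mul_inv_cancel]; exact one_mem _
      · rw [hgz, mul_inv_cancel_right]; exact hzc
  -- `t`
  obtain ⟨t, ht, htv⟩ : ∃ t ∈ o2 P2, t * v * t⁻¹ = v * z := by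
    by_contra hcon
    push Not at hcon
    rcases hE.hZ v (hV hvV) (fun b hb => by
      rcases hSv b (Q2_le h hb) with e | e
      · exact (mul_inv_eq_iff_eq_mul.1 e).symm
      · exact absurd e (hcon b hb)) with e | e
    · exact hv1 e
    · exact hvz e
  have htz : t * z * t⁻¹ = z := by rw [hE.zc t ht, mul_inv_cancel_right]
  have htvz : t * (v * z) * t⁻¹ = v := by
    calc t * (v * z) * t⁻¹ = (t * v * t⁻¹) * (t * z * t⁻¹) := by group
      _ = v * (z * z) := by rw [htv, htz, mul_assoc]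
      _ = v := by rw [hE.z2, mul_one]
  -- `g z g⁻¹ = v`
  obtain ⟨g, hg, hgz⟩ : ∃ g ∈ P1, g * z * g⁻¹ = v := by
    obtain ⟨g, hg, hgz⟩ : ∃ g ∈ P1, g * z * g⁻¹ ≠ z := by
      by_contra hcon
      push Not at hcon
      apply not_norm h
      apply BOneFacts.le_normalizer_of
      intro g hg a ha
      rcases (hZ a).1 ha with e' | e' <;> rw [e']
      · rw [mul_one, mul_inv_cancel]; exact one_mem _
      · rw [hcon g hg]; exact hzc
    rcases (hVm _).1 (hP1 g hg z hzV) with e | e | e | e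
    · exact absurd e (hzal g)
    · exact absurd e hgz
    · exact ⟨g, hg, e⟩
    · refine ⟨t * g, mul_mem (le1 h (Q2_le h ht)) hg, ?_⟩
      have e2 : t * g * z * (t * g)⁻¹ = t * (g * z * g⁻¹) * t⁻¹ := by group
      rw [e2, e, htvz]
  -- `y`
  obtain ⟨y, hy, hyz, hyv⟩ : ∃ y ∈ P1, y * z * y⁻¹ = v ∧ y * v * y⁻¹ = v * z := by
    rcases (hVm _).1 (hP1 g hg v hvV) with e | e | e | e
    · exact absurd e (hval g)
    · refine ⟨g * t, mul_mem hg (le1 h (Q2_le h ht)), ?_, ?_⟩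
      · have e2 : g * t * z * (g * t)⁻¹ = g * (t * z * t⁻¹) * g⁻¹ := by group
        rw [e2, htz, hgz]
      · have e2 : g * t * v * (g * t)⁻¹ = g * (t * v * t⁻¹) * g⁻¹ := by group
        have e3 : g * (v * z) * g⁻¹ = (g * v * g⁻¹) * (g * z * g⁻¹) := by group
        rw [e2, htv, e3, e, hgz, hzv]
    · exact absurd (e.trans hgz.symm) (hne g)
    · exact ⟨g, hg, hgz, e⟩
  have hyvz : y * (v * z) * y⁻¹ = z := by
    calc y * (v * z) * y⁻¹ = (y * v * y⁻¹) * (y * z * y⁻¹) := by group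
      _ = v * (z * v) := by rw [hyv, hyz, mul_assoc]
      _ = (v * v) * z := by rw [hzv, mul_assoc]
      _ = z := by rw [hv2, one_mul]
  -- `u`
  set w := y * t * y⁻¹ with hw
  have hwz : w * z * w⁻¹ = v * z := by
    -- `y (vz) y⁻¹ = z`
    have e : w * z * w⁻¹ = y * (t * (y⁻¹ * z * y) * t⁻¹) * y⁻¹ := by rw [hw]; group
    have e2 : y⁻¹ * z * y = v * z := by
      conv_lhs => rw [← hyvz]
      group
    rw [e, e2, htvz, hyv]
  have hwv : w * v * w⁻¹ = v := by
    have e : w * v * w⁻¹ = y * (t * (y⁻¹ * v * y) * t⁻¹) * y⁻¹ := by rw [hw]; group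
    have e2 : y⁻¹ * v * y = z := by
      conv_lhs => rw [← hyz]
      group
    rw [e, e2, htz, hyz]
  have htP : t ∈ P1 := le1 h (Q2_le h ht)
  have hwP : w ∈ P1 := mul_mem (mul_mem hy htP) (inv_mem hy)
  have huz : (t * w) * z * (t * w)⁻¹ = v := by
    have e : (t * w) * z * (t * w)⁻¹ = t * (w * z * w⁻¹) * t⁻¹ := by group
    rw [e, hwz, htvz]
  have huv : (t * w) * v * (t * w)⁻¹ = v * z := by
    have e : (t * w) * v * (t * w)⁻¹ = t * (w * v * w⁻¹) * t⁻¹ := by group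
    rw [e, hwv, htv]
  refine ⟨t, t * w, ⟨hE, Q2_le h, fun s hs q hq => conj_mem (S_Q2 h) hs hq, le1 h,
    mul_mem htP hwP, stab, hSz, hV hvV, hv1, hvz, hv2, hSv, ht, htv, huz, huv, ?_⟩⟩
  -- `ut`
  set u := t * w with hu
  have hs : u⁻¹ * y ∈ S := by
    apply stab _ (mul_mem (inv_mem (mul_mem htP hwP)) hy)
    have e : (u⁻¹ * y) * z * (u⁻¹ * y)⁻¹ = z := by
      calc (u⁻¹ * y) * z * (u⁻¹ * y)⁻¹ = u⁻¹ * (y * z * y⁻¹) * u := by group
        _ = u⁻¹ * (u * z * u⁻¹) * u := by rw [hyz, huz]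
        _ = z := by group
    exact mul_inv_eq_iff_eq_mul.1 e
  refine ⟨(u⁻¹ * y) * t * (u⁻¹ * y)⁻¹, conj_mem (S_Q2 h) hs ht, ?_⟩
  have e : t⁻¹ * u = w := by rw [hu]; group
  rw [e, hw]; group

/-- the case `|R| = 5` -/
theorem false_of_five (h : Pair S P1 P2) {R : Subgroup G} {p : ℕ} (hR : Par S P2 R p)
    (hp : p = 5) (hcR : Nat.card R = 5) {z v t u : G} (hb : Base S P1 (o2 P2) z v t u)
    (hzP : ∀ g ∈ P2, g * z = z * g) (hnt : ∃ x ∈ R, ¬ ∀ q ∈ o2 P2, x * q = q * x) : False := by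
  obtain ⟨x, hx, hxn⟩ := hnt
  refine hb.false_of_five (x := x) (by rw [← hp]; exact hR.pow_R x hx)
    (fun q hq => conj_mem (P2_Q2 h) (hR.R_le hx) hq) (hzP x (hR.R_le hx)) hxn ?_
  intro s hs s' hs' h1 h2 h3 h4
  have h5 := ParIndex.mul_mem_of_sq hR (by rw [hcR, hp]) hs hs' h1 h2 (by rw [pow_two]; exact h3)
    (by rw [pow_two]; exact h4)
  have h6 : s⁻¹ * s' = s⁻¹ * (s * s)⁻¹ * s * (s * s') := by group
  have h7 : s⁻¹ * (s * s)⁻¹ * s ∈ o2 P2 := conj_mem' (S_Q2 h) hs (inv_mem h3)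
  rw [h6]
  exact mul_mem h7 h5

/-- the case `|R| = 9` -/
theorem false_of_nine (h : Pair S P1 P2) {R : Subgroup G} {p : ℕ} (hR : Par S P2 R p)
    (hp : p = 3) (hcR : Nat.card R = 9) {z v t u : G} (hb : Base S P1 (o2 P2) z v t u)
    (hZ : ∀ a, a ∈ zc S ↔ a = 1 ∨ a = z)
    (hzP : ∀ g ∈ P2, g * z = z * g) (hnt : ∃ x ∈ R, ¬ ∀ q ∈ o2 P2, x * q = q * x) : False := by
  have hE := hb.ex
  have hQP : o2 P2 ≤ P2 := o2_le P2
  have hRP := hR.R_le
  have hZQ : zc S ≤ o2 P2 := Z_le_Q2 h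
  have hzc : z ∈ zc S := (hZ z).2 (Or.inr rfl)
  -- the section `Q / Z`
  have hcom : ∀ a ∈ o2 P2, ∀ b ∈ o2 P2, a * b * a⁻¹ * b⁻¹ ∈ zc S := by
    intro a ha b hb'
    rcases hE.conj_or ha hb' with e | e <;> rw [e]
    · rw [mul_inv_cancel]; exact one_mem _
    · rw [hE.zc b hb', mul_inv_cancel_right]; exact hzc
  have hsq : ∀ a ∈ o2 P2, a ^ 2 ∈ zc S := by
    intro a ha
    rw [pow_two]; exact (hZ _).2 (hE.sq a ha)
  have hsec : Par.Sec P2 (o2 P2) (zc S) :=
    ⟨hZQ, hQP, P2_Q2 h, P2_le_zc h, hcom, hsq⟩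
  have hodd : ∀ x ∈ R, ∀ a ∈ o2 P2, x * a * x⁻¹ * a⁻¹ ∈ zc S → x * a = a * x := by
    intro x hx a ha hc
    have hp' : Odd p := by rw [hp]; decide
    set ζ := x * a * x⁻¹ * a⁻¹ with hζ
    have h1 : x * a * x⁻¹ = ζ * a := by rw [hζ]; group
    have h2 : x * ζ = ζ * x := P2_Z h (hRP hx) hc
    have h4 : ζ ^ 2 = 1 := V_sq h _ (Z_le_V S P1 hc)
    have h5 := odd_comm hp' (hR.pow_R x hx) h1 h2 h4
    rw [h5, one_mul] at h1
    exact mul_inv_eq_iff_eq_mul.1 h1
  have hnt' : ∃ a ∈ o2 P2, ∃ x ∈ R, x * a * x⁻¹ * a⁻¹ ∉ zc S := by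
    obtain ⟨x, hx, hxn⟩ := hnt
    push Not at hxn
    obtain ⟨q, hq, hxq⟩ := hxn
    exact ⟨q, hq, x, hx, fun H => hxq (hodd x hx q hq H)⟩
  have hfaith := ParFacts.faithful_sec hR hsec hnt'
  have hNine : Nine (o2 P2) R z :=
    { cardQ := hE.card
      zQ := hE.zQ
      z1 := hE.z1
      z2 := hE.z2
      zc := hE.zc
      sq := hE.sq
      com := hE.com
      cardR := hcR
      commR := hR.comm_R
      powR := fun x hx => by rw [← hp]; exact hR.pow_R x hx
      RQ := fun x hx q hq => conj_mem (P2_Q2 h) (hRP hx) hq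
      Rz := fun x hx => hzP x (hRP hx)
      faithful := fun x hx H => hfaith x hx fun a ha => by
        rw [H a ha]
        have : a * x * x⁻¹ * a⁻¹ = 1 := by group
        rw [this]; exact one_mem _ }
  obtain ⟨xa, xb, hsplit⟩ := hNine.exists_split
  refine hb.false_of_nine (R := R) (xa := xa) (xb := xb) ⟨hsplit, ?_, ?_, ?_⟩ ?_
  · -- `SR`
    intro s hs x hx
    have h1 : s * x * s⁻¹ ∈ (o2 P2 ⊔ R : Subgroup G) :=
      conj_mem hR.norm_QR (le2 h hs) (mem_sup_right hx)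
    rw [← SetLike.mem_coe, coe_mul_of_right_le_normalizer_left _ _ (hRP.trans (P2_Q2 h))] at h1
    obtain ⟨q, hq, y, hy, e⟩ := Set.mem_mul.1 h1
    exact ⟨q, hq, y, hy, e.symm⟩
  · -- `faith`
    let K : Subgroup G :=
      { carrier := {s | s ∈ S ∧ ∀ q ∈ o2 P2, s * q * s⁻¹ = q ∨ s * q * s⁻¹ = q * z}
        one_mem' := ⟨one_mem _, fun q _ => Or.inl (by group)⟩
        mul_mem' := by
          rintro a b ⟨ha, ha'⟩ ⟨hb1, hb'⟩
          refine ⟨mul_mem ha hb1, fun q hq => ?_⟩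
          have e0 : a * b * q * (a * b)⁻¹ = a * (b * q * b⁻¹) * a⁻¹ := by group
          have e1 : ∀ c, a * (c * z) * a⁻¹ = a * c * a⁻¹ * z := by
            intro c
            have := hzP a (le2 h ha)
            calc a * (c * z) * a⁻¹ = a * c * (z * a⁻¹) := by group
              _ = a * c * (a⁻¹ * (a * z) * a⁻¹) := by group
              _ = a * c * a⁻¹ * z := by rw [this]; group
          rw [e0]
          rcases hb' q hq with e | e <;> rw [e]
          · exact ha' q hq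
          · rw [e1]
            rcases ha' q hq with e | e <;> rw [e]
            · exact Or.inr rfl
            · left; rw [mul_assoc, hE.z2, mul_one]
        inv_mem' := by
          rintro a ⟨ha, ha'⟩
          refine ⟨inv_mem ha, fun q hq => ?_⟩
          have haz := hzP a (le2 h ha)
          have hq' : a⁻¹ * q * a ∈ o2 P2 := conj_mem' (S_Q2 h) ha hq
          rcases ha' _ hq' with e | e
          · left
            rw [inv_inv, ← e]; group
          · right
            rw [inv_inv]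
            have e2 : q = a⁻¹ * q * a * z := by rw [← e]; group
            calc a⁻¹ * q * a = a⁻¹ * q * a * (z * z) := by rw [hE.z2, mul_one]
              _ = a⁻¹ * q * a * z * z := by simp only [mul_assoc]
              _ = q * z := by rw [← e2] }
    have hQK : o2 P2 ≤ K := fun q hq => ⟨Q2_le h hq, fun b hb' => hE.conj_or hq hb'⟩
    have hcZ : Nat.card (zc S) = 2 := by
      have e : (zc S : Set G) = {1, z} := by
        ext a
        rw [SetLike.mem_coe, hZ a]; simp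
      have : Nat.card (zc S) = (zc S : Set G).ncard := rfl
      rw [this, e]
      exact Set.ncard_pair (Ne.symm hE.z1)
    have h5 := card_le_of_section h.hyp.rank (H := K) (K := zc S) (hZQ.trans hQK)
      (fun b hb' k hk => by
        rw [P2_Z h (le2 h hb'.1) hk, mul_inv_cancel_right]; exact hk) ?_
    · have h6 : o2 P2 = K := eq_of_le_of_card_ge hQK (by rw [hE.card]; rw [hcZ] at h5; exact h5)
      intro s hs hs'
      rw [h6]
      exact ⟨hs, hs'⟩
    · rintro s ⟨hs, hs'⟩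
      have hss : ∀ q ∈ o2 P2, s * s * q = q * (s * s) := by
        intro q hq
        have hsz := hzP s (le2 h hs)
        have e0 : s * s * q * (s * s)⁻¹ = s * (s * q * s⁻¹) * s⁻¹ := by group
        have e1 : s * s * q * (s * s)⁻¹ = q := by
          rw [e0]
          rcases hs' q hq with e | e
          · rw [e, e]
          · rw [e]
            calc s * (q * z) * s⁻¹ = s * q * (z * s⁻¹) := by group
              _ = s * q * (s⁻¹ * (s * z) * s⁻¹) := by group
              _ = (s * q * s⁻¹) * z := by rw [hsz]; group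
              _ = q := by rw [e, mul_assoc, hE.z2, mul_one]
        exact mul_inv_eq_iff_eq_mul.1 e1
      have hssQ : s * s ∈ o2 P2 :=
        hR.char2 ⟨mul_mem (le2 h hs) (le2 h hs), mem_centralizer_iff.2 fun q hq => (hss q hq).symm⟩
      exact (hZ _).2 (hE.hZ _ hssQ hss)
  · -- `nonel`
    obtain ⟨-, B1, B2, h1, h2, c1, c2, hinf, hsup, -, -, -, -, -, hperm, hswap⟩ :=
      ParFacts.nine h.hyp.rank hR hcR hsec hnt'
    have hw : ParIndex.Sw S R B1 B2 :=
      ⟨h1, h2, c1, c2, hinf, hsup, fun g hg hgn => hperm g (le2 h hg) hgn, hswap⟩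
    rcases ParIndex.index_nine hR hw with ⟨-, s, hs, -, -, -, hs2, -⟩ |
      ⟨-, s, hs, t', ht', s1, s2, s3, t1, t2, t3, t4, -⟩
    · exact ⟨s, (mem_inf.1 hs).1, by rw [← pow_two]; exact hs2⟩
    · refine ⟨s * t', mul_mem (mem_inf.1 hs).1 (mem_inf.1 ht').1, fun H => ?_⟩
      -- `(s t)²` inverts `B1`
      have hsN := (mem_inf.1 hs).2
      have htN := (mem_inf.1 ht').2
      have hss : ∀ x ∈ R, s ^ 2 * x * (s ^ 2)⁻¹ = x := fun x hx =>
        ParFacts.comm_of_mem hR s3 (pow_mem hsN 2) hx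
      have hgg : ∀ x ∈ R, (s * t' * (s * t')) * x * (s * t' * (s * t'))⁻¹ = x := fun x hx =>
        ParFacts.comm_of_mem hR H (mul_mem (mul_mem hsN htN) (mul_mem hsN htN)) hx
      obtain ⟨x, hx, hx1⟩ : ∃ x ∈ B1, x ≠ 1 := by
        by_contra hcon
        push Not at hcon
        rw [(eq_bot_iff_forall _).2 hcon, Subgroup.card_bot] at c1
        norm_num at c1
      have e1 := hgg x (h1 hx)
      have e2 : (s * t' * (s * t')) * x * (s * t' * (s * t'))⁻¹ = x⁻¹ := by
        calc (s * t' * (s * t')) * x * (s * t' * (s * t'))⁻¹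
            = s * (t' * (s * (t' * x * t'⁻¹) * s⁻¹) * t'⁻¹) * s⁻¹ := by group
          _ = s * (t' * (s * x⁻¹ * s⁻¹) * t'⁻¹) * s⁻¹ := by rw [t1 x hx]
          _ = s * (s * x⁻¹ * s⁻¹) * s⁻¹ := by rw [t2 _ (s1 _ (inv_mem hx))]
          _ = s ^ 2 * x⁻¹ * (s ^ 2)⁻¹ := by rw [pow_two]; group
          _ = x⁻¹ := hss _ (inv_mem (h1 hx))
      have e3 : x = x⁻¹ := e1.symm.trans e2
      have e4 : x * x = 1 := by
        nth_rewrite 2 [e3]
        exact mul_inv_cancel x
      have e5 : x ^ 3 = 1 := by rw [← hp]; exact hR.pow_R x (h1 hx)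
      apply hx1
      rw [pow_succ, pow_two, e4, one_mul] at e5
      exact e5
  · intro U hU hU1
    exact h.hyp.locSolv _ ⟨U, hU, hU1, rfl⟩

/-- **Section (2b)**: `|V| = 4`, `V ≤ O₂(P2)`, `V^` nonabelian ⇒ `|P2 : S| = 3`. -/
theorem relIndex_eq_three (h : Pair S P1 P2) (hV : zl S P1 ≤ o2 P2)
    (hna : ¬ ∀ x ∈ vh S P1 P2, ∀ y ∈ vh S P1 P2, x * y = y * x)
    (hcard : Nat.card (zl S P1) = 4) : S.relIndex P2 = 3 := by
  obtain ⟨R, p, hR⟩ := h.par2
  rw [hR.relIndex]
  by_contra h3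
  obtain ⟨z, v, hz1, hv1, hvz, hz2, hv2, hZ, hVm⟩ := exists_zv h hcard
  have hzc : z ∈ zc S := (hZ z).2 (Or.inr rfl)
  have hzP : ∀ g ∈ P2, g * z = z * g := fun g hg => P2_Z h hg hzc
  have hzV : z ∈ zl S P1 := (hVm z).2 (Or.inr (Or.inl rfl))
  have hvV : v ∈ zl S P1 := (hVm v).2 (Or.inr (Or.inr (Or.inl rfl)))
  have hzv : z * v = v * z := hzP v (o2_le P2 (hV hvV)) ▸ rfl
  have hS : ∀ q ∈ S, ∀ a ∈ zl S P1, q * a * q⁻¹ * a⁻¹ ∈ zc S := by
    intro q hq a ha
    have hqz : q * z = z * q := hzP q (le2 h hq)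
    have hqv : q * v * q⁻¹ = v ∨ q * v * q⁻¹ = v * z := by
      rcases (hVm _).1 (conj_mem (S_V h) hq hvV) with e | e | e | e
      · exfalso
        apply hv1
        calc v = q⁻¹ * (q * v * q⁻¹) * q := by group
          _ = 1 := by rw [e]; group
      · exfalso
        apply hvz
        calc v = q⁻¹ * (q * v * q⁻¹) * q := by group
          _ = q⁻¹ * (z * q) := by rw [e, mul_assoc]
          _ = z := by rw [← hqz]; group
      · exact Or.inl e
      · exact Or.inr e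
    rw [hZ]
    rcases (hVm a).1 ha with e | e | e | e <;> rw [e]
    · left; group
    · left; rw [hqz]; group
    · rcases hqv with e' | e' <;> rw [e']
      · left; group
      · right; rw [← hzv]; group
    · have e2 : q * (v * z) * q⁻¹ = (q * v * q⁻¹) * z := by
        calc q * (v * z) * q⁻¹ = (q * v * q⁻¹) * ((q * z) * q⁻¹) := by group
          _ = (q * v * q⁻¹) * z := by rw [hqz]; group
      rw [e2]
      rcases hqv with e' | e' <;> rw [e']
      · left; group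
      · right
        calc v * z * z * (v * z)⁻¹ = v * z * (z * (z⁻¹ * v⁻¹)) := by rw [mul_inv_rev]; group
          _ = v * z * v⁻¹ := by group
          _ = z := by rw [← hzv]; group
  obtain ⟨hE, hnt⟩ := ex_of h hV hna hR h3 hz1 hz2 hZ hS
  obtain ⟨t, u, hb⟩ := exists_base h hV hE hv1 hvz hv2 hZ hVm
  rcases hR.card_R with e | ⟨e1, e2⟩
  · rcases hR.p_eq with e' | e'
    · exact h3 (e.trans e')
    · exact false_of_five h hR e' (e.trans e') hb hzP hnt
  · exact false_of_nine h hR e1 e2 hb hZ hzP hnt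

end Cfsg.Agent.SectRankFour.C2.BTwoB
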