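import Mathlib
import Cfsg.Agent.SectRankFour.C2.BThreeA

/-!
# S0517, C2, section (2c), abstract part: the data

`Data S z z1 z2 v1 v2 y w`: `S` a 2-group, `P₁ = S ∪ yS ∪ y⁻¹S`, `P₂ = S ∪ wS ∪ w⁻¹S`, `Ω₁Z(S) = {1, z}`, `w`
centralises `z`, `V = {1, z, z1, z2}` with `z1 = y z y⁻¹`, `z2 = y z1 y⁻¹`, `v1 = w z1 w⁻¹`, `v2 = w v1 w⁻¹`, all in
`S`, `[z1, v1] = z`, `v1` inverts `y`, no nontrivial subgroup of `S` is normalised by `S`, `y` and `w`;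
`S` contains an elementary abelian subgroup of order `> 4`.
-/

set_option autoImplicit false

namespace Cfsg.Agent.SectRankFour.C2.BTwoCData

open Cfsg.Agent.SectRankFour.C2.BThreeA

variable {G : Type*} [Group G]

/-- See the module docstring. -/
structure Data (S : Subgroup G) (z z1 z2 v1 v2 y w : G) : Prop where
  two : IsPGroup 2 S
  hy : Half S y
  hw : Half S w
  z_mem : z ∈ S
  z1_mem : z1 ∈ S
  z2_mem : z2 ∈ S
  v1_mem : v1 ∈ S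
  v2_mem : v2 ∈ S
  yz : y * z * y⁻¹ = z1
  yz1 : y * z1 * y⁻¹ = z2
  yz2 : y * z2 * y⁻¹ = z
  wz : w * z * w⁻¹ = z
  wz1 : w * z1 * w⁻¹ = v1
  wv1 : w * v1 * w⁻¹ = v2
  wv2 : w * v2 * w⁻¹ = z1
  z_sq : z * z = 1
  z_ne : z ≠ 1
  z_comm : ∀ s ∈ S, s * z = z * s
  z_uniq : ∀ g ∈ S, g * g = 1 → (∀ s ∈ S, s * g = g * s) → g = 1 ∨ g = z
  ne : z1 ≠ z
  nab : z1 * v1 = z * (v1 * z1)
  ty : v1 * y * v1⁻¹ = y⁻¹
  core : ∀ U : Subgroup G, U ≤ S → (∀ s ∈ S, ∀ u ∈ U, s * u * s⁻¹ ∈ U) →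
    (∀ u ∈ U, y * u * y⁻¹ ∈ U) → (∀ u ∈ U, w * u * w⁻¹ ∈ U) → U = ⊥
  big : ∃ A : Subgroup G, A ≤ S ∧ (∀ a ∈ A, a * a = 1) ∧ 4 < Nat.card A

theorem conj_inv {y a b : G} (h : y * a * y⁻¹ = b) : y⁻¹ * b * y = a := by
  rw [← h]
  group

theorem cmul (y a b : G) : y * (a * b) * y⁻¹ = (y * a * y⁻¹) * (y * b * y⁻¹) := by group

theorem inv_eq_self {a : G} (h : a * a = 1) : a⁻¹ = a := by
  rw [inv_eq_iff_mul_eq_one]
  exact h

theorem conj_sq {y a b : G} (h : y * a * y⁻¹ = b) (ha : a * a = 1) : b * b = 1 := by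
  rw [← h, ← cmul, ha]
  group

theorem conj_comm {y a b a' b' : G} (h : y * a * y⁻¹ = a') (h' : y * b * y⁻¹ = b')
    (hab : a * b = b * a) : a' * b' = b' * a' := by
  rw [← h, ← h', ← cmul, ← cmul, hab]

namespace Data

variable {S : Subgroup G} {z z1 z2 v1 v2 y w : G}

/-! ### The four-group `V` -/

theorem z1_sq (h : Data S z z1 z2 v1 v2 y w) : z1 * z1 = 1 := conj_sq h.yz h.z_sq

theorem z2_sq (h : Data S z z1 z2 v1 v2 y w) : z2 * z2 = 1 := conj_sq h.yz1 h.z1_sq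

theorem v1_sq (h : Data S z z1 z2 v1 v2 y w) : v1 * v1 = 1 := conj_sq h.wz1 h.z1_sq

theorem v2_sq (h : Data S z z1 z2 v1 v2 y w) : v2 * v2 = 1 := conj_sq h.wv1 h.v1_sq

theorem z1z2_comm (h : Data S z z1 z2 v1 v2 y w) : z1 * z2 = z2 * z1 :=
  conj_comm h.yz h.yz1 (h.z_comm z1 h.z1_mem).symm

theorem qq_comm1 (h : Data S z z1 z2 v1 v2 y w) {q : G} (hq : q ∈ qq S y) : q * z1 = z1 * q := by
  have h1 := h.z_comm _ (mem_qq.1 hq).2.1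
  rw [← h.yz]
  calc q * (y * z * y⁻¹) = y * (y⁻¹ * q * y * z) * y⁻¹ := by group
    _ = y * (z * (y⁻¹ * q * y)) * y⁻¹ := by rw [h1]
    _ = y * z * y⁻¹ * q := by group

theorem yinv_z (h : Data S z z1 z2 v1 v2 y w) : y⁻¹ * z * y = z2 := conj_inv h.yz2

theorem qq_comm2 (h : Data S z z1 z2 v1 v2 y w) {q : G} (hq : q ∈ qq S y) : q * z2 = z2 * q := by
  have h1 := h.z_comm _ (mem_qq.1 hq).2.2
  rw [← h.yinv_z]
  calc q * (y⁻¹ * z * y) = y⁻¹ * (y * q * y⁻¹ * z) * y := by group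
    _ = y⁻¹ * (z * (y * q * y⁻¹)) * y := by rw [h1]
    _ = y⁻¹ * z * y * q := by group

theorem swap1 (h : Data S z z1 z2 v1 v2 y w) {s : G} (hs : s ∈ S) (hq : s ∉ qq S y) :
    s * z1 = z2 * s := by
  have h1 := h.z_comm _ (h.hy.not_qq hs hq).1
  rw [← h.yz, ← h.yinv_z]
  calc s * (y * z * y⁻¹) = y⁻¹ * (y * s * y * z) * y⁻¹ := by group
    _ = y⁻¹ * (z * (y * s * y)) * y⁻¹ := by rw [h1]
    _ = y⁻¹ * z * y * s := by group

theorem swap2 (h : Data S z z1 z2 v1 v2 y w) {s : G} (hs : s ∈ S) (hq : s ∉ qq S y) :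
    s * z2 = z1 * s := by
  have h1 := h.z_comm _ (h.hy.not_qq hs hq).2
  rw [← h.yz, ← h.yinv_z]
  calc s * (y⁻¹ * z * y) = y * (y⁻¹ * s * y⁻¹ * z) * y := by group
    _ = y * (z * (y⁻¹ * s * y⁻¹)) * y := by rw [h1]
    _ = y * z * y⁻¹ * s := by group

theorem z1_ne_z2 (h : Data S z z1 z2 v1 v2 y w) : z1 ≠ z2 := by
  intro h1
  have h2 := h.yz1
  rw [← h1] at h2
  exact h.ne ((conj_inv h2).symm.trans (conj_inv h.yz))

theorem zz1 (h : Data S z z1 z2 v1 v2 y w) : z * z1 = z2 := by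
  have c1 := h.z_comm z1 h.z1_mem
  have c2 := h.z_comm z2 h.z2_mem
  have c3 := h.z1z2_comm
  have e1 : (z * (z1 * z2)) * (z * (z1 * z2)) = 1 := by
    calc (z * (z1 * z2)) * (z * (z1 * z2)) = z * z1 * (z2 * z) * z1 * z2 := by group
      _ = z * (z1 * z) * (z2 * z1) * z2 := by rw [c2]; group
      _ = (z * z) * (z1 * z1) * (z2 * z2) := by rw [c1, ← c3]; group
      _ = 1 := by rw [h.z_sq, h.z1_sq, h.z2_sq]; simp
  have e2 : ∀ s ∈ S, s * (z * (z1 * z2)) = z * (z1 * z2) * s := by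
    intro s hs
    by_cases hq : s ∈ qq S y
    · calc s * (z * (z1 * z2)) = (s * z) * z1 * z2 := by group
        _ = z * (s * z1) * z2 := by rw [h.z_comm s hs]; group
        _ = z * z1 * (s * z2) := by rw [h.qq_comm1 hq]; group
        _ = z * (z1 * z2) * s := by rw [h.qq_comm2 hq]; group
    · calc s * (z * (z1 * z2)) = (s * z) * z1 * z2 := by group
        _ = z * (s * z1) * z2 := by rw [h.z_comm s hs]; group
        _ = z * z2 * (s * z2) := by rw [h.swap1 hs hq]; group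
        _ = z * (z1 * z2) * s := by rw [h.swap2 hs hq, c3]; group
  rcases h.z_uniq _ (S.mul_mem h.z_mem (S.mul_mem h.z1_mem h.z2_mem)) e1 e2 with e3 | e3
  · rw [← mul_assoc] at e3
    rw [eq_inv_of_mul_eq_one_left e3, inv_eq_self h.z2_sq]
  · exfalso
    have e4 : z1 * z2 = 1 := by simpa using e3
    apply h.z1_ne_z2
    rw [eq_inv_of_mul_eq_one_left e4, inv_eq_self h.z2_sq]

theorem z1z (h : Data S z z1 z2 v1 v2 y w) : z1 * z = z2 := by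
  rw [h.z_comm z1 h.z1_mem, h.zz1]

theorem z1z2 (h : Data S z z1 z2 v1 v2 y w) : z1 * z2 = z := by
  have h1 := cmul y z z1
  rw [h.zz1, h.yz2, h.yz, h.yz1] at h1
  exact h1.symm

theorem z2z1 (h : Data S z z1 z2 v1 v2 y w) : z2 * z1 = z := by
  rw [← h.z1z2_comm, h.z1z2]

theorem z2z (h : Data S z z1 z2 v1 v2 y w) : z2 * z = z1 := by
  have h1 := cmul y z1 z2
  rw [h.z1z2, h.yz, h.yz1, h.yz2] at h1
  exact h1.symm

theorem zz2 (h : Data S z z1 z2 v1 v2 y w) : z * z2 = z1 := by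
  rw [← h.z_comm z2 h.z2_mem, h.z2z]

theorem z1_ne (h : Data S z z1 z2 v1 v2 y w) : z1 ≠ 1 := by
  intro h1
  apply h.z_ne
  have h2 := conj_inv h.yz
  rw [h1] at h2
  rw [← h2]
  group

theorem z2_ne (h : Data S z z1 z2 v1 v2 y w) : z2 ≠ 1 := by
  intro h1
  apply h.z1_ne
  have h2 := conj_inv h.yz1
  rw [h1] at h2
  rw [← h2]
  group

theorem z2_ne_z (h : Data S z z1 z2 v1 v2 y w) : z2 ≠ z := by
  intro h1
  apply h.z1_ne
  have h2 := h.zz1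
  rw [h1] at h2
  simpa using h2

/-- An element of `S` centralising `z1` lies in `Q₁`. -/
theorem qq_of_comm (h : Data S z z1 z2 v1 v2 y w) {s : G} (hs : s ∈ S) (hc : s * z1 = z1 * s) :
    s ∈ qq S y := by
  by_contra hq
  have h1 := h.swap1 hs hq
  rw [hc] at h1
  exact h.z1_ne_z2 (mul_right_cancel h1)

theorem S_conj_z1 (h : Data S z z1 z2 v1 v2 y w) {s : G} (hs : s ∈ S) :
    s * z1 * s⁻¹ = z1 ∨ s * z1 * s⁻¹ = z * z1 := by
  by_cases hq : s ∈ qq S y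
  · left; rw [h.qq_comm1 hq]; group
  · right; rw [h.swap1 hs hq, h.zz1]; group

theorem z_qq (h : Data S z z1 z2 v1 v2 y w) : z ∈ qq S y :=
  h.qq_of_comm h.z_mem (h.z_comm z1 h.z1_mem).symm

theorem z1_qq (h : Data S z z1 z2 v1 v2 y w) : z1 ∈ qq S y := h.qq_of_comm h.z1_mem rfl

theorem z2_qq (h : Data S z z1 z2 v1 v2 y w) : z2 ∈ qq S y :=
  h.qq_of_comm h.z2_mem h.z1z2_comm.symm

/-! ### The group `⟨z1, v1, v2⟩` -/

theorem v1z1 (h : Data S z z1 z2 v1 v2 y w) : v1 * z1 = z * (z1 * v1) := by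
  rw [h.nab, ← mul_assoc, h.z_sq, one_mul]

theorem v1_not (h : Data S z z1 z2 v1 v2 y w) : v1 ∉ qq S y := by
  intro hq
  have h1 := h.qq_comm1 hq
  rw [h.v1z1] at h1
  exact h.z_ne (by simpa using h1)

theorem winv_z (h : Data S z z1 z2 v1 v2 y w) : w⁻¹ * z * w = z := conj_inv h.wz
theorem winv_v1 (h : Data S z z1 z2 v1 v2 y w) : w⁻¹ * v1 * w = z1 := conj_inv h.wz1
theorem winv_v2 (h : Data S z z1 z2 v1 v2 y w) : w⁻¹ * v2 * w = v1 := conj_inv h.wv1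
theorem winv_z1 (h : Data S z z1 z2 v1 v2 y w) : w⁻¹ * z1 * w = v2 := conj_inv h.wv2

theorem v1v2 (h : Data S z z1 z2 v1 v2 y w) : v1 * v2 = z * (v2 * v1) := by
  have h1 := congrArg (fun g => w * g * w⁻¹) h.nab
  simp only [cmul] at h1
  rwa [h.wz1, h.wv1, h.wz] at h1

theorem v2v1 (h : Data S z z1 z2 v1 v2 y w) : v2 * v1 = z * (v1 * v2) := by
  rw [h.v1v2, ← mul_assoc, h.z_sq, one_mul]

theorem v2z1 (h : Data S z z1 z2 v1 v2 y w) : v2 * z1 = z * (z1 * v2) := by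
  have h1 := congrArg (fun g => w * g * w⁻¹) h.v1v2
  simp only [cmul] at h1
  rwa [h.wv1, h.wv2, h.wz] at h1

theorem z1v2 (h : Data S z z1 z2 v1 v2 y w) : z1 * v2 = z * (v2 * z1) := by
  rw [h.v2z1, ← mul_assoc, h.z_sq, one_mul]

/-- the central element of order 4 -/
def y0 (_ : Data S z z1 z2 v1 v2 y w) : G := z1 * (v1 * v2)

theorem y0_def (h : Data S z z1 z2 v1 v2 y w) : h.y0 = z1 * (v1 * v2) := rfl

theorem y0_mem (h : Data S z z1 z2 v1 v2 y w) : h.y0 ∈ S :=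
  S.mul_mem h.z1_mem (S.mul_mem h.v1_mem h.v2_mem)

/-- Rewriting rules in `⟨z, z1, v1, v2⟩`. -/
theorem rules (h : Data S z z1 z2 v1 v2 y w) :
    (z * z = 1) ∧ (z1 * z1 = 1) ∧ (v1 * v1 = 1) ∧ (v2 * v2 = 1) ∧
    (z1 * z = z * z1) ∧ (v1 * z = z * v1) ∧ (v2 * z = z * v2) ∧
    (v1 * z1 = z * (z1 * v1)) ∧ (v2 * z1 = z * (z1 * v2)) ∧ (v2 * v1 = z * (v1 * v2)) ∧
    (∀ g, z * (z * g) = g) ∧ (∀ g, z1 * (z1 * g) = g) ∧ (∀ g, v1 * (v1 * g) = g) ∧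
    (∀ g, v2 * (v2 * g) = g) ∧
    (∀ g, z1 * (z * g) = z * (z1 * g)) ∧ (∀ g, v1 * (z * g) = z * (v1 * g)) ∧
    (∀ g, v2 * (z * g) = z * (v2 * g)) ∧
    (∀ g, v1 * (z1 * g) = z * (z1 * (v1 * g))) ∧ (∀ g, v2 * (z1 * g) = z * (z1 * (v2 * g))) ∧
    (∀ g, v2 * (v1 * g) = z * (v1 * (v2 * g))) := by
  refine ⟨h.z_sq, h.z1_sq, h.v1_sq, h.v2_sq, h.z_comm _ h.z1_mem, h.z_comm _ h.v1_mem,
    h.z_comm _ h.v2_mem, h.v1z1, h.v2z1, h.v2v1, ?_, ?_, ?_, ?_, ?_, ?_, ?_, ?_, ?_, ?_⟩ <;>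
    intro g
  · rw [← mul_assoc, h.z_sq, one_mul]
  · rw [← mul_assoc, h.z1_sq, one_mul]
  · rw [← mul_assoc, h.v1_sq, one_mul]
  · rw [← mul_assoc, h.v2_sq, one_mul]
  · rw [← mul_assoc, h.z_comm _ h.z1_mem, mul_assoc]
  · rw [← mul_assoc, h.z_comm _ h.v1_mem, mul_assoc]
  · rw [← mul_assoc, h.z_comm _ h.v2_mem, mul_assoc]
  · rw [← mul_assoc, h.v1z1]; simp only [mul_assoc]
  · rw [← mul_assoc, h.v2z1]; simp only [mul_assoc]
  · rw [← mul_assoc, h.v2v1]; simp only [mul_assoc]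

theorem y0_sq (h : Data S z z1 z2 v1 v2 y w) : h.y0 * h.y0 = z := by
  rw [y0_def]
  simp only [mul_assoc, h.rules, mul_one]

theorem z1_y0 (h : Data S z z1 z2 v1 v2 y w) : z1 * h.y0 = h.y0 * z1 := by
  rw [y0_def]
  simp only [mul_assoc, h.rules, mul_one]

theorem v1_y0 (h : Data S z z1 z2 v1 v2 y w) : v1 * h.y0 = h.y0 * v1 := by
  rw [y0_def]
  simp only [mul_assoc, h.rules, mul_one]

theorem v2_y0 (h : Data S z z1 z2 v1 v2 y w) : v2 * h.y0 = h.y0 * v2 := by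
  rw [y0_def]
  simp only [mul_assoc, h.rules, mul_one]

theorem w_y0 (h : Data S z z1 z2 v1 v2 y w) : w * h.y0 * w⁻¹ = h.y0 := by
  rw [y0_def, cmul, cmul, h.wz1, h.wv1, h.wv2]
  simp only [mul_assoc, h.rules, mul_one]

theorem y0_qq (h : Data S z z1 z2 v1 v2 y w) : h.y0 ∈ qq S y :=
  h.qq_of_comm h.y0_mem h.z1_y0.symm

theorem y0_inv (h : Data S z z1 z2 v1 v2 y w) : h.y0⁻¹ = z * h.y0 := by
  rw [inv_eq_iff_mul_eq_one, ← mul_assoc, h.z_comm _ h.y0_mem, mul_assoc, h.y0_sq, h.z_sq]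

/-- How `S` acts on `z1, v1, v2`. -/
theorem conj_qq (h : Data S z z1 z2 v1 v2 y w) {s : G} (hs : s ∈ qq S w) :
    (s * v1 * s⁻¹ = v1 ∨ s * v1 * s⁻¹ = z * v1) ∧ (s * v2 * s⁻¹ = v2 ∨ s * v2 * s⁻¹ = z * v2) := by
  obtain ⟨h1, h2, h3⟩ := mem_qq.1 hs
  constructor
  · have e : s * v1 * s⁻¹ = w * ((w⁻¹ * s * w) * z1 * (w⁻¹ * s * w)⁻¹) * w⁻¹ := by
      rw [← h.wz1]; group
    rw [e]
    rcases h.S_conj_z1 h2 with h4 | h4 <;> rw [h4]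
    · left; exact h.wz1
    · right; rw [cmul, h.wz, h.wz1]
  · have e : s * v2 * s⁻¹ = w⁻¹ * ((w * s * w⁻¹) * z1 * (w * s * w⁻¹)⁻¹) * w := by
      rw [← h.winv_z1]; group
    rw [e]
    rcases h.S_conj_z1 h3 with h4 | h4 <;> rw [h4]
    · left; exact h.winv_z1
    · right
      have e2 : w⁻¹ * (z * z1) * w = (w⁻¹ * z * w) * (w⁻¹ * z1 * w) := by group
      rw [e2, h.winv_z, h.winv_z1]

theorem conj_not_qq (h : Data S z z1 z2 v1 v2 y w) {s : G} (hs : s ∈ S) (hsq : s ∉ qq S w) :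
    (s * v1 * s⁻¹ = v2 ∨ s * v1 * s⁻¹ = z * v2) ∧ (s * v2 * s⁻¹ = v1 ∨ s * v2 * s⁻¹ = z * v1) := by
  obtain ⟨h2, h3⟩ := h.hw.not_qq hs hsq
  constructor
  · have e : s * v1 * s⁻¹ = w⁻¹ * ((w * s * w) * z1 * (w * s * w)⁻¹) * w := by
      rw [← h.wz1]; group
    rw [e]
    rcases h.S_conj_z1 h2 with h4 | h4 <;> rw [h4]
    · left; exact h.winv_z1
    · right
      have e2 : w⁻¹ * (z * z1) * w = (w⁻¹ * z * w) * (w⁻¹ * z1 * w) := by group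
      rw [e2, h.winv_z, h.winv_z1]
  · have e : s * v2 * s⁻¹ = w * ((w⁻¹ * s * w⁻¹) * z1 * (w⁻¹ * s * w⁻¹)⁻¹) * w⁻¹ := by
      rw [← h.winv_z1]; group
    rw [e]
    rcases h.S_conj_z1 h3 with h4 | h4 <;> rw [h4]
    · left; exact h.wz1
    · right; rw [cmul, h.wz, h.wz1]

/-- `S` normalises `⟨y0⟩`. -/
theorem conj_y0 (h : Data S z z1 z2 v1 v2 y w) {s : G} (hs : s ∈ S) :
    s * h.y0 * s⁻¹ = h.y0 ∨ s * h.y0 * s⁻¹ = z * h.y0 := by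
  rw [y0_def, cmul, cmul]
  by_cases hsq : s ∈ qq S w
  · obtain ⟨h1, h2⟩ := h.conj_qq hsq
    rcases h.S_conj_z1 hs with h3 | h3 <;> rcases h1 with h1 | h1 <;> rcases h2 with h2 | h2 <;>
      rw [h1, h2, h3] <;> simp only [mul_assoc, h.rules, mul_one, true_or, or_true]
  · obtain ⟨h1, h2⟩ := h.conj_not_qq hs hsq
    rcases h.S_conj_z1 hs with h3 | h3 <;> rcases h1 with h1 | h1 <;> rcases h2 with h2 | h2 <;>
      rw [h1, h2, h3] <;> simp only [mul_assoc, h.rules, mul_one, true_or, or_true]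

/-- `[S, v1] ⊆ {1, z, z1 y0, z z1 y0}`. -/
theorem comm_v1 (h : Data S z z1 z2 v1 v2 y w) {s : G} (hs : s ∈ S) :
    s * v1 * s⁻¹ * v1⁻¹ = 1 ∨ s * v1 * s⁻¹ * v1⁻¹ = z ∨ s * v1 * s⁻¹ * v1⁻¹ = z1 * h.y0 ∨
      s * v1 * s⁻¹ * v1⁻¹ = z * (z1 * h.y0) := by
  have hv : v1⁻¹ = v1 := inv_eq_self h.v1_sq
  rw [y0_def, hv]
  by_cases hsq : s ∈ qq S w
  · obtain ⟨h1 | h1, -⟩ := h.conj_qq hsq <;> rw [h1] <;>
      simp only [mul_assoc, h.rules, mul_one, true_or, or_true]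
  · obtain ⟨h1 | h1, -⟩ := h.conj_not_qq hs hsq <;> rw [h1] <;>
      simp only [mul_assoc, h.rules, mul_one, true_or, or_true]

end Data

end Cfsg.Agent.SectRankFour.C2.BTwoCData
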