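import Mathlib
import Cfsg.Agent.SectRankFour.C2.BTwoCData

/-!
# S0517, C2, section (2c), abstract part: the group `W = ⟨y1, y2⟩ = 4 × 4`

`y1 = y y0 y⁻¹`, `y2 = y y1 y⁻¹`; `y0 y1 y2 = 1`; `W = ⟨y1, y2⟩` is normal in `P₁`, `y` has no fixed points on
`W`, and `y` centralises `Q₁ / W`.
-/

set_option autoImplicit false

namespace Cfsg.Agent.SectRankFour.C2.BTwoCData.Data

open Cfsg.Agent.SectRankFour.C2.BThreeA

variable {G : Type*} [Group G] {S : Subgroup G} {z z1 z2 v1 v2 y w : G}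

/-- `y y0 y⁻¹` -/
def y1 (h : Data S z z1 z2 v1 v2 y w) : G := y * h.y0 * y⁻¹

/-- `y y1 y⁻¹` -/
def y2 (h : Data S z z1 z2 v1 v2 y w) : G := y * h.y1 * y⁻¹

variable (h : Data S z z1 z2 v1 v2 y w)
include h

theorem yy0 : y * h.y0 * y⁻¹ = h.y1 := rfl
theorem yy1 : y * h.y1 * y⁻¹ = h.y2 := rfl

theorem y_inv_y : y⁻¹ * y⁻¹ = y := inv_mul_inv h.hy.cube

theorem y_y : y * y = y⁻¹ := sq_eq_inv h.hy.cube

theorem yy2 : y * h.y2 * y⁻¹ = h.y0 := by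
  rw [y2, y1]
  have e : y * (y * (y * h.y0 * y⁻¹) * y⁻¹) * y⁻¹ = (y * y * y) * h.y0 * (y * y * y)⁻¹ := by group
  rw [e, h.hy.cube]
  group

theorem y1_qq : h.y1 ∈ qq S y := h.hy.conj h.y0_qq
theorem y2_qq : h.y2 ∈ qq S y := h.hy.conj h.y1_qq
theorem y1_mem : h.y1 ∈ S := qq_le _ _ h.y1_qq
theorem y2_mem : h.y2 ∈ S := qq_le _ _ h.y2_qq

theorem y1_sq : h.y1 * h.y1 = z1 := by
  rw [← h.yy0, ← cmul, h.y0_sq, h.yz]

theorem y2_sq : h.y2 * h.y2 = z2 := by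
  rw [← h.yy1, ← cmul, h.y1_sq, h.yz1]

/-- `v1` inverts `y`. -/
theorem v1_y : v1 * y = y⁻¹ * v1 := by
  have := h.ty
  calc v1 * y = v1 * y * v1⁻¹ * v1 := by group
    _ = y⁻¹ * v1 := by rw [this]

theorem v1_yinv : v1 * y⁻¹ = y * v1 := by
  have h1 := h.v1_y
  calc v1 * y⁻¹ = y * (y⁻¹ * v1) * y⁻¹ := by group
    _ = y * (v1 * y) * y⁻¹ := by rw [h1]
    _ = y * v1 := by group

theorem v1_y1 : v1 * h.y1 * v1⁻¹ = h.y2 := by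
  have e2 : h.y2 = y⁻¹ * h.y0 * y := by rw [← h.yy2]; group
  rw [e2, y1]
  calc v1 * (y * h.y0 * y⁻¹) * v1⁻¹ = (v1 * y) * h.y0 * (v1 * y)⁻¹ := by group
    _ = y⁻¹ * (v1 * h.y0) * v1⁻¹ * y := by rw [h.v1_y]; group
    _ = y⁻¹ * h.y0 * y := by rw [h.v1_y0]; group

theorem v1_y2 : v1 * h.y2 * v1⁻¹ = h.y1 := by
  have hv : v1⁻¹ = v1 := inv_eq_self h.v1_sq
  rw [← h.v1_y1, hv]
  calc v1 * (v1 * h.y1 * v1) * v1 = (v1 * v1) * h.y1 * (v1 * v1) := by group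
    _ = h.y1 := by rw [h.v1_sq]; group

theorem v1_y0' : v1 * h.y0 * v1⁻¹ = h.y0 := by rw [h.v1_y0]; group

/-! ### `Q₁` acts by signs -/

theorem conj_y1 {q : G} (hq : q ∈ qq S y) :
    q * h.y1 * q⁻¹ = h.y1 ∨ q * h.y1 * q⁻¹ = z1 * h.y1 := by
  have hq' := (mem_qq.1 hq).2.1
  have e : q * h.y1 * q⁻¹ = y * ((y⁻¹ * q * y) * h.y0 * (y⁻¹ * q * y)⁻¹) * y⁻¹ := by
    rw [y1]; group
  rw [e]
  rcases h.conj_y0 hq' with h1 | h1 <;> rw [h1]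
  · left; rfl
  · right; rw [cmul, h.yz, h.yy0]

theorem conj_y2 {q : G} (hq : q ∈ qq S y) :
    q * h.y2 * q⁻¹ = h.y2 ∨ q * h.y2 * q⁻¹ = z2 * h.y2 := by
  have hq' := h.hy.conj' hq
  have e : q * h.y2 * q⁻¹ = y * ((y⁻¹ * q * y) * h.y1 * (y⁻¹ * q * y)⁻¹) * y⁻¹ := by
    rw [y2]; group
  rw [e]
  rcases h.conj_y1 hq' with h1 | h1 <;> rw [h1]
  · left; rfl
  · right; rw [cmul, h.yz1, h.yy1]

theorem y0y1 : h.y0 * h.y1 = h.y1 * h.y0 := by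
  have h1 : h.y0 * h.y1 * h.y0⁻¹ * h.y1⁻¹ = 1 ∨ h.y0 * h.y1 * h.y0⁻¹ * h.y1⁻¹ = z1 := by
    rcases h.conj_y1 h.y0_qq with h1 | h1 <;> rw [h1]
    · left; group
    · right; group
  have h2 : h.y0 * h.y1 * h.y0⁻¹ * h.y1⁻¹ = 1 ∨ h.y0 * h.y1 * h.y0⁻¹ * h.y1⁻¹ = z := by
    have e : h.y0 * h.y1 * h.y0⁻¹ * h.y1⁻¹ = h.y0 * (h.y1 * h.y0 * h.y1⁻¹)⁻¹ := by group
    rw [e]
    rcases h.conj_y0 h.y1_mem with h1 | h1 <;> rw [h1]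
    · left; group
    · right
      rw [mul_inv_rev, ← mul_assoc, mul_inv_cancel, one_mul, inv_eq_self h.z_sq]
  have h3 : h.y0 * h.y1 * h.y0⁻¹ * h.y1⁻¹ = 1 := by
    rcases h1 with h1 | h1
    · exact h1
    · rcases h2 with h2 | h2
      · exact h2
      · exact absurd (h1.symm.trans h2) h.ne
  calc h.y0 * h.y1 = h.y0 * h.y1 * h.y0⁻¹ * h.y1⁻¹ * h.y1 * h.y0 := by group
    _ = h.y1 * h.y0 := by rw [h3, one_mul]

theorem y1y2 : h.y1 * h.y2 = h.y2 * h.y1 := conj_comm h.yy0 h.yy1 h.y0y1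
theorem y2y0 : h.y2 * h.y0 = h.y0 * h.y2 := conj_comm h.yy1 h.yy2 h.y1y2

/-- The elements `1, z, z1 y0, z z1 y0` commute with `y1`, `y2`. -/
theorem comm_of {c g : G} (hz : g * z = z * g) (hz1 : g * z1 = z1 * g) (hy0 : g * h.y0 = h.y0 * g)
    (hc : c = 1 ∨ c = z ∨ c = z1 * h.y0 ∨ c = z * (z1 * h.y0)) : g * c = c * g := by
  have e1 : g * (z1 * h.y0) = (z1 * h.y0) * g := by
    rw [← mul_assoc, hz1, mul_assoc, hy0, mul_assoc]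
  rcases hc with rfl | rfl | rfl | rfl
  · simp
  · exact hz
  · exact e1
  · rw [← mul_assoc, hz, mul_assoc, e1, ← mul_assoc]

theorem y1_z : h.y1 * z = z * h.y1 := h.z_comm _ h.y1_mem
theorem y2_z : h.y2 * z = z * h.y2 := h.z_comm _ h.y2_mem
theorem y1_z1 : h.y1 * z1 = z1 * h.y1 := h.qq_comm1 h.y1_qq
theorem y2_z1 : h.y2 * z1 = z1 * h.y2 := h.qq_comm1 h.y2_qq
theorem y1_z2 : h.y1 * z2 = z2 * h.y1 := h.qq_comm2 h.y1_qq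
theorem y2_z2 : h.y2 * z2 = z2 * h.y2 := h.qq_comm2 h.y2_qq
theorem y0_z : h.y0 * z = z * h.y0 := h.z_comm _ h.y0_mem
theorem y0_z1 : h.y0 * z1 = z1 * h.y0 := h.qq_comm1 h.y0_qq
theorem y0_z2 : h.y0 * z2 = z2 * h.y0 := h.qq_comm2 h.y0_qq

/-- Coherence of the signs, step `1 → 2`. -/
theorem sign12 {q : G} (hq : q ∈ qq S y) (h1 : q * h.y1 * q⁻¹ = h.y1) :
    q * h.y2 * q⁻¹ = h.y2 := by
  have hc := h.comm_v1 (qq_le _ _ hq)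
  set c := q * v1 * q⁻¹ * v1⁻¹ with hcdef
  have hc2 : h.y2 * c = c * h.y2 := h.comm_of h.y2_z h.y2_z1 h.y2y0 hc
  calc q * h.y2 * q⁻¹ = q * (v1 * h.y1 * v1⁻¹) * q⁻¹ := by rw [h.v1_y1]
    _ = c * (v1 * (q * h.y1 * q⁻¹) * v1⁻¹) * c⁻¹ := by rw [hcdef]; group
    _ = c * h.y2 * c⁻¹ := by rw [h1, h.v1_y1]
    _ = h.y2 := by rw [← hc2]; group

theorem sign20 {q : G} (hq : q ∈ qq S y) (h1 : q * h.y2 * q⁻¹ = h.y2) :
    q * h.y0 * q⁻¹ = h.y0 := by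
  have h2 := h.sign12 (h.hy.conj' hq) (by
    have e : y⁻¹ * q * y * h.y1 * (y⁻¹ * q * y)⁻¹ = y⁻¹ * (q * h.y2 * q⁻¹) * y := by
      rw [y2]; group
    rw [e, h1, y2]; group)
  have e : q * h.y0 * q⁻¹ = y * (y⁻¹ * q * y * h.y2 * (y⁻¹ * q * y)⁻¹) * y⁻¹ := by
    rw [← h.yy2]; group
  rw [e, h2, h.yy2]

theorem sign01 {q : G} (hq : q ∈ qq S y) (h1 : q * h.y0 * q⁻¹ = h.y0) :
    q * h.y1 * q⁻¹ = h.y1 := by
  have h2 := h.sign20 (h.hy.conj' hq) (by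
    have e : y⁻¹ * q * y * h.y2 * (y⁻¹ * q * y)⁻¹ = y⁻¹ * (q * h.y0 * q⁻¹) * y := by
      rw [← h.yy2]; group
    rw [e, h1, ← h.yy2]; group)
  have e : q * h.y1 * q⁻¹ = y * (y⁻¹ * q * y * h.y0 * (y⁻¹ * q * y)⁻¹) * y⁻¹ := by
    rw [← h.yy0]; group
  rw [e, h2, h.yy0]

theorem signs {q : G} (hq : q ∈ qq S y) :
    (q * h.y0 * q⁻¹ = h.y0 ∧ q * h.y1 * q⁻¹ = h.y1 ∧ q * h.y2 * q⁻¹ = h.y2) ∨
      (q * h.y0 * q⁻¹ = z * h.y0 ∧ q * h.y1 * q⁻¹ = z1 * h.y1 ∧ q * h.y2 * q⁻¹ = z2 * h.y2) := by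
  by_cases h0 : q * h.y0 * q⁻¹ = h.y0
  · left
    exact ⟨h0, h.sign01 hq h0, h.sign12 hq (h.sign01 hq h0)⟩
  · right
    have h2 : q * h.y2 * q⁻¹ ≠ h.y2 := fun h2 => h0 (h.sign20 hq h2)
    have h1 : q * h.y1 * q⁻¹ ≠ h.y1 := fun h1 => h2 (h.sign12 hq h1)
    exact ⟨(h.conj_y0 (qq_le _ _ hq)).resolve_left h0, (h.conj_y1 hq).resolve_left h1,
      (h.conj_y2 hq).resolve_left h2⟩

/-- `y0 y1 y2 = 1`. -/
theorem prod_eq : h.y0 * (h.y1 * h.y2) = 1 := by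
  have hz12 : z * (z1 * z2) = 1 := by rw [h.z1z2, h.z_sq]
  have hyc : y * (h.y0 * (h.y1 * h.y2)) * y⁻¹ = h.y0 * (h.y1 * h.y2) := by
    rw [cmul, cmul, h.yy0, h.yy1, h.yy2, ← mul_assoc, h.y1y2, mul_assoc, ← h.y0y1, ← mul_assoc,
      h.y2y0, mul_assoc]
  have hS : ∀ s ∈ S, s * (h.y0 * (h.y1 * h.y2)) = h.y0 * (h.y1 * h.y2) * s := by
    have hQ : ∀ q ∈ qq S y, q * (h.y0 * (h.y1 * h.y2)) * q⁻¹ = h.y0 * (h.y1 * h.y2) := by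
      intro q hq
      rw [cmul, cmul]
      rcases h.signs hq with ⟨a, b, c⟩ | ⟨a, b, c⟩ <;> rw [a, b, c]
      calc z * h.y0 * (z1 * h.y1 * (z2 * h.y2)) = z * (h.y0 * z1) * (h.y1 * z2) * h.y2 := by group
        _ = z * z1 * (h.y0 * z2) * h.y1 * h.y2 := by rw [h.y0_z1, h.y1_z2]; group
        _ = (z * (z1 * z2)) * (h.y0 * (h.y1 * h.y2)) := by rw [h.y0_z2]; group
        _ = h.y0 * (h.y1 * h.y2) := by rw [hz12, one_mul]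
    intro s hs
    by_cases hq : s ∈ qq S y
    · calc s * (h.y0 * (h.y1 * h.y2)) = s * (h.y0 * (h.y1 * h.y2)) * s⁻¹ * s := by group
        _ = h.y0 * (h.y1 * h.y2) * s := by rw [hQ s hq]
    · have h1 := hQ _ (h.hy.mul_not_qq h.v1_mem hs h.v1_not hq)
      have h2 : v1 * (h.y0 * (h.y1 * h.y2)) * v1⁻¹ = h.y0 * (h.y1 * h.y2) := by
        rw [cmul, cmul, h.v1_y0', h.v1_y1, h.v1_y2, h.y1y2]
      have h3 : s * (h.y0 * (h.y1 * h.y2)) * s⁻¹ = h.y0 * (h.y1 * h.y2) := by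
        have e : v1 * (s * (h.y0 * (h.y1 * h.y2)) * s⁻¹) * v1⁻¹ =
            v1 * (h.y0 * (h.y1 * h.y2)) * v1⁻¹ := by
          rw [h2]
          refine Eq.trans ?_ h1
          group
        exact mul_left_cancel (mul_right_cancel e)
      calc s * (h.y0 * (h.y1 * h.y2)) = s * (h.y0 * (h.y1 * h.y2)) * s⁻¹ * s := by group
        _ = h.y0 * (h.y1 * h.y2) * s := by rw [h3]
  have hsq : (h.y0 * (h.y1 * h.y2)) * (h.y0 * (h.y1 * h.y2)) = 1 := by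
    calc (h.y0 * (h.y1 * h.y2)) * (h.y0 * (h.y1 * h.y2))
        = h.y0 * h.y1 * (h.y2 * h.y0) * h.y1 * h.y2 := by group
      _ = h.y0 * (h.y1 * h.y0) * (h.y2 * h.y1) * h.y2 := by rw [h.y2y0]; group
      _ = (h.y0 * h.y0) * ((h.y1 * h.y1) * (h.y2 * h.y2)) := by rw [← h.y0y1, ← h.y1y2]; group
      _ = 1 := by rw [h.y0_sq, h.y1_sq, h.y2_sq, hz12]
  rcases h.z_uniq _ (S.mul_mem h.y0_mem (S.mul_mem h.y1_mem h.y2_mem)) hsq hS with h1 | h1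
  · exact h1
  · rw [h1, h.yz] at hyc
    exact absurd hyc h.ne

end Cfsg.Agent.SectRankFour.C2.BTwoCData.Data
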