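import Mathlib
import Cfsg.Agent.SectRankFour.C2.BTwoCW

/-!
# S0517, C2, section (2c), abstract part: `W = V ∪ V y0 ∪ V y1 ∪ V y2`
-/

set_option autoImplicit false

namespace Cfsg.Agent.SectRankFour.C2.BTwoCData.Data

open Cfsg.Agent.SectRankFour.C2.BThreeA

variable {G : Type*} [Group G] {S : Subgroup G} {z z1 z2 v1 v2 y w : G}

/-- The four-group `V = {1, z, z1, z2}`. -/
def V (h : Data S z z1 z2 v1 v2 y w) : Subgroup G where
  carrier := {g | g = 1 ∨ g = z ∨ g = z1 ∨ g = z2}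
  one_mem' := Or.inl rfl
  mul_mem' := by
    rintro a b (rfl | rfl | rfl | rfl) (rfl | rfl | rfl | rfl) <;>
      simp only [Set.mem_ofPred_eq, one_mul, mul_one, h.zz1, h.zz2, h.z1z, h.z1z2, h.z2z, h.z2z1,
        h.z_sq, h.z1_sq, h.z2_sq, true_or, or_true]
  inv_mem' := by
    rintro a (rfl | rfl | rfl | rfl)
    · left; simp
    · right; left; exact inv_eq_self h.z_sq
    · right; right; left; exact inv_eq_self h.z1_sq
    · right; right; right; exact inv_eq_self h.z2_sq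

variable (h : Data S z z1 z2 v1 v2 y w)
include h

theorem mem_V {g : G} : g ∈ h.V ↔ g = 1 ∨ g = z ∨ g = z1 ∨ g = z2 := Iff.rfl

theorem z_V : z ∈ h.V := Or.inr (Or.inl rfl)
theorem z1_V : z1 ∈ h.V := Or.inr (Or.inr (Or.inl rfl))
theorem z2_V : z2 ∈ h.V := Or.inr (Or.inr (Or.inr rfl))

theorem V_le : h.V ≤ qq S y := by
  rintro g (rfl | rfl | rfl | rfl)
  exacts [(qq S y).one_mem, h.z_qq, h.z1_qq, h.z2_qq]

theorem V_sq : ∀ g ∈ h.V, g * g = 1 := by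
  rintro g (rfl | rfl | rfl | rfl)
  exacts [mul_one 1, h.z_sq, h.z1_sq, h.z2_sq]

theorem qq_comm_V {q : G} (hq : q ∈ qq S y) : ∀ v ∈ h.V, q * v = v * q := by
  rintro g (rfl | rfl | rfl | rfl)
  exacts [by simp, h.z_comm q (qq_le S y hq), h.qq_comm1 hq, h.qq_comm2 hq]

theorem S_conj_V {s : G} (hs : s ∈ S) {v : G} (hv : v ∈ h.V) : s * v * s⁻¹ ∈ h.V := by
  by_cases hq : s ∈ qq S y
  · rw [h.qq_comm_V hq v hv]
    simpa using hv
  · rcases hv with rfl | rfl | rfl | rfl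
    · simp [h.V.one_mem]
    · rw [h.z_comm s hs]; simpa using h.z_V
    · rw [h.swap1 hs hq]; simpa using h.z2_V
    · rw [h.swap2 hs hq]; simpa using h.z1_V

theorem y_conj_V {v : G} (hv : v ∈ h.V) : y * v * y⁻¹ ∈ h.V := by
  rcases hv with rfl | rfl | rfl | rfl
  · simp [h.V.one_mem]
  · rw [h.yz]; exact h.z1_V
  · rw [h.yz1]; exact h.z2_V
  · rw [h.yz2]; exact h.z_V

theorem fix_V {v : G} (hv : v ∈ h.V) (hy : y * v * y⁻¹ = v) : v = 1 := by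
  rcases hv with rfl | rfl | rfl | rfl
  · rfl
  · rw [h.yz] at hy; exact absurd hy h.ne
  · rw [h.yz1] at hy; exact absurd hy h.z1_ne_z2.symm
  · rw [h.yz2] at hy; exact absurd hy.symm h.z2_ne_z

theorem card_V [Finite G] : Nat.card h.V = 4 := by
  have h1 : (h.V : Set G) = ({1, z, z1, z2} : Set G) := by
    ext g
    simp only [Set.mem_insert_iff, Set.mem_singleton_iff]
    exact Iff.rfl
  have h2 : Nat.card (h.V : Set G) = 4 := by
    rw [h1, Nat.card_coe_set_eq]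
    have h01 : (1 : G) ∉ ({z, z1, z2} : Set G) := by
      simp only [Set.mem_insert_iff, Set.mem_singleton_iff, not_or]
      exact ⟨h.z_ne.symm, h.z1_ne.symm, h.z2_ne.symm⟩
    have h02 : z ∉ ({z1, z2} : Set G) := by
      simp only [Set.mem_insert_iff, Set.mem_singleton_iff, not_or]
      exact ⟨h.ne.symm, h.z2_ne_z.symm⟩
    rw [Set.ncard_insert_of_notMem h01 (Set.toFinite _),
      Set.ncard_insert_of_notMem h02 (Set.toFinite _), Set.ncard_pair h.z1_ne_z2]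
  exact h2

/-! ### The table of `W` -/

theorem inv0 : h.y0⁻¹ = z * h.y0 := h.y0_inv

theorem inv1 : h.y1⁻¹ = z1 * h.y1 := by
  rw [inv_eq_iff_mul_eq_one, ← mul_assoc, h.y1_z1, mul_assoc, h.y1_sq, h.z1_sq]

theorem inv2 : h.y2⁻¹ = z2 * h.y2 := by
  rw [inv_eq_iff_mul_eq_one, ← mul_assoc, h.y2_z2, mul_assoc, h.y2_sq, h.z2_sq]

theorem t12 : h.y1 * h.y2 = z * h.y0 := by
  rw [← h.inv0]
  exact eq_inv_of_mul_eq_one_right h.prod_eq

theorem t21 : h.y2 * h.y1 = z * h.y0 := by rw [← h.y1y2, h.t12]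

theorem t01 : h.y0 * h.y1 = z2 * h.y2 := by
  rw [← h.inv2]
  have := h.prod_eq
  rw [← mul_assoc] at this
  exact eq_inv_of_mul_eq_one_left this

theorem t10 : h.y1 * h.y0 = z2 * h.y2 := by rw [← h.y0y1, h.t01]

theorem t02 : h.y0 * h.y2 = z1 * h.y1 := by
  have h1 := congrArg (fun g => y * g * y⁻¹) h.t21
  have h2 := congrArg (fun g => y * g * y⁻¹) h.t12
  simp only [cmul] at h1 h2
  rw [h.yy1, h.yy2, h.yz, h.yy0] at h2
  rw [← h.y2y0, h2]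

theorem t20 : h.y2 * h.y0 = z1 * h.y1 := by rw [h.y2y0, h.t02]

theorem y0_not_V : h.y0 ∉ h.V := by
  intro h1
  have h2 := h.V_sq _ h1
  rw [h.y0_sq] at h2
  exact h.z_ne h2

theorem norm0 : ∀ a ∈ h.V, h.y0 * a * h.y0⁻¹ ∈ h.V := fun _ ha => h.S_conj_V h.y0_mem ha
theorem sq0 : h.y0 * h.y0 ∈ h.V := by rw [h.y0_sq]; exact h.z_V

/-- `V ∪ V y0` -/
def A1 : Subgroup G := ex h.V h.y0 h.norm0 h.sq0

theorem mem_A1 {g : G} : g ∈ h.A1 ↔ g ∈ h.V ∨ h.y0 * g ∈ h.V := Iff.rfl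

theorem V_le_A1 : h.V ≤ h.A1 := fun _ hv => Or.inl hv
theorem y0_A1 : h.y0 ∈ h.A1 := Or.inr h.sq0

theorem mem_A1' {g : G} : g ∈ h.A1 ↔ ∃ v ∈ h.V, g = v ∨ g = v * h.y0 := by
  constructor
  · rintro (hg | hg)
    · exact ⟨g, hg, Or.inl rfl⟩
    · refine ⟨(h.y0 * g) * z, h.V.mul_mem hg h.z_V, Or.inr ?_⟩
      have h1 := h.qq_comm_V h.y0_qq _ hg
      have e : h.y0 * (h.y0 * g) = z * g := by rw [← mul_assoc, h.y0_sq]
      rw [h1] at e
      calc g = z * (z * g) := by rw [← mul_assoc, h.z_sq, one_mul]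
        _ = z * (h.y0 * g * h.y0) := by rw [e]
        _ = (h.y0 * g) * z * h.y0 := by
          rw [← mul_assoc, ← h.z_comm _ (S.mul_mem h.y0_mem ?_)]
          have h3 := qq_le _ _ (h.V_le hg)
          have h4 := S.mul_mem (S.inv_mem h.y0_mem) h3
          have e2 : h.y0⁻¹ * (h.y0 * g) = g := by group
          rwa [e2] at h4
  · rintro ⟨v, hv, rfl | rfl⟩
    · exact h.V_le_A1 hv
    · exact h.A1.mul_mem (h.V_le_A1 hv) h.y0_A1

theorem norm1 : ∀ a ∈ h.A1, h.y1 * a * h.y1⁻¹ ∈ h.A1 := by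
  intro a ha
  obtain ⟨v, hv, rfl | rfl⟩ := h.mem_A1'.1 ha
  · exact h.V_le_A1 (h.S_conj_V h.y1_mem hv)
  · rw [cmul]
    refine h.A1.mul_mem (h.V_le_A1 (h.S_conj_V h.y1_mem hv)) ?_
    rw [← h.y0y1, mul_assoc, mul_inv_cancel, mul_one]
    exact h.y0_A1

theorem sq1 : h.y1 * h.y1 ∈ h.A1 := by rw [h.y1_sq]; exact h.V_le_A1 h.z1_V

/-- `W = V ∪ V y0 ∪ V y1 ∪ V y2` -/
def W : Subgroup G := ex h.A1 h.y1 h.norm1 h.sq1

theorem mem_W {g : G} : g ∈ h.W ↔ g ∈ h.A1 ∨ h.y1 * g ∈ h.A1 := Iff.rfl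

theorem A1_le_W : h.A1 ≤ h.W := fun _ hv => Or.inl hv
theorem V_le_W : h.V ≤ h.W := h.V_le_A1.trans h.A1_le_W
theorem y0_W : h.y0 ∈ h.W := h.A1_le_W h.y0_A1
theorem y1_W : h.y1 ∈ h.W := Or.inr h.sq1

theorem y2_W : h.y2 ∈ h.W := by
  have h1 : h.y2 = h.y0⁻¹ * h.y1⁻¹ := by
    have := h.prod_eq
    rw [h.y1y2, ← mul_assoc] at this
    calc h.y2 = h.y0⁻¹ * (h.y0 * h.y2 * h.y1) * h.y1⁻¹ := by group
      _ = h.y0⁻¹ * h.y1⁻¹ := by rw [this]; group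
  rw [h1]
  exact h.W.mul_mem (h.W.inv_mem h.y0_W) (h.W.inv_mem h.y1_W)

/-- The explicit description of `W`. -/
theorem mem_W' {g : G} : g ∈ h.W ↔ ∃ v ∈ h.V, g = v ∨ g = v * h.y0 ∨ g = v * h.y1 ∨
    g = v * h.y2 := by
  constructor
  · rintro (hg | hg)
    · obtain ⟨v, hv, h1 | h1⟩ := h.mem_A1'.1 hg
      · exact ⟨v, hv, Or.inl h1⟩
      · exact ⟨v, hv, Or.inr (Or.inl h1)⟩
    · obtain ⟨v, hv, h1 | h1⟩ := h.mem_A1'.1 hg
      · refine ⟨v * z1, h.V.mul_mem hv h.z1_V, Or.inr (Or.inr (Or.inl ?_))⟩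
        calc g = h.y1⁻¹ * (h.y1 * g) := by group
          _ = z1 * h.y1 * v := by rw [h1, h.inv1]
          _ = z1 * (h.y1 * v) := by group
          _ = (z1 * v) * h.y1 := by rw [h.qq_comm_V h.y1_qq v hv]; group
          _ = v * z1 * h.y1 := by rw [h.qq_comm_V h.z1_qq v hv]
      · refine ⟨v * (z1 * z2), h.V.mul_mem hv (h.V.mul_mem h.z1_V h.z2_V),
          Or.inr (Or.inr (Or.inr ?_))⟩
        calc g = h.y1⁻¹ * (h.y1 * g) := by group
          _ = z1 * h.y1 * (v * h.y0) := by rw [h1, h.inv1]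
          _ = z1 * (h.y1 * v) * h.y0 := by group
          _ = (z1 * v) * (h.y1 * h.y0) := by rw [h.qq_comm_V h.y1_qq v hv]; group
          _ = v * (z1 * z2) * h.y2 := by rw [h.qq_comm_V h.z1_qq v hv, h.t10]; group
  · rintro ⟨v, hv, rfl | rfl | rfl | rfl⟩
    · exact h.V_le_W hv
    · exact h.W.mul_mem (h.V_le_W hv) h.y0_W
    · exact h.W.mul_mem (h.V_le_W hv) h.y1_W
    · exact h.W.mul_mem (h.V_le_W hv) h.y2_W

theorem W_le : h.W ≤ qq S y := by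
  intro g hg
  obtain ⟨v, hv, rfl | rfl | rfl | rfl⟩ := h.mem_W'.1 hg
  · exact h.V_le hv
  · exact (qq S y).mul_mem (h.V_le hv) h.y0_qq
  · exact (qq S y).mul_mem (h.V_le hv) h.y1_qq
  · exact (qq S y).mul_mem (h.V_le hv) h.y2_qq

theorem W_le_S : h.W ≤ S := h.W_le.trans (qq_le _ _)

/-- An element commuting with `V` and `y1`, `y2` commutes with `W`. -/
theorem comm_W {c : G} (hV : ∀ v ∈ h.V, c * v = v * c) (h1 : c * h.y1 = h.y1 * c)
    (h2 : c * h.y2 = h.y2 * c) : ∀ g ∈ h.W, c * g = g * c := by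
  have h0 : c * h.y0 = h.y0 * c := by
    have e : h.y0 = (h.y1 * h.y2)⁻¹ := eq_inv_of_mul_eq_one_left h.prod_eq
    have e1 : Commute c (h.y1 * h.y2) := Commute.mul_right h1 h2
    rw [e]
    exact e1.inv_right
  intro g hg
  obtain ⟨v, hv, rfl | rfl | rfl | rfl⟩ := h.mem_W'.1 hg
  · exact hV _ hv
  · exact Commute.mul_right (hV v hv) h0
  · exact Commute.mul_right (hV v hv) h1
  · exact Commute.mul_right (hV v hv) h2

theorem W_comm : ∀ a ∈ h.W, ∀ b ∈ h.W, a * b = b * a := by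
  intro a ha
  have hV := h.qq_comm_V (h.W_le ha)
  refine h.comm_W hV ?_ ?_
  · symm
    refine h.comm_W (h.qq_comm_V h.y1_qq) rfl h.y1y2 a ha
  · symm
    refine h.comm_W (h.qq_comm_V h.y2_qq) h.y1y2.symm rfl a ha

theorem y_conj_W {g : G} (hg : g ∈ h.W) : y * g * y⁻¹ ∈ h.W := by
  obtain ⟨v, hv, rfl | rfl | rfl | rfl⟩ := h.mem_W'.1 hg
  · exact h.V_le_W (h.y_conj_V hv)
  · rw [cmul, h.yy0]; exact h.W.mul_mem (h.V_le_W (h.y_conj_V hv)) h.y1_W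
  · rw [cmul, h.yy1]; exact h.W.mul_mem (h.V_le_W (h.y_conj_V hv)) h.y2_W
  · rw [cmul, h.yy2]; exact h.W.mul_mem (h.V_le_W (h.y_conj_V hv)) h.y0_W

theorem yinv_conj_W {g : G} (hg : g ∈ h.W) : y⁻¹ * g * y ∈ h.W := by
  have h1 := h.y_conj_W (h.y_conj_W hg)
  have e : y * (y * g * y⁻¹) * y⁻¹ = (y * y) * g * (y * y)⁻¹ := by group
  rw [e, h.y_y, inv_inv] at h1
  exact h1

theorem S_conj_W {s : G} (hs : s ∈ S) {g : G} (hg : g ∈ h.W) : s * g * s⁻¹ ∈ h.W := by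
  have hQ : ∀ q ∈ qq S y, ∀ g ∈ h.W, q * g * q⁻¹ ∈ h.W := by
    intro q hq g hg
    obtain ⟨v, hv, h1⟩ := h.mem_W'.1 hg
    have hvW := h.V_le_W (h.S_conj_V (qq_le _ _ hq) hv)
    rcases h.signs hq with ⟨a, b, c⟩ | ⟨a, b, c⟩ <;> rcases h1 with rfl | rfl | rfl | rfl <;>
      first
      | exact hvW
      | (rw [cmul]
         refine h.W.mul_mem hvW ?_
         first | rw [a] | rw [b] | rw [c]
         first
         | exact h.y0_W
         | exact h.y1_W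
         | exact h.y2_W
         | exact h.W.mul_mem (h.V_le_W h.z_V) h.y0_W
         | exact h.W.mul_mem (h.V_le_W h.z1_V) h.y1_W
         | exact h.W.mul_mem (h.V_le_W h.z2_V) h.y2_W)
  by_cases hq : s ∈ qq S y
  · exact hQ s hq g hg
  · have h1 := hQ _ (h.hy.mul_not_qq h.v1_mem hs h.v1_not hq) g hg
    have hv : v1⁻¹ = v1 := inv_eq_self h.v1_sq
    have h2 : ∀ g ∈ h.W, v1 * g * v1⁻¹ ∈ h.W := by
      intro g hg
      obtain ⟨v, hv, rfl | rfl | rfl | rfl⟩ := h.mem_W'.1 hg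
      · exact h.V_le_W (h.S_conj_V h.v1_mem hv)
      · rw [cmul, h.v1_y0']; exact h.W.mul_mem (h.V_le_W (h.S_conj_V h.v1_mem hv)) h.y0_W
      · rw [cmul, h.v1_y1]; exact h.W.mul_mem (h.V_le_W (h.S_conj_V h.v1_mem hv)) h.y2_W
      · rw [cmul, h.v1_y2]; exact h.W.mul_mem (h.V_le_W (h.S_conj_V h.v1_mem hv)) h.y1_W
    have h3 := h2 _ h1
    have e : v1 * (v1 * s * g * (v1 * s)⁻¹) * v1⁻¹ = (v1 * v1) * (s * g * s⁻¹) * (v1 * v1)⁻¹ := by
      group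
    rw [e, h.v1_sq] at h3
    simpa using h3

/-- Squares in `W`. -/
theorem W_sq {g : G} (hg : g ∈ h.W) : g ∈ h.V ∨ g * g = z ∨ g * g = z1 ∨ g * g = z2 := by
  have key : ∀ v ∈ h.V, ∀ a ∈ qq S y, (v * a) * (v * a) = a * a := by
    intro v hv a ha
    calc (v * a) * (v * a) = v * (a * v) * a := by group
      _ = (v * v) * (a * a) := by rw [h.qq_comm_V ha v hv]; group
      _ = a * a := by rw [h.V_sq v hv, one_mul]
  obtain ⟨v, hv, rfl | rfl | rfl | rfl⟩ := h.mem_W'.1 hg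
  · exact Or.inl hv
  · right; left; rw [key v hv _ h.y0_qq, h.y0_sq]
  · right; right; left; rw [key v hv _ h.y1_qq, h.y1_sq]
  · right; right; right; rw [key v hv _ h.y2_qq, h.y2_sq]

theorem mem_V_of_sq {g : G} (hg : g ∈ h.W) (hg2 : g * g = 1) : g ∈ h.V := by
  rcases h.W_sq hg with h1 | h1 | h1 | h1
  · exact h1
  · exact absurd (h1.symm.trans hg2) h.z_ne
  · exact absurd (h1.symm.trans hg2) h.z1_ne
  · exact absurd (h1.symm.trans hg2) h.z2_ne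

/-- `C_W(y) = 1`. -/
theorem fix_W {g : G} (hg : g ∈ h.W) (hy : y * g * y⁻¹ = g) : g = 1 := by
  have h2 : y * (g * g) * y⁻¹ = g * g := by rw [cmul, hy]
  rcases h.W_sq hg with h1 | h1 | h1 | h1
  · exact h.fix_V h1 hy
  · rw [h1] at h2; exact absurd (h.fix_V h.z_V h2) h.z_ne
  · rw [h1] at h2; exact absurd (h.fix_V h.z1_V h2) h.z1_ne
  · rw [h1] at h2; exact absurd (h.fix_V h.z2_V h2) h.z2_ne

/-- `C_W(v1) = ⟨y0⟩`. -/
theorem cent_v1 {g : G} (hg : g ∈ h.W) (hv : v1 * g * v1⁻¹ = g) :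
    g = 1 ∨ g = z ∨ g = h.y0 ∨ g = z * h.y0 := by
  have hV : ∀ v ∈ h.V, v1 * v * v1⁻¹ = v → v = 1 ∨ v = z := by
    rintro v (rfl | rfl | rfl | rfl) h1
    · exact Or.inl rfl
    · exact Or.inr rfl
    · rw [h.swap1 h.v1_mem h.v1_not, mul_inv_cancel_right] at h1
      exact absurd h1.symm h.z1_ne_z2
    · rw [h.swap2 h.v1_mem h.v1_not, mul_inv_cancel_right] at h1
      exact absurd h1 h.z1_ne_z2
  have hsq : v1 * (g * g) * v1⁻¹ = g * g := by rw [cmul, hv]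
  obtain ⟨v, hv2, h1⟩ := h.mem_W'.1 hg
  rcases h1 with rfl | rfl | rfl | rfl
  · rcases hV g hv2 hv with h1 | h1
    · exact Or.inl h1
    · exact Or.inr (Or.inl h1)
  · rw [cmul, h.v1_y0'] at hv
    rcases hV v hv2 (mul_right_cancel hv) with rfl | rfl
    · right; right; left; rw [one_mul]
    · right; right; right; rfl
  · exfalso
    have e : (v * h.y1) * (v * h.y1) = z1 := by
      calc (v * h.y1) * (v * h.y1) = v * (h.y1 * v) * h.y1 := by group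
        _ = (v * v) * (h.y1 * h.y1) := by rw [h.qq_comm_V h.y1_qq v hv2]; group
        _ = z1 := by rw [h.V_sq v hv2, one_mul, h.y1_sq]
    rw [e] at hsq
    rcases hV z1 h.z1_V hsq with h1 | h1
    · exact h.z1_ne h1
    · exact h.ne h1
  · exfalso
    have e : (v * h.y2) * (v * h.y2) = z2 := by
      calc (v * h.y2) * (v * h.y2) = v * (h.y2 * v) * h.y2 := by group
        _ = (v * v) * (h.y2 * h.y2) := by rw [h.qq_comm_V h.y2_qq v hv2]; group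
        _ = z2 := by rw [h.V_sq v hv2, one_mul, h.y2_sq]
    rw [e] at hsq
    rcases hV z2 h.z2_V hsq with h1 | h1
    · exact h.z2_ne h1
    · exact h.z2_ne_z h1

theorem y1_not_A1 : h.y1 ∉ h.A1 := by
  intro h1
  have h2 : h.y1 * h.y1 = 1 ∨ h.y1 * h.y1 = z := by
    obtain ⟨v, hv, h3 | h3⟩ := h.mem_A1'.1 h1
    · left; rw [h3]; exact h.V_sq v hv
    · right
      rw [h3]
      calc (v * h.y0) * (v * h.y0) = v * (h.y0 * v) * h.y0 := by group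
        _ = (v * v) * (h.y0 * h.y0) := by rw [h.qq_comm_V h.y0_qq v hv]; group
        _ = z := by rw [h.V_sq v hv, one_mul, h.y0_sq]
  rw [h.y1_sq] at h2
  rcases h2 with h2 | h2
  · exact h.z1_ne h2
  · exact h.ne h2

theorem card_W [Finite G] : Nat.card h.W = 16 := by
  have h1 : Nat.card h.A1 = 2 * Nat.card h.V := by
    refine card_eq_two_mul h.V_le_A1 h.y0_A1 h.y0_not_V ?_
    intro b hb
    obtain ⟨v, hv, rfl | rfl⟩ := h.mem_A1'.1 hb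
    · exact Or.inl hv
    · right
      rw [mul_assoc, h.y0_sq]
      exact h.V.mul_mem hv h.z_V
  have h2 : Nat.card h.W = 2 * Nat.card h.A1 := by
    refine card_eq_two_mul h.A1_le_W h.y1_W h.y1_not_A1 ?_
    intro b hb
    obtain ⟨v, hv, rfl | rfl | rfl | rfl⟩ := h.mem_W'.1 hb
    · exact Or.inl (h.V_le_A1 hv)
    · exact Or.inl (h.A1.mul_mem (h.V_le_A1 hv) h.y0_A1)
    · right
      rw [mul_assoc, h.y1_sq]
      exact h.V_le_A1 (h.V.mul_mem hv h.z1_V)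
    · right
      rw [mul_assoc, h.t21]
      exact h.A1.mul_mem (h.V_le_A1 hv) (h.A1.mul_mem (h.V_le_A1 h.z_V) h.y0_A1)
  rw [h2, h1, h.card_V]

/-- Every element of `W` is a commutator with `y`. -/
theorem surj [Finite G] {g : G} (hg : g ∈ h.W) : ∃ k ∈ h.W, (y * k * y⁻¹) * k⁻¹ = g := by
  have hf : Function.Injective (fun k : h.W => (⟨(y * k * y⁻¹) * (k : G)⁻¹,
      h.W.mul_mem (h.y_conj_W k.2) (h.W.inv_mem k.2)⟩ : h.W)) := by
    intro a b hab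
    have h1 : (y * (a : G) * y⁻¹) * (a : G)⁻¹ = (y * (b : G) * y⁻¹) * (b : G)⁻¹ :=
      congrArg Subtype.val hab
    have h2 : y * ((b : G)⁻¹ * a) * y⁻¹ = (b : G)⁻¹ * a := by
      have h3 : y * (a : G) * y⁻¹ = (y * (b : G) * y⁻¹) * (b : G)⁻¹ * a := by
        rw [← h1]; group
      calc y * ((b : G)⁻¹ * a) * y⁻¹ = (y * (b : G) * y⁻¹)⁻¹ * (y * a * y⁻¹) := by group
        _ = (b : G)⁻¹ * a := by rw [h3]; group
    have h3 := h.fix_W (h.W.mul_mem (h.W.inv_mem b.2) a.2) h2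
    exact Subtype.ext (inv_mul_eq_one.1 h3).symm
  obtain ⟨k, hk⟩ := (Finite.injective_iff_surjective.1 hf) ⟨g, hg⟩
  exact ⟨k, k.2, congrArg Subtype.val hk⟩

/-- `y` centralises `Q₁ / W`. -/
theorem comm_y {q : G} (hq : q ∈ qq S y) : y * q * y⁻¹ * q⁻¹ ∈ h.W := by
  have ht : ∀ q ∈ qq S y, v1 * q * v1⁻¹ * q⁻¹ ∈ h.W := by
    intro q hq
    have h1 : q * v1 * q⁻¹ * v1⁻¹ ∈ h.W := by
      rcases h.comm_v1 (qq_le _ _ hq) with h1 | h1 | h1 | h1 <;> rw [h1]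
      · exact h.W.one_mem
      · exact h.V_le_W h.z_V
      · exact h.W.mul_mem (h.V_le_W h.z1_V) h.y0_W
      · exact h.W.mul_mem (h.V_le_W h.z_V) (h.W.mul_mem (h.V_le_W h.z1_V) h.y0_W)
    have h2 := h.W.inv_mem h1
    have e : (q * v1 * q⁻¹ * v1⁻¹)⁻¹ = v1 * q * v1⁻¹ * q⁻¹ := by group
    rwa [e] at h2
  -- `y⁻¹ q y ≡ y q y⁻¹`
  have h1 := ht _ (h.hy.conj hq)
  have h2 := h.yinv_conj_W (ht q hq)
  have e : v1 * (y * q * y⁻¹) * v1⁻¹ * (y * q * y⁻¹)⁻¹ =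
      (y⁻¹ * (v1 * q * v1⁻¹ * q⁻¹) * y) * ((y⁻¹ * q * y) * (y * q * y⁻¹)⁻¹) := by
    have e1 : v1 * (y * q * y⁻¹) * v1⁻¹ = (v1 * y) * q * (v1 * y)⁻¹ := by group
    rw [e1, h.v1_y]
    group
  rw [e] at h1
  have h3 : (y⁻¹ * q * y) * (y * q * y⁻¹)⁻¹ ∈ h.W := (h.W.mul_mem_cancel_left h2).1 h1
  have h4 := h.yinv_conj_W h3
  have e2 : y⁻¹ * ((y⁻¹ * q * y) * (y * q * y⁻¹)⁻¹) * y =
      (y⁻¹ * y⁻¹) * q * (y⁻¹ * y⁻¹)⁻¹ * q⁻¹ := by simp [mul_assoc]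
  rwa [e2, h.y_inv_y] at h4

end Cfsg.Agent.SectRankFour.C2.BTwoCData.Data
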