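import Mathlib
import Cfsg.Agent.SectRankFour.C2.BTwoCWSub
import Cfsg.Agent.SectRankFour.C2.Defs

/-!
# S0517, C2, section (2c), abstract part: `C_{Q₁}(W) = W` and the relations of `Conf64`
-/

set_option autoImplicit false

namespace Cfsg.Agent.SectRankFour.C2.BTwoCData.Data

open Cfsg.Agent.SectRankFour.C2.BThreeA

variable {G : Type*} [Group G] {S : Subgroup G} {z z1 z2 v1 v2 y w : G}

/-- `C_{Q₁}(W)` -/
def C1 (h : Data S z z1 z2 v1 v2 y w) : Subgroup G where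
  carrier := {c | c ∈ qq S y ∧ Commute c h.y1 ∧ Commute c h.y2}
  one_mem' := ⟨(qq S y).one_mem, Commute.one_left _, Commute.one_left _⟩
  mul_mem' := by
    rintro a b ⟨ha, ha1, ha2⟩ ⟨hb, hb1, hb2⟩
    exact ⟨(qq S y).mul_mem ha hb, ha1.mul_left hb1, ha2.mul_left hb2⟩
  inv_mem' := by
    rintro a ⟨ha, ha1, ha2⟩
    exact ⟨(qq S y).inv_mem ha, ha1.inv_left, ha2.inv_left⟩

/-- `C_{Q₁}(W) ∩ C(y)` -/
def E (h : Data S z z1 z2 v1 v2 y w) : Subgroup G where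
  carrier := {c | c ∈ h.C1 ∧ Commute c y}
  one_mem' := ⟨h.C1.one_mem, Commute.one_left _⟩
  mul_mem' := by
    rintro a b ⟨ha, ha1⟩ ⟨hb, hb1⟩
    exact ⟨h.C1.mul_mem ha hb, ha1.mul_left hb1⟩
  inv_mem' := by
    rintro a ⟨ha, ha1⟩
    exact ⟨h.C1.inv_mem ha, ha1.inv_left⟩

/-- `C_{Q₂}(⟨z1, v1, v2⟩)` -/
def C (_ : Data S z z1 z2 v1 v2 y w) : Subgroup G where
  carrier := {c | c ∈ qq S w ∧ Commute c z1 ∧ Commute c v1 ∧ Commute c v2}
  one_mem' := ⟨(qq S w).one_mem, Commute.one_left _, Commute.one_left _, Commute.one_left _⟩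
  mul_mem' := by
    rintro a b ⟨ha, ha1, ha2, ha3⟩ ⟨hb, hb1, hb2, hb3⟩
    exact ⟨(qq S w).mul_mem ha hb, ha1.mul_left hb1, ha2.mul_left hb2, ha3.mul_left hb3⟩
  inv_mem' := by
    rintro a ⟨ha, ha1, ha2, ha3⟩
    exact ⟨(qq S w).inv_mem ha, ha1.inv_left, ha2.inv_left, ha3.inv_left⟩

variable (h : Data S z z1 z2 v1 v2 y w)
include h

theorem mem_C1 {c : G} : c ∈ h.C1 ↔ c ∈ qq S y ∧ Commute c h.y1 ∧ Commute c h.y2 := Iff.rfl
theorem mem_E {c : G} : c ∈ h.E ↔ c ∈ h.C1 ∧ Commute c y := Iff.rfl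
theorem mem_C {c : G} : c ∈ h.C ↔ c ∈ qq S w ∧ Commute c z1 ∧ Commute c v1 ∧ Commute c v2 :=
  Iff.rfl

theorem C1_comm {c : G} (hc : c ∈ h.C1) : ∀ g ∈ h.W, c * g = g * c :=
  h.comm_W (h.qq_comm_V hc.1) hc.2.1 hc.2.2

theorem W_le_C1 : h.W ≤ h.C1 := fun g hg =>
  ⟨h.W_le hg, h.W_comm g hg _ h.y1_W, h.W_comm g hg _ h.y2_W⟩

theorem mem_C1_of {c : G} (hc : c ∈ qq S y) (hW : ∀ g ∈ h.W, c * g = g * c) : c ∈ h.C1 :=
  ⟨hc, hW _ h.y1_W, hW _ h.y2_W⟩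

omit h in
theorem conj_commute {s c g : G} (h1 : Commute c (s⁻¹ * g * s)) : Commute (s * c * s⁻¹) g := by
  have h2 : c * (s⁻¹ * g * s) = s⁻¹ * g * s * c := h1
  change s * c * s⁻¹ * g = g * (s * c * s⁻¹)
  calc s * c * s⁻¹ * g = s * (c * (s⁻¹ * g * s)) * s⁻¹ := by group
    _ = s * (s⁻¹ * g * s * c) * s⁻¹ := by rw [h2]
    _ = g * (s * c * s⁻¹) := by group

theorem C1_conj {s c : G} (hs : s ∈ S) (hc : c ∈ h.C1) : s * c * s⁻¹ ∈ h.C1 := by
  refine h.mem_C1_of (h.hy.norm hs hc.1) fun g hg => conj_commute (h.C1_comm hc _ ?_)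
  have := h.S_conj_W (S.inv_mem hs) hg
  rwa [inv_inv] at this

/-- `S` normalises `E`. -/
theorem E_conj {s c : G} (hs : s ∈ S) (hc : c ∈ h.E) : s * c * s⁻¹ ∈ h.E := by
  have hQ : ∀ q ∈ qq S y, ∀ c ∈ h.E, q * c * q⁻¹ ∈ h.E := by
    intro q hq c hc
    have h1 := h.C1_conj (qq_le _ _ hq) hc.1
    refine ⟨h1, ?_⟩
    have h2 := h.comm_y hq
    set g := y * q * y⁻¹ * q⁻¹ with hg
    have h3 := h.C1_comm h1 g h2
    have h4 : y * c * y⁻¹ = c := by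
      rw [← hc.2.eq]; group
    change q * c * q⁻¹ * y = y * (q * c * q⁻¹)
    symm
    calc y * (q * c * q⁻¹) = g * q * (y * c * y⁻¹) * q⁻¹ * g⁻¹ * y := by rw [hg]; group
      _ = g * (q * c * q⁻¹) * g⁻¹ * y := by rw [h4]; group
      _ = q * c * q⁻¹ * y := by rw [← h3]; group
  have ht : ∀ c ∈ h.E, v1 * c * v1⁻¹ ∈ h.E := by
    intro c hc
    refine ⟨h.C1_conj h.v1_mem hc.1, conj_commute ?_⟩
    have hv : v1⁻¹ = v1 := inv_eq_self h.v1_sq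
    have e : v1⁻¹ * y * v1 = y⁻¹ := by
      rw [hv, h.v1_y, mul_assoc, h.v1_sq, mul_one]
    rw [e]
    exact hc.2.inv_right
  by_cases hq : s ∈ qq S y
  · exact hQ s hq c hc
  · have h1 := ht _ (hQ _ (h.hy.mul_not_qq h.v1_mem hs h.v1_not hq) c hc)
    have e : v1 * (v1 * s * c * (v1 * s)⁻¹) * v1⁻¹ = (v1 * v1) * (s * c * s⁻¹) * (v1 * v1)⁻¹ := by
      group
    rw [e, h.v1_sq] at h1
    simpa using h1

theorem E_mem {c : G} (hc : c ∈ h.E) : c ∈ S := qq_le _ _ hc.1.1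

/-- `E` centralises `v1`. -/
theorem E_v1 {c : G} (hc : c ∈ h.E) : c * v1 = v1 * c := by
  have h1 : c * v1 * c⁻¹ * v1⁻¹ ∈ h.E := by
    have h2 := h.E.mul_mem hc (h.E_conj h.v1_mem (h.E.inv_mem hc))
    have e : c * (v1 * c⁻¹ * v1⁻¹) = c * v1 * c⁻¹ * v1⁻¹ := by group
    rwa [e] at h2
  have h3 : c * v1 * c⁻¹ * v1⁻¹ ∈ h.W := by
    rcases h.comm_v1 (h.E_mem hc) with h1 | h1 | h1 | h1 <;> rw [h1]
    · exact h.W.one_mem
    · exact h.V_le_W h.z_V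
    · exact h.W.mul_mem (h.V_le_W h.z1_V) h.y0_W
    · exact h.W.mul_mem (h.V_le_W h.z_V) (h.W.mul_mem (h.V_le_W h.z1_V) h.y0_W)
  have h4 := h.fix_W h3 (by rw [← h1.2.eq]; group)
  calc c * v1 = c * v1 * c⁻¹ * v1⁻¹ * (v1 * c) := by group
    _ = v1 * c := by rw [h4, one_mul]

theorem E_y0 {c : G} (hc : c ∈ h.E) : c * h.y0 = h.y0 * c := h.C1_comm hc.1 _ h.y0_W
theorem E_z1 {c : G} (hc : c ∈ h.E) : c * z1 = z1 * c := h.C1_comm hc.1 _ (h.V_le_W h.z1_V)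

theorem E_v2 {c : G} (hc : c ∈ h.E) : c * v2 = v2 * c := by
  have e : v2 = (z1 * v1)⁻¹ * h.y0 := by rw [y0_def]; group
  have h1 : Commute c (z1 * v1) := Commute.mul_right (h.E_z1 hc) (h.E_v1 hc)
  rw [e]
  exact (h1.inv_right.mul_right (h.E_y0 hc)).eq

theorem E_le_C : h.E ≤ h.C := by
  intro c hc
  refine ⟨?_, h.E_z1 hc, h.E_v1 hc, h.E_v2 hc⟩
  by_contra hq
  have hcv : c * v1 * c⁻¹ = v1 := by rw [h.E_v1 hc]; group
  rcases (h.conj_not_qq (h.E_mem hc) hq).1 with h1 | h1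
  · rw [hcv] at h1
    have h2 := h.v1v2
    rw [← h1] at h2
    exact h.z_ne (by simpa using h2)
  · rw [hcv] at h1
    have h2 := h.v1v2
    rw [h1] at h2
    simp only [mul_assoc, h.rules, mul_one] at h2
    exact h.z_ne h2

/-! ### `C = C_{Q₂}(⟨z1, v1, v2⟩)` is normalised by `S` and `w` -/

theorem C_mem {c : G} (hc : c ∈ h.C) : c ∈ S := qq_le _ _ hc.1

theorem C_z {c : G} (hc : c ∈ h.C) : Commute c z := h.z_comm c (h.C_mem hc)

theorem C_conj {s c : G} (hs : s ∈ S) (hc : c ∈ h.C) : s * c * s⁻¹ ∈ h.C := by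
  have hs' := S.inv_mem hs
  have hcz := h.C_z hc
  obtain ⟨hq, hc1, hc2, hc3⟩ := hc
  refine ⟨h.hw.norm hs hq, conj_commute ?_, conj_commute ?_, conj_commute ?_⟩
  · rcases h.S_conj_z1 hs' with h1 | h1 <;> rw [inv_inv] at h1 <;> rw [h1]
    · exact hc1
    · exact hcz.mul_right hc1
  · by_cases hsq : s⁻¹ ∈ qq S w
    · rcases (h.conj_qq hsq).1 with h1 | h1 <;> rw [inv_inv] at h1 <;> rw [h1]
      · exact hc2
      · exact hcz.mul_right hc2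
    · rcases (h.conj_not_qq hs' hsq).1 with h1 | h1 <;> rw [inv_inv] at h1 <;> rw [h1]
      · exact hc3
      · exact hcz.mul_right hc3
  · by_cases hsq : s⁻¹ ∈ qq S w
    · rcases (h.conj_qq hsq).2 with h1 | h1 <;> rw [inv_inv] at h1 <;> rw [h1]
      · exact hc3
      · exact hcz.mul_right hc3
    · rcases (h.conj_not_qq hs' hsq).2 with h1 | h1 <;> rw [inv_inv] at h1 <;> rw [h1]
      · exact hc2
      · exact hcz.mul_right hc2

theorem C_w {c : G} (hc : c ∈ h.C) : w * c * w⁻¹ ∈ h.C := by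
  obtain ⟨hq, hc1, hc2, hc3⟩ := hc
  refine ⟨h.hw.conj hq, conj_commute ?_, conj_commute ?_, conj_commute ?_⟩
  · rw [h.winv_z1]; exact hc3
  · rw [h.winv_v1]; exact hc1
  · rw [h.winv_v2]; exact hc2

theorem C_winv {c : G} (hc : c ∈ h.C) : w⁻¹ * c * w ∈ h.C := by
  have h1 := h.C_w (h.C_w hc)
  have e : w * (w * c * w⁻¹) * w⁻¹ = (w * w) * c * (w * w)⁻¹ := by group
  rw [e, sq_eq_inv h.hw.cube, inv_inv] at h1
  exact h1

theorem y1_not_qq : h.y1 ∉ qq S w := by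
  intro hq
  have h1 : h.y1 * v1 * h.y1⁻¹ = h.y1 * h.y2⁻¹ * v1 := by
    have : h.y2⁻¹ = v1 * h.y1⁻¹ * v1⁻¹ := by rw [← h.v1_y1]; group
    rw [this]; group
  rcases (h.conj_qq hq).1 with h2 | h2
  · rw [h1] at h2
    have h3 : h.y1 = h.y2 := by
      have : h.y1 * h.y2⁻¹ = 1 := by
        apply mul_right_cancel (b := v1)
        rw [h2, one_mul]
      exact mul_inv_eq_one.1 this
    have h4 := h.y2_sq
    rw [← h3, h.y1_sq] at h4
    exact h.z1_ne_z2 h4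
  · rw [h1] at h2
    have h3 : h.y1 = z * h.y2 := by
      have : h.y1 * h.y2⁻¹ = z := mul_right_cancel h2
      exact mul_inv_eq_iff_eq_mul.1 this
    have h4 : h.y1 * h.y1 = h.y2 * h.y2 := by
      rw [h3]
      calc z * h.y2 * (z * h.y2) = z * (h.y2 * z) * h.y2 := by group
        _ = (z * z) * (h.y2 * h.y2) := by rw [h.y2_z]; group
        _ = h.y2 * h.y2 := by rw [h.z_sq, one_mul]
    rw [h.y1_sq, h.y2_sq] at h4
    exact h.z1_ne_z2 h4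

/-- `[y1, C] ≤ ⟨y0⟩` -/
theorem comm_y1_C {c : G} (hc : c ∈ h.C) : h.y1 * c * h.y1⁻¹ * c⁻¹ ∈ Subgroup.zpowers h.y0 := by
  have h1 : h.y1 * c * h.y1⁻¹ * c⁻¹ ∈ h.C := h.C.mul_mem (h.C_conj h.y1_mem hc) (h.C.inv_mem hc)
  have h2 : h.y1 * c * h.y1⁻¹ * c⁻¹ ∈ h.W := by
    have h3 := h.W.mul_mem h.y1_W (h.S_conj_W (h.C_mem hc) (h.W.inv_mem h.y1_W))
    have e : h.y1 * (c * h.y1⁻¹ * c⁻¹) = h.y1 * c * h.y1⁻¹ * c⁻¹ := by group
    rwa [e] at h3
  have h3 := h.cent_v1 h2 (by rw [← h1.2.2.1.eq]; group)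
  have hz : z ∈ Subgroup.zpowers h.y0 := by
    have h4 := Subgroup.mul_mem _ (Subgroup.mem_zpowers h.y0) (Subgroup.mem_zpowers h.y0)
    rwa [h.y0_sq] at h4
  rcases h3 with h3 | h3 | h3 | h3 <;> rw [h3]
  · exact Subgroup.one_mem _
  · exact hz
  · exact Subgroup.mem_zpowers _
  · exact Subgroup.mul_mem _ hz (Subgroup.mem_zpowers _)

/-- `g` normalises `C` and `⟨y0⟩`. -/
def Nrm (g : G) : Prop := (∀ c ∈ h.C, g * c * g⁻¹ ∈ h.C) ∧ (∀ c ∈ h.C, g⁻¹ * c * g ∈ h.C) ∧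
  (g * h.y0 * g⁻¹ = h.y0 ∨ g * h.y0 * g⁻¹ = h.y0⁻¹) ∧ g * z = z * g

theorem Nrm_S {s : G} (hs : s ∈ S) : h.Nrm s := by
  refine ⟨fun c hc => h.C_conj hs hc, fun c hc => ?_, ?_, h.z_comm s hs⟩
  · have := h.C_conj (S.inv_mem hs) hc
    rwa [inv_inv] at this
  · rw [h.y0_inv]
    exact h.conj_y0 hs

theorem w_z : w * z = z * w := by
  calc w * z = w * z * w⁻¹ * w := by group
    _ = z * w := by rw [h.wz]

theorem Nrm_w : h.Nrm w :=
  ⟨fun _ hc => h.C_w hc, fun _ hc => h.C_winv hc, Or.inl h.w_y0, h.w_z⟩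

/-- the elements acting trivially on `C / ⟨y0⟩` -/
def Triv (g : G) : Prop := h.Nrm g ∧ ∀ c ∈ h.C, g * c * g⁻¹ * c⁻¹ ∈ Subgroup.zpowers h.y0

theorem conj_zpowers {g a : G} (hg : h.Nrm g) (ha : a ∈ Subgroup.zpowers h.y0) :
    g * a * g⁻¹ ∈ Subgroup.zpowers h.y0 := by
  obtain ⟨k, rfl⟩ := Subgroup.mem_zpowers_iff.1 ha
  have e : g * h.y0 ^ k * g⁻¹ = (g * h.y0 * g⁻¹) ^ k := (conj_zpow).symm
  rw [e]
  rcases hg.2.2.1 with h1 | h1 <;> rw [h1]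
  · exact Subgroup.zpow_mem _ (Subgroup.mem_zpowers _) k
  · exact Subgroup.zpow_mem _ (Subgroup.inv_mem _ (Subgroup.mem_zpowers _)) k

theorem Nrm.mul {a b : G} (ha : h.Nrm a) (hb : h.Nrm b) : h.Nrm (a * b) := by
  obtain ⟨a1, a2, a3, a4⟩ := ha
  obtain ⟨b1, b2, b3, b4⟩ := hb
  refine ⟨fun c hc => ?_, fun c hc => ?_, ?_, ?_⟩
  · have e : a * b * c * (a * b)⁻¹ = a * (b * c * b⁻¹) * a⁻¹ := by group
    rw [e]; exact a1 _ (b1 c hc)
  · have e : (a * b)⁻¹ * c * (a * b) = b⁻¹ * (a⁻¹ * c * a) * b := by group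
    rw [e]; exact b2 _ (a2 c hc)
  · have e : a * b * h.y0 * (a * b)⁻¹ = a * (b * h.y0 * b⁻¹) * a⁻¹ := by group
    rw [e]
    rcases b3 with h1 | h1 <;> rw [h1]
    · exact a3
    · have e2 : a * h.y0⁻¹ * a⁻¹ = (a * h.y0 * a⁻¹)⁻¹ := by group
      rw [e2]
      rcases a3 with h2 | h2 <;> rw [h2]
      · exact Or.inr rfl
      · left; rw [inv_inv]
  · exact (Commute.mul_left (show Commute a z from a4) (show Commute b z from b4)).eq

theorem Nrm.inv {a : G} (ha : h.Nrm a) : h.Nrm a⁻¹ := by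
  obtain ⟨a1, a2, a3, a4⟩ := ha
  refine ⟨fun c hc => ?_, fun c hc => ?_, ?_, ?_⟩
  · rw [inv_inv]; exact a2 c hc
  · rw [inv_inv]; exact a1 c hc
  · rw [inv_inv]
    rcases a3 with h1 | h1
    · left
      calc a⁻¹ * h.y0 * a = a⁻¹ * (a * h.y0 * a⁻¹) * a := by rw [h1]
        _ = h.y0 := by group
    · right
      have h2 : h.y0 = a * h.y0⁻¹ * a⁻¹ := by
        have e2 : a * h.y0⁻¹ * a⁻¹ = (a * h.y0 * a⁻¹)⁻¹ := by group
        rw [e2, h1, inv_inv]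
      calc a⁻¹ * h.y0 * a = a⁻¹ * (a * h.y0⁻¹ * a⁻¹) * a := by rw [← h2]
        _ = h.y0⁻¹ := by group
  · exact (Commute.inv_left (show Commute a z from a4)).eq

theorem Triv.mul {a b : G} (ha : h.Triv a) (hb : h.Triv b) : h.Triv (a * b) := by
  refine ⟨Nrm.mul h ha.1 hb.1, fun c hc => ?_⟩
  have h1 := ha.2 _ (hb.1.1 c hc)
  have h2 := hb.2 c hc
  have e : a * b * c * (a * b)⁻¹ * c⁻¹ =
      (a * (b * c * b⁻¹) * a⁻¹ * (b * c * b⁻¹)⁻¹) * (b * c * b⁻¹ * c⁻¹) := by group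
  rw [e]
  exact Subgroup.mul_mem _ h1 h2

theorem Triv.inv {a : G} (ha : h.Triv a) : h.Triv a⁻¹ := by
  refine ⟨Nrm.inv h ha.1, fun c hc => ?_⟩
  have h1 := h.conj_zpowers (Nrm.inv h ha.1) (Subgroup.inv_mem _ (ha.2 c hc))
  have e : a⁻¹ * (a * c * a⁻¹ * c⁻¹)⁻¹ * a⁻¹⁻¹ = a⁻¹ * c * a⁻¹⁻¹ * c⁻¹ := by group
  rwa [e] at h1

theorem Triv.conj {a p : G} (ha : h.Triv a) (hp : h.Nrm p) : h.Triv (p * a * p⁻¹) := by
  refine ⟨Nrm.mul h (Nrm.mul h hp ha.1) (Nrm.inv h hp), fun c hc => ?_⟩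
  have h1 := h.conj_zpowers hp (ha.2 _ (hp.2.1 c hc))
  have e : p * (a * (p⁻¹ * c * p) * a⁻¹ * (p⁻¹ * c * p)⁻¹) * p⁻¹ =
      p * a * p⁻¹ * c * (p * a * p⁻¹)⁻¹ * c⁻¹ := by group
  rwa [e] at h1

theorem Triv.pow {a : G} (ha : h.Triv a) (n : ℕ) : h.Triv (a ^ n) := by
  induction n with
  | zero =>
    rw [pow_zero]
    refine ⟨⟨fun c hc => by simpa using hc, fun c hc => by simpa using hc, Or.inl (by simp),
      by simp⟩, fun c hc => ?_⟩
    have e : (1 : G) * c * 1⁻¹ * c⁻¹ = 1 := by group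
    rw [e]; exact Subgroup.one_mem _
  | succ n ih => rw [pow_succ]; exact Triv.mul h ih ha

/-- An element `w' ∈ w⁻¹ Q₂` of order 3 centralising `E`. -/
theorem exists_w' [Finite G] : ∃ q ∈ qq S w, ∀ e ∈ h.E, Commute (w⁻¹ * q) e := by
  have hy1 : h.Triv h.y1 := ⟨h.Nrm_S h.y1_mem, fun c hc => h.comm_y1_C hc⟩
  obtain ⟨hm1, hm2⟩ := h.hw.not_qq h.y1_mem h.y1_not_qq
  have hmq : w⁻¹ * h.y1 * w⁻¹ ∉ qq S w := by
    apply h.hw.not_qq_of
    have e : w * (w⁻¹ * h.y1 * w⁻¹) * w = h.y1 := by group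
    rw [e]; exact h.y1_mem
  have hy1i : h.y1⁻¹ ∉ qq S w := fun h1 => h.y1_not_qq (by
    have := (qq S w).inv_mem h1
    rwa [inv_inv] at this)
  set q := w⁻¹ * h.y1 * w⁻¹ * h.y1⁻¹ with hq
  have hqQ : q ∈ qq S w := h.hw.mul_not_qq hm2 (S.inv_mem h.y1_mem) hmq hy1i
  have hww := sq_eq_inv h.hw.cube
  have hgT : h.Triv (w⁻¹ * q) := by
    have h1 := Triv.mul h (Triv.conj h hy1 h.Nrm_w) (Triv.inv h hy1)
    have e : w * h.y1 * w⁻¹ * h.y1⁻¹ = w⁻¹ * q := by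
      have e1 : w⁻¹ * w⁻¹ = w := by rw [← mul_inv_rev, hww, inv_inv]
      calc w * h.y1 * w⁻¹ * h.y1⁻¹ = (w⁻¹ * w⁻¹) * h.y1 * w⁻¹ * h.y1⁻¹ := by rw [e1]
        _ = w⁻¹ * q := by rw [hq]; group
    rwa [e] at h1
  set g := w⁻¹ * q with hg
  have hg3 : g ^ 3 ∈ qq S w := by
    have e : g ^ 3 = (w⁻¹ * q * w) * ((w * w)⁻¹ * q * (w * w)) * ((w * w * w)⁻¹ * q) := by
      rw [hg, pow_succ, pow_two]; group
    rw [e, h.hw.cube, hww, inv_inv, inv_one, one_mul]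
    exact (qq S w).mul_mem ((qq S w).mul_mem (h.hw.conj' hqQ) (h.hw.conj hqQ)) hqQ
  obtain ⟨k, hk⟩ := h.two ⟨g ^ 3, qq_le _ _ hg3⟩
  have hk' : (g ^ 3) ^ 2 ^ k = 1 := congrArg Subtype.val hk
  have hk4 : (g ^ 3) ^ 4 ^ k = 1 := by
    have : (4 : ℕ) ^ k = 2 ^ k * 2 ^ k := by rw [← mul_pow]; norm_num
    rw [this, pow_mul, hk', one_pow]
  obtain ⟨m, hm⟩ : ∃ m, 4 ^ k = 3 * m + 1 := by
    have h1 : 4 ^ k % 3 = 1 := by
      rw [Nat.pow_mod]; norm_num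
    exact ⟨4 ^ k / 3, by omega⟩
  have hw3 : (g ^ 4 ^ k) ^ 3 = 1 := by rw [← pow_mul, mul_comm, pow_mul]; exact hk4
  have hT := Triv.pow h hgT (4 ^ k)
  have hw' : g ^ 4 ^ k = w⁻¹ * (q * (g ^ 3) ^ m) := by
    have h1 : Commute ((g ^ 3) ^ m) g := ((Commute.refl g).pow_left 3).pow_left m
    rw [hm, pow_add, pow_one, pow_mul, h1.eq, ← mul_assoc]
  refine ⟨q * (g ^ 3) ^ m, (qq S w).mul_mem hqQ ((qq S w).pow_mem hg3 m), ?_⟩
  intro e he
  rw [← hw']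
  set u := g ^ 4 ^ k with hu
  have hu3 : u * u * u = 1 := by
    have : u ^ 3 = u * u * u := by rw [pow_succ, pow_two]
    rw [← this]; exact hw3
  -- `u` centralises `y0`
  have huy : u * h.y0 * u⁻¹ = h.y0 := by
    rcases hT.1.2.2.1 with h1 | h1
    · exact h1
    · exfalso
      have h2 : u * h.y0⁻¹ * u⁻¹ = h.y0 := by
        have e2 : u * h.y0⁻¹ * u⁻¹ = (u * h.y0 * u⁻¹)⁻¹ := by group
        rw [e2, h1, inv_inv]
      have h3 : (u * u * u) * h.y0 * (u * u * u)⁻¹ = h.y0⁻¹ := by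
        calc (u * u * u) * h.y0 * (u * u * u)⁻¹ = u * (u * (u * h.y0 * u⁻¹) * u⁻¹) * u⁻¹ := by
              group
          _ = u * (u * h.y0⁻¹ * u⁻¹) * u⁻¹ := by rw [h1]
          _ = u * h.y0 * u⁻¹ := by rw [h2]
          _ = h.y0⁻¹ := h1
      rw [hu3, one_mul, inv_one, mul_one] at h3
      have h4 : h.y0 * h.y0 = 1 := by
        rw [mul_eq_one_iff_eq_inv]; exact h3
      rw [h.y0_sq] at h4
      exact h.z_ne h4
  have h1 := hT.2 e (h.E_le_C he)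
  set η := u * e * u⁻¹ * e⁻¹ with hη
  have hηu : u * η * u⁻¹ = η := by
    obtain ⟨j, hj⟩ := Subgroup.mem_zpowers_iff.1 h1
    rw [← hj, ← conj_zpow, huy]
  have h2 : u * e * u⁻¹ = η * e := by rw [hη]; group
  have h3 : (u * u * u) * e * (u * u * u)⁻¹ = η * η * η * e := by
    calc (u * u * u) * e * (u * u * u)⁻¹ = u * (u * (u * e * u⁻¹) * u⁻¹) * u⁻¹ := by group
      _ = u * (u * (η * e) * u⁻¹) * u⁻¹ := by rw [h2]
      _ = u * ((u * η * u⁻¹) * (u * e * u⁻¹)) * u⁻¹ := by rw [← cmul]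
      _ = u * (η * (η * e)) * u⁻¹ := by rw [hηu, h2]
      _ = (u * η * u⁻¹) * ((u * η * u⁻¹) * (u * e * u⁻¹)) := by rw [← cmul, ← cmul]
      _ = η * η * η * e := by rw [hηu, h2]; group
  rw [hu3, one_mul, inv_one, mul_one] at h3
  have h4 : η * η * η = 1 := by
    apply mul_right_cancel (b := e)
    rw [← h3, one_mul]
  have h5 : η ^ 4 = 1 := by
    obtain ⟨j, hj⟩ := Subgroup.mem_zpowers_iff.1 h1
    have h6 : h.y0 ^ 4 = 1 := by
      have : h.y0 ^ 4 = (h.y0 * h.y0) * (h.y0 * h.y0) := by simp [pow_succ, mul_assoc]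
      rw [this, h.y0_sq, h.z_sq]
    rw [← hj, ← zpow_natCast, ← zpow_mul, mul_comm, zpow_mul, zpow_natCast, h6, one_zpow]
  have h6 : η = 1 := by
    have : η ^ 4 = η * η * η * η := by simp [pow_succ, mul_assoc]
    rw [this, h4, one_mul] at h5
    exact h5
  rw [h6, one_mul] at h2
  change u * e = e * u
  calc u * e = u * e * u⁻¹ * u := by group
    _ = e * u := by rw [h2]

theorem E_eq_bot [Finite G] : h.E = ⊥ := by
  obtain ⟨q, hq, hc⟩ := h.exists_w'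
  refine h.core _ (fun e he => h.E_mem he) (fun s hs e he => h.E_conj hs he) ?_ ?_
  · intro e he
    have : y * e * y⁻¹ = e := by rw [← he.2.eq]; group
    rw [this]; exact he
  · intro e he
    have h1 := (hc e he).eq
    have h2 := h.E_conj (qq_le _ _ hq) he
    have e1 : w * e * w⁻¹ = q * e * q⁻¹ := by
      have h3 : (w⁻¹ * q)⁻¹ * (e * (w⁻¹ * q)) = e := by
        rw [← h1]; group
      calc w * e * w⁻¹ = q * ((w⁻¹ * q)⁻¹ * (e * (w⁻¹ * q))) * q⁻¹ := by group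
        _ = q * e * q⁻¹ := by rw [h3]
    rw [e1]; exact h2

/-- `C_{Q₁}(W) = W`. -/
theorem C1_le [Finite G] : h.C1 ≤ h.W := by
  intro c hc
  obtain ⟨k, hk, hkg⟩ := h.surj (h.W.inv_mem (h.comm_y hc.1))
  have hck : c * k ∈ h.E := by
    refine ⟨h.C1.mul_mem hc (h.W_le_C1 hk), ?_⟩
    have h1 := h.C1_comm hc _ (h.y_conj_W hk)
    set g := y * c * y⁻¹ * c⁻¹ with hg
    have hgW : g ∈ h.W := h.comm_y hc.1
    change c * k * y = y * (c * k)
    symm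
    calc y * (c * k) = g * (c * (y * k * y⁻¹)) * y := by rw [hg]; group
      _ = g * ((y * k * y⁻¹) * k⁻¹) * k * c * y := by rw [h1]; group
      _ = k * c * y := by rw [hkg]; group
      _ = c * k * y := by rw [h.C1_comm hc k hk]
  rw [h.E_eq_bot, Subgroup.mem_bot] at hck
  rw [eq_inv_of_mul_eq_one_left hck]
  exact h.W.inv_mem hk

/-- `Q₁ ≠ W`. -/
theorem exists_not_W [Finite G] : ∃ u ∈ qq S y, u ∉ h.W := by
  by_contra hcon
  push Not at hcon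
  obtain ⟨A, hAS, hA2, hA4⟩ := h.big
  have hAc : ∀ a ∈ A, ∀ b ∈ A, a * b = b * a := by
    intro a ha b hb
    have h1 := hA2 _ (A.mul_mem ha hb)
    have h2 := inv_eq_self h1
    rw [mul_inv_rev, inv_eq_self (hA2 a ha), inv_eq_self (hA2 b hb)] at h2
    exact h2.symm
  have hAV : ∀ a ∈ A, a ∈ qq S y → a ∈ h.V := fun a ha hq =>
    h.mem_V_of_sq (hcon a hq) (hA2 a ha)
  by_cases hAq : A ≤ qq S y
  · have h1 : A ≤ h.V := fun a ha => hAV a ha (hAq ha)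
    have h2 := Nat.card_le_card_of_injective _ (Subgroup.inclusion_injective h1)
    rw [h.card_V] at h2
    omega
  · obtain ⟨a0, ha0, ha0q⟩ := SetLike.not_le_iff_exists.1 hAq
    set B := A ⊓ qq S y with hB
    have hBz : ∀ b ∈ B, b = 1 ∨ b = z := by
      intro b hb
      have hbV := hAV b hb.1 hb.2
      have hcb := hAc a0 ha0 b hb.1
      rcases hbV with h1 | h1 | h1 | h1
      · exact Or.inl h1
      · exact Or.inr h1
      · rw [h1, h.swap1 (hAS ha0) ha0q] at hcb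
        exact absurd (mul_right_cancel hcb).symm h.z1_ne_z2
      · rw [h1, h.swap2 (hAS ha0) ha0q] at hcb
        exact absurd (mul_right_cancel hcb) h.z1_ne_z2
    have hBcard : Nat.card B ≤ 2 := by
      have h1 : Nat.card B ≤ Nat.card ({1, z} : Set G) := by
        refine Nat.card_le_card_of_injective
          (fun b : B => (⟨b, by
            rcases hBz b b.2 with h2 | h2
            · exact Or.inl h2
            · exact Or.inr h2⟩ : ({1, z} : Set G))) ?_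
        intro a b hab
        exact Subtype.ext (congrArg (fun g : ({1, z} : Set G) => (g : G)) hab)
      refine h1.trans ?_
      rw [Nat.card_coe_set_eq, Set.ncard_pair h.z_ne.symm]
    have hAB := card_eq_two_mul (A := B) (B := A) inf_le_left ha0 (fun h1 => ha0q h1.2) (by
      intro b hb
      by_cases hbq : b ∈ qq S y
      · exact Or.inl ⟨hb, hbq⟩
      · exact Or.inr ⟨A.mul_mem hb ha0, h.hy.mul_not_qq (hAS hb) (hAS ha0) hbq ha0q⟩)
    omega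

/-- The element `u`. -/
theorem exists_u [Finite G] : ∃ u ∈ qq S y, u ∉ h.W ∧ u * u = 1 ∧ u * y = y * u ∧
    u * v1 = v1 * u ∧ (∀ g ∈ h.W, u * g * u⁻¹ = g⁻¹) ∧ ∀ q ∈ qq S y, q ∈ h.W ∨ q * u ∈ h.W := by
  obtain ⟨u', hu', hu'W⟩ := h.exists_not_W
  have hinv : ∀ q ∈ qq S y, q ∉ h.W → ∀ g ∈ h.W, q * g * q⁻¹ = g⁻¹ := by
    intro q hq hqW
    have hs : q * h.y0 * q⁻¹ = h.y0⁻¹ ∧ q * h.y1 * q⁻¹ = h.y1⁻¹ ∧ q * h.y2 * q⁻¹ = h.y2⁻¹ := by
      rcases h.signs hq with ⟨a, b, c⟩ | ⟨a, b, c⟩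
      · exfalso
        apply hqW
        apply h.C1_le
        refine ⟨hq, ?_, ?_⟩
        · change q * h.y1 = h.y1 * q
          calc q * h.y1 = q * h.y1 * q⁻¹ * q := by group
            _ = h.y1 * q := by rw [b]
        · change q * h.y2 = h.y2 * q
          calc q * h.y2 = q * h.y2 * q⁻¹ * q := by group
            _ = h.y2 * q := by rw [c]
      · rw [h.inv0, h.inv1, h.inv2]
        exact ⟨a, b, c⟩
    intro g hg
    obtain ⟨v, hv, h1⟩ := h.mem_W'.1 hg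
    have hqv : q * v * q⁻¹ = v⁻¹ := by
      rw [h.qq_comm_V hq v hv, mul_inv_cancel_right, inv_eq_self (h.V_sq v hv)]
    have key : ∀ a ∈ qq S y, q * a * q⁻¹ = a⁻¹ → q * (v * a) * q⁻¹ = (v * a)⁻¹ := by
      intro a haq ha
      rw [cmul, hqv, ha, mul_inv_rev]
      have := h.qq_comm_V ((qq S y).inv_mem haq) _ (h.V.inv_mem hv)
      exact this.symm
    rcases h1 with rfl | rfl | rfl | rfl
    · exact hqv
    · exact key _ h.y0_qq hs.1
    · exact key _ h.y1_qq hs.2.1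
    · exact key _ h.y2_qq hs.2.2
  have hu'i := hinv u' hu' hu'W
  obtain ⟨k, hk, hkg⟩ := h.surj (h.comm_y hu')
  set g := y * u' * y⁻¹ * u'⁻¹ with hg
  have hgW : g ∈ h.W := h.comm_y hu'
  -- `u = u' k`
  have hu1 : u' * k ∈ qq S y := (qq S y).mul_mem hu' (h.W_le hk)
  have huW : u' * k ∉ h.W := fun h1 => hu'W ((h.W.mul_mem_cancel_right hk).1 h1)
  have huy : (u' * k) * y = y * (u' * k) := by
    symm
    have h1 := hu'i _ (h.y_conj_W hk)
    have h2 := hu'i k hk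
    calc y * (u' * k) = g * (u' * (y * k * y⁻¹) * u'⁻¹) * u' * y := by rw [hg]; group
      _ = g * (y * k * y⁻¹)⁻¹ * u' * y := by rw [h1]
      _ = ((y * k * y⁻¹) * k⁻¹) * (y * k * y⁻¹)⁻¹ * u' * y := by rw [hkg]
      _ = (k⁻¹ * (y * k * y⁻¹)) * (y * k * y⁻¹)⁻¹ * u' * y := by
          rw [h.W_comm _ (h.y_conj_W hk) _ (h.W.inv_mem hk)]
      _ = k⁻¹ * u' * y := by group
      _ = (u' * k * u'⁻¹) * u' * y := by rw [h2]
      _ = (u' * k) * y := by group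
  set u := u' * k with hu
  have hui := hinv u hu1 huW
  have huu : u * u = 1 := by
    have h1 : u * u ∈ h.C1 := by
      refine h.mem_C1_of ((qq S y).mul_mem hu1 hu1) fun b hb => ?_
      have h2 := hui b hb
      have h3 := hui _ (h.W.inv_mem hb)
      calc u * u * b = u * (u * b * u⁻¹) * u⁻¹ * (u * u) := by group
        _ = b * (u * u) := by rw [h2, h3, inv_inv]
    refine h.fix_W (h.C1_le h1) ?_
    have h2 : Commute (u * u) y := Commute.mul_left huy huy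
    rw [← h2.eq]; group
  have hut : u * v1 = v1 * u := by
    have h1 : u * v1 * u⁻¹ * v1⁻¹ ∈ h.W := by
      rcases h.comm_v1 (qq_le _ _ hu1) with h1 | h1 | h1 | h1 <;> rw [h1]
      · exact h.W.one_mem
      · exact h.V_le_W h.z_V
      · exact h.W.mul_mem (h.V_le_W h.z1_V) h.y0_W
      · exact h.W.mul_mem (h.V_le_W h.z_V) (h.W.mul_mem (h.V_le_W h.z1_V) h.y0_W)
    have h2 : Commute (v1 * u⁻¹ * v1⁻¹) y := by
      apply conj_commute
      have hv : v1⁻¹ = v1 := inv_eq_self h.v1_sq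
      have e : v1⁻¹ * y * v1 = y⁻¹ := by
        rw [hv, h.v1_y, mul_assoc, h.v1_sq, mul_one]
      rw [e]
      exact (show Commute u y from huy).inv_inv
    have h3 : Commute (u * v1 * u⁻¹ * v1⁻¹) y := by
      have e : u * v1 * u⁻¹ * v1⁻¹ = u * (v1 * u⁻¹ * v1⁻¹) := by group
      rw [e]
      exact Commute.mul_left huy h2
    have h4 := h.fix_W h1 (by rw [← h3.eq]; group)
    calc u * v1 = u * v1 * u⁻¹ * v1⁻¹ * (v1 * u) := by group
      _ = v1 * u := by rw [h4, one_mul]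
  refine ⟨u, hu1, huW, huu, huy, hut, hui, fun q hq => ?_⟩
  by_cases hqW : q ∈ h.W
  · exact Or.inl hqW
  · right
    apply h.C1_le
    refine h.mem_C1_of ((qq S y).mul_mem hq hu1) fun b hb => ?_
    have h2 := hui b hb
    have h3 := hinv q hq hqW _ (h.W.inv_mem hb)
    calc q * u * b = q * (u * b * u⁻¹) * q⁻¹ * (q * u) := by group
      _ = b * (q * u) := by rw [h2, h3, inv_inv]

end Cfsg.Agent.SectRankFour.C2.BTwoCData.Data
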