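import Mathlib
import Cfsg.Agent.SectRankFour.C2.BTwoCEnd

/-!
# S0517, C2, section (2c), abstract part: from `Data` to `Conf64`
-/

set_option autoImplicit false

namespace Cfsg.Agent.SectRankFour.C2.BTwoCConf

open Cfsg.Agent.SectRankFour.C2.BThreeA Cfsg.Agent.SectRankFour.C2.BTwoCData
open Cfsg.Agent.SectRankFour.C2.Defs

variable {G : Type*} [Group G] {S P1 : Subgroup G} {z z1 z2 v1 v2 y w : G}

theorem y0_eq (h : Data S z z1 z2 v1 v2 y w) : h.y0 = h.y1⁻¹ * h.y2⁻¹ := by
  have e : h.y0 = (h.y1 * h.y2)⁻¹ := eq_inv_of_mul_eq_one_left h.prod_eq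
  rw [e, h.y1y2, mul_inv_rev]

theorem W_le_closure (h : Data S z z1 z2 v1 v2 y w) {K : Subgroup G} (h1 : h.y1 ∈ K)
    (h2 : h.y2 ∈ K) : h.W ≤ K := by
  have hz1 : z1 ∈ K := by rw [← h.y1_sq]; exact K.mul_mem h1 h1
  have hz2 : z2 ∈ K := by rw [← h.y2_sq]; exact K.mul_mem h2 h2
  have hz : z ∈ K := by
    have := K.mul_mem hz1 hz2
    rwa [h.z1z2] at this
  have h0 : h.y0 ∈ K := by
    rw [y0_eq h]
    exact K.mul_mem (K.inv_mem h1) (K.inv_mem h2)
  have hV : h.V ≤ K := by
    rintro v (rfl | rfl | rfl | rfl)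
    · exact K.one_mem
    · exact hz
    · exact hz1
    · exact hz2
  intro g hg
  obtain ⟨v, hv, rfl | rfl | rfl | rfl⟩ := h.mem_W'.1 hg
  · exact hV hv
  · exact K.mul_mem (hV hv) h0
  · exact K.mul_mem (hV hv) h1
  · exact K.mul_mem (hV hv) h2

theorem conf64 [Finite G] (h : Data S z z1 z2 v1 v2 y w)
    (hP : P1 = Subgroup.closure (insert y (S : Set G))) : ∃ a b u s x, Conf64 S P1 a b u s x := by
  obtain ⟨u, huq, huW, huu, huy, hut, hui, hcov⟩ := h.exists_u
  have huS : u ∈ S := qq_le _ _ huq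
  -- the order
  have c1 : Nat.card (qq S y) = 2 * Nat.card h.W :=
    card_eq_two_mul h.W_le huq huW fun b hb => hcov b hb
  have c2 : Nat.card S = 2 * Nat.card (qq S y) :=
    card_eq_two_mul (qq_le _ _) h.v1_mem h.v1_not (by
      intro b hb
      by_cases hbq : b ∈ qq S y
      · exact Or.inl hbq
      · exact Or.inr (h.hy.mul_not_qq hb h.v1_mem hbq h.v1_not))
  -- generation
  have key : ∀ K : Subgroup G, h.y1 ∈ K → h.y2 ∈ K → u ∈ K → v1 ∈ K → S ≤ K := by
    intro K k1 k2 ku kv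
    have hWK := W_le_closure h k1 k2
    have hQK : qq S y ≤ K := by
      intro q hq
      rcases hcov q hq with h1 | h1
      · exact hWK h1
      · exact (K.mul_mem_cancel_right ku).1 (hWK h1)
    intro s hs
    by_cases hq : s ∈ qq S y
    · exact hQK hq
    · exact (K.mul_mem_cancel_right kv).1 (hQK (h.hy.mul_not_qq hs h.v1_mem hq h.v1_not))
  have hS : S = Subgroup.closure {h.y1, h.y2, u, v1} := by
    apply le_antisymm
    · apply key <;> apply Subgroup.subset_closure <;> simp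
    · rw [Subgroup.closure_le]
      rintro g (rfl | rfl | rfl | rfl)
      · exact h.y1_mem
      · exact h.y2_mem
      · exact huS
      · exact h.v1_mem
  have hP1 : P1 = Subgroup.closure {h.y1, h.y2, u, v1, y} := by
    rw [hP]
    apply le_antisymm
    · rw [Subgroup.closure_le]
      rintro g (rfl | hg)
      · apply Subgroup.subset_closure; simp
      · have : S ≤ Subgroup.closure {h.y1, h.y2, u, v1, y} := by
          apply key <;> apply Subgroup.subset_closure <;> simp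
        exact this hg
    · rw [Subgroup.closure_le]
      have hSc : ∀ g ∈ S, g ∈ Subgroup.closure (insert y (S : Set G)) := fun g hg =>
        Subgroup.subset_closure (Or.inr hg)
      rintro g (rfl | rfl | rfl | rfl | rfl)
      · exact hSc _ h.y1_mem
      · exact hSc _ h.y2_mem
      · exact hSc _ huS
      · exact hSc _ h.v1_mem
      · exact Subgroup.subset_closure (Or.inl rfl)
  refine ⟨h.y1, h.y2, u, v1, y, ⟨?_, hS, hP1, h.y1y2, ?_, ?_, ?_, ?_, ?_, hui _ h.y1_W,
    hui _ h.y2_W, h.v1_y1, h.v1_y2, hut.symm, h.yy1, ?_, huy.symm, h.ty⟩⟩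
  · rw [c2, c1, h.card_W]
  · have : h.y1 ^ 4 = (h.y1 * h.y1) * (h.y1 * h.y1) := by simp [pow_succ, mul_assoc]
    rw [this, h.y1_sq, h.z1_sq]
  · have : h.y2 ^ 4 = (h.y2 * h.y2) * (h.y2 * h.y2) := by simp [pow_succ, mul_assoc]
    rw [this, h.y2_sq, h.z2_sq]
  · rw [pow_two, huu]
  · rw [pow_two, h.v1_sq]
  · rw [pow_succ, pow_two, h.hy.cube]
  · rw [h.yy2, y0_eq h]

end Cfsg.Agent.SectRankFour.C2.BTwoCConf
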