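import Mathlib
import Cfsg.Agent.SectRankFour.C2.BTwoCData
import Cfsg.Agent.SectRankFour.C2.BTwoB

/-!
# S0517, C2, section (2c): from the pair to the data
-/

set_option autoImplicit false

namespace Cfsg.Agent.SectRankFour.C2.BTwoCGlue

open Subgroup Cfsg Cfsg.Agent.ZN Cfsg.Agent.MinSimple.MinParabolic Cfsg.Agent.MinSimple.VModule
open Cfsg.Agent.SectRankFour.C2.Defs Cfsg.Agent.SectRankFour.C2.BOneFacts
open Cfsg.Agent.SectRankFour.C2.BThreeA Cfsg.Agent.SectRankFour.C2.BTwoCData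

universe u

variable {G : Type u} [Group G]

theorem half_of {S Q : Subgroup G} {y : G} (hQS : Q ≤ S) (hyQ : ∀ q ∈ Q, y * q * y⁻¹ ∈ Q)
    (hyQ' : ∀ q ∈ Q, y⁻¹ * q * y ∈ Q) (h3 : y * y * y = 1) (hyS : y ∉ S)
    (hS : ∀ s ∈ S, (∃ q ∈ Q, s * y * s⁻¹ = q * y) ∨ (∃ q ∈ Q, s * y * s⁻¹ = q * y⁻¹)) :
    Half S y := by
  refine ⟨h3, hyS, fun s hs => ?_⟩
  rcases hS s hs with ⟨q, hq, e⟩ | ⟨q, hq, e⟩
  · left
    constructor
    · have e1 : y⁻¹ * s * y = (y⁻¹ * q * y) * s := by
        calc y⁻¹ * s * y = y⁻¹ * (s * y * s⁻¹) * s := by group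
          _ = _ := by rw [e]; group
      rw [e1]; exact mul_mem (hQS (hyQ' q hq)) hs
    · have e1 : y * s * y⁻¹ = q⁻¹ * s := by
        calc y * s * y⁻¹ = y * (s * y * s⁻¹)⁻¹ * s := by group
          _ = _ := by rw [e]; group
      rw [e1]; exact mul_mem (hQS (inv_mem hq)) hs
  · right
    constructor
    · have e1 : y * s * y = (y * q * y⁻¹) * s := by
        calc y * s * y = y * (s * y * s⁻¹) * s := by group
          _ = _ := by rw [e]; group
      rw [e1]; exact mul_mem (hQS (hyQ q hq)) hs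
    · have e1 : y⁻¹ * s * y⁻¹ = q⁻¹ * s := by
        calc y⁻¹ * s * y⁻¹ = y⁻¹ * (s * y * s⁻¹)⁻¹ * s := by group
          _ = _ := by rw [e]; group
      rw [e1]; exact mul_mem (hQS (inv_mem hq)) hs

theorem half_inv {S : Subgroup G} {y : G} (h : Half S y) : Half S y⁻¹ := by
  refine ⟨?_, fun e => h.notmem (by simpa using inv_mem e), fun s hs => ?_⟩
  · have := h.cube
    calc y⁻¹ * y⁻¹ * y⁻¹ = (y * y * y)⁻¹ := by group
      _ = 1 := by rw [this, inv_one]
  · rw [inv_inv]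
    rcases h.dich s hs with ⟨h1, h2⟩ | ⟨h1, h2⟩
    · exact Or.inl ⟨h2, h1⟩
    · exact Or.inr ⟨h2, h1⟩

variable [Finite G] {S P1 P2 : Subgroup G}

/-- `|R| = 3`: elements of `S ∖ O₂(P)` invert `R` modulo `O₂(P)`. -/
theorem conj_R {P R : Subgroup G} {p : ℕ} (hR : Par S P R p) (hc : Nat.card R = 3) {s : G}
    (hs : s ∈ S) : s ∈ o2 P ∨ ∀ r ∈ R, ∃ q ∈ o2 P, s * r * s⁻¹ = q * r⁻¹ := by
  obtain ⟨q, hq, n, hn, rfl⟩ := ParFacts.exists_mul hR hs
  have hnR : ∀ x ∈ R, n * x * n⁻¹ ∈ R := fun x hx =>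
    (mem_normalizer_iff.1 (mem_inf.1 hn).2 x).1 hx
  have hQn : P ≤ normalizer (o2 P : Set G) := le_normalizer_o2 P
  rcases ParIndex.cent_or_inv hc hnR with h1 | h1
  · left
    exact mul_mem hq (ParFacts.mem_o2_of_comm hR (mem_inf.1 hn).1 h1)
  · right
    intro r hr
    refine ⟨q * (r⁻¹ * q⁻¹ * r⁻¹⁻¹), mul_mem hq ?_, ?_⟩
    · exact conj_mem hQn (inv_mem (hR.R_le hr)) (inv_mem hq)
    · calc q * n * r * (q * n)⁻¹ = q * (n * r * n⁻¹) * q⁻¹ := by group
        _ = q * r⁻¹ * q⁻¹ := by rw [h1 r hr]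
        _ = _ := by group

theorem not_mem_S {P R : Subgroup G} {p : ℕ} (hR : Par S P R p) {q r : G} (hq : q ∈ o2 P)
    (hr : r ∈ R) (hr1 : r ≠ 1) : q * r ∉ S := by
  intro hs
  have h1 : r ∈ S := by
    have := mul_mem (inv_mem (ParFacts.o2_le_S hR hq)) hs
    rwa [inv_mul_cancel_left] at this
  have h2 : r ∈ S ⊓ (o2 P ⊔ R) := ⟨h1, mem_sup_right hr⟩
  rw [hR.inf_eq] at h2
  have h3 : r ∈ o2 P ⊓ R := ⟨h2, hr⟩
  rw [ParFacts.o2_inf_R hR, mem_bot] at h3
  exact hr1 h3

theorem half_mul {P R : Subgroup G} {p : ℕ} (hR : Par S P R p) (hc : Nat.card R = 3) {q r : G}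
    (hq : q ∈ o2 P) (hr : r ∈ R) (hr1 : r ≠ 1) (h3 : (q * r) * (q * r) * (q * r) = 1) :
    Half S (q * r) := by
  have hQP : o2 P ≤ P := o2_le P
  have hyP : q * r ∈ P := mul_mem (hQP hq) (hR.R_le hr)
  have hQn : P ≤ normalizer (o2 P : Set G) := le_normalizer_o2 P
  have hSQ : ∀ s ∈ S, ∀ a ∈ o2 P, s * a * s⁻¹ ∈ o2 P := fun s hs a ha =>
    conj_mem hQn (hR.le hs) ha
  refine half_of (ParFacts.o2_le_S hR) (fun a ha => conj_mem hQn hyP ha)
    (fun a ha => conj_mem' hQn hyP ha) h3 (not_mem_S hR hq hr hr1) ?_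
  intro s hs
  set y := q * r with hy
  rcases conj_R hR hc hs with h1 | h1
  · left
    refine ⟨s * (y * s⁻¹ * y⁻¹), mul_mem h1 (conj_mem hQn hyP (inv_mem h1)), by group⟩
  · right
    obtain ⟨b, hb, e⟩ := h1 r hr
    refine ⟨(s * q * s⁻¹) * b * (y⁻¹ * q * y), mul_mem (mul_mem (hSQ s hs q hq) hb)
      (conj_mem' hQn hyP hq), ?_⟩
    calc s * y * s⁻¹ = (s * q * s⁻¹) * (s * r * s⁻¹) := by rw [hy]; group
      _ = (s * q * s⁻¹) * (b * r⁻¹) := by rw [e]
      _ = _ := by rw [hy]; group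

/-- an element of order 3 inverted by a given involution of `S` -/
theorem exists_y {P R : Subgroup G} {p : ℕ} (hR : Par S P R p) (hc : Nat.card R = 3) (hp : p = 3)
    {t : G} (ht : t ∈ S) (ht2 : t * t = 1) (htQ : t ∉ o2 P) :
    ∃ y ∈ P, Half S y ∧ t * y * t⁻¹ = y⁻¹ := by
  have hQP : o2 P ≤ P := o2_le P
  have hQn : P ≤ normalizer (o2 P : Set G) := le_normalizer_o2 P
  obtain ⟨r, hr, hr1⟩ : ∃ r ∈ R, r ≠ 1 := by
    by_contra hcon
    push Not at hcon
    rw [(eq_bot_iff_forall _).2 hcon, Subgroup.card_bot] at hc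
    norm_num at hc
  have hr3 : r ^ 3 = 1 := by rw [← hp]; exact hR.pow_R r hr
  have hti : t⁻¹ = t := inv_eq_of_mul_eq_one_left ht2
  obtain ⟨q, hq, e⟩ := (conj_R hR hc ht).resolve_left htQ r hr
  set g := t * r * t⁻¹ * r⁻¹ with hg
  have hrr : r⁻¹ * r⁻¹ = r := by
    have h1 : r * r * r = 1 := by
      rw [← hr3, pow_succ, pow_two]
    calc r⁻¹ * r⁻¹ = r⁻¹ * r⁻¹ * (r * r * r) := by rw [h1, mul_one]
      _ = r := by group
  have hgq : g = q * r := by rw [hg, e, mul_assoc, hrr]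
  have htg : t * g * t⁻¹ = g⁻¹ := by
    rw [hg]
    calc t * (t * r * t⁻¹ * r⁻¹) * t⁻¹ = (t * t) * r * t⁻¹ * r⁻¹ * t⁻¹ := by group
      _ = r * t * r⁻¹ * t⁻¹ := by rw [ht2, hti, one_mul]
      _ = _ := by group
  have hgn : ∀ n : ℕ, ∃ a ∈ o2 P, g ^ n = a * r ^ n := by
    intro n
    induction n with
    | zero => exact ⟨1, one_mem _, by simp⟩
    | succ n ih =>
      obtain ⟨a, ha, e1⟩ := ih
      refine ⟨a * (r ^ n * q * (r ^ n)⁻¹), mul_mem ha
        (conj_mem hQn (pow_mem (hR.R_le hr) n) hq), ?_⟩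
      rw [pow_succ, e1, hgq, pow_succ]
      group
  obtain ⟨a3, ha3, e3⟩ := hgn 3
  rw [hr3, mul_one] at e3
  obtain ⟨k, hk⟩ := o2_isPGroup P ⟨a3, ha3⟩
  have hk' : a3 ^ 2 ^ k = 1 := by
    have := congrArg Subtype.val hk
    simpa using this
  set N := 4 ^ k with hN
  obtain ⟨a, ha, ea⟩ := hgn N
  have hrN : r ^ N = r := by
    have h1 : N % 3 = 1 := by
      rw [hN, Nat.pow_mod]; norm_num
    have h2 : N = 3 * (N / 3) + 1 := by omega
    rw [h2, pow_add, pow_mul, hr3, one_pow, one_mul, pow_one]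
  rw [hrN] at ea
  have hy3 : (g ^ N) ^ 3 = 1 := by
    have h4 : (4 : ℕ) ^ k = 2 ^ k * 2 ^ k := by rw [← mul_pow]; norm_num
    rw [← pow_mul, mul_comm, pow_mul, e3, hN, h4, pow_mul, hk', one_pow]
  refine ⟨g ^ N, ?_, ?_, ?_⟩
  · rw [ea]; exact mul_mem (hQP ha) (hR.R_le hr)
  · rw [ea]
    apply half_mul hR hc ha hr hr1
    rw [← ea]
    have : g ^ N * g ^ N * g ^ N = (g ^ N) ^ 3 := by rw [pow_succ, pow_two]
    rw [this, hy3]
  · have h1 : ∀ n : ℕ, t * g ^ n * t⁻¹ = (g ^ n)⁻¹ := by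
      intro n
      induction n with
      | zero => simp
      | succ n ih =>
        have h2 : t * g ^ (n + 1) * t⁻¹ = (t * g ^ n * t⁻¹) * (t * g * t⁻¹) := by
          rw [pow_succ]; group
        rw [h2, ih, htg, ← mul_inv_rev, ← pow_succ']
    exact h1 N

/-- `C_{P1}(z) = S` -/
theorem stab (h : Pair S P1 P2) {z : G} (hZ : ∀ a, a ∈ zc S ↔ a = 1 ∨ a = z) :
    ∀ g ∈ P1, g * z = z * g → g ∈ S := by
  obtain ⟨R1, p1, hR1⟩ := h.par1
  have hzc : z ∈ zc S := (hZ z).2 (Or.inr rfl)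
  have hSz : ∀ s ∈ S, s * z = z * s := fun s hs => P2_Z h (le2 h hs) hzc
  have h1 := hR1.max (P1 ⊓ centralizer {z})
    (le_inf (le1 h) fun s hs => mem_centralizer_singleton_iff.2 (hSz s hs)) inf_le_left
  rcases h1 with e | e
  · intro g hg hgz
    rw [← e]
    exact mem_inf.2 ⟨hg, mem_centralizer_singleton_iff.2 hgz⟩
  · exfalso
    apply not_norm h
    apply BOneFacts.le_normalizer_of
    intro g hg a ha
    rw [← e] at hg
    have hgz : g * z = z * g := mem_centralizer_singleton_iff.1 (mem_inf.1 hg).2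
    rcases (hZ a).1 ha with e' | e' <;> rw [e']
    · rw [mul_one, mul_inv_cancel]; exact one_mem _
    · rw [hgz, mul_inv_cancel_right]; exact hzc

/-- `|R1| = 3` if `|V| = 4` -/
theorem card_R1 (h : Pair S P1 P2) {R1 : Subgroup G} {p1 : ℕ} (hR1 : Par S P1 R1 p1) {z v : G}
    (hz1 : z ≠ 1) (hZ : ∀ a, a ∈ zc S ↔ a = 1 ∨ a = z)
    (hVm : ∀ a, a ∈ zl S P1 ↔ a = 1 ∨ a = z ∨ a = v ∨ a = v * z) :
    Nat.card R1 = 3 ∧ p1 = 3 := by
  have hinj : Function.Injective (fun r : R1 => (r : G) * z * (r : G)⁻¹) := by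
    rintro ⟨r, hr⟩ ⟨r', hr'⟩ e
    have e1 : r * z * r⁻¹ = r' * z * r'⁻¹ := e
    have e2 : (r'⁻¹ * r) * z = z * (r'⁻¹ * r) := by
      calc (r'⁻¹ * r) * z = r'⁻¹ * (r * z * r⁻¹) * r := by group
        _ = r'⁻¹ * (r' * z * r'⁻¹) * r := by rw [e1]
        _ = z * (r'⁻¹ * r) := by group
    have hm : r'⁻¹ * r ∈ R1 := mul_mem (inv_mem hr') hr
    have e3 := stab h hZ _ (hR1.R_le hm) e2
    apply Subtype.ext
    change r = r'
    by_contra hne
    have e4 : r'⁻¹ * r ≠ 1 := fun e5 => hne (inv_mul_eq_one.1 e5).symm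
    apply not_mem_S hR1 (one_mem _) hm e4
    rw [one_mul]; exact e3
  have hsub : Set.range (fun r : R1 => (r : G) * z * (r : G)⁻¹) ⊆ ({z, v, v * z} : Set G) := by
    rintro _ ⟨r, rfl⟩
    have hzV : z ∈ zl S P1 := (hVm z).2 (Or.inr (Or.inl rfl))
    have h1 := (hVm _).1 (conj_mem (P1_V h) (hR1.R_le r.2) hzV)
    rcases h1 with e | e | e | e
    · exfalso
      apply hz1
      calc z = (r : G)⁻¹ * ((r : G) * z * (r : G)⁻¹) * r := by group
        _ = 1 := by rw [e]; group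
    · exact Or.inl e
    · exact Or.inr (Or.inl e)
    · exact Or.inr (Or.inr e)
  have h1 : Nat.card R1 ≤ 3 := by
    have h2 : Nat.card R1 = (Set.range (fun r : R1 => (r : G) * z * (r : G)⁻¹)).ncard := by
      rw [← Nat.card_coe_set_eq]
      exact (Nat.card_range_of_injective hinj).symm
    rw [h2]
    refine (Set.ncard_le_ncard hsub (Set.toFinite _)).trans ?_
    exact (Set.ncard_insert_le _ _).trans (Nat.succ_le_succ ((Set.ncard_insert_le _ _).trans
      (by rw [Set.ncard_singleton])))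
  rcases hR1.card_R with e | ⟨e1, e2⟩
  · rcases hR1.p_eq with e' | e'
    · exact ⟨e.trans e', e'⟩
    · omega
  · omega

theorem exists_data (h : Pair S P1 P2) (hV : zl S P1 ≤ o2 P2)
    (hna : ¬ ∀ x ∈ vh S P1 P2, ∀ y ∈ vh S P1 P2, x * y = y * x)
    (h4 : Nat.card (zl S P1) = 4) (h3 : S.relIndex P2 = 3) :
    ∃ z z1 z2 v1 v2 y w, Data S z z1 z2 v1 v2 y w ∧ P1 = closure (insert y (S : Set G)) := by
  obtain ⟨R1, p1, hR1⟩ := h.par1
  obtain ⟨R2, p2, hR2⟩ := h.par2
  obtain ⟨z, v, hz1, hv1, hvz, hz2, hv2, hZ, hVm⟩ := BTwoB.exists_zv h h4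
  have hzV : z ∈ zl S P1 := (hVm z).2 (Or.inr (Or.inl rfl))
  have hvV : v ∈ zl S P1 := (hVm v).2 (Or.inr (Or.inr (Or.inl rfl)))
  have hzc : z ∈ zc S := (hZ z).2 (Or.inr rfl)
  have hzP : ∀ g ∈ P2, g * z = z * g := fun g hg => P2_Z h hg hzc
  have hSz : ∀ s ∈ S, s * z = z * s := fun s hs => hzP s (le2 h hs)
  have hQP : o2 P2 ≤ P2 := o2_le P2
  have hcR2 : Nat.card R2 = 3 := by rw [← hR2.relIndex]; exact h3
  have hp2 : p2 = 3 := by
    rcases hR2.card_R with e | ⟨e1, e2⟩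
    · omega
    · omega
  obtain ⟨hcR1, hp1⟩ := card_R1 h hR1 hz1 hZ hVm
  -- `w`
  obtain ⟨w, hw, hw1⟩ : ∃ r ∈ R2, r ≠ 1 := by
    by_contra hcon
    push Not at hcon
    rw [(eq_bot_iff_forall _).2 hcon, Subgroup.card_bot] at hcR2
    norm_num at hcR2
  have hw3 : w * w * w = 1 := by
    have := hR2.pow_R w hw
    rw [hp2, pow_succ, pow_two] at this
    exact this
  have hwP : w ∈ P2 := hR2.R_le hw
  have hhw : Half S w := by
    have := half_mul hR2 hcR2 (one_mem _) hw hw1 (by simpa using hw3)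
    simpa using this
  have hSv : ∀ s ∈ S, s * v * s⁻¹ = v ∨ s * v * s⁻¹ = v * z := by
    intro q hq
    have hqz : q * z = z * q := hSz q hq
    rcases (hVm _).1 (conj_mem (S_V h) hq hvV) with e | e | e | e
    · exfalso
      apply hv1
      calc v = q⁻¹ * (q * v * q⁻¹) * q := by group
        _ = 1 := by rw [e]; group
    · exfalso
      apply hvz
      calc v = q⁻¹ * (q * v * q⁻¹) * q := by group
        _ = q⁻¹ * (z * q) := by rw [e, mul_assoc]
        _ = z := by rw [← hqz]; group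
    · exact Or.inl e
    · exact Or.inr e
  -- `v1`, `v2`
  set v1 := w * v * w⁻¹ with hv1d
  set v2 := w * v1 * w⁻¹ with hv2d
  have hv1Q : v1 ∈ o2 P2 := conj_mem (P2_Q2 h) hwP (hV hvV)
  have hv2Q : v2 ∈ o2 P2 := conj_mem (P2_Q2 h) hwP hv1Q
  have hv1S : v1 ∈ S := Q2_le h hv1Q
  have hv2S : v2 ∈ S := Q2_le h hv2Q
  have hwv2 : w * v2 * w⁻¹ = v := by
    calc w * v2 * w⁻¹ = (w * w * w) * v * (w * w * w)⁻¹ := by rw [hv2d, hv1d]; group
      _ = v := by rw [hw3]; group
  -- noncommutativity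
  have hnc : ¬ v1 * v = v * v1 := by
    intro hc
    apply hna
    have hc' : v1 * v2 = v2 * v1 := by
      calc v1 * v2 = w * (v * v1) * w⁻¹ := by rw [hv2d]; simp only [hv1d]; group
        _ = w * (v1 * v) * w⁻¹ := by rw [hc]
        _ = v2 * v1 := by rw [hv2d]; simp only [hv1d]; group
    have hc'' : v2 * v = v * v2 := by
      calc v2 * v = w * (v1 * v2) * w⁻¹ := by
            rw [← hwv2]; simp only [hv2d]; group
        _ = w * (v2 * v1) * w⁻¹ := by rw [hc']
        _ = v * v2 := by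
            conv_rhs => rw [← hwv2]
            simp only [hv2d]; group
    let X : Set G := {z, v, v1, v2}
    have hXc : ∀ a ∈ X, ∀ b ∈ X, a * b = b * a := by
      have hzv := hzP v (hQP (hV hvV))
      have hzv1 := hzP v1 (hQP hv1Q)
      have hzv2 := hzP v2 (hQP hv2Q)
      intro a ha b hb
      simp only [X, Set.mem_insert_iff, Set.mem_singleton_iff] at ha hb
      rcases ha with ha | ha | ha | ha <;> rcases hb with hb | hb | hb | hb <;> rw [ha, hb] <;>
        first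
        | exact hzv | exact hzv.symm | exact hzv1 | exact hzv1.symm | exact hzv2
        | exact hzv2.symm | exact hc | exact hc.symm | exact hc' | exact hc'.symm | exact hc''
        | exact hc''.symm
    have CG := isMulCommutative_closure hXc
    have hcl : ∀ a ∈ closure X, ∀ b ∈ closure X, a * b = b * a := fun a ha b hb =>
      congrArg Subtype.val (CG.is_comm.comm ⟨a, ha⟩ ⟨b, hb⟩)
    have hVX : ∀ r ∈ ({1, w, w⁻¹} : Set G), ∀ a ∈ zl S P1, r * a * r⁻¹ ∈ closure X := by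
      have key : ∀ r ∈ P2, r * v * r⁻¹ ∈ closure X → ∀ a ∈ zl S P1, r * a * r⁻¹ ∈ closure X := by
        intro r hr hrv a ha
        have hrz : r * z * r⁻¹ ∈ closure X := by
          rw [hzP r hr, mul_inv_cancel_right]
          exact subset_closure (Or.inl rfl)
        rcases (hVm a).1 ha with e | e | e | e <;> rw [e]
        · rw [mul_one, mul_inv_cancel]; exact one_mem _
        · exact hrz
        · exact hrv
        · have : r * (v * z) * r⁻¹ = (r * v * r⁻¹) * (r * z * r⁻¹) := by group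
          rw [this]; exact mul_mem hrv hrz
      rintro r (rfl | rfl | hr)
      · apply key 1 (one_mem _)
        have : (1 : G) * v * 1⁻¹ = v := by group
        rw [this]; exact subset_closure (Or.inr (Or.inl rfl))
      · apply key _ hwP
        exact subset_closure (Or.inr (Or.inr (Or.inl rfl)))
      · rw [Set.mem_singleton_iff.1 hr]
        apply key _ (inv_mem hwP)
        have : w⁻¹ * v * w⁻¹⁻¹ = v2 := by
          calc w⁻¹ * v * w⁻¹⁻¹ = w⁻¹ * (w * v2 * w⁻¹) * w⁻¹⁻¹ := by rw [hwv2]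
            _ = v2 := by group
        rw [this]; exact subset_closure (Or.inr (Or.inr (Or.inr rfl)))
    have hle : vh S P1 P2 ≤ closure X := by
      rw [vh, cl, closure_le]
      rintro _ ⟨x, hx, a, ha, rfl⟩
      -- `x = r s`
      have hx' : x ∈ (o2 P2 ⊔ R2) ⊔ S := by rw [hR2.sup_eq]; exact hx
      have hn : S ≤ normalizer ((o2 P2 ⊔ R2 : Subgroup G) : Set G) :=
        (le2 h).trans hR2.norm_QR
      rw [← SetLike.mem_coe, coe_mul_of_right_le_normalizer_left _ _ hn] at hx'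
      obtain ⟨m, hm, s, hs, rfl⟩ := Set.mem_mul.1 hx'
      rw [coe_mul_of_right_le_normalizer_left _ _ (hR2.R_le.trans (P2_Q2 h))] at hm
      obtain ⟨q, hq, r, hr, rfl⟩ := Set.mem_mul.1 hm
      have hb : (r⁻¹ * q * r * s) * a * (r⁻¹ * q * r * s)⁻¹ ∈ zl S P1 :=
        conj_mem (S_V h) (mul_mem (Q2_le h (conj_mem' (P2_Q2 h) (hR2.R_le hr) hq)) hs) ha
      have e : q * r * s * a * (q * r * s)⁻¹ =
          r * ((r⁻¹ * q * r * s) * a * (r⁻¹ * q * r * s)⁻¹) * r⁻¹ := by group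
      rw [e]
      refine hVX r ?_ _ hb
      -- `r ∈ {1, w, w⁻¹}`
      have hsub : ({1, w, w⁻¹} : Set G) ⊆ (R2 : Set G) := by
        rintro a (rfl | rfl | ha)
        · exact one_mem _
        · exact hw
        · rw [Set.mem_singleton_iff.1 ha]; exact inv_mem hw
      have hww : w ≠ w⁻¹ := by
        intro e
        have e2 : w * w = 1 := by
          nth_rewrite 2 [e]; exact mul_inv_cancel w
        rw [e2, one_mul] at hw3
        exact hw1 hw3
      have hcard : ({1, w, w⁻¹} : Set G).ncard = 3 := by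
        rw [Set.ncard_insert_of_notMem, Set.ncard_pair hww]
        rintro (e | e)
        · exact hw1 e.symm
        · exact hw1 (inv_eq_one.1 (Set.mem_singleton_iff.1 e).symm)
      have he : ({1, w, w⁻¹} : Set G) = (R2 : Set G) := by
        apply Set.eq_of_subset_of_ncard_le hsub _ (Set.toFinite _)
        rw [hcard, ← Nat.card_coe_set_eq]
        exact hcR2.le
      rw [he]; exact hr
    intro x hx y hy
    exact hcl x (hle hx) y (hle hy)
  have hv1sq : v1 * v1 = 1 := by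
    calc v1 * v1 = w * (v * v) * w⁻¹ := by rw [hv1d]; group
      _ = 1 := by rw [hv2]; group
  have hv1Q1 : v1 ∉ o2 P1 := fun e => hnc (V_Q1 h v1 e v hvV)
  obtain ⟨y0, hy0P, hy0, hty0⟩ := exists_y hR1 hcR1 hp1 hv1S hv1sq hv1Q1
  -- replace `y0` by its inverse if necessary
  obtain ⟨y, hyP, hy, hty, hyz⟩ : ∃ y ∈ P1, Half S y ∧ v1 * y * v1⁻¹ = y⁻¹ ∧
      y * z * y⁻¹ = v := by
    rcases (hVm _).1 (conj_mem (P1_V h) hy0P hzV) with e | e | e | e
    · exfalso
      apply hz1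
      calc z = y0⁻¹ * (y0 * z * y0⁻¹) * y0 := by group
        _ = 1 := by rw [e]; group
    · exact absurd (stab h hZ y0 hy0P (mul_inv_eq_iff_eq_mul.1 e)) hy0.notmem
    · exact ⟨y0, hy0P, hy0, hty0, e⟩
    · refine ⟨y0⁻¹, inv_mem hy0P, half_inv hy0, ?_, ?_⟩
      · calc v1 * y0⁻¹ * v1⁻¹ = (v1 * y0 * v1⁻¹)⁻¹ := by group
          _ = y0⁻¹⁻¹ := by rw [hty0]
      · rw [inv_inv]
        -- `y0 v y0⁻¹ = z`
        have hzv : z * v = v * z := (hzP v (hQP (hV hvV))).symm
        rcases (hVm _).1 (conj_mem (P1_V h) hy0P hvV) with e' | e' | e' | e'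
        · exfalso
          apply hv1
          calc v = y0⁻¹ * (y0 * v * y0⁻¹) * y0 := by group
            _ = 1 := by rw [e']; group
        · rw [← e']; group
        · exfalso
          -- then `y0²` centralises `z`
          have e2 : y0 * (y0 * z * y0⁻¹) * y0⁻¹ = z := by
            calc y0 * (y0 * z * y0⁻¹) * y0⁻¹ = y0 * (v * z) * y0⁻¹ := by rw [e]
              _ = (y0 * v * y0⁻¹) * (y0 * z * y0⁻¹) := by group
              _ = v * (v * z) := by rw [e, e']
              _ = z := by rw [← mul_assoc, hv2, one_mul]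
          have e3 : (y0 * y0) * z = z * (y0 * y0) := by
            apply mul_inv_eq_iff_eq_mul.1
            calc (y0 * y0) * z * (y0 * y0)⁻¹ = y0 * (y0 * z * y0⁻¹) * y0⁻¹ := by group
              _ = z := e2
          have e4 := stab h hZ _ (mul_mem hy0P hy0P) e3
          rw [sq_eq_inv hy0.cube] at e4
          exact hy0.notmem (by simpa using inv_mem e4)
        · exfalso
          apply hvz
          have := e'.trans e.symm
          simpa using this
  set z2 := y * v * y⁻¹ with hz2d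
  have hz2V : z2 ∈ zl S P1 := conj_mem (P1_V h) hyP hvV
  have hVS : zl S P1 ≤ S := V_le h
  have hyz2 : y * z2 * y⁻¹ = z := by
    calc y * z2 * y⁻¹ = (y * y * y) * z * (y * y * y)⁻¹ := by
          rw [hz2d]
          conv_lhs => rw [← hyz]
          group
      _ = z := by rw [hy.cube]; group
  have hP1 : P1 = closure (insert y (S : Set G)) := by
    have h1 : S ≤ closure (insert y (S : Set G)) := fun s hs => subset_closure (Or.inr hs)
    have h2 : closure (insert y (S : Set G)) ≤ P1 := by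
      rw [closure_le]
      rintro a (rfl | ha)
      · exact hyP
      · exact le1 h ha
    rcases hR1.max _ h1 h2 with e | e
    · exfalso
      apply hy.notmem
      have : y ∈ closure (insert y (S : Set G)) := subset_closure (Or.inl rfl)
      rwa [e] at this
    · exact e.symm
  have hP2 : P2 = closure (insert w (S : Set G)) := by
    have h1 : S ≤ closure (insert w (S : Set G)) := fun s hs => subset_closure (Or.inr hs)
    have h2 : closure (insert w (S : Set G)) ≤ P2 := by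
      rw [closure_le]
      rintro a (rfl | ha)
      · exact hwP
      · exact le2 h ha
    rcases hR2.max _ h1 h2 with e | e
    · exfalso
      apply hhw.notmem
      have : w ∈ closure (insert w (S : Set G)) := subset_closure (Or.inl rfl)
      rwa [e] at this
    · exact e.symm
  refine ⟨z, v, z2, v1, v2, y, w, ?_, hP1⟩
  refine
    { two := isPGroup h
      hy := hy
      hw := hhw
      z_mem := hVS hzV
      z1_mem := hVS hvV
      z2_mem := hVS hz2V
      v1_mem := hv1S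
      v2_mem := hv2S
      yz := hyz
      yz1 := rfl
      yz2 := hyz2
      wz := by rw [hzP w hwP, mul_inv_cancel_right]
      wz1 := rfl
      wv1 := rfl
      wv2 := hwv2
      z_sq := hz2
      z_ne := hz1
      z_comm := hSz
      z_uniq := fun g hg hg2 hgc => (hZ g).1
        (Cfsg.Agent.MinSimple.VModule.mem_zc.mpr ⟨hg, hgc, by rw [pow_two]; exact hg2⟩)
      ne := hvz
      nab := ?_
      ty := hty
      core := ?_
      big := ?_ }
  · rcases hSv v1 hv1S with e | e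
    · exact absurd (mul_inv_eq_iff_eq_mul.1 e) hnc
    · have e1 : v1 * v = v * z * v1 := mul_inv_eq_iff_eq_mul.1 e
      have hzv : v * z = z * v := hzP v (hQP (hV hvV))
      rw [e1, hzv]
      calc v * v1 = (z * z) * (v * v1) := by rw [hz2, one_mul]
        _ = _ := by simp only [mul_assoc]
  · intro U hU hUS hUy hUw
    apply h.nonlocal U ((isPGroup h).to_le hU)
    · rw [hP1, closure_le]
      rintro a (rfl | ha)
      · apply mem_normalizer_of_map_le
        rintro _ ⟨u, hu, rfl⟩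
        exact hUy u hu
      · apply mem_normalizer_of_map_le
        rintro _ ⟨u, hu, rfl⟩
        exact hUS a ha u hu
    · rw [hP2, closure_le]
      rintro a (rfl | ha)
      · apply mem_normalizer_of_map_le
        rintro _ ⟨u, hu, rfl⟩
        exact hUw u hu
      · apply mem_normalizer_of_map_le
        rintro _ ⟨u, hu, rfl⟩
        exact hUS a ha u hu
  · have hbig := h.hyp.big
    rw [PRankLE] at hbig
    push Not at hbig
    obtain ⟨A, -, hA2, hAc⟩ := hbig
    have hAp : IsPGroup 2 A := fun a => ⟨1, Subtype.ext (by simpa using hA2 a a.2)⟩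
    obtain ⟨T, hT⟩ := h.syl
    obtain ⟨T', hT'⟩ := hAp.exists_le_sylow
    obtain ⟨g, hg⟩ := MulAction.exists_smul_eq G T' T
    refine ⟨A.map (MulAut.conj g).toMonoidHom, ?_, ?_, ?_⟩
    · rw [← hT, ← hg]
      rintro _ ⟨a, ha, rfl⟩
      exact Subgroup.smul_mem_pointwise_smul a (MulAut.conj g) T' (hT' ha)
    · rintro _ ⟨a, ha, rfl⟩
      rw [← map_mul, ← pow_two, hA2 a ha, map_one]
    · rw [card_map_of_injective (MulAut.conj g).injective]
      exact hAc

end Cfsg.Agent.SectRankFour.C2.BTwoCGlue
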