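import Mathlib
import Cfsg.Agent.SectRankFour.C2.BTwoCConf
import Cfsg.Agent.SectRankFour.C2.BTwoCGlue
import Cfsg.Agent.SectRankFour.C2.BTwoA
import Cfsg.Agent.SectRankFour.C2.BTwoB

/-!
# S0517, C2, section 2: `V^` not abelian
-/

set_option autoImplicit false

namespace Cfsg.Agent.SectRankFour.C2.BTwoC

open Subgroup Cfsg Cfsg.Agent.ZN Cfsg.Agent.SectRankFour.C2.Defs
open Cfsg.Agent.MinSimple.MinParabolic Cfsg.Agent.MinSimple.VModule

variable {G : Type*} [Group G] [Finite G] {S P1 P2 : Subgroup G}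

/-- (2c) -/
theorem conf64 (h : Pair S P1 P2) (hV : zl S P1 ≤ o2 P2)
    (hna : ¬ ∀ x ∈ vh S P1 P2, ∀ y ∈ vh S P1 P2, x * y = y * x)
    (h4 : Nat.card (zl S P1) = 4) (h3 : S.relIndex P2 = 3) :
    ∃ a b u s x, Conf64 S P1 a b u s x := by
  obtain ⟨z, z1, z2, v1, v2, y, w, hd, hP⟩ := BTwoCGlue.exists_data h hV hna h4 h3
  exact BTwoCConf.conf64 hd hP

/-- Section 2: if `V^` is not abelian then the configuration of order 64 occurs. -/
theorem main (h : Pair S P1 P2) (hV : zl S P1 ≤ o2 P2)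
    (hna : ¬ ∀ x ∈ vh S P1 P2, ∀ y ∈ vh S P1 P2, x * y = y * x) :
    ∃ a b u s x, Conf64 S P1 a b u s x := by
  have h4 := BTwoA.card_eq_four h hV hna
  exact conf64 h hV hna h4 (BTwoB.relIndex_eq_three h hV hna h4)

end Cfsg.Agent.SectRankFour.C2.BTwoC
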