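import Cfsg.Agent.SectRankFour.C2.Fin64Core
import Cfsg.Agent.MinSimple.Killing
import Cfsg.Agent.MTwelveType.NotQ
import Cfsg.Agent.SmallSimple.SylowMaxInter

/-!
# S0517, configuration of order 64 (FIN64): one class of involutions

If all involutions of `G` are conjugate, `C(z)` has characteristic 2 and the element `x` of order 3 of the
configuration exists, then `N_G(V⟨t⟩)` is not solvable.
-/

set_option autoImplicit false
set_option linter.unusedSectionVars false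

namespace Cfsg.Agent.SectRankFour.C2.Fin64One

open Subgroup Cfsg Cfsg.Agent.ZN
open Cfsg.Agent.ClassificationK.GTwoModel Cfsg.Agent.ClassificationK.GTwoModel.T
open Cfsg.Agent.MTwelveType.Base Cfsg.Agent.MTwelveType
open Cfsg.Agent.MinSimple.VModule Cfsg.Agent.MinSimple.Basic
open Cfsg.Agent.SectRankFour.C2.Fin64Core

/-! ### facts in the model -/

section model

/-- the group `F = V⟨t⟩` -/
def InF (x : T (2 * 2)) : Prop := 2 * x.i = 0 ∧ 2 * x.j = 0 ∧ x.d = false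
instance : DecidablePred InF := fun x => by unfold InF; infer_instance

theorem InQ_of_InF : ∀ x : T (2 * 2), InF x → InQ x := by decide
theorem F_comm_t : ∀ x : T (2 * 2), InF x → x * t 2 = t 2 * x := by decide
theorem F_sq : ∀ x : T (2 * 2), InF x → x * x = 1 := by decide
theorem F_cases : ∀ x : T (2 * 2), InF x → InV x ∨ InV (x * t 2) := by decide
theorem InF_of_InV : ∀ x : T (2 * 2), InV x → InF x := by decide
theorem InV_of_F_E : ∀ x : T (2 * 2), InF x → InE x → InV x := by decide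
theorem Q_cen_a' : ∀ y : T (2 * 2), InQ y → y * a' 2 = a' 2 * y → y * y = 1 → (InF y ∨ InE y) := by decide
set_option maxRecDepth 100000 in
theorem F_mul : ∀ x y : T (2 * 2), InF x → InF y → InF (x * y) := by decide
set_option maxRecDepth 100000 in
theorem E_mul : ∀ x y : T (2 * 2), InE x → InE y → InE (x * y) := by decide
set_option maxRecDepth 100000 in
theorem F_normal : ∀ x g : T (2 * 2), InF x → InF (g * x * g⁻¹) := by decide
set_option maxRecDepth 100000 in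
theorem E_normal : ∀ x g : T (2 * 2), InE x → InE (g * x * g⁻¹) := by decide
set_option maxRecDepth 100000 in
theorem E_comm : ∀ x y : T (2 * 2), InE x → InE y → x * y = y * x := by decide
set_option maxRecDepth 100000 in
theorem FE_of_comm : ∀ x : T (2 * 2), x * x = 1 → (∀ g, x * (g * x * g⁻¹) = (g * x * g⁻¹) * x) →
    (InF x ∨ InE x) := by decide
theorem V_split : ∀ x : T (2 * 2), InV x → (InE (x * r 2) ∧ ¬ InV (x * r 2)) := by decide
theorem r_facts : InE (r 2) ∧ ¬ InV (r 2) ∧ r 2 * r 2 = (1 : T (2 * 2)) := by decide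
theorem card_F : Fintype.card {x : T (2 * 2) // InF x} = 8 := by decide
theorem card_E : Fintype.card {x : T (2 * 2) // InE x} = 8 := by decide
set_option maxRecDepth 100000 in
theorem card_le : ∀ y : T (2 * 2), y * y = 1 → y ≠ 1 → y ≠ z 2 → (y = a' 2 ∨ y = b' 2 ∨
    Fintype.card {x : T (2 * 2) // x * y = y * x} ≤ 16) := by decide

set_option maxRecDepth 100000 in
theorem t_comm : ∀ p q : T (2 * 2), p * t 2 = t 2 * p → q * t 2 = t 2 * q →
    (p * q * p⁻¹ * q⁻¹ = 1 ∨ p * q * p⁻¹ * q⁻¹ = z 2) := by decide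
set_option maxRecDepth 100000 in
theorem u_comm : ∀ p q : T (2 * 2), p * u 2 = u 2 * p → q * u 2 = u 2 * q →
    (p * q * p⁻¹ * q⁻¹ = 1 ∨ p * q * p⁻¹ * q⁻¹ = z 2) := by decide
set_option maxRecDepth 100000 in
theorem r_comm : ∀ p q : T (2 * 2), p * r 2 = r 2 * p → q * r 2 = r 2 * q →
    (p * q * p⁻¹ * q⁻¹ = 1 ∨ p * q * p⁻¹ * q⁻¹ = z 2) := by decide

set_option maxRecDepth 100000 in
theorem InV_normal : ∀ x g : T (2 * 2), InV x → InV (g * x * g⁻¹) := by decide
theorem F_v : ∀ y : T (2 * 2), InF y →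
    (InV y → ⟨1, 3, false, false⟩ * y * (⟨1, 3, false, false⟩)⁻¹ = y) ∧
    (¬ InV y → ⟨1, 3, false, false⟩ * y * (⟨1, 3, false, false⟩)⁻¹ = y * z 2) := by decide
theorem F_u : ∀ p : T (2 * 2), InF p →
    ((p = 1 ∨ p = z 2 ∨ p = t 2 ∨ p = z 2 * t 2) ∧ u 2 * p * (u 2)⁻¹ = p) ∨
    (¬ (p = 1 ∨ p = z 2 ∨ p = t 2 ∨ p = z 2 * t 2) ∧ u 2 * p * (u 2)⁻¹ = p * z 2) := by decide
theorem F_vu : ∀ p : T (2 * 2), InF p →
    ⟨1, 3, false, false⟩ * p * (⟨1, 3, false, false⟩)⁻¹ =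
      (⟨1, 2, false, false⟩ * u 2 * (⟨1, 2, false, false⟩)⁻¹ * (u 2)⁻¹) * p *
        (⟨1, 2, false, false⟩ * u 2 * (⟨1, 2, false, false⟩)⁻¹ * (u 2)⁻¹)⁻¹ := by decide

/-- `F` as a subgroup -/
def Fs : Subgroup (T (2 * 2)) where
  carrier := {x | InF x}
  one_mem' := by decide
  mul_mem' := fun {x y} hx hy => F_mul x y hx hy
  inv_mem' := fun {x} hx => by
    have : x⁻¹ = x := inv_eq_of_mul_eq_one_left (F_sq x hx)
    rw [this]; exact hx

theorem mem_Fs {x : T (2 * 2)} : x ∈ Fs ↔ InF x := Iff.rfl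

/-- `E` as a subgroup -/
def Es : Subgroup (T (2 * 2)) where
  carrier := {x | InE x}
  one_mem' := by decide
  mul_mem' := fun {x y} hx hy => E_mul x y hx hy
  inv_mem' := fun {x} hx => by
    have : x⁻¹ = x := inv_eq_of_mul_eq_one_left (sq_of_InE x hx)
    rw [this]; exact hx

theorem mem_Es {x : T (2 * 2)} : x ∈ Es ↔ InE x := Iff.rfl

end model

/-! ### general facts -/

section general

variable {G : Type*} [Group G] [Finite G]

/-- Subgroups of the Sylow subgroup `S` normalised by `S` which are conjugate in `C ≥ S` are conjugate in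
`N_C(S)`. -/
theorem exists_normalizer (S : Sylow 2 G) {C F₁ F₂ : Subgroup G} (hSC : (S : Subgroup G) ≤ C)
    (h1 : (S : Subgroup G) ≤ normalizer (F₁ : Set G)) (h2 : (S : Subgroup G) ≤ normalizer (F₂ : Set G))
    {c : G} (hcC : c ∈ C) (hc : ∀ x, x ∈ F₁ ↔ c * x * c⁻¹ ∈ F₂) :
    ∃ g ∈ C, g ∈ normalizer ((S : Subgroup G) : Set G) ∧ ∀ x, x ∈ F₁ ↔ g * x * g⁻¹ ∈ F₂ := by
  have hf : Fact (Nat.Prime 2) := ⟨Nat.prime_two⟩
  set N : Subgroup G := C ⊓ normalizer (F₂ : Set G) with hN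
  have h3 : (S : Subgroup G) ≤ N := le_inf hSC h2
  have h4 : ((c • S : Sylow 2 G) : Subgroup G) ≤ N := by
    rintro _ ⟨s, hs, rfl⟩
    show c * s * c⁻¹ ∈ N
    refine mem_inf.mpr ⟨mul_mem (mul_mem hcC (hSC hs)) (inv_mem hcC), ?_⟩
    rw [mem_normalizer_iff]
    intro y
    have hy : y ∈ F₂ ↔ c⁻¹ * y * c ∈ F₁ := by
      rw [hc (c⁻¹ * y * c)]
      have : c * (c⁻¹ * y * c) * c⁻¹ = y := by group
      rw [this]
    have hy2 : c * s * c⁻¹ * y * (c * s * c⁻¹)⁻¹ ∈ F₂ ↔ s * (c⁻¹ * y * c) * s⁻¹ ∈ F₁ := by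
      rw [hc (s * (c⁻¹ * y * c) * s⁻¹)]
      have : c * (s * (c⁻¹ * y * c) * s⁻¹) * c⁻¹ = c * s * c⁻¹ * y * (c * s * c⁻¹)⁻¹ := by group
      rw [this]
    rw [hy, hy2]
    exact mem_normalizer_iff.mp (h1 hs) _
  obtain ⟨n, hn⟩ := MulAction.exists_smul_eq N ((c • S).subtype h4) (S.subtype h3)
  simp_rw [Sylow.smul_subtype, Subgroup.smul_def, smul_smul] at hn
  have hn2 := Sylow.smul_eq_iff_mem_normalizer.mp (Sylow.subtype_injective hn)
  obtain ⟨hnC, hnF⟩ := mem_inf.mp n.2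
  refine ⟨n * c, mul_mem hnC hcC, hn2, fun x => ?_⟩
  rw [hc x, mem_normalizer_iff.mp hnF]
  have : (n : G) * (c * x * c⁻¹) * (n : G)⁻¹ = n * c * x * (n * c)⁻¹ := by group
  rw [this]

/-- An odd power of an element of `N(S)` lies in `S`. -/
theorem exists_odd_pow_mem (S : Sylow 2 G) {g : G} (hg : g ∈ normalizer ((S : Subgroup G) : Set G)) :
    ∃ m, Odd m ∧ g ^ m ∈ (S : Subgroup G) := by
  obtain ⟨k, m, hm, hk⟩ := Nat.exists_eq_two_pow_mul_odd (n := orderOf g) (orderOf_pos _).ne'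
  refine ⟨m, hm, ?_⟩
  have h1 : (g ^ m) ^ 2 ^ k = 1 := by rw [← pow_mul, mul_comm, ← hk, pow_orderOf_eq_one]
  have h2 : IsPGroup 2 (zpowers (g ^ m)) := by
    have : orderOf (g ^ m) ∣ 2 ^ k := orderOf_dvd_of_pow_eq_one h1
    obtain ⟨j, -, hj⟩ := (Nat.dvd_prime_pow Nat.prime_two).mp this
    exact IsPGroup.of_card (n := j) (by rw [Nat.card_zpowers, hj])
  have h3 := h2.inf_normalizer_sylow S
  have h4 : g ^ m ∈ zpowers (g ^ m) ⊓ normalizer (S : Set G) :=
    mem_inf.mpr ⟨mem_zpowers _, pow_mem hg m⟩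
  rw [h3] at h4
  exact (mem_inf.mp h4).2

theorem rho_eq {F : Subgroup G} {g h : G} (hg : g ∈ normalizer (F : Set G)) (hh : h ∈ normalizer (F : Set G))
    (H : ∀ e ∈ F, g * e * g⁻¹ = h * e * h⁻¹) :
    F.normalizerMonoidHom ⟨g, hg⟩ = F.normalizerMonoidHom ⟨h, hh⟩ :=
  MulEquiv.ext fun e => Subtype.ext (H e e.2)

theorem eq_of_rho_eq_one {F : Subgroup G} {g : G} (hg : g ∈ normalizer (F : Set G))
    (H : F.normalizerMonoidHom ⟨g, hg⟩ = 1) (e : G) (he : e ∈ F) : g * e * g⁻¹ = e :=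
  congrArg Subtype.val (DFunLike.congr_fun H (⟨e, he⟩ : F))

theorem killing_surj {N K : Type*} [Group N] [Group K] (hs : Group.IsSolvable N) (ρ : N →* K)
    (hρ : Function.Surjective ρ) {v x c : N}
    (H : ρ v = ρ (x * v * x⁻¹) * ρ (c * v * c⁻¹) * (ρ (x * v * x⁻¹))⁻¹ * (ρ (c * v * c⁻¹))⁻¹) : ρ v = 1 := by
  have hK : Group.IsSolvable K := Group.isSolvable_of_surjective hρ
  have key : ∀ g : N, ρ (g * v * g⁻¹) ∈ normalClosure ({ρ v} : Set K) := by
    intro g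
    rw [map_mul, map_mul, map_inv]
    have h1 : ρ v ∈ normalClosure ({ρ v} : Set K) := subset_normalClosure (Set.mem_singleton _)
    exact normalClosure_normal.conj_mem (ρ v) h1 (ρ g)
  apply Cfsg.Agent.MinSimple.Killing.eq_one_of_mem_commutator_normalClosure
  have h3 := commutator_mem_commutator (key x) (key c)
  rw [commutatorElement_def, ← H] at h3
  exact h3

theorem killing_hom {N K : Type*} [Group N] [Group K] (hs : Group.IsSolvable N) (ρ : N →* K) {v x c : N}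
    (H : ρ v = ρ (x * v * x⁻¹) * ρ (c * v * c⁻¹) * (ρ (x * v * x⁻¹))⁻¹ * (ρ (c * v * c⁻¹))⁻¹) : ρ v = 1 :=
  congrArg Subtype.val (killing_surj hs ρ.rangeRestrict ρ.rangeRestrict_surjective (v := v) (x := x) (c := c)
    (Subtype.ext H))

end general

variable {G : Type*} [Group G] [Finite G] {S : Sylow 2 G} {f : T (2 * 2) →* G}

/-! ### fusion in `C(z)` -/

theorem fz_sq (f : T (2 * 2) →* G) : f (z 2) * f (z 2) = 1 := by
  rw [← map_mul, show z 2 * z 2 = (1 : T (2 * 2)) from by decide, map_one]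

theorem f_ne_one (D : Cen S f) {x : T (2 * 2)} (hx : x ≠ 1) : f x ≠ 1 := fun h =>
  hx (D.inj (h.trans (map_one f).symm))

theorem orderOf_f (D : Cen S f) {x : T (2 * 2)} (hx : x * x = 1) (hx1 : x ≠ 1) : orderOf (f x) = 2 :=
  orderOf_eq_prime (by rw [pow_two, ← map_mul, hx, map_one]) (f_ne_one D hx1)

/-- an involution `y` with `|C_S(y)| = 16` is conjugate to `a'` in `C(z)` -/
theorem exists_conj_a' (hall : ∀ x y : G, orderOf x = 2 → orderOf y = 2 → IsConj x y) (D : Cen S f)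
    {y : T (2 * 2)} (hyy : y * y = 1) (hy1 : y ≠ 1) (hyz : y ≠ z 2)
    (hcomm : ∀ p q, p * y = y * p → q * y = y * q → (p * q * p⁻¹ * q⁻¹ = 1 ∨ p * q * p⁻¹ * q⁻¹ = z 2))
    {p₀ q₀ : T (2 * 2)} (hp₀ : p₀ * y = y * p₀) (hq₀ : q₀ * y = y * q₀)
    (hpq : p₀ * q₀ * p₀⁻¹ * q₀⁻¹ = z 2)
    (hcard : Fintype.card {x : T (2 * 2) // x * y = y * x} = 16) :
    ∃ c, c * f (z 2) = f (z 2) * c ∧ c * f (a' 2) * c⁻¹ = f y := by
  have hf : Fact (Nat.Prime 2) := ⟨Nat.prime_two⟩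
  set Cy : Subgroup G := centralizer ({f y} : Set G) with hCy
  set H : Subgroup G := (centralizer ({y} : Set (T (2 * 2)))).map f with hH
  have hHC : H ≤ Cy := by
    rintro _ ⟨x, hx, rfl⟩
    rw [SetLike.mem_coe, mem_centralizer_singleton_iff] at hx
    rw [hCy, mem_centralizer_singleton_iff, ← map_mul, hx, map_mul]
  have hH2 : IsPGroup 2 H := S.isPGroup'.to_le (by
    rw [← D.range, MonoidHom.range_eq_map]
    exact map_mono le_top)
  have hHcard : Nat.card H = 16 := by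
    rw [hH, card_map_of_injective D.inj, ← hcard, ← Nat.card_eq_fintype_card]
    exact Nat.card_congr (Equiv.subtypeEquivRight fun x => mem_centralizer_singleton_iff)
  -- a Sylow 2-subgroup of `C(y)` above `H`
  obtain ⟨R, hR2, hHR, hRC, hRcard⟩ : ∃ R : Subgroup G, IsPGroup 2 R ∧ H ≤ R ∧ R ≤ Cy ∧
      64 ≤ Nat.card R := by
    obtain ⟨g, hg⟩ := isConj_iff.mp (hall _ _ (orderOf_f D (x := z 2) (by decide) (by decide))
      (orderOf_f D hyy hy1))
    obtain ⟨R₁, hR₁⟩ := (hH2.comap_of_injective Cy.subtype Cy.subtype_injective).exists_le_sylow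
    set Sg : Subgroup G := (S : Subgroup G).map (MulAut.conj g).toMonoidHom with hSg
    have hSgC : Sg ≤ Cy := by
      rintro _ ⟨s, hs, rfl⟩
      have h1 := mem_centralizer_singleton_iff.mp (D.S_le hs)
      rw [hCy, mem_centralizer_singleton_iff, ← hg]
      show g * s * g⁻¹ * (g * f (z 2) * g⁻¹) = g * f (z 2) * g⁻¹ * (g * s * g⁻¹)
      calc g * s * g⁻¹ * (g * f (z 2) * g⁻¹) = g * (s * f (z 2)) * g⁻¹ := by group
        _ = g * (f (z 2) * s) * g⁻¹ := by rw [h1]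
        _ = _ := by group
    have hSg2 : IsPGroup 2 Sg := S.isPGroup'.map _
    obtain ⟨R₂, hR₂⟩ := (hSg2.comap_of_injective Cy.subtype Cy.subtype_injective).exists_le_sylow
    have hc1 : Nat.card R₂ = Nat.card R₁ := Nat.card_congr (Sylow.equiv R₂ R₁).toEquiv
    have hc2 : Nat.card (Sg.subgroupOf Cy) ≤ Nat.card R₂ := card_le_of_le hR₂
    have hc3 : Nat.card (Sg.subgroupOf Cy) = 64 := by
      rw [Nat.card_congr (subgroupOfEquivOfLe hSgC).toEquiv, hSg,
        card_map_of_injective (MulAut.conj g).injective, ← D.range,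
        ← Nat.card_congr (MonoidHom.ofInjective D.inj).toEquiv, card_T]
      norm_num
    refine ⟨(R₁ : Subgroup Cy).map Cy.subtype, R₁.isPGroup'.map _, ?_, map_subtype_le _, ?_⟩
    · intro h hh
      exact ⟨⟨h, hHC hh⟩, hR₁ (mem_subgroupOf.mpr hh), rfl⟩
    · rw [card_map_of_injective Cy.subtype_injective]
      have : Nat.card (R₁ : Subgroup Cy) = Nat.card R₁ := rfl
      omega
  have hlt : H < R := lt_of_le_of_ne hHR fun h => by rw [← h, hHcard] at hRcard; omega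
  have hlt2 := Cfsg.Agent.SmallSimple.SylowMaxInter.lt_inf_normalizer hR2 hlt
  set K : Subgroup G := R ⊓ normalizer (H : Set G) with hK
  have hK2 : IsPGroup 2 K := hR2.to_le inf_le_left
  -- `K` centralises `z`
  have hKz : K ≤ centralizer ({f (z 2)} : Set G) := by
    intro k hk
    have hkH := (mem_inf.mp hk).2
    have hcj : ∀ p : T (2 * 2), p * y = y * p → ∃ p', p' * y = y * p' ∧ k * f p * k⁻¹ = f p' := by
      intro p hp
      have h1 : k * f p * k⁻¹ ∈ H := (mem_normalizer_iff.mp hkH _).mp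
        ⟨p, mem_centralizer_singleton_iff.mpr hp, rfl⟩
      obtain ⟨p', hp', h2⟩ := h1
      exact ⟨p', mem_centralizer_singleton_iff.mp hp', h2.symm⟩
    obtain ⟨p, hp, hp'⟩ := hcj p₀ hp₀
    obtain ⟨q, hq, hq'⟩ := hcj q₀ hq₀
    have h1 : k * f (z 2) * k⁻¹ = f (p * q * p⁻¹ * q⁻¹) := by
      rw [← hpq]
      simp only [map_mul, map_inv, ← hp', ← hq']
      group
    rw [mem_centralizer_singleton_iff]
    rcases hcomm p q hp hq with h | h
    · exfalso
      rw [h, map_one] at h1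
      apply f_ne_one D (x := z 2) (by decide)
      calc f (z 2) = k⁻¹ * (k * f (z 2) * k⁻¹) * k := by group
        _ = 1 := by rw [h1]; group
    · rw [h] at h1
      exact mul_inv_eq_iff_eq_mul.mp h1
  -- conjugate `K` into `S` inside `C(z)`
  obtain ⟨c, hc, hcK⟩ := NotQ.exists_conj_le_of_maximal S.isPGroup' D.S_le
    (fun R hR hSR _ => (S.is_maximal' hR hSR).le) hK2 hKz
  have hcz := mem_centralizer_singleton_iff.mp hc
  have hyK : f y ∈ K := hlt2.le ⟨y, mem_centralizer_singleton_iff.mpr rfl, rfl⟩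
  obtain ⟨y', hy'⟩ := D.exists_of_mem (hcK _ hyK)
  have hKc : ∀ k : K, ∃ x : {x : T (2 * 2) // x * y' = y' * x}, f x = c * k * c⁻¹ := by
    intro k
    obtain ⟨x, hx⟩ := D.exists_of_mem (hcK _ k.2)
    refine ⟨⟨x, D.inj ?_⟩, hx⟩
    have h1 : (k : G) * f y = f y * k := mem_centralizer_singleton_iff.mp (hRC (mem_inf.mp k.2).1)
    rw [map_mul, map_mul, hx, hy']
    calc c * k * c⁻¹ * (c * f y * c⁻¹) = c * (k * f y) * c⁻¹ := by group
      _ = c * (f y * k) * c⁻¹ := by rw [h1]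
      _ = _ := by group
  choose φ hφ using hKc
  have hφi : Function.Injective φ := by
    intro k k' h
    have h2 := hφ k
    rw [h, hφ k'] at h2
    exact Subtype.ext (mul_left_cancel (mul_right_cancel h2.symm))
  have hcard2 : Nat.card K ≤ Fintype.card {x : T (2 * 2) // x * y' = y' * x} := by
    rw [← Nat.card_eq_fintype_card]
    exact Nat.card_le_card_of_injective φ hφi
  have hcard3 : 16 < Nat.card K := by
    rw [← hHcard]
    exact lt_of_le_of_ne (card_le_of_le hlt2.le) fun h =>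
      hlt2.ne (eq_of_le_of_card_ge hlt2.le h.ge)
  have hy'y : y' * y' = 1 := by
    apply D.inj
    rw [map_mul, hy', map_one]
    calc c * f y * c⁻¹ * (c * f y * c⁻¹) = c * (f y * f y) * c⁻¹ := by group
      _ = 1 := by rw [← map_mul, hyy, map_one]; group
  have hback : f y = c⁻¹ * f y' * c := by rw [hy']; group
  have hy'1 : y' ≠ 1 := by
    rintro rfl
    apply f_ne_one D hy1
    rw [hback, map_one]
    group
  have hy'z : y' ≠ z 2 := by
    rintro rfl
    apply hyz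
    apply D.inj
    rw [hback]
    calc c⁻¹ * f (z 2) * c = c⁻¹ * (f (z 2) * c) := by group
      _ = c⁻¹ * (c * f (z 2)) := by rw [hcz]
      _ = f (z 2) := by group
  have hcz' : c⁻¹ * f (z 2) = f (z 2) * c⁻¹ := by
    rw [inv_mul_eq_iff_eq_mul, ← mul_assoc, hcz, mul_assoc, mul_inv_cancel, mul_one]
  rcases card_le y' hy'y hy'1 hy'z with h | h | h
  · subst h
    exact ⟨c⁻¹, hcz', by rw [inv_inv]; exact hback.symm⟩
  · subst h
    refine ⟨c⁻¹ * f (u 2), ?_, ?_⟩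
    · rw [mul_assoc, D.z_comm, ← mul_assoc, hcz', mul_assoc]
    · have h1 : (b' 2 : T (2 * 2)) = u 2 * a' 2 * (u 2)⁻¹ := by decide
      rw [hback, h1, map_mul, map_mul, map_inv]
      group
  · omega

/-- `O₂(C(z)) = f Q` -/
theorem mem_iff (hall : ∀ x y : G, orderOf x = 2 → orderOf y = 2 → IsConj x y) (D : Cen S f) :
    (∃ c, c * f (z 2) = f (z 2) * c ∧ c * f (a' 2) * c⁻¹ = f (t 2)) ∧ ∀ x, f x ∈ R0 f ↔ InQ x := by
  have ha : f (a' 2) ∈ R0 f := D.V_mem (by decide)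
  obtain ⟨c₁, hc₁, h₁⟩ := exists_conj_a' hall D (y := t 2) (by decide) (by decide) (by decide) t_comm
    (p₀ := a' 2) (q₀ := u 2) (by decide) (by decide) (by decide) (by decide)
  obtain ⟨c₂, hc₂, h₂⟩ := exists_conj_a' hall D (y := u 2) (by decide) (by decide) (by decide) u_comm
    (p₀ := ⟨1, 1, false, false⟩) (q₀ := t 2) (by decide) (by decide) (by decide) (by decide)
  obtain ⟨c₃, hc₃, h₃⟩ := exists_conj_a' hall D (y := r 2) (by decide) (by decide) (by decide) r_comm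
    (p₀ := a' 2) (q₀ := u 2) (by decide) (by decide) (by decide) (by decide)
  have ht := Cen.mem_of_conj hc₁ h₁ ha
  have hu := Cen.mem_of_conj hc₂ h₂ ha
  have hr := Cen.mem_of_conj hc₃ h₃ ha
  exact ⟨⟨c₁, hc₁, h₁⟩, D.mem_iff hr ht hu (D.not_all card_t hc₁ h₁)⟩

/-! ### `E` and `F` are not conjugate in `C(z)` -/

theorem conj_range (D : Cen S f) {g : G} (hg : g ∈ normalizer ((S : Subgroup G) : Set G)) (x : T (2 * 2)) :
    ∃ y, g * f x * g⁻¹ = f y := by
  obtain ⟨y, hy⟩ := D.exists_of_mem ((mem_normalizer_iff.mp hg _).mp (D.mem_S x))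
  exact ⟨y, hy.symm⟩

theorem conj_range' (D : Cen S f) {g : G} (hg : g ∈ normalizer ((S : Subgroup G) : Set G)) (y : T (2 * 2)) :
    ∃ x, g * f x * g⁻¹ = f y := by
  obtain ⟨x, hx⟩ := conj_range D (inv_mem hg) y
  refine ⟨x, ?_⟩
  rw [← hx]
  group

theorem le_normalizer_map (D : Cen S f) (K : Subgroup (T (2 * 2)))
    (hK : ∀ x g : T (2 * 2), x ∈ K → g * x * g⁻¹ ∈ K) :
    (S : Subgroup G) ≤ normalizer ((K.map f : Subgroup G) : Set G) := by
  intro s hs
  obtain ⟨g, rfl⟩ := D.exists_of_mem hs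
  apply mem_normalizer_fintype
  rintro _ ⟨x, hx, rfl⟩
  exact ⟨g * x * g⁻¹, hK x g hx, by rw [map_mul, map_mul, map_inv]⟩

theorem not_F_E (D : Cen S f) {c : G} (hc : c * f (z 2) = f (z 2) * c)
    (h : ∀ x, InF x → ∃ y, InE y ∧ c * f x * c⁻¹ = f y) : False := by
  set F₁ : Subgroup G := Fs.map f with hF₁
  set F₂ : Subgroup G := Es.map f with hF₂
  have hc1 : Nat.card F₁ = 8 := by
    rw [hF₁, card_map_of_injective D.inj, ← card_F, ← Nat.card_eq_fintype_card]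
    rfl
  have hc2 : Nat.card F₂ = 8 := by
    rw [hF₂, card_map_of_injective D.inj, ← card_E, ← Nat.card_eq_fintype_card]
    rfl
  have hS1 : (S : Subgroup G) ≤ normalizer (F₁ : Set G) := le_normalizer_map D Fs F_normal
  have hS2 : (S : Subgroup G) ≤ normalizer (F₂ : Set G) := le_normalizer_map D Es E_normal
  have hiff : ∀ x, x ∈ F₁ ↔ c * x * c⁻¹ ∈ F₂ := by
    have hle : F₁.map (MulAut.conj c).toMonoidHom ≤ F₂ := by
      rintro _ ⟨_, ⟨x, hx, rfl⟩, rfl⟩
      obtain ⟨y, hy, h'⟩ := h x hx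
      exact ⟨y, hy, h'.symm⟩
    have heq : F₁.map (MulAut.conj c).toMonoidHom = F₂ :=
      eq_of_le_of_card_ge hle (by
        rw [card_map_of_injective (K := F₁) (f := (MulAut.conj c).toMonoidHom) (MulAut.conj c).injective,
          hc1, hc2])
    intro x
    rw [← heq]
    constructor
    · intro hx; exact ⟨x, hx, rfl⟩
    · rintro ⟨x', hx', h'⟩
      have : x' = x := (MulAut.conj c).injective h'
      exact this ▸ hx'
  obtain ⟨g, -, hg, hgF⟩ := exists_normalizer S D.S_le hS1 hS2 (mem_centralizer_singleton_iff.mpr hc) hiff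
  have hF' : ∀ x : T (2 * 2), f x ∈ F₁ ↔ InF x := fun x =>
    ⟨by rintro ⟨y, hy, hyx⟩; exact D.inj hyx ▸ hy, fun hx => ⟨x, hx, rfl⟩⟩
  have hE' : ∀ x : T (2 * 2), f x ∈ F₂ ↔ InE x := fun x =>
    ⟨by rintro ⟨y, hy, hyx⟩; exact D.inj hyx ▸ hy, fun hx => ⟨x, hx, rfl⟩⟩
  -- `F → E`
  have hFE : ∀ x, InF x → ∃ y, InE y ∧ g * f x * g⁻¹ = f y := by
    intro x hx
    obtain ⟨y, hy⟩ := conj_range D hg x
    have h1 := (hgF _).mp ((hF' x).mpr hx)
    rw [hy, hE'] at h1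
    exact ⟨y, h1, hy⟩
  have hE1 : ∀ x y, InE x → g * f x * g⁻¹ = f y → (InF y ∨ InF x) := by
    intro x y hx hxy
    have h1 : InF y ∨ InE y := by
      apply FE_of_comm
      · apply D.inj
        rw [map_mul, ← hxy, map_one]
        calc g * f x * g⁻¹ * (g * f x * g⁻¹) = g * (f x * f x) * g⁻¹ := by group
          _ = 1 := by rw [← map_mul, sq_of_InE x hx, map_one]; group
      · intro k
        obtain ⟨l, hl⟩ := conj_range' D hg k
        apply D.inj
        have h2 : x * (l * x * l⁻¹) = l * x * l⁻¹ * x := E_comm _ _ hx (E_normal x l hx)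
        have h3 := congrArg f h2
        simp only [map_mul, map_inv] at h3 ⊢
        rw [← hl, ← hxy]
        calc g * f x * g⁻¹ * (g * f l * g⁻¹ * (g * f x * g⁻¹) * (g * f l * g⁻¹)⁻¹)
            = g * (f x * (f l * f x * (f l)⁻¹)) * g⁻¹ := by group
          _ = g * (f l * f x * (f l)⁻¹ * f x) * g⁻¹ := by rw [h3]
          _ = _ := by group
    rcases h1 with h1 | h1
    · exact Or.inl h1
    · right
      rw [← hF', hgF, hxy, hE']
      exact h1
  -- `E → F`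
  have hEF : ∀ x, InE x → ∃ y, InF y ∧ g * f x * g⁻¹ = f y := by
    have key : ∀ x, InE x → ¬ InV x → ∃ y, InF y ∧ g * f x * g⁻¹ = f y := by
      intro x hx hxV
      obtain ⟨y, hy⟩ := conj_range D hg x
      rcases hE1 x y hx hy with h1 | h1
      · exact ⟨y, h1, hy⟩
      · exact absurd (InV_of_F_E x h1 hx) hxV
    intro x hx
    by_cases hxV : InV x
    · obtain ⟨h1, h2⟩ := V_split x hxV
      obtain ⟨y₁, hy₁, h3⟩ := key _ h1 h2
      obtain ⟨y₂, hy₂, h4⟩ := key (r 2) r_facts.1 r_facts.2.1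
      refine ⟨y₁ * y₂, F_mul _ _ hy₁ hy₂, ?_⟩
      rw [map_mul f y₁, ← h3, ← h4]
      have h5 : f (x * r 2) * f (r 2) = f x := by
        rw [← map_mul, mul_assoc, r_facts.2.2, mul_one]
      calc g * f x * g⁻¹ = g * (f (x * r 2) * f (r 2)) * g⁻¹ := by rw [h5]
        _ = _ := by group
    · exact key x hx hxV
  -- even powers
  have hpow : ∀ k : ℕ, ∀ x, InF x → ∃ y, InF y ∧ g ^ (2 * k) * f x * (g ^ (2 * k))⁻¹ = f y := by
    intro k
    induction k with
    | zero => intro x hx; exact ⟨x, hx, by simp⟩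
    | succ k ih =>
      intro x hx
      obtain ⟨y, hy, h1⟩ := ih x hx
      obtain ⟨y₁, hy₁, h2⟩ := hFE y hy
      obtain ⟨y₂, hy₂, h3⟩ := hEF y₁ hy₁
      refine ⟨y₂, hy₂, ?_⟩
      rw [← h3, ← h2, ← h1, show 2 * (k + 1) = 2 * k + 1 + 1 from rfl, pow_succ', pow_succ']
      group
  obtain ⟨m, ⟨k, hk⟩, hm⟩ := exists_odd_pow_mem S hg
  obtain ⟨w, hw⟩ := D.exists_of_mem hm
  obtain ⟨y, hy, h1⟩ := hpow k (t 2) (by decide)
  obtain ⟨y₁, hy₁, h2⟩ := hFE y hy
  have h3 : f (w * t 2 * w⁻¹) = f y₁ := by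
    rw [map_mul, map_mul, map_inv, hw, hk, ← h2, ← h1, pow_succ']
    group
  have h4 := D.inj h3
  have h5 : InV y₁ := InV_of_F_E y₁ (h4 ▸ F_normal (t 2) w (by decide)) hy₁
  rw [← h4] at h5
  have h6 := InV_normal _ w⁻¹ h5
  have h7 : w⁻¹ * (w * t 2 * w⁻¹) * w⁻¹⁻¹ = t 2 := by group
  rw [h7] at h6
  exact absurd h6 (by decide)

/-- There is an element of `N_G(F) ∩ C(z)` with `t ↦ a'`. -/
theorem exists_c (hall : ∀ x y : G, orderOf x = 2 → orderOf y = 2 → IsConj x y) (D : Cen S f) :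
    ∃ c, c * f (z 2) = f (z 2) * c ∧ c * f (t 2) * c⁻¹ = f (a' 2) ∧
      ∀ x, InF x → ∃ y, InF y ∧ c * f x * c⁻¹ = f y := by
  obtain ⟨⟨c₁, hc₁, h₁⟩, hQ⟩ := mem_iff hall D
  have hc : c₁⁻¹ * f (z 2) = f (z 2) * c₁⁻¹ := by
    rw [inv_mul_eq_iff_eq_mul, ← mul_assoc, hc₁, mul_assoc, mul_inv_cancel, mul_one]
  have hct : c₁⁻¹ * f (t 2) * c₁⁻¹⁻¹ = f (a' 2) := by rw [← h₁]; group
  generalize c₁⁻¹ = c at hc hct
  refine ⟨c, hc, hct, ?_⟩
  have key : ∀ x, InF x → ∃ y, (InF y ∨ InE y) ∧ c * f x * c⁻¹ = f y := by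
    intro x hx
    obtain ⟨q, hq, h⟩ := D.exists_conj_Q hQ hc (InQ_of_InF x hx)
    refine ⟨q, Q_cen_a' q hq ?_ ?_, h⟩
    · apply D.inj
      rw [map_mul, map_mul, ← h, ← hct]
      have h1 := congrArg f (F_comm_t x hx)
      rw [map_mul, map_mul] at h1
      calc c * f x * c⁻¹ * (c * f (t 2) * c⁻¹) = c * (f x * f (t 2)) * c⁻¹ := by group
        _ = c * (f (t 2) * f x) * c⁻¹ := by rw [h1]
        _ = _ := by group
    · apply D.inj
      rw [map_mul, ← h, map_one]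
      calc c * f x * c⁻¹ * (c * f x * c⁻¹) = c * (f x * f x) * c⁻¹ := by group
        _ = 1 := by rw [← map_mul, F_sq x hx, map_one]; group
  by_contra hcon
  push Not at hcon
  obtain ⟨x₁, hx₁, h₁⟩ := hcon
  obtain ⟨y₁, hy₁, h₂⟩ := key x₁ hx₁
  have hy₁F : ¬ InF y₁ := fun h => h₁ y₁ h h₂
  have hy₁E : InE y₁ := hy₁.resolve_left hy₁F
  refine not_F_E D hc fun x hx => ?_
  obtain ⟨y, hy, h₃⟩ := key x hx
  refine ⟨y, ?_, h₃⟩
  by_contra hyE
  have hyF : InF y := hy.resolve_right hyE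
  obtain ⟨y₂, hy₂, h₄⟩ := key (x₁ * x) (F_mul _ _ hx₁ hx)
  have h₅ : y₂ = y₁ * y := by
    apply D.inj
    rw [map_mul, ← h₄, ← h₂, ← h₃, map_mul]
    group
  subst h₅
  rcases hy₂ with h | h
  · apply hy₁F
    have h6 := F_mul _ _ h hyF
    rwa [mul_assoc, F_sq y hyF, mul_one] at h6
  · apply hyE
    have h6 := E_mul _ _ hy₁E h
    rwa [← mul_assoc, sq_of_InE y₁ hy₁E, one_mul] at h6

/-! ### The contradiction -/

theorem false_of_one_class (hall : ∀ x y : G, orderOf x = 2 → orderOf y = 2 → IsConj x y) (D : Cen S f)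
    (hloc : ∀ N : Subgroup G, IsTwoLocal N → Group.IsSolvable N) {x : G}
    (xa : x * f ⟨1, 0, false, false⟩ * x⁻¹ = f ⟨0, 1, false, false⟩)
    (xb : x * f ⟨0, 1, false, false⟩ * x⁻¹ = f ⟨-1, -1, false, false⟩)
    (xt : x * f (t 2) = f (t 2) * x) : False := by
  obtain ⟨c, hcz, hct, hcF⟩ := exists_c hall D
  set F₁ : Subgroup G := Fs.map f with hF₁
  have hsolv : Group.IsSolvable (normalizer (F₁ : Set G)) := by
    refine hloc _ ⟨F₁, ?_, ?_, rfl⟩
    · exact S.isPGroup'.to_le (by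
        rw [← D.range, MonoidHom.range_eq_map]
        exact map_mono le_top)
    · intro h
      have h1 : f (z 2) ∈ F₁ := ⟨z 2, (show InF (z 2) by decide), rfl⟩
      rw [h, mem_bot] at h1
      exact f_ne_one D (by decide) h1
  have hS1 : (S : Subgroup G) ≤ normalizer (F₁ : Set G) := le_normalizer_map D Fs F_normal
  have hfN : ∀ p, f p ∈ normalizer (F₁ : Set G) := fun p => hS1 (D.mem_S p)
  have hcN : c ∈ normalizer (F₁ : Set G) := by
    apply mem_normalizer_fintype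
    rintro _ ⟨p, hp, rfl⟩
    obtain ⟨y, hy, h⟩ := hcF p hp
    exact ⟨y, hy, h.symm⟩
  have hxV : ∀ p, InV p → ∃ y, InV y ∧ x * f p * x⁻¹ = f y := by
    have h1 : x * f (a' 2) * x⁻¹ = f (b' 2) := by
      have e1 : (a' 2 : T (2 * 2)) = ⟨1, 0, false, false⟩ * ⟨1, 0, false, false⟩ := by decide
      have e2 : (b' 2 : T (2 * 2)) = ⟨0, 1, false, false⟩ * ⟨0, 1, false, false⟩ := by decide
      rw [e1, e2, map_mul, map_mul, ← xa]
      group
    have h2 : x * f (b' 2) * x⁻¹ = f (z 2) := by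
      have e1 : (b' 2 : T (2 * 2)) = ⟨0, 1, false, false⟩ * ⟨0, 1, false, false⟩ := by decide
      have e2 : (z 2 : T (2 * 2)) = ⟨-1, -1, false, false⟩ * ⟨-1, -1, false, false⟩ := by decide
      rw [e1, e2, map_mul, map_mul, ← xb]
      group
    have h3 : x * f (z 2) * x⁻¹ = f (a' 2) := by
      have e1 : (z 2 : T (2 * 2)) = a' 2 * b' 2 := by decide
      have e2 : (a' 2 : T (2 * 2)) = b' 2 * z 2 := by decide
      rw [e1, map_mul]
      calc x * (f (a' 2) * f (b' 2)) * x⁻¹ = (x * f (a' 2) * x⁻¹) * (x * f (b' 2) * x⁻¹) := by group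
        _ = f (b' 2 * z 2) := by rw [h1, h2, map_mul]
        _ = f (a' 2) := by rw [← e2]
    intro p hp
    rcases InV_cases p hp with rfl | rfl | rfl | rfl
    · exact ⟨1, by decide, by rw [map_one]; group⟩
    · exact ⟨_, by decide, h3⟩
    · exact ⟨_, by decide, h1⟩
    · exact ⟨_, by decide, h2⟩
  have xt' : x * f (t 2) * x⁻¹ = f (t 2) := by rw [xt, mul_inv_cancel_right]
  have htt : (t 2 : T (2 * 2)) * t 2 = 1 := by decide
  have hxN : x ∈ normalizer (F₁ : Set G) := by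
    apply mem_normalizer_fintype
    rintro _ ⟨p, hp, rfl⟩
    rcases F_cases p hp with h | h
    · obtain ⟨y, hy, h1⟩ := hxV p h
      exact ⟨y, InF_of_InV y hy, h1.symm⟩
    · obtain ⟨y, hy, h1⟩ := hxV _ h
      refine ⟨y * t 2, F_mul _ _ (InF_of_InV y hy) (by decide), ?_⟩
      rw [map_mul f y, ← h1]
      have h2 : f p = f (p * t 2) * f (t 2) := by rw [← map_mul, mul_assoc, htt, mul_one]
      show x * f (p * t 2) * x⁻¹ * f (t 2) = x * f p * x⁻¹
      rw [h2]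
      calc x * f (p * t 2) * x⁻¹ * f (t 2) = x * f (p * t 2) * x⁻¹ * (x * f (t 2) * x⁻¹) := by rw [xt']
        _ = x * (f (p * t 2) * f (t 2)) * x⁻¹ := by group
  -- the killing lemma
  have hA : x * f ⟨1, 3, false, false⟩ * x⁻¹ = f ⟨1, 2, false, false⟩ := by
    have e1 : (⟨1, 3, false, false⟩ : T (2 * 2)) = ⟨1, 0, false, false⟩ * (⟨0, 1, false, false⟩)⁻¹ := by
      decide
    have e2 : (⟨1, 2, false, false⟩ : T (2 * 2)) = ⟨0, 1, false, false⟩ * (⟨-1, -1, false, false⟩)⁻¹ := by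
      decide
    rw [e1, e2, map_mul, map_mul, map_inv, map_inv]
    calc x * (f ⟨1, 0, false, false⟩ * (f ⟨0, 1, false, false⟩)⁻¹) * x⁻¹
        = (x * f ⟨1, 0, false, false⟩ * x⁻¹) * (x * f ⟨0, 1, false, false⟩ * x⁻¹)⁻¹ := by group
      _ = _ := by rw [xa, xb]
  have hB : ∀ e ∈ F₁, c⁻¹ * f ⟨1, 3, false, false⟩ * c⁻¹⁻¹ * e * (c⁻¹ * f ⟨1, 3, false, false⟩ * c⁻¹⁻¹)⁻¹ =
      f (u 2) * e * (f (u 2))⁻¹ := by
    rintro _ ⟨p, hp, rfl⟩
    have hp' : InF p := hp
    obtain ⟨y, hy, h⟩ := hcF p hp'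
    have e1 : c⁻¹ * f ⟨1, 3, false, false⟩ * c⁻¹⁻¹ * f p * (c⁻¹ * f ⟨1, 3, false, false⟩ * c⁻¹⁻¹)⁻¹ =
        c⁻¹ * f (⟨1, 3, false, false⟩ * y * (⟨1, 3, false, false⟩)⁻¹) * c := by
      rw [map_mul, map_mul, map_inv, ← h]
      group
    have e2 : f (u 2) * f p * (f (u 2))⁻¹ = f (u 2 * p * (u 2)⁻¹) := by rw [map_mul, map_mul, map_inv]
    rw [e1, e2]
    have hzc : c * f (z 2) * c⁻¹ = f (z 2) := by rw [hcz, mul_inv_cancel_right]
    have hlist : (p = 1 ∨ p = z 2 ∨ p = t 2 ∨ p = z 2 * t 2) ↔ InV y := by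
      constructor
      · rintro (rfl | rfl | rfl | rfl)
        · have : y = 1 := D.inj (by rw [← h, map_one]; group)
          rw [this]; decide
        · have : y = z 2 := D.inj (by rw [← h, hzc])
          rw [this]; decide
        · have : y = a' 2 := D.inj (by rw [← h, hct])
          rw [this]; decide
        · have : y = z 2 * a' 2 := D.inj (by
            rw [← h, map_mul, map_mul]
            calc c * (f (z 2) * f (t 2)) * c⁻¹ = (c * f (z 2) * c⁻¹) * (c * f (t 2) * c⁻¹) := by group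
              _ = _ := by rw [hzc, hct])
          rw [this]; decide
      · intro hV
        have hinj : ∀ p' : T (2 * 2), c * f p' * c⁻¹ = f y → p = p' := by
          intro p' h'
          exact D.inj (mul_left_cancel (mul_right_cancel (h.trans h'.symm)))
        rcases InV_cases y hV with rfl | rfl | rfl | rfl
        · exact Or.inl (hinj 1 (by rw [map_one]; group))
        · exact Or.inr (Or.inl (hinj _ hzc))
        · exact Or.inr (Or.inr (Or.inl (hinj _ hct)))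
        · refine Or.inr (Or.inr (Or.inr (hinj _ ?_)))
          have e3 : (b' 2 : T (2 * 2)) = z 2 * a' 2 := by decide
          rw [e3, map_mul, map_mul]
          calc c * (f (z 2) * f (t 2)) * c⁻¹ = (c * f (z 2) * c⁻¹) * (c * f (t 2) * c⁻¹) := by group
            _ = _ := by rw [hzc, hct]
    rcases F_u p hp' with ⟨h1, h2⟩ | ⟨h1, h2⟩
    · rw [h2, (F_v y hy).1 (hlist.mp h1), ← h]
      group
    · rw [h2, (F_v y hy).2 (fun h3 => h1 (hlist.mpr h3)), map_mul, map_mul, ← h, ← hzc]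
      rw [hzc]
      calc c⁻¹ * (c * f p * c⁻¹ * f (z 2)) * c = f p * (c⁻¹ * f (z 2) * c) := by group
        _ = f p * f (z 2) := by
          congr 1
          calc c⁻¹ * f (z 2) * c = c⁻¹ * (c * f (z 2) * c⁻¹) * c := by rw [hzc]
            _ = f (z 2) := by group
  have hfin := killing_hom hsolv F₁.normalizerMonoidHom (v := ⟨f ⟨1, 3, false, false⟩, hfN _⟩) (x := ⟨x, hxN⟩)
    (c := ⟨c, hcN⟩⁻¹) (by
      have h1 : F₁.normalizerMonoidHom (⟨x, hxN⟩ * ⟨f ⟨1, 3, false, false⟩, hfN _⟩ * ⟨x, hxN⟩⁻¹) =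
          F₁.normalizerMonoidHom ⟨f ⟨1, 2, false, false⟩, hfN _⟩ :=
        congrArg _ (Subtype.ext hA)
      have h2 : F₁.normalizerMonoidHom (⟨c, hcN⟩⁻¹ * ⟨f ⟨1, 3, false, false⟩, hfN _⟩ * ⟨c, hcN⟩⁻¹⁻¹) =
          F₁.normalizerMonoidHom ⟨f (u 2), hfN _⟩ :=
        rho_eq (⟨c, hcN⟩⁻¹ * ⟨f ⟨1, 3, false, false⟩, hfN _⟩ * ⟨c, hcN⟩⁻¹⁻¹ : normalizer (F₁ : Set G)).2 _ hB
      rw [h1, h2, ← map_inv, ← map_inv, ← map_mul, ← map_mul, ← map_mul]
      refine rho_eq _ (⟨f ⟨1, 2, false, false⟩, hfN _⟩ * ⟨f (u 2), hfN _⟩ * ⟨f ⟨1, 2, false, false⟩, hfN _⟩⁻¹ *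
        ⟨f (u 2), hfN _⟩⁻¹ : normalizer (F₁ : Set G)).2 ?_
      rintro _ ⟨p, hp, rfl⟩
      have h3 := congrArg f (F_vu p hp)
      simp only [map_mul, map_inv] at h3
      exact h3)
  have h4 := eq_of_rho_eq_one (hfN _) hfin (f (t 2)) ⟨t 2, (show InF (t 2) by decide), rfl⟩
  rw [← map_inv, ← map_mul, ← map_mul] at h4
  exact absurd (D.inj h4) (by decide)

end Cfsg.Agent.SectRankFour.C2.Fin64One
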