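import Cfsg.Agent.SectRankFour.C2.Fin64Core
import Cfsg.Agent.MTwelveType.FusOf
import Cfsg.Agent.MTwelveType.Order
import Cfsg.Agent.MTwelveType.CaseB

/-!
# S0517, configuration of order 64 (FIN64): at least two classes of involutions

If `G` is simple of characteristic 2 type with a Sylow 2-subgroup `T (2 * 2)`, then all involutions of `G`
are conjugate.
-/

set_option autoImplicit false
set_option linter.unusedSectionVars false

namespace Cfsg.Agent.SectRankFour.C2.Fin64Pat

open Subgroup Cfsg Cfsg.Agent.ZN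
open Cfsg.Agent.ClassificationK.GTwoModel Cfsg.Agent.ClassificationK.GTwoModel.T
open Cfsg.Agent.MTwelveType.Base Cfsg.Agent.MTwelveType
open Cfsg.Agent.MinSimple.VModule Cfsg.Agent.MinSimple.Basic
open Cfsg.Agent.SectRankFour.C2.Fin64Core

/-! ### general facts -/

section general

variable {G : Type*} [Group G]

/-- `y` of odd order with `g^y = d g`, `d` an involution or 1 commuting with `y`, commutes with `g`. -/
theorem comm_of_odd [Finite G] {y g d : G} (hy : Odd (orderOf y)) (h : y * g * y⁻¹ = d * g)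
    (hyd : y * d * y⁻¹ = d) (hd : d * d = 1) : d = 1 := by
  have key : ∀ n : ℕ, y ^ n * g * (y ^ n)⁻¹ = d ^ n * g := by
    intro n
    induction n with
    | zero => simp
    | succ n ih =>
      have h1 : y ^ (n + 1) * g * (y ^ (n + 1))⁻¹ = y * (y ^ n * g * (y ^ n)⁻¹) * y⁻¹ := by
        rw [pow_succ']; group
      have h2 : y * d ^ n * y⁻¹ = d ^ n := by rw [← conj_pow, hyd]
      rw [h1, ih]
      calc y * (d ^ n * g) * y⁻¹ = (y * d ^ n * y⁻¹) * (y * g * y⁻¹) := by group
        _ = d ^ (n + 1) * g := by rw [h2, h, pow_succ, mul_assoc]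
  obtain ⟨k, hk⟩ := hy
  have h1 := key (orderOf y)
  rw [pow_orderOf_eq_one, hk, pow_succ, pow_mul, pow_two, hd, one_pow, one_mul, inv_one, one_mul,
    mul_one] at h1
  exact (mul_eq_right.mp h1.symm)

theorem isPGroup_of_odd [Finite G] {H : Subgroup G} (h : ∀ y ∈ H, Odd (orderOf y) → y = 1) :
    IsPGroup 2 H := by
  intro y
  obtain ⟨k, m, hm, hk⟩ := Nat.exists_eq_two_pow_mul_odd (n := orderOf (y : G)) (orderOf_pos _).ne'
  refine ⟨k, Subtype.ext ?_⟩
  show (y : G) ^ 2 ^ k = 1
  refine h _ (pow_mem y.2 _) ?_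
  have hd : orderOf ((y : G) ^ 2 ^ k) ∣ m := by
    rw [orderOf_dvd_iff_pow_eq_one, ← pow_mul, ← hk, pow_orderOf_eq_one]
  obtain ⟨c, rfl⟩ := hd
  exact (Nat.odd_mul.mp hm).1

end general

/-! ### facts in the model -/

section model

set_option maxRecDepth 100000 in
theorem E_cases' : ∀ x : T (2 * 2), InE x → ¬ InV x → ∃ v, InV v ∧ x = v * r 2 := by decide
set_option maxRecDepth 100000 in
theorem E_normal : ∀ x q : T (2 * 2), InE x → InE (q * x * q⁻¹) := by decide
set_option maxRecDepth 100000 in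
theorem cen_E : ∀ d : T (2 * 2), (∀ x, InE x → d * x = x * d) → InE d := by decide
theorem card_E6 : Fintype.card {x : T (2 * 2) // InE x ∧ x ≠ 1 ∧ x ≠ z 2} = 6 := by decide
theorem InE_V_cases : ∀ x : T (2 * 2), InE x → x ≠ 1 → x ≠ z 2 → InV x → (x = a' 2 ∨ x = b' 2) := by
  decide
theorem not_InSS_of_comm : ∀ x : T (2 * 2), x * t 2 = t 2 * x → ¬ InSS x := by decide
set_option maxRecDepth 100000 in
theorem V_comm : ∀ x y : T (2 * 2), InV x → InV y → x * y = y * x := by decide
set_option maxRecDepth 100000 in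
theorem V_mul_sq : ∀ x y : T (2 * 2), InV x → InV y → (x * y) * (x * y) = 1 := by decide
set_option maxRecDepth 100000 in
theorem V_eq : ∀ x y : T (2 * 2), InV x → InV y → x * y = 1 → x = y := by decide
theorem card_C_t : Fintype.card {x : T (2 * 2) // x * t 2 = t 2 * x} = 16 := by decide

end model

variable {G : Type*} [Group G] [Finite G] {S : Sylow 2 G} {f : T (2 * 2) →* G}

/-- conjugates of elements of `f E` in `C(z)` -/
theorem conj_E (P : Pat S f) (D : Cen S f) {c : G} (hc : c * f (z 2) = f (z 2) * c) {x : T (2 * 2)}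
    (hx : InE x) (hx1 : x ≠ 1) : ∃ y, InE y ∧ y ≠ 1 ∧ c * f x * c⁻¹ = f y := by
  obtain ⟨q, hq, h⟩ := D.exists_conj_Q (mem_iff_of_pat P D) hc (InQ_of_InE x hx)
  have hq1 : q ≠ 1 := by
    rintro rfl
    apply hx1
    apply D.inj
    rw [map_one] at h ⊢
    calc f x = c⁻¹ * (c * f x * c⁻¹) * c := by group
      _ = 1 := by rw [h]; group
  have hqq : q * q = 1 := by
    apply D.inj
    rw [map_mul, ← h, map_one]
    calc c * f x * c⁻¹ * (c * f x * c⁻¹) = c * (f x * f x) * c⁻¹ := by group
      _ = 1 := by rw [← map_mul, sq_of_InE x hx, map_one]; group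
  have hzq : IsConj (f (z 2)) (f q) := (P.isConj_E hx hx1).trans (isConj_iff.2 ⟨c, h⟩)
  rcases inv_trichotomy q hqq hq1 with h1 | h1 | h1
  · exact ⟨q, h1, hq1, h⟩
  · exact absurd (hzq.trans (P.isConj_TT h1).symm) P.nzt
  · exact absurd hq (not_InQ_of_InSS q h1)

theorem f_inj_conj (D : Cen S f) {c : G} {x y : T (2 * 2)} (h : c * f x * c⁻¹ = f y)
    (h' : c * f y * c⁻¹ = f y) : x = y := by
  apply D.inj
  have := h.trans h'.symm
  exact mul_left_cancel (mul_right_cancel this)

/-- `C(z) ∩ C(a')` is a 2-group. -/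
theorem isPGroup_Ca (P : Pat S f) (D : Cen S f) :
    IsPGroup 2 (centralizer ({f (z 2)} : Set G) ⊓ centralizer ({f (a' 2)} : Set G) : Subgroup G) := by
  apply isPGroup_of_odd
  rintro y hy hodd
  obtain ⟨hyz, hya⟩ := mem_inf.mp hy
  rw [mem_centralizer_singleton_iff] at hyz hya
  have hz : y * f (z 2) * y⁻¹ = f (z 2) := by rw [hyz, mul_inv_cancel_right]
  have ha : y * f (a' 2) * y⁻¹ = f (a' 2) := by rw [hya, mul_inv_cancel_right]
  have hV : ∀ v, InV v → y * f v * y⁻¹ = f v := by
    intro v hv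
    rcases InV_cases v hv with rfl | rfl | rfl | rfl
    · rw [map_one]; group
    · exact hz
    · exact ha
    · have : (b' 2 : T (2 * 2)) = a' 2 * z 2 := by decide
      rw [this, map_mul]
      calc y * (f (a' 2) * f (z 2)) * y⁻¹ = (y * f (a' 2) * y⁻¹) * (y * f (z 2) * y⁻¹) := by group
        _ = _ := by rw [ha, hz]
  have hE : ∀ x, InE x → y * f x * y⁻¹ = f x := by
    have hr : y * f (r 2) * y⁻¹ = f (r 2) := by
      obtain ⟨e, he, -, h⟩ := conj_E P D hyz (x := r 2) (by decide) (by decide)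
      by_cases heV : InV e
      · rw [h, f_inj_conj D h (hV e heV)]
      · obtain ⟨v, hv, rfl⟩ := E_cases' e he heV
        rw [map_mul] at h
        have := comm_of_odd hodd h (hV v hv) (by
          rw [← map_mul, sq_of_InE v (InE_of_InV v hv), map_one])
        rw [h, this, one_mul]
    intro x hx
    by_cases hxV : InV x
    · exact hV x hxV
    · obtain ⟨v, hv, rfl⟩ := E_cases' x hx hxV
      rw [map_mul]
      calc y * (f v * f (r 2)) * y⁻¹ = (y * f v * y⁻¹) * (y * f (r 2) * y⁻¹) := by group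
        _ = _ := by rw [hV v hv, hr]
  have hQ : ∀ q, InQ q → y * f q * y⁻¹ = f q := by
    intro q hq
    obtain ⟨q', hq', h⟩ := D.exists_conj_Q (mem_iff_of_pat P D) hyz hq
    set d := q' * q⁻¹ with hd
    have hdE : InE d := by
      apply cen_E
      intro x hx
      -- `x = q e q⁻¹`
      obtain ⟨e, he, hx'⟩ : ∃ e, InE e ∧ x = q * e * q⁻¹ := by
        have he := E_normal x q⁻¹ hx
        rw [inv_inv] at he
        exact ⟨q⁻¹ * x * q, he, by group⟩
      have h1 : y * f x * y⁻¹ = f (q' * e * q'⁻¹) := by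
        rw [hx', map_mul f (q * e), map_mul f q, map_inv, map_mul f (q' * e), map_mul f q', map_inv]
        calc y * (f q * f e * (f q)⁻¹) * y⁻¹
            = (y * f q * y⁻¹) * (y * f e * y⁻¹) * (y * f q * y⁻¹)⁻¹ := by group
          _ = _ := by rw [h, hE e he]
      rw [hE x hx] at h1
      have h2 := D.inj h1
      rw [hd]
      calc q' * q⁻¹ * x = (q' * e * q'⁻¹) * (q' * q⁻¹) := by rw [hx']; group
        _ = x * (q' * q⁻¹) := by rw [← h2]
    have h3 : y * f q * y⁻¹ = f d * f q := by
      rw [h, ← map_mul, hd]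
      congr 1
      group
    have := comm_of_odd hodd h3 (hE d hdE) (by rw [← map_mul, sq_of_InE d hdE, map_one])
    rw [h3, this, one_mul]
  have hyR : y ∈ R0 f := by
    refine D.char2 ⟨mem_centralizer_singleton_iff.mpr hyz, mem_centralizer_iff.mpr fun g hg => ?_⟩
    obtain ⟨q, rfl⟩ := D.exists_of_mem (D.R0_le hg)
    have := hQ q ((mem_iff_of_pat P D q).mp hg)
    rw [mul_inv_eq_iff_eq_mul] at this
    exact this.symm
  obtain ⟨k, hk⟩ := (o2_isPGroup (centralizer ({f (z 2)} : Set G))) ⟨y, hyR⟩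
  have h1 : y ^ 2 ^ k = 1 := congrArg Subtype.val hk
  have h2 : orderOf y ∣ 2 ^ k := orderOf_dvd_of_pow_eq_one h1
  have h3 : Nat.Coprime (orderOf y) (2 ^ k) :=
    Nat.Coprime.pow_right k (Nat.coprime_two_right.mpr hodd)
  exact orderOf_eq_one_iff.mp (Nat.Coprime.eq_one_of_dvd h3 h2)

/-- the orbit of `a'` under `C(z)` has length 6 -/
theorem card_orbit_a' (P : Pat S f) (D : Cen S f) :
    Nat.card {y : G // ∃ c ∈ centralizer ({f (z 2)} : Set G), c * f (a' 2) * c⁻¹ = y} = 6 := by
  rw [← card_E6, ← Nat.card_eq_fintype_card]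
  symm
  refine Nat.card_congr (Equiv.ofBijective
    (fun x : {x : T (2 * 2) // InE x ∧ x ≠ 1 ∧ x ≠ z 2} =>
      (⟨f x, ?_⟩ : {y : G // ∃ c ∈ centralizer ({f (z 2)} : Set G), c * f (a' 2) * c⁻¹ = y}))
    ⟨?_, ?_⟩)
  · obtain ⟨x, hx, hx1, hxz⟩ := x
    show ∃ c ∈ centralizer ({f (z 2)} : Set G), c * f (a' 2) * c⁻¹ = f x
    by_cases hxV : InV x
    · rcases InE_V_cases x hx hx1 hxz hxV with rfl | rfl
      · exact ⟨1, one_mem _, by group⟩
      · refine ⟨f (u 2), mem_centralizer_singleton_iff.mpr (D.z_comm _), ?_⟩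
        rw [← map_inv, ← map_mul, ← map_mul]
        congr 1
    · obtain ⟨g, hg⟩ := Fusion.exists_conj_r x hx hxV
      obtain ⟨c, hc, hcr⟩ := Fusion.exists_ar P
      refine ⟨(f g)⁻¹ * c, mul_mem (inv_mem (mem_centralizer_singleton_iff.mpr (D.z_comm g)))
        (mem_centralizer_singleton_iff.mpr hc), ?_⟩
      calc (f g)⁻¹ * c * f (a' 2) * ((f g)⁻¹ * c)⁻¹ = (f g)⁻¹ * (c * f (a' 2) * c⁻¹) * f g := by group
        _ = (f g)⁻¹ * (f g * f x * (f g)⁻¹) * f g := by rw [hcr, ← hg, map_mul, map_mul, map_inv]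
        _ = f x := by group
  · intro x y h
    exact Subtype.ext (D.inj (Subtype.mk.inj h))
  · rintro ⟨y, c, hc, h⟩
    rw [mem_centralizer_singleton_iff] at hc
    obtain ⟨e, he, he1, h'⟩ := conj_E P D hc (x := a' 2) (by decide) (by decide)
    refine ⟨⟨e, he, he1, ?_⟩, Subtype.ext (h'.symm.trans h)⟩
    rintro rfl
    have := f_inj_conj D h' (by rw [hc, mul_inv_cancel_right])
    exact absurd this (by decide)

theorem card_S (D : Cen S f) : Nat.card (S : Subgroup G) = 64 := by
  rw [← D.range]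
  rw [← Nat.card_congr (MonoidHom.ofInjective D.inj).toEquiv, card_T]
  norm_num

theorem card_C (P : Pat S f) (D : Cen S f) :
    Nat.card (centralizer ({f (z 2)} : Set G)) = 192 := by
  have hf : Fact (Nat.Prime 2) := ⟨Nat.prime_two⟩
  have h1 := Order.card_orbit (centralizer ({f (z 2)} : Set G)) (f (a' 2))
  rw [card_orbit_a' P D] at h1
  obtain ⟨k, hk⟩ := IsPGroup.iff_card.mp (isPGroup_Ca P D)
  rw [hk] at h1
  have h2 : Nat.card (S : Subgroup G) * (S : Subgroup G).relIndex (centralizer ({f (z 2)} : Set G)) =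
      Nat.card (centralizer ({f (z 2)} : Set G)) := by
    rw [← relIndex_bot_left, ← relIndex_bot_left]
    exact relIndex_mul_relIndex _ _ _ bot_le D.S_le
  rw [card_S D, ← h1] at h2
  have h3 : ¬ 2 ∣ (S : Subgroup G).relIndex (centralizer ({f (z 2)} : Set G)) :=
    not_dvd_relIndex S D.S_le
  have h4 : k = 5 := by
    by_contra hne
    rcases lt_or_gt_of_ne hne with h | h
    · -- `k < 5`
      have h5 : (64 : ℕ) ∣ 6 * 2 ^ k := Dvd.intro _ h2
      interval_cases k <;> norm_num at h5
    · -- `k > 5`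
      apply h3
      obtain ⟨m, rfl⟩ : ∃ m, k = 6 + m := ⟨k - 6, by omega⟩
      rw [pow_add] at h2
      have h5 : (S : Subgroup G).relIndex (centralizer ({f (z 2)} : Set G)) = 6 * 2 ^ m := by
        have : 64 * (S : Subgroup G).relIndex (centralizer ({f (z 2)} : Set G)) =
          64 * (6 * 2 ^ m) := by rw [h2]; ring
        exact Nat.eq_of_mul_eq_mul_left (by norm_num) this
      rw [h5]
      exact Dvd.dvd.mul_right (by norm_num) _
  rw [← h1, h4]
  norm_num

/-- the cores of the centralizers of involutions are trivial -/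
theorem core_eq_bot (hG : IsCharacteristicTwoType G) {x : G} (hx : x * x = 1) (hx1 : x ≠ 1) :
    centralizerPPrimeCore 2 x = ⊥ := by
  have h := char2_centralizer hG (z := x) (by rw [pow_two, hx]) hx1
  exact eq_bot_of_odd h (oc_le _) (le_normalizer_oc _) (odd_card_oc _)

theorem f_ne_one (D : Cen S f) {x : T (2 * 2)} (hx : x ≠ 1) : f x ≠ 1 := fun h =>
  hx (D.inj (h.trans (map_one f).symm))

/-- Pattern (b), `t ~ s`, is impossible. -/
theorem false_of_ts [IsSimpleGroup G] (hG : IsCharacteristicTwoType G) (P : Pat S f) (D : Cen S f)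
    (hts : IsConj (f (t 2)) (f (s 2))) : False := by
  refine CaseB.false_of_isConj_ts P hts ⊥ ?_ ?_ ?_ ?_ ?_ ?_ ?_
  · rw [card_bot]; exact odd_one
  · intro x hx hx1
    rw [bot_inf_eq, core_eq_bot hG (by rw [← map_mul, sq_of_InE x hx, map_one]) (f_ne_one D hx1)]
  · intro x _ _
    rw [normalizer_eq_top_iff.mpr inferInstance]
    exact le_top
  · intro g _
    rw [normalizer_eq_top_iff.mpr inferInstance]
    exact mem_top _
  · rw [normalizer_eq_top_iff.mpr inferInstance]
    exact le_top
  · exact (core_eq_bot hG (by rw [← map_mul, show t 2 * t 2 = (1 : T (2 * 2)) from by decide,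
      map_one]) (f_ne_one D (by decide))).le
  · intro c hc q hq
    obtain ⟨q', hq', h⟩ := D.exists_conj_Q (mem_iff_of_pat P D) (mem_centralizer_singleton_iff.mp hc) hq
    exact ⟨q', hq', 1, one_mem _, by rw [mul_one]; exact h⟩

/-- Pattern (a), `z ~ s`, is impossible. -/
theorem false_of_zs (hG : IsCharacteristicTwoType G) (P : Pat S f) (D : Cen S f)
    (hzs : IsConj (f (z 2)) (f (s 2))) : False := by
  have hf2 : Fact (Nat.Prime 2) := ⟨Nat.prime_two⟩
  have F := FusOf.fus_of P hzs (card_C P D) fun c hc q hq =>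
    D.exists_conj_Q (mem_iff_of_pat P D) (mem_centralizer_singleton_iff.mp hc) hq
  have htt : f (t 2) * f (t 2) = 1 := by
    rw [← map_mul, show t 2 * t 2 = (1 : T (2 * 2)) from by decide, map_one]
  -- `C_S(t)` is a Sylow 2-subgroup of `C(t)`
  set Ct : Subgroup G := centralizer ({f (t 2)} : Set G) with hCt
  set Y : Subgroup G := (centralizer ({t 2} : Set (T (2 * 2)))).map f with hY
  have hYC : Y ≤ Ct := by
    rintro _ ⟨x, hx, rfl⟩
    rw [SetLike.mem_coe, mem_centralizer_singleton_iff] at hx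
    rw [hCt, mem_centralizer_singleton_iff, ← map_mul, hx, map_mul]
  have hY2 : IsPGroup 2 Y := S.isPGroup'.to_le (by
    rw [← D.range, MonoidHom.range_eq_map]
    exact map_mono le_top)
  have hYcard : Nat.card Y = 16 := by
    rw [hY, card_map_of_injective D.inj, ← card_C_t, ← Nat.card_eq_fintype_card]
    exact Nat.card_congr (Equiv.subtypeEquivRight fun x => mem_centralizer_singleton_iff)
  have hYs : ¬ 2 ∣ Y.relIndex Ct := by
    intro hdvd
    -- a Sylow 2-subgroup of `C(t)` above `Y`
    have h1 : IsPGroup 2 (Y.subgroupOf Ct) := hY2.comap_of_injective _ Ct.subtype_injective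
    obtain ⟨R, hR⟩ := h1.exists_le_sylow
    have h2 : Nat.card ((R : Subgroup Ct).map Ct.subtype) ≤ 16 :=
      Fusion.card_le_of_cen_t P _ (R.isPGroup'.map _) (map_subtype_le _)
    rw [card_map_of_injective Ct.subtype_injective] at h2
    have h3 : Nat.card (Y.subgroupOf Ct) = 16 := by
      rw [← hYcard]
      exact Nat.card_congr (subgroupOfEquivOfLe hYC).toEquiv
    have h4 : Y.subgroupOf Ct = (R : Subgroup Ct) :=
      Subgroup.eq_of_le_of_card_ge hR (h2.trans h3.ge)
    have h5 : ¬ 2 ∣ (R : Subgroup Ct).index := R.not_dvd_index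
    rw [← h4] at h5
    exact h5 hdvd
  have ho2 : o2 Ct ≤ Y := o2_le_of_sylow hY2 hYs
  -- `z ∈ O₂(C(t))`
  have hz : f (z 2) ∈ o2 Ct := by
    refine char2_centralizer hG (z := f (t 2)) (by rw [pow_two, htt]) (f_ne_one D (by decide))
      (mem_inf.mpr ⟨?_, mem_centralizer_iff.mpr fun q hq => ?_⟩)
    · rw [mem_centralizer_singleton_iff]; exact F.comm
    · obtain ⟨x, -, rfl⟩ := ho2 hq
      exact D.z_comm x
  -- the z-types in `C(t)` are `z`, `a'`, `b'`
  have key : ∀ x : G, IsConj (f (z 2)) x → x * f (t 2) = f (t 2) * x → ∃ v, InV v ∧ x = f v := by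
    intro x hx hxt
    obtain ⟨h, hh, rfl⟩ := F.conj_t x hx hxt
    have h1 : h * f (z 2) * h⁻¹ ∈ o2 Ct :=
      (mem_normalizer_iff.mp (le_normalizer_o2 Ct (mem_centralizer_singleton_iff.mpr hh)) _).mp hz
    obtain ⟨y, hy, hyx⟩ := ho2 h1
    rw [SetLike.mem_coe, mem_centralizer_singleton_iff] at hy
    refine ⟨y, ?_, hyx.symm⟩
    have hyy : y * y = 1 := by
      apply D.inj
      rw [map_mul, hyx, map_one]
      have hzz : f (z 2) * f (z 2) = 1 := by
        rw [← map_mul, show z 2 * z 2 = (1 : T (2 * 2)) from by decide, map_one]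
      calc h * f (z 2) * h⁻¹ * (h * f (z 2) * h⁻¹) = h * (f (z 2) * f (z 2)) * h⁻¹ := by group
        _ = 1 := by rw [hzz]; group
    have hy1 : y ≠ 1 := by
      rintro rfl
      rw [map_one] at hyx
      have h2 : f (z 2) = 1 := by
        calc f (z 2) = h⁻¹ * (h * f (z 2) * h⁻¹) * h := by group
          _ = 1 := by rw [← hyx]; group
      exact f_ne_one D (by decide) h2
    rcases inv_trichotomy y hyy hy1 with h2 | h2 | h2
    · rcases CaseB.cen_t_cases y h2 hy1 hy with rfl | rfl | rfl <;> decide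
    · refine absurd ?_ P.nzt
      have h3 := P.isConj_TT h2
      rw [hyx] at h3
      exact hx.trans h3.symm
    · exact absurd h2 (not_InSS_of_comm y hy)
  have h3 : Nat.card {x : Ct // Order.P (f (z 2)) (f (t 2)) x} = 3 := by
    rw [← F.card3]
    exact Nat.card_congr
      { toFun := fun x => ⟨x.1.1, x.2, by
          obtain ⟨v, hv, hxv⟩ := key x.1.1 x.2 (mem_centralizer_singleton_iff.mp x.1.2)
          rw [hxv]; exact D.z_comm v, mem_centralizer_singleton_iff.mp x.1.2⟩
        invFun := fun x => ⟨⟨x.1, mem_centralizer_singleton_iff.mpr x.2.2.2⟩, x.2.1⟩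
        left_inv := fun x => rfl
        right_inv := fun x => rfl }
  have hodd : Nat.card {p : Ct × Ct // Order.P (f (z 2)) (f (t 2)) p.1 ∧
      Order.P (f (z 2)) (f (t 2)) p.2 ∧ Odd (orderOf (p.1 * p.2))} = 3 * (3 - 2) := by
    rw [show 3 * (3 - 2) = 3 from rfl, ← h3]
    exact Nat.card_congr
      { toFun := fun p => ⟨p.1.1, p.2.1⟩
        invFun := fun x => ⟨(x.1, x.1), x.2, x.2, by
          have : (x.1 * x.1 : Ct) = 1 := by
            apply Subtype.ext
            obtain ⟨v, hv, hxv⟩ := key x.1.1 x.2 (mem_centralizer_singleton_iff.mp x.1.2)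
            show (x.1 : G) * x.1 = 1
            rw [hxv, ← map_mul, sq_of_InE v (InE_of_InV v hv), map_one]
          rw [this, orderOf_one]
          exact odd_one⟩
        left_inv := fun p => by
          obtain ⟨⟨x, y⟩, hx, hy, ho⟩ := p
          apply Subtype.ext
          apply Prod.ext
          · rfl
          · show x = y
            obtain ⟨v, hv, hxv⟩ := key x.1 hx (mem_centralizer_singleton_iff.mp x.2)
            obtain ⟨w, hw, hyw⟩ := key y.1 hy (mem_centralizer_singleton_iff.mp y.2)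
            apply Subtype.ext
            rw [hxv, hyw]
            congr 1
            apply V_eq v w hv hw
            apply D.inj
            rw [map_one]
            have h4 : f (v * w) * f (v * w) = 1 := by rw [← map_mul, V_mul_sq v w hv hw, map_one]
            have h5 : Odd (orderOf (f (v * w))) := by
              rw [map_mul, ← hxv, ← hyw]
              have : ((x * y : Ct) : G) = (x : G) * y := rfl
              rw [← this, Subgroup.orderOf_coe]
              exact ho
            obtain ⟨k, hk⟩ := h5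
            have h6 := pow_orderOf_eq_one (f (v * w))
            rw [hk, pow_succ, pow_mul, pow_two, h4, one_pow, one_mul] at h6
            exact h6
        right_inv := fun x => rfl }
  have h4 := Order.card_formula F 3 h3 hodd
  exact Order.card_ne_small F (by rw [h4])

/-- All involutions of `G` are conjugate. -/
theorem one_class [IsSimpleGroup G] (hG : IsCharacteristicTwoType G)
    (hinj : Function.Injective f) (hrange : f.range = (S : Subgroup G)) (x y : G) (hx : orderOf x = 2)
    (hy : orderOf y = 2) : IsConj x y := by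
  by_contra hne
  have e : T (2 * 2) ≃* ↥(S : Subgroup G) :=
    (MonoidHom.ofInjective hinj).trans (MulEquiv.subgroupCongr hrange)
  obtain ⟨g, P⟩ := Fusion.exists_pat S e ⟨x, y, hx, hy, hne⟩
  have hzz : g (z 2) * g (z 2) = 1 := by
    rw [← map_mul, show z 2 * z 2 = (1 : T (2 * 2)) from by decide, map_one]
  have hz1 : g (z 2) ≠ 1 := fun h => absurd (P.inj (h.trans (map_one g).symm)) (by decide)
  have D : Cen S g := ⟨P.inj, P.range, char2_centralizer hG (by rw [pow_two, hzz]) hz1⟩
  rcases P.sz with h | h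
  · exact false_of_zs hG P D h
  · exact false_of_ts hG P D h

end Cfsg.Agent.SectRankFour.C2.Fin64Pat
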