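import Cfsg.Agent.SectRankFour.C2.Fin64Iso
import Cfsg.Agent.SectRankFour.C2.Fin64Pat
import Cfsg.Agent.SectRankFour.C2.Fin64One

/-!
# S0517, configuration of order 64 (FIN64)

A finite simple group of characteristic 2 type with solvable 2-local subgroups has no configuration
`Conf64` (`false_of_simple`; no hypothesis on the sectional 2-rank), in particular `Fin64.false`.
-/

set_option autoImplicit false

namespace Cfsg.Agent.SectRankFour.C2.Fin64

open Subgroup Cfsg
open Cfsg.Agent.ClassificationK.GTwoModel Cfsg.Agent.ClassificationK.GTwoModel.T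
open Cfsg.Agent.MinSimple.Basic
open Cfsg.Agent.SectRankFour.C2.Defs Cfsg.Agent.SectRankFour.C2.Fin64Core

/-- **FIN64**: there is no configuration `Conf64` in a finite simple group of characteristic 2 type all of
whose 2-local subgroups are solvable. -/
theorem false_of_simple {G : Type*} [Group G] [Finite G] (hG : IsSimpleGroup G)
    (hL : ∀ N : Subgroup G, IsTwoLocal N → Group.IsSolvable N) (hc : IsCharacteristicTwoType G)
    (S : Sylow 2 G) {P1 : Subgroup G} {a b u s x : G}
    (h : Conf64 (S : Subgroup G) P1 a b u s x) : False := by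
  obtain ⟨f, hinj, hrange, hfa, hfb, hfu, -⟩ := Fin64Iso.exists_hom h
  have hzz : f (z 2) * f (z 2) = 1 := by
    rw [← map_mul, show z 2 * z 2 = (1 : T (2 * 2)) from by decide, map_one]
  have hz1 : f (z 2) ≠ 1 := fun h => absurd (hinj (h.trans (map_one f).symm)) (by decide)
  have D : Cen S f := ⟨hinj, hrange, char2_centralizer hc (by rw [pow_two, hzz]) hz1⟩
  refine Fin64One.false_of_one_class (Fin64Pat.one_class hc hinj hrange) D hL (x := x) ?_ ?_ ?_
  · rw [hfa, hfb, h.xa]
  · have e : (⟨-1, -1, false, false⟩ : T (2 * 2)) = (⟨1, 0, false, false⟩)⁻¹ * (⟨0, 1, false, false⟩)⁻¹ := by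
      decide
    rw [e, map_mul, map_inv, map_inv, hfa, hfb, h.xb]
  · rw [hfu, h.xu]

/-- **FIN64** for the standing hypotheses of S0517, two maximal 2-locals, sectional 2-rank at most 4. -/
theorem false {G : Type*} [Group G] [Finite G] (hG : Hyp G) (S : Sylow 2 G) {P1 : Subgroup G}
    {a b u s x : G} (h : Conf64 (S : Subgroup G) P1 a b u s x) : False :=
  false_of_simple hG.simple hG.locSolv hG.char2 S h

end Cfsg.Agent.SectRankFour.C2.Fin64
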