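import Mathlib
import Cfsg.Agent.SectRankFour.C2.Defs

/-!
# S0517, two maximal 2-locals, rank 4: normal form in the group of order 128

`Conf128 S P1 a b u f s x`: every element of `S` is uniquely `a^i b^j u^k f^l s^m`. The elements are
numbered by `0, ..., 127`, `mul` is the multiplication table.
-/

set_option autoImplicit false

namespace Cfsg.Agent.SectRankFour.C2.FinAut

open Subgroup Cfsg Cfsg.Agent.ZN Cfsg.Agent.SectRankFour.C2.Defs

/-- exponent vectors -/
abbrev T := ℕ × ℕ × ℕ × ℕ × ℕ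

/-- the exponent vector of the number `n` -/
def dec (n : ℕ) : T := (n % 4, n / 4 % 4, n / 16 % 2, n / 32 % 2, n / 64 % 2)

/-- the number of an exponent vector -/
def enc (p : T) : ℕ :=
  p.1 % 4 + 4 * (p.2.1 % 4) + 16 * (p.2.2.1 % 2) + 32 * (p.2.2.2.1 % 2) + 64 * (p.2.2.2.2 % 2)

def lu (p : T) : T := (3 * p.1, 3 * p.2.1, p.2.2.1 + 1, p.2.2.2.1, p.2.2.2.2)
def lf (p : T) : T := (p.1 + 2 * p.2.1, 2 * p.1 + 3 * p.2.1, p.2.2.1, p.2.2.2.1 + 1, p.2.2.2.2)
def ls (p : T) : T := (p.2.1, p.1, p.2.2.1 + p.2.2.2.1, p.2.2.2.1, p.2.2.2.2 + 1)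

/-- multiplication of exponent vectors, left factor with last three entries `0` or `1` -/
def mulT (p q : T) : T :=
  let q1 := if p.2.2.2.2 = 0 then q else ls q
  let q2 := if p.2.2.2.1 = 0 then q1 else lf q1
  let q3 := if p.2.2.1 = 0 then q2 else lu q2
  (p.1 + q3.1, p.2.1 + q3.2.1, q3.2.2.1, q3.2.2.2.1, q3.2.2.2.2)

/-- multiplication of numbers -/
def mul (x y : ℕ) : ℕ := enc (mulT (dec x) (dec y))

variable {G : Type*} [Group G]

/-- the element with a given exponent vector -/
def phi (a b u f s : G) (p : T) : G :=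
  a ^ p.1 * b ^ p.2.1 * u ^ p.2.2.1 * f ^ p.2.2.2.1 * s ^ p.2.2.2.2

section

variable {S P1 : Subgroup G} {a b u f s x : G}

theorem phi_dec_enc (h : Conf128 S P1 a b u f s x) (p : T) :
    phi a b u f s (dec (enc p)) = phi a b u f s p := by
  have hf2 := h.f2
  obtain ⟨i, j, k, l, m⟩ := p
  have h1 : (dec (enc (i, j, k, l, m))).1 = i % 4 := by simp only [dec, enc]; omega
  have h2 : (dec (enc (i, j, k, l, m))).2.1 = j % 4 := by simp only [dec, enc]; omega
  have h3 : (dec (enc (i, j, k, l, m))).2.2.1 = k % 2 := by simp only [dec, enc]; omega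
  have h4 : (dec (enc (i, j, k, l, m))).2.2.2.1 = l % 2 := by simp only [dec, enc]; omega
  have h5 : (dec (enc (i, j, k, l, m))).2.2.2.2 = m % 2 := by simp only [dec, enc]; omega
  unfold phi
  rw [h1, h2, h3, h4, h5]
  have key : ∀ (g : G) (n k : ℕ), g ^ n = 1 → g ^ (k % n) = g ^ k := by
    intro g n k hg
    conv_rhs => rw [← Nat.mod_add_div k n, pow_add, pow_mul, hg, one_pow, mul_one]
  rw [key a 4 i h.a4, key b 4 j h.b4, key u 2 k h.u2, key f 2 l h.f2, key s 2 m h.s2]

theorem phi_lu (h : Conf128 S P1 a b u f s x) (p : T) :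
    phi a b u f s (lu p) = u * phi a b u f s p := by
  obtain ⟨i, j, k, l, m⟩ := p
  simp only [phi, lu]
  have ha : ∀ n : ℕ, u * a ^ n = a ^ (3 * n) * u := by
    intro n
    have h1 : SemiconjBy u a (a ^ 3) := by
      have : a ^ 3 = a⁻¹ := by
        rw [eq_inv_iff_mul_eq_one, ← pow_succ]; exact h.a4
      rw [this, SemiconjBy, ← h.ua]; group
    rw [pow_mul]
    exact (h1.pow_right n)
  have hb : ∀ n : ℕ, u * b ^ n = b ^ (3 * n) * u := by
    intro n
    have h1 : SemiconjBy u b (b ^ 3) := by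
      have : b ^ 3 = b⁻¹ := by
        rw [eq_inv_iff_mul_eq_one, ← pow_succ]; exact h.b4
      rw [this, SemiconjBy, ← h.ub]; group
    rw [pow_mul]
    exact (h1.pow_right n)
  calc a ^ (3 * i) * b ^ (3 * j) * u ^ (k + 1) * f ^ l * s ^ m
      = a ^ (3 * i) * (b ^ (3 * j) * u) * u ^ k * f ^ l * s ^ m := by
        rw [pow_succ']; simp only [mul_assoc]
    _ = a ^ (3 * i) * u * b ^ j * u ^ k * f ^ l * s ^ m := by
        rw [← hb]; simp only [mul_assoc]
    _ = u * a ^ i * b ^ j * u ^ k * f ^ l * s ^ m := by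
        rw [← ha]
    _ = _ := by simp only [mul_assoc]

theorem phi_lf (h : Conf128 S P1 a b u f s x) (p : T) :
    phi a b u f s (lf p) = f * phi a b u f s p := by
  obtain ⟨i, j, k, l, m⟩ := p
  simp only [phi, lf]
  have hab : Commute a b := h.ab
  have ha : ∀ n : ℕ, f * a ^ n = a ^ n * b ^ (2 * n) * f := by
    intro n
    have h1 : SemiconjBy f a (a * b ^ 2) := by
      rw [SemiconjBy, ← h.fa]; group
    have h2 := h1.pow_right n
    rw [(hab.pow_right 2).mul_pow, ← pow_mul] at h2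
    exact h2
  have hb : ∀ n : ℕ, f * b ^ n = a ^ (2 * n) * b ^ (3 * n) * f := by
    intro n
    have h1 : SemiconjBy f b (a ^ 2 * b ^ 3) := by
      have : b ^ 3 = b⁻¹ := by
        rw [eq_inv_iff_mul_eq_one, ← pow_succ]; exact h.b4
      rw [this, SemiconjBy, ← h.fb]; group
    have h2 := h1.pow_right n
    rw [((hab.pow_left 2).pow_right 3).mul_pow, ← pow_mul, ← pow_mul] at h2
    exact h2
  have hfu : ∀ n : ℕ, f * u ^ n = u ^ n * f := fun n => by
    have : Commute f u := h.fu
    exact this.pow_right n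
  have hba : ∀ n k : ℕ, b ^ n * a ^ k = a ^ k * b ^ n := fun n k => by
    exact ((hab.pow_left k).pow_right n).symm
  symm
  calc f * (a ^ i * b ^ j * u ^ k * f ^ l * s ^ m)
      = (f * a ^ i) * b ^ j * u ^ k * f ^ l * s ^ m := by simp only [mul_assoc]
    _ = a ^ i * b ^ (2 * i) * (f * b ^ j) * u ^ k * f ^ l * s ^ m := by
        rw [ha]; simp only [mul_assoc]
    _ = a ^ i * (b ^ (2 * i) * a ^ (2 * j)) * b ^ (3 * j) * (f * u ^ k) * f ^ l * s ^ m := by
        rw [hb]; simp only [mul_assoc]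
    _ = (a ^ i * a ^ (2 * j)) * (b ^ (2 * i) * b ^ (3 * j)) * u ^ k * (f * f ^ l) * s ^ m := by
        rw [hba, hfu]; simp only [mul_assoc]
    _ = _ := by rw [← pow_add, ← pow_add, ← pow_succ']

theorem phi_ls (h : Conf128 S P1 a b u f s x) (p : T) :
    phi a b u f s (ls p) = s * phi a b u f s p := by
  obtain ⟨i, j, k, l, m⟩ := p
  simp only [phi, ls]
  have hab : Commute a b := h.ab
  have ha : ∀ n : ℕ, s * a ^ n = b ^ n * s := by
    intro n
    have h1 : SemiconjBy s a b := by
      rw [SemiconjBy, ← h.sa]; group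
    exact h1.pow_right n
  have hb : ∀ n : ℕ, s * b ^ n = a ^ n * s := by
    intro n
    have h1 : SemiconjBy s b a := by
      rw [SemiconjBy, ← h.sb]; group
    exact h1.pow_right n
  have hu : ∀ n : ℕ, s * u ^ n = u ^ n * s := fun n => by
    have : Commute s u := h.su
    exact this.pow_right n
  have hf : ∀ n : ℕ, s * f ^ n = u ^ n * f ^ n * s := by
    intro n
    have h1 : SemiconjBy s f (u * f) := by
      rw [SemiconjBy, ← h.fu, ← h.sf]; group
    have h2 := h1.pow_right n
    have h3 : Commute u f := h.fu.symm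
    rw [h3.mul_pow] at h2
    exact h2
  symm
  calc s * (a ^ i * b ^ j * u ^ k * f ^ l * s ^ m)
      = (s * a ^ i) * b ^ j * u ^ k * f ^ l * s ^ m := by simp only [mul_assoc]
    _ = b ^ i * (s * b ^ j) * u ^ k * f ^ l * s ^ m := by rw [ha]; simp only [mul_assoc]
    _ = (b ^ i * a ^ j) * (s * u ^ k) * f ^ l * s ^ m := by rw [hb]; simp only [mul_assoc]
    _ = (a ^ j * b ^ i) * u ^ k * (s * f ^ l) * s ^ m := by
        rw [hu, ((hab.pow_left j).pow_right i).eq]; simp only [mul_assoc]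
    _ = (a ^ j * b ^ i) * (u ^ k * u ^ l) * f ^ l * (s * s ^ m) := by
        rw [hf]; simp only [mul_assoc]
    _ = _ := by rw [← pow_add, ← pow_succ']

theorem phi_mulT (h : Conf128 S P1 a b u f s x) (p q : T) (h3 : p.2.2.1 < 2) (h4 : p.2.2.2.1 < 2)
    (h5 : p.2.2.2.2 < 2) :
    phi a b u f s (mulT p q) = phi a b u f s p * phi a b u f s q := by
  obtain ⟨i, j, k, l, m⟩ := p
  simp only at h3 h4 h5
  have hab : Commute a b := h.ab
  have key : ∀ q : T, phi a b u f s (i + q.1, j + q.2.1, q.2.2.1, q.2.2.2.1, q.2.2.2.2) =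
      a ^ i * b ^ j * phi a b u f s q := by
    intro q
    simp only [phi]
    rw [pow_add, pow_add]
    calc a ^ i * a ^ q.1 * (b ^ j * b ^ q.2.1) * u ^ q.2.2.1 * f ^ q.2.2.2.1 * s ^ q.2.2.2.2
        = a ^ i * (a ^ q.1 * b ^ j) * b ^ q.2.1 * u ^ q.2.2.1 * f ^ q.2.2.2.1 * s ^ q.2.2.2.2 := by
          simp only [mul_assoc]
      _ = _ := by rw [((hab.pow_left q.1).pow_right j).eq]; simp only [mul_assoc]
  have e1 : ∀ q : T, phi a b u f s (if m = 0 then q else ls q) = s ^ m * phi a b u f s q := by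
    intro q
    interval_cases m
    · simp
    · simpa using phi_ls h q
  have e2 : ∀ q : T, phi a b u f s (if l = 0 then q else lf q) = f ^ l * phi a b u f s q := by
    intro q
    interval_cases l
    · simp
    · simpa using phi_lf h q
  have e3 : ∀ q : T, phi a b u f s (if k = 0 then q else lu q) = u ^ k * phi a b u f s q := by
    intro q
    interval_cases k
    · simp
    · simpa using phi_lu h q
  simp only [mulT]
  rw [key, e3, e2, e1]
  simp only [phi, mul_assoc]

/-- the element with number `n` -/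
def psi (a b u f s : G) (n : ℕ) : G := phi a b u f s (dec n)

theorem psi_mul (h : Conf128 S P1 a b u f s x) (m n : ℕ) :
    psi a b u f s (mul m n) = psi a b u f s m * psi a b u f s n := by
  unfold psi mul
  rw [phi_dec_enc h, phi_mulT h _ _ (Nat.mod_lt _ (by norm_num)) (Nat.mod_lt _ (by norm_num))
    (Nat.mod_lt _ (by norm_num))]

end


/-! ### the table -/

def inv (x : ℕ) : ℕ := mul x (mul x (mul x (mul x (mul x (mul x x)))))

theorem enc_lt (p : T) : enc p < 128 := by
  unfold enc; omega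

theorem mul_lt (m n : ℕ) : mul m n < 128 := enc_lt _

theorem inv_lt (n : ℕ) : inv n < 128 := mul_lt _ _

set_option maxRecDepth 100000 in
theorem mul_inv : ∀ n < 128, mul n (inv n) = 0 := by decide +kernel

def isE (n : ℕ) : Bool := n % 4 % 2 == 0 && n / 4 % 4 % 2 == 0 && n / 64 % 2 == 0
def isM (n : ℕ) : Bool := n / 32 % 2 == 0
def isQ (n : ℕ) : Bool := n / 64 % 2 == 0
def isWu (n : ℕ) : Bool := n / 32 % 2 == 0 && n / 64 % 2 == 0

theorem isE_zero : isE 0 = true := by decide
theorem isM_zero : isM 0 = true := by decide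
theorem isQ_zero : isQ 0 = true := by decide
theorem isWu_zero : isWu 0 = true := by decide

set_option maxRecDepth 100000 in
theorem isE_mul : ∀ m < 128, isE m = true → ∀ n < 128, isE n = true → isE (mul m n) = true ∧
    mul m n = mul n m ∧ mul m m = 0 := by decide +kernel

set_option maxRecDepth 100000 in
theorem isM_mul : ∀ m < 128, isM m = true → ∀ n < 128, isM n = true → isM (mul m n) = true := by
  decide +kernel

set_option maxRecDepth 100000 in
theorem isQ_mul : ∀ m < 128, isQ m = true → ∀ n < 128, isQ n = true → isQ (mul m n) = true := by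
  decide +kernel

set_option maxRecDepth 100000 in
theorem isWu_mul : ∀ m < 128, isWu m = true → ∀ n < 128, isWu n = true →
    isWu (mul m n) = true := by
  decide +kernel

set_option maxRecDepth 100000 in
theorem isE_conj : ∀ m < 128, ∀ n < 128, isE n = true → isE (mul (mul m n) (inv m)) = true := by
  decide +kernel

set_option maxRecDepth 100000 in
theorem isE_cent : ∀ m < 128, mul m 32 = mul 32 m → isE m = true := by
  decide +kernel

set_option maxRecDepth 100000 in
theorem few : ∀ m < 128, mul m m = 0 → isE m = false →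
    ((List.range 128).filter (fun n => mul n n == 0 && mul m n == mul n m)).length < 16 := by
  decide +kernel

set_option maxRecDepth 100000 in
theorem isQ_invol : ∀ m < 128, isQ m = true → mul m m = 0 → isE m = false → isWu m = true := by
  decide +kernel


/-! ### the numbering of `S` -/

theorem psi_zero (a b u f s : G) : psi a b u f s 0 = 1 := by
  simp [psi, phi, dec]

theorem psi_a (a b u f s : G) : psi a b u f s 1 = a := by
  simp [psi, phi, dec]

theorem psi_b (a b u f s : G) : psi a b u f s 4 = b := by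
  simp [psi, phi, dec]

theorem psi_u (a b u f s : G) : psi a b u f s 16 = u := by
  simp [psi, phi, dec]

theorem psi_f (a b u f s : G) : psi a b u f s 32 = f := by
  simp [psi, phi, dec]

theorem psi_s (a b u f s : G) : psi a b u f s 64 = s := by
  simp [psi, phi, dec]

section

variable {S P1 : Subgroup G} {a b u f s x : G}

theorem psi_inv (h : Conf128 S P1 a b u f s x) {n : ℕ} (hn : n < 128) :
    psi a b u f s (inv n) = (psi a b u f s n)⁻¹ := by
  rw [eq_inv_iff_mul_eq_one]
  have h1 : psi a b u f s n * psi a b u f s (inv n) = 1 := by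
    rw [← psi_mul h, mul_inv n hn, psi_zero]
  exact mul_eq_one_comm.mp h1

/-- the subgroup of the elements whose number satisfies `P` -/
def sub (h : Conf128 S P1 a b u f s x) (P : ℕ → Bool) (h0 : P 0 = true)
    (hm : ∀ m < 128, P m = true → ∀ n < 128, P n = true → P (mul m n) = true) : Subgroup G where
  carrier := {g | ∃ n < 128, P n = true ∧ psi a b u f s n = g}
  mul_mem' := by
    rintro _ _ ⟨m, hm1, hm2, rfl⟩ ⟨n, hn1, hn2, rfl⟩
    exact ⟨mul m n, mul_lt _ _, hm m hm1 hm2 n hn1 hn2, psi_mul h m n⟩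
  one_mem' := ⟨0, by norm_num, h0, psi_zero _ _ _ _ _⟩
  inv_mem' := by
    rintro _ ⟨n, hn1, hn2, rfl⟩
    refine ⟨inv n, inv_lt n, ?_, psi_inv h hn1⟩
    have k1 := hm n hn1 hn2 n hn1 hn2
    have k2 := hm n hn1 hn2 _ (mul_lt _ _) k1
    have k3 := hm n hn1 hn2 _ (mul_lt _ _) k2
    have k4 := hm n hn1 hn2 _ (mul_lt _ _) k3
    have k5 := hm n hn1 hn2 _ (mul_lt _ _) k4
    exact hm n hn1 hn2 _ (mul_lt _ _) k5

theorem mem_sub (h : Conf128 S P1 a b u f s x) {P : ℕ → Bool} {h0 : P 0 = true}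
    {hm : ∀ m < 128, P m = true → ∀ n < 128, P n = true → P (mul m n) = true} {g : G} :
    g ∈ sub h P h0 hm ↔ ∃ n < 128, P n = true ∧ psi a b u f s n = g := Iff.rfl

theorem sub_top (h : Conf128 S P1 a b u f s x) :
    sub h (fun _ => true) rfl (fun _ _ _ _ _ _ => rfl) = S := by
  apply le_antisymm
  · rintro _ ⟨n, hn, -, rfl⟩
    have ha : a ∈ S := by rw [h.eqS]; exact subset_closure (by simp)
    have hb : b ∈ S := by rw [h.eqS]; exact subset_closure (by simp)
    have hu : u ∈ S := by rw [h.eqS]; exact subset_closure (by simp)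
    have hf : f ∈ S := by rw [h.eqS]; exact subset_closure (by simp)
    have hs : s ∈ S := by rw [h.eqS]; exact subset_closure (by simp)
    exact S.mul_mem (S.mul_mem (S.mul_mem (S.mul_mem (S.pow_mem ha _) (S.pow_mem hb _))
      (S.pow_mem hu _)) (S.pow_mem hf _)) (S.pow_mem hs _)
  · conv_lhs => rw [h.eqS]
    rw [closure_le]
    rintro g (rfl | rfl | rfl | rfl | rfl)
    · exact ⟨1, by norm_num, rfl, psi_a _ _ _ _ _⟩
    · exact ⟨4, by norm_num, rfl, psi_b _ _ _ _ _⟩
    · exact ⟨16, by norm_num, rfl, psi_u _ _ _ _ _⟩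
    · exact ⟨32, by norm_num, rfl, psi_f _ _ _ _ _⟩
    · exact ⟨64, by norm_num, rfl, psi_s _ _ _ _ _⟩

theorem exists_psi (h : Conf128 S P1 a b u f s x) {g : G} (hg : g ∈ S) :
    ∃ n < 128, psi a b u f s n = g := by
  rw [← sub_top h, mem_sub] at hg
  obtain ⟨n, hn, -, rfl⟩ := hg
  exact ⟨n, hn, rfl⟩

theorem psi_mem (h : Conf128 S P1 a b u f s x) {n : ℕ} (hn : n < 128) :
    psi a b u f s n ∈ S := by
  rw [← sub_top h, mem_sub]
  exact ⟨n, hn, rfl, rfl⟩

theorem psi_inj (h : Conf128 S P1 a b u f s x) {m n : ℕ} (hm : m < 128) (hn : n < 128)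
    (he : psi a b u f s m = psi a b u f s n) : m = n := by
  have hfin : Finite S := Nat.finite_of_card_ne_zero (by rw [h.card]; norm_num)
  let F : Fin 128 → S := fun n => ⟨psi a b u f s n, psi_mem h n.2⟩
  have hsur : Function.Surjective F := by
    rintro ⟨g, hg⟩
    obtain ⟨n, hn, e⟩ := exists_psi h hg
    exact ⟨⟨n, hn⟩, Subtype.ext e⟩
  have hbij : Function.Bijective F :=
    (Nat.bijective_iff_surjective_and_card F).mpr ⟨hsur, by rw [h.card]; simp⟩
  have h1 : F ⟨m, hm⟩ = F ⟨n, hn⟩ := Subtype.ext he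
  have h2 := hbij.1 h1
  exact congrArg Fin.val h2

theorem psi_mem_sub (h : Conf128 S P1 a b u f s x) {P : ℕ → Bool} {h0 : P 0 = true}
    {hm : ∀ m < 128, P m = true → ∀ n < 128, P n = true → P (mul m n) = true} {n : ℕ}
    (hn : n < 128) : psi a b u f s n ∈ sub h P h0 hm ↔ P n = true := by
  rw [mem_sub]
  constructor
  · rintro ⟨m, hm1, hm2, e⟩
    rwa [psi_inj h hm1 hn e] at hm2
  · intro hp
    exact ⟨n, hn, hp, rfl⟩

theorem sub_le (h : Conf128 S P1 a b u f s x) {P : ℕ → Bool} {h0 : P 0 = true}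
    {hm : ∀ m < 128, P m = true → ∀ n < 128, P n = true → P (mul m n) = true} :
    sub h P h0 hm ≤ S := by
  rintro _ ⟨n, hn, -, rfl⟩
  exact psi_mem h hn

theorem card_sub (h : Conf128 S P1 a b u f s x) {P : ℕ → Bool} {h0 : P 0 = true}
    {hm : ∀ m < 128, P m = true → ∀ n < 128, P n = true → P (mul m n) = true} :
    Nat.card (sub h P h0 hm) = ((Finset.range 128).filter (fun n => P n = true)).card := by
  symm
  rw [← Fintype.card_coe, ← Nat.card_eq_fintype_card]
  refine Nat.card_eq_of_bijective (fun n : {n // n ∈ (Finset.range 128).filter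
    (fun n => P n = true)} => (⟨psi a b u f s n.1, n.1, Finset.mem_range.mp
      (Finset.mem_filter.mp n.2).1, (Finset.mem_filter.mp n.2).2, rfl⟩ : sub h P h0 hm)) ⟨?_, ?_⟩
  · rintro ⟨m, hm1⟩ ⟨n, hn1⟩ e
    have e1 : psi a b u f s m = psi a b u f s n := congrArg Subtype.val e
    have hm2 := Finset.mem_range.mp (Finset.mem_filter.mp hm1).1
    have hn2 := Finset.mem_range.mp (Finset.mem_filter.mp hn1).1
    exact Subtype.ext (psi_inj h hm2 hn2 e1)
  · rintro ⟨g, n, hn, hp, rfl⟩
    exact ⟨⟨n, Finset.mem_filter.mpr ⟨Finset.mem_range.mpr hn, hp⟩⟩, rfl⟩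

theorem card_le {a b u f s : G} (F : Subgroup G) (L : List ℕ)
    (hF : ∀ g ∈ F, ∃ n ∈ L, psi a b u f s n = g) : Nat.card F ≤ L.length := by
  classical
  have h1 : Nat.card F ≤ L.toFinset.card := by
    rw [← Fintype.card_coe, ← Nat.card_eq_fintype_card]
    choose! t ht1 ht2 using hF
    refine Nat.card_le_card_of_injective (fun g : F =>
      (⟨t g.1, List.mem_toFinset.mpr (ht1 g.1 g.2)⟩ : {n // n ∈ L.toFinset})) ?_
    intro g g' e
    have e1 : t g.1 = t g'.1 := congrArg Subtype.val e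
    apply Subtype.ext
    rw [← ht2 g.1 g.2, ← ht2 g'.1 g'.2, e1]
  exact h1.trans (List.toFinset_card_le L)

/-! ### the subgroups -/

/-- `E = ⟨a², b², u, f⟩` -/
def subE (h : Conf128 S P1 a b u f s x) : Subgroup G :=
  sub h isE isE_zero (fun m hm hm1 n hn hn1 => (isE_mul m hm hm1 n hn hn1).1)

/-- `M = ⟨a, b, u, s⟩` -/
def subM (h : Conf128 S P1 a b u f s x) : Subgroup G := sub h isM isM_zero isM_mul

/-- `Q1 = ⟨a, b, u, f⟩` -/
def subQ (h : Conf128 S P1 a b u f s x) : Subgroup G := sub h isQ isQ_zero isQ_mul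

/-- `⟨a, b, u⟩` -/
def subWu (h : Conf128 S P1 a b u f s x) : Subgroup G := sub h isWu isWu_zero isWu_mul

theorem card_E (h : Conf128 S P1 a b u f s x) : Nat.card (subE h) = 16 := by
  rw [subE, card_sub]
  decide +kernel

theorem E_comm (h : Conf128 S P1 a b u f s x) :
    ∀ g ∈ subE h, ∀ k ∈ subE h, g * k = k * g := by
  rintro _ ⟨m, hm1, hm2, rfl⟩ _ ⟨n, hn1, hn2, rfl⟩
  rw [← psi_mul h, ← psi_mul h, (isE_mul m hm1 hm2 n hn1 hn2).2.1]

theorem E_sq (h : Conf128 S P1 a b u f s x) : ∀ g ∈ subE h, g * g = 1 := by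
  rintro _ ⟨m, hm1, hm2, rfl⟩
  rw [← psi_mul h, (isE_mul m hm1 hm2 m hm1 hm2).2.2, psi_zero]

theorem E_le (h : Conf128 S P1 a b u f s x) : subE h ≤ S := sub_le h

theorem M_le (h : Conf128 S P1 a b u f s x) : subM h ≤ S := sub_le h

theorem f_mem_E (h : Conf128 S P1 a b u f s x) : f ∈ subE h := ⟨32, by norm_num, rfl, psi_f _ _ _ _ _⟩

theorem u_mem_E (h : Conf128 S P1 a b u f s x) : u ∈ subE h := ⟨16, by norm_num, rfl, psi_u _ _ _ _ _⟩

set_option maxRecDepth 100000 in
theorem isM_f : ∀ m < 128, isM (mul m 32) = !isM m := by decide +kernel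

theorem relIndex_M (h : Conf128 S P1 a b u f s x) : (subM h).relIndex S = 2 := by
  have hf : f ∈ S := E_le h (f_mem_E h)
  rw [relIndex, index_eq_two_iff]
  refine ⟨⟨f, hf⟩, ?_⟩
  rintro ⟨g, hg⟩
  obtain ⟨n, hn, rfl⟩ := exists_psi h hg
  have h1 : psi a b u f s n * f = psi a b u f s (mul n 32) := by rw [psi_mul h, psi_f]
  have h2 : (⟨psi a b u f s n, hg⟩ * ⟨f, hf⟩ : S) ∈ (subM h).subgroupOf S ↔
      isM (mul n 32) = true := by
    rw [mem_subgroupOf]
    simp only [coe_mul, h1]
    exact psi_mem_sub h (mul_lt _ _)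
  have h3 : (⟨psi a b u f s n, hg⟩ : S) ∈ (subM h).subgroupOf S ↔ isM n = true := by
    rw [mem_subgroupOf]
    exact psi_mem_sub h hn
  rw [h2, h3, isM_f n hn]
  cases isM n <;> simp

/-- `E` is the only elementary abelian subgroup of order 16 of `S`. -/
theorem eq_E (h : Conf128 S P1 a b u f s x) {F : Subgroup G} (hF : F ≤ S)
    (hc : ∀ g ∈ F, ∀ k ∈ F, g * k = k * g) (hs : ∀ g ∈ F, g * g = 1) (hcard : Nat.card F = 16) :
    F = subE h := by
  have hfin : Finite S := Nat.finite_of_card_ne_zero (by rw [h.card]; norm_num)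
  have hfE : Finite (subE h) := Nat.finite_of_card_ne_zero (by rw [card_E h]; norm_num)
  have hle : F ≤ subE h := by
    intro g hg
    obtain ⟨m, hm, rfl⟩ := exists_psi h (hF hg)
    by_contra hcon
    have h1 : isE m = false := by
      by_contra h2
      exact hcon ((psi_mem_sub h hm).mpr (by simpa using h2))
    have hmm : mul m m = 0 := by
      apply psi_inj h (mul_lt _ _) (by norm_num : 0 < 128)
      rw [psi_mul h, psi_zero]
      exact hs _ hg
    have h2 := few m hm hmm h1
    have h3 := card_le F ((List.range 128).filter (fun n => mul n n == 0 && mul m n == mul n m))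
      (fun k hk => by
        obtain ⟨n, hn, rfl⟩ := exists_psi h (hF hk)
        refine ⟨n, ?_, rfl⟩
        rw [List.mem_filter]
        refine ⟨List.mem_range.mpr hn, ?_⟩
        have e1 : mul n n = 0 := by
          apply psi_inj h (mul_lt _ _) (by norm_num : 0 < 128)
          rw [psi_mul h, psi_zero]
          exact hs _ hk
        have e2 : mul m n = mul n m := by
          apply psi_inj h (mul_lt _ _) (mul_lt _ _)
          rw [psi_mul h, psi_mul h]
          exact hc _ hg _ hk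
        simp [e1, e2])
    omega
  exact eq_of_le_of_card_ge hle (by rw [hcard, card_E h])

theorem E_cent (h : Conf128 S P1 a b u f s x) {g : G} (hg : g ∈ S) (hc : g * f = f * g) :
    g ∈ subE h := by
  obtain ⟨n, hn, rfl⟩ := exists_psi h hg
  refine ⟨n, hn, isE_cent n hn ?_, rfl⟩
  apply psi_inj h (mul_lt _ _) (mul_lt _ _)
  rw [psi_mul h, psi_mul h, psi_f]
  exact hc

theorem S_le_normalizer_E (h : Conf128 S P1 a b u f s x) :
    S ≤ normalizer (subE h : Set G) := by
  have key : ∀ g ∈ S, ∀ k ∈ subE h, g * k * g⁻¹ ∈ subE h := by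
    intro g hg k hk
    obtain ⟨m, hm, rfl⟩ := exists_psi h hg
    obtain ⟨n, hn, hn1, rfl⟩ := hk
    rw [← psi_inv h hm, ← psi_mul h, ← psi_mul h]
    exact ⟨_, mul_lt _ _, isE_conj m hm n hn hn1, rfl⟩
  intro g hg
  refine mem_normalizer_iff.mpr fun k => ⟨key g hg k, fun hk => ?_⟩
  have h1 := key g⁻¹ (inv_mem hg) _ hk
  have e : g⁻¹ * (g * k * g⁻¹) * g⁻¹⁻¹ = k := by group
  rwa [e] at h1

end

end Cfsg.Agent.SectRankFour.C2.FinAut
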