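import Mathlib
import Cfsg.Agent.SectRankFour.C2.FinAutModel
import Cfsg.Agent.SylowSp4.ExtTransfer
import Cfsg.Agent.Lib.KleinOrder
import Cfsg.Agent.Transfer.ElemAbAut
import Cfsg.Agent.Lib.HallHigman

/-!
# S0517, two maximal 2-locals, rank 4: the configuration of order 128 does not occur

`G` simple, of characteristic 2 type with solvable 2-locals, `S` a Sylow 2-subgroup,
`Conf128 S P1 a b u f s x`. Then `False`.

`E = ⟨a², b², u, f⟩` is the only elementary abelian subgroup of order 16 of `S`. By the extremal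
Thompson transfer lemma some `g` takes `f` into `M = ⟨a, b, u, s⟩` and `E` into `S`, hence normalises
`E`. For `N = N_G(E)` one has `O₂(N) = Q1 = ⟨a, b, u, f⟩` (else `N/E` is a solvable subgroup of `L₄(2)`
with `O₂(N/E) = 1` containing `A₄`, impossible), so `N` normalises the subgroup generated by the
involutions of `Q1` outside `E`, which is `⟨a, b, u⟩`. It contains `E ∩ M`, but not `f`.
-/

set_option autoImplicit false

namespace Cfsg.Agent.SectRankFour.C2.FinAut

open Subgroup Cfsg Cfsg.Agent.ZN Cfsg.Agent.SectRankFour.C2.Defs Cfsg.Agent.MinSimple.Basic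
open Cfsg.Agent.MinSimple.VModule (le_o2 o2_le_of_sylow o2_le o2_isPGroup le_normalizer_o2)

/-- A solvable group of order dividing `20160 = |L₄(2)|` with `O₂ = 1` contains no four-group whose
involutions are permuted by an element. -/
theorem no_fourGroup {X : Type*} [Group X] [Finite X] (hX : Group.IsSolvable X)
    (ho : pCore 2 X = ⊥) (hcard : Nat.card X ∣ 20160) {A B Y : X} (hA : A * A = 1)
    (hB : B * B = 1) (hA1 : A ≠ 1) (hAB : A * B = B * A) (hYA : Y * A * Y⁻¹ = B)
    (hYB : Y * B * Y⁻¹ = A * B) : False := by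
  have hf : Fact (Nat.Prime 2) := ⟨Nat.prime_two⟩
  set K : Subgroup X := pPrimeCore 2 X with hK
  have hKn : K.Normal := Lib.Cores.pPrimeCore_normal 2
  have hodd : Odd (Nat.card K) := Nat.coprime_two_right.mp (Lib.Cores.pPrimeCore_coprime 2)
  have hcent : centralizer (K : Set X) ≤ K := by
    have h2 : fittingSubgroup X ≤ pPrimeCore 2 X := by
      rw [Lib.Cores.fittingSubgroup_eq_iSup_pCore]
      refine iSup_le fun p => ?_
      have hp : Fact (p : ℕ).Prime := ⟨p.2⟩
      by_cases hp2 : (p : ℕ) = 2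
      · rw [hp2, ho]
        exact bot_le
      · refine Lib.Cores.le_pPrimeCore (Lib.Cores.pCore_normal _) ?_
        obtain ⟨n, hn⟩ := IsPGroup.iff_card.mp (Lib.Cores.pCore_isPGroup (G := X) (p : ℕ))
        rw [hn]
        exact Nat.Coprime.pow_left n ((Nat.coprime_primes p.2 Nat.prime_two).mpr hp2)
    intro g hg
    exact h2 (Cfsg.Agent.S0044.result (centralizer_le h2 hg))
  have hconj : ∀ g : X, ∀ k ∈ K, g * k * g⁻¹ ∈ K := fun g k hk => hKn.conj_mem k hk g
  have hform := Lib.KleinOrder.card_klein K hodd hA hB hAB (hconj A) (hconj B)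
  -- conjugate elements have centralizers of the same order in `K`
  have hcc : ∀ v w : X, Y * v * Y⁻¹ = w →
      Nat.card (K ⊓ centralizer {v} : Subgroup X) = Nat.card (K ⊓ centralizer {w} : Subgroup X) := by
    intro v w hvw
    have h1 : (K ⊓ centralizer {v} : Subgroup X).map (MulAut.conj Y).toMonoidHom =
        K ⊓ centralizer {w} := by
      ext g
      simp only [mem_map, mem_inf, mem_centralizer_singleton_iff, MulEquiv.coe_toMonoidHom,
        MulAut.conj_apply]
      constructor
      · rintro ⟨k, ⟨hk1, hk2⟩, rfl⟩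
        refine ⟨hconj Y k hk1, ?_⟩
        rw [← hvw]
        calc Y * k * Y⁻¹ * (Y * v * Y⁻¹) = Y * (k * v) * Y⁻¹ := by group
          _ = Y * (v * k) * Y⁻¹ := by rw [hk2]
          _ = _ := by group
      · rintro ⟨hg1, hg2⟩
        refine ⟨Y⁻¹ * g * Y, ⟨?_, ?_⟩, by group⟩
        · have := hconj Y⁻¹ g hg1
          rwa [inv_inv] at this
        · rw [← hvw] at hg2
          calc Y⁻¹ * g * Y * v = Y⁻¹ * (g * (Y * v * Y⁻¹)) * Y := by group
            _ = Y⁻¹ * (Y * v * Y⁻¹ * g) * Y := by rw [hg2]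
            _ = _ := by group
    rw [← h1, card_map_of_injective (MulAut.conj Y).injective]
  have e1 := hcc A B hYA
  have e2 := hcc B (A * B) hYB
  rw [← e2, ← e1] at hform
  -- the orders
  set k := Nat.card K with hk
  set c := Nat.card (K ⊓ centralizer {A} ⊓ centralizer {B} : Subgroup X) with hc
  set d := Nat.card (K ⊓ centralizer {A} : Subgroup X) with hd
  have hkd : k ∣ 315 := by
    have h1 : k ∣ 20160 := (card_subgroup_dvd_card K).trans hcard
    have h2 : (20160 : ℕ) = 2 ^ 6 * 315 := by norm_num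
    rw [h2] at h1
    exact (Nat.Coprime.pow_right 6 (Nat.coprime_two_right.mpr hodd)).dvd_of_dvd_mul_left h1
  have hck : c ∣ k := card_dvd_of_le (inf_le_left.trans inf_le_left)
  have hdk : d ∣ k := card_dvd_of_le inf_le_left
  have hcd : c ∣ d := card_dvd_of_le inf_le_left
  have hck' : d = k := by
    have hdec : ∀ k ∈ Nat.divisors 315, ∀ c ∈ Nat.divisors k, ∀ d ∈ Nat.divisors k,
        k * c ^ 2 = d * d * d → d = k := by decide +kernel
    have hk0 : k ≠ 0 := Nat.pos_iff_ne_zero.mp (Nat.pos_of_dvd_of_pos hkd (by norm_num))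
    exact hdec k (Nat.mem_divisors.mpr ⟨hkd, by norm_num⟩) c (Nat.mem_divisors.mpr ⟨hck, hk0⟩)
      d (Nat.mem_divisors.mpr ⟨hdk, hk0⟩) hform
  have h3 : K ⊓ centralizer {A} = K := eq_of_le_of_card_ge inf_le_left (by rw [← hd, hck'])
  have h4 : A ∈ K := by
    apply hcent
    rw [mem_centralizer_iff]
    intro g hg
    have h5 : g ∈ K ⊓ centralizer {A} := by rw [h3]; exact hg
    exact mem_centralizer_singleton_iff.mp h5.2
  have h5 : orderOf A = 2 := orderOf_eq_prime (by rw [pow_two]; exact hA) hA1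
  have h6 : orderOf A ∣ Nat.card K := by
    have := orderOf_dvd_natCard (⟨A, h4⟩ : K)
    rwa [orderOf_mk] at this
  rw [h5] at h6
  exact (Nat.not_even_iff_odd.mpr hodd) (even_iff_two_dvd.mpr h6)


variable {G : Type*} [Group G]

theorem normalizer_le_normalizer_map (H : Subgroup G) (C : Subgroup H) (hC : C.Characteristic) :
    normalizer (H : Set G) ≤ normalizer ((C.map H.subtype : Subgroup G) : Set G) := by
  intro g hg
  let e : MulAut H := H.normalizerMonoidHom ⟨g, hg⟩
  have h1 : C.map e.toMonoidHom = C := (Subgroup.characteristic_iff_map_eq.1 hC) e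
  refine Subgroup.mem_normalizer_iff_map_conj_eq.2 ?_
  have h2 : (MulAut.conj g : G →* G).comp H.subtype = H.subtype.comp e.toMonoidHom := by
    ext x
    rfl
  rw [Subgroup.map_map, h2, ← Subgroup.map_map, h1]

theorem le_normalizer_of_conj {X A : Subgroup G} (h : ∀ x ∈ X, ∀ a ∈ A, x * a * x⁻¹ ∈ A) :
    X ≤ normalizer (A : Set G) := by
  intro x hx
  refine mem_normalizer_iff.mpr fun k => ⟨h x hx k, fun hk => ?_⟩
  have h1 := h x⁻¹ (inv_mem hx) _ hk
  have e : x⁻¹ * (x * k * x⁻¹) * x⁻¹⁻¹ = k := by group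
  rwa [e] at h1

section conf

variable {S P1 : Subgroup G} {a b u f s x : G}

theorem aa_mem (h : Conf128 S P1 a b u f s x) : a ^ 2 ∈ subE h :=
  ⟨2, by norm_num, by decide, by simp [psi, phi, dec]⟩

theorem bb_mem (h : Conf128 S P1 a b u f s x) : b ^ 2 ∈ subE h :=
  ⟨8, by norm_num, by decide, by simp [psi, phi, dec]⟩

theorem a_notMem_E (h : Conf128 S P1 a b u f s x) : a ∉ subE h := by
  rintro ⟨n, hn, hn1, hn2⟩
  have h2 : n = 1 := psi_inj h hn (by norm_num) (hn2.trans (psi_a a b u f s).symm)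
  rw [h2] at hn1
  exact absurd hn1 (by decide)

/-- conjugation by `x` of a word in `a, b, u, f` -/
theorem conj_word (h : Conf128 S P1 a b u f s x) (i j k l : ℕ) :
    x * (a ^ i * b ^ j * u ^ k * f ^ l) * x⁻¹ = b ^ i * (a⁻¹ * b⁻¹) ^ j * u ^ k * f ^ l := by
  have h1 : ∀ g : G, x * g * x⁻¹ = MulAut.conj x g := fun g => rfl
  have e1 : MulAut.conj x a = b := h.xa
  have e2 : MulAut.conj x b = a⁻¹ * b⁻¹ := h.xb
  have e3 : MulAut.conj x u = u := by rw [MulAut.conj_apply, h.xu]; group
  have e4 : MulAut.conj x f = f := by rw [MulAut.conj_apply, h.xf]; group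
  rw [h1]
  simp only [map_mul, map_pow, e1, e2, e3, e4]

theorem x_inv (h : Conf128 S P1 a b u f s x) : x⁻¹ = x * x := by
  rw [inv_eq_iff_mul_eq_one, ← pow_two, ← pow_succ']
  exact h.x3

theorem ab_inv_sq (h : Conf128 S P1 a b u f s x) : (a⁻¹ * b⁻¹) ^ 2 = (a ^ 2)⁻¹ * (b ^ 2)⁻¹ := by
  have hab : Commute a b := h.ab
  rw [hab.inv_inv.mul_pow, inv_pow, inv_pow]

theorem x_mem_normalizer (h : Conf128 S P1 a b u f s x) : x ∈ normalizer (subE h : Set G) := by
  have key : ∀ e ∈ subE h, x * e * x⁻¹ ∈ subE h := by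
    rintro _ ⟨n, hn, hn1, rfl⟩
    simp only [isE, Bool.and_eq_true, beq_iff_eq] at hn1
    obtain ⟨⟨h1, h2⟩, h3⟩ := hn1
    have e1 : n % 4 = 2 * (n % 4 / 2) := by omega
    have e2 : n / 4 % 4 = 2 * (n / 4 % 4 / 2) := by omega
    have e3 : psi a b u f s n = a ^ (n % 4) * b ^ (n / 4 % 4) * u ^ (n / 16 % 2) *
        f ^ (n / 32 % 2) := by
      simp only [psi, phi, dec, h3, pow_zero, mul_one]
    rw [e3, conj_word h, e1, e2, pow_mul, pow_mul, ab_inv_sq h]
    exact mul_mem (mul_mem (mul_mem (pow_mem (bb_mem h) _)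
      (pow_mem (mul_mem (inv_mem (aa_mem h)) (inv_mem (bb_mem h))) _)) (pow_mem (u_mem_E h) _))
      (pow_mem (f_mem_E h) _)
  refine mem_normalizer_iff.mpr fun k => ⟨key k, fun hk => ?_⟩
  have h1 := key _ (key _ hk)
  have e : x * (x * (x * k * x⁻¹) * x⁻¹) * x⁻¹ = k := by
    have h2 : x * (x * (x * k * x⁻¹) * x⁻¹) * x⁻¹ = (x * x * x) * k * (x * x * x)⁻¹ := by group
    have h3 : x * x * x = 1 := by rw [← h.x3]; simp only [pow_succ, pow_zero, one_mul]
    rw [h2, h3]; group
  rwa [e] at h1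

theorem a_ne_b (h : Conf128 S P1 a b u f s x) : a ≠ b := by
  intro hab
  have h1 : psi a b u f s 1 = psi a b u f s 4 := by rw [psi_a, psi_b, hab]
  exact absurd (psi_inj h (by norm_num) (by norm_num) h1) (by norm_num)

theorem x_notMem (h : Conf128 S P1 a b u f s x) : x ∉ S := by
  intro hx
  have h1 : x ^ 128 = 1 := by
    have := pow_card_eq_one' (x := (⟨x, hx⟩ : S))
    rw [h.card] at this
    exact congrArg Subtype.val this
  have h2 : x ^ 2 = 1 := by
    have e : x ^ 128 = (x ^ 3) ^ 42 * x ^ 2 := by rw [← pow_mul, ← pow_add]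
    rw [e, h.x3, one_pow, one_mul] at h1
    exact h1
  have h3 : x = 1 := by
    have e : x ^ 3 = x ^ 2 * x := pow_succ x 2
    rw [h.x3, h2, one_mul] at e
    exact e.symm
  have h4 := h.xa
  rw [h3] at h4
  exact a_ne_b h (by simpa using h4)

theorem x_s (h : Conf128 S P1 a b u f s x) : x * s * x⁻¹ = s * x := by
  have h1 : s * x = x⁻¹ * s := by rw [← h.sx]; group
  have h2 : x⁻¹ = x * x := x_inv h
  calc x * s * x⁻¹ = x * (s * x) * x := by rw [h2]; group
    _ = x * (x⁻¹ * s) * x := by rw [h1]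
    _ = s * x := by group

/-- A 2-group between `E` and `S` normalised by `x` is `E` or `⟨a, b, u, f⟩`. -/
theorem eq_or_eq (h : Conf128 S P1 a b u f s x) {U : Subgroup G} (hEU : subE h ≤ U) (hUS : U ≤ S)
    (hx : ∀ g ∈ U, x * g * x⁻¹ ∈ U) : U = subE h ∨ U = subQ h := by
  have haS : a ∈ S := by rw [h.eqS]; exact subset_closure (by simp)
  have hbS : b ∈ S := by rw [h.eqS]; exact subset_closure (by simp)
  have huS : u ∈ S := by rw [h.eqS]; exact subset_closure (by simp)
  have hfS : f ∈ S := by rw [h.eqS]; exact subset_closure (by simp)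
  have hsS : s ∈ S := by rw [h.eqS]; exact subset_closure (by simp)
  have hUQ : U ≤ subQ h := by
    intro g hg
    obtain ⟨n, hn, rfl⟩ := exists_psi h (hUS hg)
    refine ⟨n, hn, ?_, rfl⟩
    by_contra hcon
    have h64 : n / 64 % 2 = 1 := by
      simp only [isQ, beq_iff_eq] at hcon
      omega
    have e3 : psi a b u f s n = (a ^ (n % 4) * b ^ (n / 4 % 4) * u ^ (n / 16 % 2) *
        f ^ (n / 32 % 2)) * s := by
      simp only [psi, phi, dec, h64, pow_one]
    have h1 := hUS (hx _ hg)
    have h2 : x * psi a b u f s n * x⁻¹ = (b ^ (n % 4) * (a⁻¹ * b⁻¹) ^ (n / 4 % 4) *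
        u ^ (n / 16 % 2) * f ^ (n / 32 % 2)) * (s * x) := by
      rw [e3, ← conj_word h, ← x_s h]; group
    rw [h2] at h1
    have h3 : b ^ (n % 4) * (a⁻¹ * b⁻¹) ^ (n / 4 % 4) * u ^ (n / 16 % 2) *
        f ^ (n / 32 % 2) ∈ S :=
      mul_mem (mul_mem (mul_mem (pow_mem hbS _) (pow_mem (mul_mem (inv_mem haS) (inv_mem hbS)) _))
        (pow_mem huS _)) (pow_mem hfS _)
    exact x_notMem h ((S.mul_mem_cancel_left hsS).mp ((S.mul_mem_cancel_left h3).mp h1))
  by_cases hE : U ≤ subE h
  · exact Or.inl (le_antisymm hE hEU)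
  right
  refine le_antisymm hUQ ?_
  obtain ⟨g, hg, hgE⟩ := SetLike.not_le_iff_exists.mp hE
  obtain ⟨n, hn, hn1, rfl⟩ := hUQ hg
  have haU2 : a ^ 2 ∈ U := hEU (aa_mem h)
  have hbU2 : b ^ 2 ∈ U := hEU (bb_mem h)
  have huU : u ∈ U := hEU (u_mem_E h)
  have hfU : f ∈ U := hEU (f_mem_E h)
  have hw : a ^ (n % 4) * b ^ (n / 4 % 4) ∈ U := by
    simp only [isQ, beq_iff_eq] at hn1
    have e3 : psi a b u f s n = a ^ (n % 4) * b ^ (n / 4 % 4) * u ^ (n / 16 % 2) *
        f ^ (n / 32 % 2) := by
      simp only [psi, phi, dec, hn1, pow_zero, mul_one]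
    rw [e3] at hg
    exact (U.mul_mem_cancel_right (pow_mem huU _)).mp
      ((U.mul_mem_cancel_right (pow_mem hfU _)).mp hg)
  have hpar : n % 4 % 2 = 1 ∨ n / 4 % 4 % 2 = 1 := by
    by_contra hcon
    apply hgE
    refine ⟨n, hn, ?_, rfl⟩
    simp only [isQ, beq_iff_eq] at hn1
    simp only [isE, Bool.and_eq_true, beq_iff_eq]
    omega
  have hred : ∀ g : G, g ^ 2 ∈ U → ∀ i : ℕ, g ^ i = (g ^ 2) ^ (i / 2) * g ^ (i % 2) := by
    intro g _ i
    rw [← pow_mul, ← pow_add, Nat.div_add_mod]
  have hw2 : a ^ (n % 4 % 2) * b ^ (n / 4 % 4 % 2) ∈ U := by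
    rw [hred a haU2, hred b hbU2] at hw
    have hab : Commute a b := h.ab
    have e : (a ^ 2) ^ (n % 4 / 2) * a ^ (n % 4 % 2) *
        ((b ^ 2) ^ (n / 4 % 4 / 2) * b ^ (n / 4 % 4 % 2)) =
        ((a ^ 2) ^ (n % 4 / 2) * (b ^ 2) ^ (n / 4 % 4 / 2)) *
          (a ^ (n % 4 % 2) * b ^ (n / 4 % 4 % 2)) := by
      have hc : a ^ (n % 4 % 2) * (b ^ 2) ^ (n / 4 % 4 / 2) =
          (b ^ 2) ^ (n / 4 % 4 / 2) * a ^ (n % 4 % 2) :=
        ((hab.pow_left _).pow_right 2).pow_right _
      calc _ = (a ^ 2) ^ (n % 4 / 2) * (a ^ (n % 4 % 2) * (b ^ 2) ^ (n / 4 % 4 / 2)) *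
            b ^ (n / 4 % 4 % 2) := by simp only [mul_assoc]
        _ = _ := by rw [hc]; simp only [mul_assoc]
    rw [e] at hw
    exact (U.mul_mem_cancel_left (mul_mem (pow_mem haU2 _) (pow_mem hbU2 _))).mp hw
  have haU : a ∈ U := by
    have c1 : n % 4 % 2 = 0 ∨ n % 4 % 2 = 1 := by omega
    have c2 : n / 4 % 4 % 2 = 0 ∨ n / 4 % 4 % 2 = 1 := by omega
    rcases c1 with c1 | c1 <;> rcases c2 with c2 | c2
    · omega
    · rw [c1, c2, pow_zero, pow_one, one_mul] at hw2
      have h1 := hx _ hw2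
      rw [h.xb] at h1
      have h2 := (U.mul_mem_cancel_right (inv_mem hw2)).mp h1
      simpa using inv_mem h2
    · rw [c1, c2, pow_zero, pow_one, mul_one] at hw2
      exact hw2
    · rw [c1, c2, pow_one, pow_one] at hw2
      have h1 := hx _ hw2
      have e : x * (a * b) * x⁻¹ = a⁻¹ := by
        calc x * (a * b) * x⁻¹ = (x * a * x⁻¹) * (x * b * x⁻¹) := by group
          _ = b * (a⁻¹ * b⁻¹) := by rw [h.xa, h.xb]
          _ = b * (b * a)⁻¹ := by rw [mul_inv_rev]
          _ = b * (a * b)⁻¹ := by rw [h.ab]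
          _ = a⁻¹ := by group
      rw [e] at h1
      simpa using inv_mem h1
  have hbU : b ∈ U := by
    have h1 := hx _ haU
    rwa [h.xa] at h1
  rintro _ ⟨m, hm, hm1, rfl⟩
  simp only [isQ, beq_iff_eq] at hm1
  have e3 : psi a b u f s m = a ^ (m % 4) * b ^ (m / 4 % 4) * u ^ (m / 16 % 2) *
      f ^ (m / 32 % 2) := by
    simp only [psi, phi, dec, hm1, pow_zero, mul_one]
  rw [e3]
  exact mul_mem (mul_mem (mul_mem (pow_mem haU _) (pow_mem hbU _)) (pow_mem huU _)) (pow_mem hfU _)

theorem f_notMem_Wu (h : Conf128 S P1 a b u f s x) : f ∉ subWu h := by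
  rintro ⟨n, hn, hn1, hn2⟩
  have h2 : n = 32 := psi_inj h hn (by norm_num) (hn2.trans (psi_f a b u f s).symm)
  rw [h2] at hn1
  exact absurd hn1 (by decide)

/-- the subgroup generated by the involutions of `Q1` outside `E` -/
def invQ (h : Conf128 S P1 a b u f s x) : Subgroup G :=
  closure {g | g ∈ subQ h ∧ g ∉ subE h ∧ g * g = 1}

theorem invQ_le (h : Conf128 S P1 a b u f s x) : invQ h ≤ subWu h := by
  rw [invQ, closure_le]
  rintro g ⟨⟨n, hn, hn1, rfl⟩, h2, h3⟩
  refine ⟨n, hn, isQ_invol n hn hn1 ?_ ?_, rfl⟩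
  · apply psi_inj h (mul_lt _ _) (by norm_num : 0 < 128)
    rw [psi_mul h, psi_zero]
    exact h3
  · by_contra h4
    exact h2 ⟨n, hn, by simpa using h4, rfl⟩

theorem inf_le_invQ (h : Conf128 S P1 a b u f s x) : subE h ⊓ subM h ≤ invQ h := by
  have key : ∀ n : ℕ, n < 128 → isQ n = true → isE n = false → mul n n = 0 →
      psi a b u f s n ∈ invQ h := by
    intro n hn h1 h2 h3
    refine subset_closure ⟨⟨n, hn, h1, rfl⟩, ?_, ?_⟩
    · intro h4
      have := (psi_mem_sub h hn).mp h4
      rw [h2] at this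
      exact absurd this (by decide)
    · rw [← psi_mul h, h3, psi_zero]
  have k1 := key 17 (by norm_num) (by decide) (by decide) (by decide +kernel)
  have k2 := key 19 (by norm_num) (by decide) (by decide) (by decide +kernel)
  have k3 := key 20 (by norm_num) (by decide) (by decide) (by decide +kernel)
  have k4 := key 28 (by norm_num) (by decide) (by decide) (by decide +kernel)
  have k5 := key 23 (by norm_num) (by decide) (by decide) (by decide +kernel)
  have haa : a ^ 2 ∈ invQ h := by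
    have h1 := mul_mem k1 k2
    rw [← psi_mul h] at h1
    have e : psi a b u f s (mul 17 19) = a ^ 2 := by
      have : mul 17 19 = 2 := by decide +kernel
      rw [this]; simp [psi, phi, dec]
    rwa [e] at h1
  have hbb : b ^ 2 ∈ invQ h := by
    have h1 := mul_mem k3 k4
    rw [← psi_mul h] at h1
    have e : psi a b u f s (mul 20 28) = b ^ 2 := by
      have : mul 20 28 = 8 := by decide +kernel
      rw [this]; simp [psi, phi, dec]
    rwa [e] at h1
  have huu : u ∈ invQ h := by
    have h1 := mul_mem (mul_mem k1 k3) k5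
    rw [← psi_mul h, ← psi_mul h] at h1
    have e : mul (mul 17 20) 23 = 16 := by decide +kernel
    rwa [e, psi_u] at h1
  rintro g ⟨⟨n, hn, hn1, rfl⟩, hg2⟩
  have hM := (psi_mem_sub h hn).mp hg2
  simp only [isE, Bool.and_eq_true, beq_iff_eq] at hn1
  simp only [isM, beq_iff_eq] at hM
  obtain ⟨⟨h1, h2⟩, h3⟩ := hn1
  have e1 : n % 4 = 2 * (n % 4 / 2) := by omega
  have e2 : n / 4 % 4 = 2 * (n / 4 % 4 / 2) := by omega
  have e3 : psi a b u f s n = a ^ (n % 4) * b ^ (n / 4 % 4) * u ^ (n / 16 % 2) := by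
    simp only [psi, phi, dec, h3, hM, pow_zero, mul_one]
  rw [e3, e1, e2, pow_mul, pow_mul]
  exact mul_mem (mul_mem (pow_mem haa _) (pow_mem hbb _)) (pow_mem huu _)

end conf

/-- The configuration of order 128 does not occur in a finite simple group of characteristic 2 type whose
2-local subgroups are solvable (no hypothesis on the sectional 2-rank). -/
theorem false_of_simple [Finite G] (hsimple : IsSimpleGroup G)
    (hL : ∀ N : Subgroup G, IsTwoLocal N → Group.IsSolvable N) (hc : IsCharacteristicTwoType G)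
    {S P1 : Subgroup G} {a b u f s x : G}
    (T : Sylow 2 G) (hT : (T : Subgroup G) = S) (h : Conf128 S P1 a b u f s x) : False := by
  have hf2 : Fact (Nat.Prime 2) := ⟨Nat.prime_two⟩
  set E := subE h with hE
  set N := normalizer (E : Set G) with hN
  have hE1 : E ≠ ⊥ := by
    intro h1
    have h2 := card_E h
    rw [← hE, h1, card_bot] at h2
    exact absurd h2 (by norm_num)
  have hEp : IsPGroup 2 E := IsPGroup.of_card (n := 4) (by rw [hE, card_E h]; norm_num)
  have hSp : IsPGroup 2 S := IsPGroup.of_card (n := 7) (by rw [h.card]; norm_num)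
  have hSN : S ≤ N := S_le_normalizer_E h
  have hSs : ¬ 2 ∣ S.relIndex N := by
    rw [← hT]
    exact not_dvd_relIndex T (by rw [hT]; exact hSN)
  have hsolv : Group.IsSolvable N := solvable_of_le hL hEp hE1 le_rfl
  have hchar2 : N ⊓ centralizer (o2 N : Set G) ≤ o2 N := char2_normalizer hc hEp hE1
  have hEc : E ≤ centralizer (E : Set G) := fun g hg =>
    mem_centralizer_iff.mpr fun k hk => (E_comm h k hk g hg)
  have hEN : E ≤ N := le_normalizer
  have hEo : E ≤ o2 N := le_o2 hEN hEp le_rfl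
  have hoS : o2 N ≤ S := o2_le_of_sylow hSp hSs
  -- `C_G(E) = E`
  set C := centralizer (E : Set G) with hC
  have hCN : C ≤ N := centralizer_le_normalizer (E : Set G)
  have hNC : N ≤ normalizer (C : Set G) := by
    apply le_normalizer_of_conj
    intro g hg c hc
    rw [hC, mem_centralizer_iff]
    intro e he
    have h1 : g⁻¹ * e * g ∈ E := by
      have h2 := (mem_normalizer_iff.mp (inv_mem hg) e).mp he
      rwa [inv_inv] at h2
    have h2 := mem_centralizer_iff.mp hc _ h1
    calc e * (g * c * g⁻¹) = g * ((g⁻¹ * e * g) * c) * g⁻¹ := by group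
      _ = g * (c * (g⁻¹ * e * g)) * g⁻¹ := by rw [h2]
      _ = g * c * g⁻¹ * e := by group
  have hCE : C = E := by
    have h1 : oc C = ⊥ := by
      refine eq_bot_of_odd hchar2 ((oc_le C).trans hCN) ?_ (odd_card_oc C)
      exact hNC.trans (normalizer_le_normalizer_map C _ (Lib.Cores.pPrimeCore_characteristic 2))
    have h2 : o2 C ≤ E := by
      have h3 : o2 C ≤ o2 N := le_o2 ((o2_le C).trans hCN) (o2_isPGroup C)
        (hNC.trans (normalizer_le_normalizer_map C _ (Lib.Cores.pCore_characteristic 2)))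
      intro g hg
      refine E_cent h (hoS (h3 hg)) ?_
      exact (mem_centralizer_iff.mp (o2_le C hg) f (f_mem_E h)).symm
    have hCs : Group.IsSolvable C := solvable_of_le hL hEp hE1 hCN
    have h4 := char2_of_oc_eq_bot hCs h1
    refine le_antisymm (fun c hc => h2 (h4 ⟨hc, mem_centralizer_iff.mpr fun e he => ?_⟩)) hEc
    exact mem_centralizer_iff.mp hc e (h2 he)
  -- `O₂(N) = Q1`
  have hxN : x ∈ N := x_mem_normalizer h
  have hoN : ∀ g ∈ N, ∀ k ∈ o2 N, g * k * g⁻¹ ∈ o2 N := fun g hg k hk =>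
    (mem_normalizer_iff.mp (le_normalizer_o2 N hg) k).mp hk
  have haS : a ∈ S := by rw [h.eqS]; exact subset_closure (by simp)
  have hbS : b ∈ S := by rw [h.eqS]; exact subset_closure (by simp)
  have hoQ : o2 N = subQ h := by
    rcases eq_or_eq h hEo hoS (hoN x hxN) with ho | ho
    · exfalso
      let θ : N →* MulAut E := E.normalizerMonoidHom
      have hker : θ.ker = E.subgroupOf N := by
        have h1 : θ.ker = C.subgroupOf N := normalizerMonoidHom_ker E
        rw [h1, hCE]
      have hX : Group.IsSolvable θ.range :=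
        Group.isSolvable_of_surjective θ.rangeRestrict_surjective
      have hEfin : Finite E := inferInstance
      have hcard : Nat.card θ.range ∣ 20160 := by
        have h1 : Nat.card (MulAut E) = 20160 := by
          rw [Transfer.ElemAbAut.card_mulAut (T := E) 2 4
            (fun g k => Subtype.ext (E_comm h g.1 g.2 k.1 k.2))
            (fun g => Subtype.ext (by rw [pow_two]; exact E_sq h g.1 g.2))
            (by rw [hE, card_E h]; norm_num)]
          decide
        rw [← h1]
        exact card_subgroup_dvd_card _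
      have hpc : pCore 2 θ.range = ⊥ := by
        rw [eq_bot_iff]
        intro p hp
        obtain ⟨n, rfl⟩ := θ.rangeRestrict_surjective p
        have hkp : IsPGroup 2 θ.rangeRestrict.ker := by
          rw [MonoidHom.ker_rangeRestrict, hker]
          exact hEp.comap_of_injective _ N.subtype_injective
        have h1 : IsPGroup 2 ((pCore 2 θ.range).comap θ.rangeRestrict) :=
          (Lib.Cores.pCore_isPGroup 2).comap_of_ker_isPGroup _ hkp
        have hn : ((pCore 2 θ.range).comap θ.rangeRestrict).Normal := by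
          have : (pCore 2 θ.range).Normal := Lib.Cores.pCore_normal 2
          infer_instance
        have h2 : ((pCore 2 θ.range).comap θ.rangeRestrict).map N.subtype ≤ o2 N :=
          le_o2 (map_subtype_le _) (h1.map _)
            (Cfsg.Agent.MinSimple.VModule.le_normalizer_map_of_normal hn)
        have h3 : (n : G) ∈ E := by
          rw [hE, ← ho]
          exact h2 ⟨n, hp, rfl⟩
        have h4 : n ∈ θ.ker := by
          rw [hker, mem_subgroupOf]
          exact h3
        rw [mem_bot]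
        exact Subtype.ext h4
      have hker' : ∀ n : N, (n : G) ∈ E → θ.rangeRestrict n = 1 := by
        intro n hn
        apply Subtype.ext
        have h4 : n ∈ θ.ker := by
          rw [hker, mem_subgroupOf]
          exact hn
        exact h4
      let A : N := ⟨a, hSN haS⟩
      let B : N := ⟨b, hSN hbS⟩
      let Y : N := ⟨x, hxN⟩
      refine no_fourGroup hX hpc hcard (A := θ.rangeRestrict A) (B := θ.rangeRestrict B)
        (Y := θ.rangeRestrict Y) ?_ ?_ ?_ ?_ ?_ ?_
      · rw [← map_mul]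
        apply hker'
        show a * a ∈ E
        rw [← pow_two]
        exact aa_mem h
      · rw [← map_mul]
        apply hker'
        show b * b ∈ E
        rw [← pow_two]
        exact bb_mem h
      · intro h1
        have h2 : A ∈ θ.ker := congrArg Subtype.val h1
        rw [hker, mem_subgroupOf] at h2
        exact a_notMem_E h h2
      · rw [← map_mul, ← map_mul]
        exact congrArg _ (Subtype.ext h.ab)
      · rw [← map_mul, ← map_inv, ← map_mul]
        exact congrArg _ (Subtype.ext h.xa)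
      · rw [← map_mul, ← map_inv, ← map_mul, ← map_mul]
        rw [← mul_inv_eq_one, ← map_inv, ← map_mul]
        apply hker'
        show x * b * x⁻¹ * (a * b)⁻¹ ∈ E
        rw [h.xb]
        have e : a⁻¹ * b⁻¹ * (a * b)⁻¹ = (a ^ 2)⁻¹ * (b ^ 2)⁻¹ := by
          rw [← ab_inv_sq h, h.ab, pow_two, mul_inv_rev]
        rw [e]
        exact mul_mem (inv_mem (aa_mem h)) (inv_mem (bb_mem h))
    · exact ho
  -- the fusion of `f`
  have hhom : ∀ φ : G →* ℤˣ, φ f = 1 := by
    intro φ
    rcases (MonoidHom.normal_ker φ).eq_bot_or_eq_top with h1 | h1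
    · exfalso
      have h2 : Nat.card G ≤ Nat.card ℤˣ :=
        Nat.card_le_card_of_injective φ ((MonoidHom.ker_eq_bot_iff φ).mp h1)
      have h3 : Nat.card ℤˣ = 2 := by rw [Nat.card_eq_fintype_card]; rfl
      have h4 : Nat.card S ≤ Nat.card G := card_le_card_group S
      rw [h.card] at h4
      omega
    · have h2 : f ∈ φ.ker := by rw [h1]; exact mem_top f
      exact h2
  obtain ⟨g, hg1, hg2⟩ := SylowSp4.ExtTransfer.exists_extremal T (subM h) (by rw [hT]; exact M_le h)
    (by rw [hT]; exact relIndex_M h) f (by rw [← pow_two]; exact h.f2) hhom E hEp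
    (fun r hr => E_comm h r hr f (f_mem_E h))
  have hgE : E.map (MulAut.conj g).toMonoidHom = E := by
    refine eq_E h ?_ ?_ ?_ ?_
    · rintro _ ⟨e, he, rfl⟩
      have h1 : g * e * g⁻¹ ∈ (T : Subgroup G) := hg2 e he
      rwa [hT] at h1
    · rintro _ ⟨e, he, rfl⟩ _ ⟨e', he', rfl⟩
      rw [← map_mul, ← map_mul, E_comm h e he e' he']
    · rintro _ ⟨e, he, rfl⟩
      rw [← map_mul, E_sq h e he, map_one]
    · rw [card_map_of_injective (MulAut.conj g).injective, hE, card_E h]
  have hgN : g ∈ N := mem_normalizer_iff_map_conj_eq.mpr hgE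
  have hQN : ∀ k ∈ N, ∀ q ∈ invQ h, k * q * k⁻¹ ∈ invQ h := by
    intro k hk q hq
    have h1 : invQ h ≤ (invQ h).comap (MulAut.conj k).toMonoidHom := by
      conv_lhs => rw [invQ]
      rw [closure_le]
      rintro r ⟨hr1, hr2, hr3⟩
      refine subset_closure ⟨?_, ?_, ?_⟩
      · rw [← hoQ]
        exact hoN k hk r (by rw [hoQ]; exact hr1)
      · intro h2
        exact hr2 ((mem_normalizer_iff.mp hk r).mpr h2)
      · rw [← map_mul, hr3, map_one]
    exact h1 hq
  have hfin1 : g * f * g⁻¹ ∈ invQ h := inf_le_invQ h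
    ⟨(mem_normalizer_iff.mp hgN f).mp (f_mem_E h), hg1⟩
  have hfin2 := hQN g⁻¹ (inv_mem hgN) _ hfin1
  have e : g⁻¹ * (g * f * g⁻¹) * g⁻¹⁻¹ = f := by group
  rw [e] at hfin2
  exact f_notMem_Wu h (invQ_le h hfin2)

/-- The configuration of order 128 does not occur. -/
theorem false_of_conf128 [Finite G] (hG : Hyp G) {S P1 : Subgroup G} {a b u f s x : G}
    (T : Sylow 2 G) (hT : (T : Subgroup G) = S) (h : Conf128 S P1 a b u f s x) : False :=
  false_of_simple hG.simple hG.locSolv hG.char2 T hT h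

/-- `[FIN128]` of the blueprint. -/
theorem Pair.false_of_conf128 [Finite G] {S P1 P2 : Subgroup G} (hP : Pair S P1 P2)
    {a b u f s x : G} (h : Conf128 S P1 a b u f s x) : False := by
  obtain ⟨T, hT⟩ := hP.syl
  exact FinAut.false_of_conf128 hP.hyp T hT h

end Cfsg.Agent.SectRankFour.C2.FinAut
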