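import Cfsg.Agent.MinSimple.SelfCentFour
import Cfsg.Prelude.Def_CaseTheorems

set_option autoImplicit false

namespace Cfsg.Agent.SectRankFour.C2.PermFour

open Subgroup Cfsg

theorem dec1 : ∀ g : Equiv.Perm (Fin 4), g = 1 ∨ g = Equiv.swap 0 1 * Equiv.swap 2 3 ∨
    g = Equiv.swap 0 2 * Equiv.swap 1 3 ∨ g = Equiv.swap 0 3 * Equiv.swap 1 2 ∨
    ∃ x : Equiv.Perm (Fin 4), (g * (x * g * x⁻¹)) ^ 3 = 1 ∧ g * (x * g * x⁻¹) ≠ 1 := by
  decide +kernel

theorem dec2 : ∀ g : Equiv.Perm (Fin 4),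
    g * (Equiv.swap 0 1 * Equiv.swap 2 3) = (Equiv.swap 0 1 * Equiv.swap 2 3) * g →
    g * (Equiv.swap 0 2 * Equiv.swap 1 3) = (Equiv.swap 0 2 * Equiv.swap 1 3) * g →
    g = 1 ∨ g = Equiv.swap 0 1 * Equiv.swap 2 3 ∨
    g = Equiv.swap 0 2 * Equiv.swap 1 3 ∨ g = Equiv.swap 0 3 * Equiv.swap 1 2 := by
  decide +kernel

theorem dec3 : ∀ g : Equiv.Perm (Fin 4), (g = Equiv.swap 0 1 * Equiv.swap 2 3 ∨
    g = Equiv.swap 0 2 * Equiv.swap 1 3 ∨ g = Equiv.swap 0 3 * Equiv.swap 1 2) →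
    (∃ x, x * g * x⁻¹ = Equiv.swap 0 1 * Equiv.swap 2 3) ∧
    (∃ x, x * g * x⁻¹ = Equiv.swap 0 2 * Equiv.swap 1 3) ∧
    (∃ x, x * g * x⁻¹ = Equiv.swap 0 3 * Equiv.swap 1 2) := by
  decide +kernel

/-- A nontrivial normal 2-subgroup of `S₄` is the four-group. -/
theorem mem_iff {T : Subgroup (Equiv.Perm (Fin 4))} [hn : T.Normal] (h2 : IsPGroup 2 T) (h1 : T ≠ ⊥)
    (g : Equiv.Perm (Fin 4)) : g ∈ T ↔ g = 1 ∨ g = Equiv.swap 0 1 * Equiv.swap 2 3 ∨
    g = Equiv.swap 0 2 * Equiv.swap 1 3 ∨ g = Equiv.swap 0 3 * Equiv.swap 1 2 := by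
  have key : ∀ g ∈ T, g = 1 ∨ g = Equiv.swap 0 1 * Equiv.swap 2 3 ∨
      g = Equiv.swap 0 2 * Equiv.swap 1 3 ∨ g = Equiv.swap 0 3 * Equiv.swap 1 2 := by
    intro g hg
    rcases dec1 g with h | h | h | h | ⟨x, hx3, hx1⟩
    · exact Or.inl h
    · exact Or.inr (Or.inl h)
    · exact Or.inr (Or.inr (Or.inl h))
    · exact Or.inr (Or.inr (Or.inr h))
    · exfalso
      have hy : g * (x * g * x⁻¹) ∈ T := mul_mem hg (hn.conj_mem g hg x)
      obtain ⟨k, hk⟩ := h2 ⟨_, hy⟩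
      have hk' : (g * (x * g * x⁻¹)) ^ 2 ^ k = 1 := congrArg Subtype.val hk
      apply hx1
      have hc : Nat.Coprime 3 (2 ^ k) := Nat.Coprime.pow_right k (by norm_num)
      have h3 := orderOf_dvd_of_pow_eq_one hx3
      have h4 := orderOf_dvd_of_pow_eq_one hk'
      have h5 := Nat.dvd_gcd h3 h4
      rw [hc] at h5
      exact orderOf_eq_one_iff.mp (Nat.dvd_one.mp h5)
  refine ⟨key g, ?_⟩
  obtain ⟨g0, hg1⟩ := Subgroup.ne_bot_iff_exists_ne_one.mp h1
  have hg1' : (g0 : Equiv.Perm (Fin 4)) ≠ 1 := fun h => hg1 (Subtype.ext h)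
  obtain ⟨⟨x1, e1⟩, ⟨x2, e2⟩, ⟨x3, e3⟩⟩ := dec3 g0 ((key g0 g0.2).resolve_left hg1')
  rintro (rfl | rfl | rfl | rfl)
  · exact one_mem _
  · rw [← e1]; exact hn.conj_mem _ g0.2 _
  · rw [← e2]; exact hn.conj_mem _ g0.2 _
  · rw [← e3]; exact hn.conj_mem _ g0.2 _

theorem card_eq {T : Subgroup (Equiv.Perm (Fin 4))} [hn : T.Normal] (h2 : IsPGroup 2 T)
    (h1 : T ≠ ⊥) : Nat.card T = 4 := by
  have he : (T : Set (Equiv.Perm (Fin 4))) = (({1, Equiv.swap 0 1 * Equiv.swap 2 3,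
      Equiv.swap 0 2 * Equiv.swap 1 3, Equiv.swap 0 3 * Equiv.swap 1 2} :
      Finset (Equiv.Perm (Fin 4))) : Set (Equiv.Perm (Fin 4))) := by
    ext g
    simp only [SetLike.mem_coe, mem_iff h2 h1 g, Finset.coe_insert, Finset.coe_singleton,
      Set.mem_insert_iff, Set.mem_singleton_iff]
  rw [← SetLike.coe_sort_coe, he, Nat.card_coe_set_eq, Set.ncard_coe_finset]
  decide +kernel

/-- A group with a 2-local subgroup isomorphic to `S₄` has 2-rank at most 2. -/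
theorem pRankLE {X : Type*} [Group X] [Finite X] {M : Subgroup X} (hM : IsTwoLocal M)
    (e : M ≃* Equiv.Perm (Fin 4)) : PRankLE 2 2 X := by
  have hfact : Fact (Nat.Prime 2) := ⟨Nat.prime_two⟩
  obtain ⟨T, hT, hT1, rfl⟩ := hM
  obtain ⟨P, hP⟩ := hT.exists_le_sylow
  have hTM : T ≤ normalizer (T : Set X) := le_normalizer
  set T' : Subgroup (Equiv.Perm (Fin 4)) :=
    (T.subgroupOf (normalizer (T : Set X))).map e.toMonoidHom with hT'
  have hn : T'.Normal := Subgroup.Normal.map inferInstance _ e.surjective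
  have hmem : ∀ x : normalizer (T : Set X), (x : X) ∈ T ↔ e x ∈ T' := by
    intro x
    constructor
    · intro hx
      exact ⟨x, mem_subgroupOf.mpr hx, rfl⟩
    · rintro ⟨y, hy, hyx⟩
      have : y = x := e.injective hyx
      rw [← this]
      exact mem_subgroupOf.mp hy
  have hp : IsPGroup 2 T' := by
    refine IsPGroup.map ?_ _
    exact hT.comap_subtype
  have hb : T' ≠ ⊥ := by
    intro h
    apply hT1
    rw [eq_bot_iff]
    intro t ht
    have h3 := (hmem ⟨t, hTM ht⟩).mp ht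
    rw [h, mem_bot] at h3
    have h4 : (⟨t, hTM ht⟩ : normalizer (T : Set X)) = 1 := e.injective (by rw [h3, map_one])
    exact congrArg Subtype.val h4
  refine MinSimple.SelfCentFour.pRankLE P hP ?_ ?_ ?_
  · rw [← card_eq hp hb, hT', Subgroup.card_map_of_injective e.injective]
    exact (Nat.card_congr (Subgroup.subgroupOfEquivOfLe hTM).toEquiv).symm
  · intro t ht
    have h3 := (mem_iff hp hb _).mp ((hmem ⟨t, hTM ht⟩).mp ht)
    have h4 : e ⟨t, hTM ht⟩ * e ⟨t, hTM ht⟩ = 1 := by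
      rcases h3 with h | h | h | h <;> rw [h] <;> decide +kernel
    rw [← map_mul] at h4
    have h5 : (⟨t, hTM ht⟩ : normalizer (T : Set X)) * ⟨t, hTM ht⟩ = 1 :=
      e.injective (by rw [h4, map_one])
    exact congrArg Subtype.val h5
  · rintro x ⟨-, hx⟩
    have hxM : x ∈ normalizer (T : Set X) := by
      rw [mem_normalizer_iff]
      intro t
      have hc := mem_centralizer_iff.mp hx
      constructor
      · intro ht
        rw [← hc t ht, mul_inv_cancel_right]; exact ht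
      · intro ht
        have h3 := hc _ ht
        have h4 : x * t * x⁻¹ * x = x * (x * t * x⁻¹) := h3
        have h5 : t = x * t * x⁻¹ := by
          apply mul_left_cancel (a := x)
          rw [← h4]; group
        rw [h5]; exact ht
    have hcm : ∀ v ∈ T', e ⟨x, hxM⟩ * v = v * e ⟨x, hxM⟩ := by
      intro v hv
      obtain ⟨y, hy, rfl⟩ := hv
      show e ⟨x, hxM⟩ * e y = e y * e ⟨x, hxM⟩
      rw [← map_mul, ← map_mul]
      congr 1
      apply Subtype.ext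
      exact (mem_centralizer_iff.mp hx y (mem_subgroupOf.mp hy)).symm
    apply (hmem ⟨x, hxM⟩).mpr
    rw [mem_iff hp hb]
    exact dec2 _ (hcm _ ((mem_iff hp hb _).mpr (Or.inr (Or.inl rfl))))
      (hcm _ ((mem_iff hp hb _).mpr (Or.inr (Or.inr (Or.inl rfl)))))

end Cfsg.Agent.SectRankFour.C2.PermFour
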