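import Mathlib
import Cfsg.Prelude.Def_Transfer
import Cfsg.Agent.Lib.CoprimeHyperplane
import Cfsg.Agent.Lib.CoprimeAbelian
import Cfsg.Agent.Lib.ActCount

/-!
# Odd abelian groups acting on elementary abelian groups of order at most 16

* `card_modEq`: `|V| ≡ |C_V(x)|` mod `p` for `x` of order `p`;
* `five`, `seven`, `three`: elements of order 5, 7, 3;
* `order_nine`: no element of order 9;
* `nine`: a faithful group `R` of order 9 and exponent 3: `|V| = 16`, `R = ⟨x⟩ × ⟨y⟩`,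
  `V = C_V(x) × C_V(y)`, the other elements are fixed point free.
-/

set_option autoImplicit false

namespace Cfsg.Agent.SectRankFour.C2.ActFour

open Subgroup
open scoped commutatorElement

variable {X : Type*} [Group X] [Finite X]

/-- `|V| ≡ |C_V(x)|` mod `p` for an element `x` with `x ^ p = 1`. -/
theorem card_modEq {p : ℕ} [hp : Fact p.Prime] (V : Subgroup X) {x : X} (hx : x ^ p = 1)
    (hn : ∀ v ∈ V, x * v * x⁻¹ ∈ V) :
    Nat.card V ≡ Nat.card (V ⊓ centralizer ({x} : Set X) : Subgroup X) [MOD p] := by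
  classical
  have := Fintype.ofFinite V
  let g : Function.End V := fun v => ⟨x * v * x⁻¹, hn v v.2⟩
  have hg : ∀ n : ℕ, ∀ v : V, (((g ^ n) v : V) : X) = x ^ n * v * (x ^ n)⁻¹ := by
    intro n
    induction n with
    | zero =>
      intro v
      rw [pow_zero, pow_zero]
      show (v : X) = 1 * v * 1⁻¹
      group
    | succ n ih =>
      intro v
      rw [pow_succ']
      show x * ((g ^ n) v : V) * x⁻¹ = _
      rw [ih, pow_succ']; group
  have hgp : g ^ p ^ 1 = 1 := by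
    rw [pow_one]
    funext v
    apply Subtype.ext
    rw [hg, hx]
    show 1 * (v : X) * 1⁻¹ = v
    group
  have h1 := Equiv.Perm.card_fixedPoints_modEq hgp
  have h2 : Fintype.card g.fixedPoints =
      Nat.card (V ⊓ centralizer ({x} : Set X) : Subgroup X) := by
    rw [← Nat.card_eq_fintype_card]
    refine Nat.card_congr ⟨fun v => ⟨v.1.1, v.1.2, ?_⟩, fun v => ⟨⟨v.1, v.2.1⟩, ?_⟩, ?_, ?_⟩
    · have h3 : x * v.1.1 * x⁻¹ = v.1.1 := congrArg Subtype.val v.2
      refine mem_centralizer_singleton_iff.mpr ?_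
      calc (v.1.1 : X) * x = x * v.1.1 * x⁻¹ * x := by rw [h3]
        _ = x * v.1.1 := by group
    · apply Subtype.ext
      show x * v.1 * x⁻¹ = v.1
      have h3 := mem_centralizer_singleton_iff.mp v.2.2
      rw [← h3]; group
    · intro v; rfl
    · intro v; rfl
  rw [← h2, Nat.card_eq_fintype_card]
  exact h1

/-- A subgroup of exponent 2 and order at most 16 has order `2 ^ n`, `n ≤ 4`. -/
theorem exists_pow {V : Subgroup X} (hV2 : ∀ v ∈ V, v ^ 2 = 1) (h16 : Nat.card V ≤ 16) :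
    ∃ n ≤ 4, Nat.card V = 2 ^ n := by
  have h2 : Fact (Nat.Prime 2) := ⟨Nat.prime_two⟩
  have h1 : IsPGroup 2 V := fun v => ⟨1, Subtype.ext (by simpa using hV2 v v.2)⟩
  obtain ⟨n, hn⟩ := IsPGroup.iff_card.mp h1
  refine ⟨n, ?_, hn⟩
  by_contra h
  have h3 : 2 ^ 5 ≤ 2 ^ n := Nat.pow_le_pow_right (by norm_num) (by omega)
  omega

/-- The possible orders of `C_V(x)`. -/
theorem exists_cent {p : ℕ} [hp : Fact p.Prime] {V : Subgroup X} (hV2 : ∀ v ∈ V, v ^ 2 = 1)
    (h16 : Nat.card V ≤ 16) {x : X} (hx : x ^ p = 1) (hn : ∀ v ∈ V, x * v * x⁻¹ ∈ V)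
    (hc : ¬ V ≤ centralizer ({x} : Set X)) :
    ∃ n m : ℕ, n ≤ 4 ∧ m < n ∧ Nat.card V = 2 ^ n ∧
      Nat.card (V ⊓ centralizer ({x} : Set X) : Subgroup X) = 2 ^ m ∧ 2 ^ n ≡ 2 ^ m [MOD p] := by
  obtain ⟨n, hn4, hnV⟩ := exists_pow hV2 h16
  have hle : (V ⊓ centralizer ({x} : Set X) : Subgroup X) ≤ V := inf_le_left
  obtain ⟨m, -, hmV⟩ := exists_pow (V := V ⊓ centralizer ({x} : Set X))
    (fun v hv => hV2 v (hle hv)) ((Subgroup.card_le_of_le hle).trans h16)
  refine ⟨n, m, hn4, ?_, hnV, hmV, ?_⟩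
  · by_contra h
    have h3 : 2 ^ n ≤ 2 ^ m := Nat.pow_le_pow_right (by norm_num) (by omega)
    apply hc
    have h4 := Subgroup.eq_of_le_of_card_ge hle (by rw [hnV, hmV]; exact h3)
    exact inf_eq_left.mp h4
  · rw [← hnV, ← hmV]
    exact card_modEq V hx hn

/-- An element of order 5 acting nontrivially. -/
theorem five {V : Subgroup X} (hV2 : ∀ v ∈ V, v ^ 2 = 1) (h16 : Nat.card V ≤ 16) {x : X}
    (hx : x ^ 5 = 1) (hn : ∀ v ∈ V, x * v * x⁻¹ ∈ V) (hc : ¬ V ≤ centralizer ({x} : Set X)) :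
    Nat.card V = 16 ∧ V ⊓ centralizer ({x} : Set X) = ⊥ := by
  have : Fact (Nat.Prime 5) := ⟨Nat.prime_five⟩
  obtain ⟨n, m, hn4, hmn, hnV, hmV, hmod⟩ := exists_cent (p := 5) hV2 h16 hx hn hc
  have h1 : n = 4 ∧ m = 0 := by
    interval_cases n <;> interval_cases m <;> first | (exact ⟨rfl, rfl⟩) | (exfalso; revert hmod; decide)
  obtain ⟨rfl, rfl⟩ := h1
  exact ⟨by rw [hnV]; norm_num, Subgroup.card_eq_one.mp (by rw [hmV, pow_zero])⟩

/-- An element of order 7 acting nontrivially. -/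
theorem seven {V : Subgroup X} (hV2 : ∀ v ∈ V, v ^ 2 = 1) (h16 : Nat.card V ≤ 16) {x : X}
    (hx : x ^ 7 = 1) (hn : ∀ v ∈ V, x * v * x⁻¹ ∈ V) (hc : ¬ V ≤ centralizer ({x} : Set X)) :
    Nat.card V = 8 * Nat.card (V ⊓ centralizer ({x} : Set X) : Subgroup X) := by
  have : Fact (Nat.Prime 7) := ⟨by norm_num⟩
  obtain ⟨n, m, hn4, hmn, hnV, hmV, hmod⟩ := exists_cent (p := 7) hV2 h16 hx hn hc
  have h1 : n = m + 3 := by
    interval_cases n <;> interval_cases m <;> first | rfl | (exfalso; revert hmod; decide)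
  rw [hnV, hmV, h1, pow_add]
  ring

/-- An element of order 3 acting nontrivially. -/
theorem three {V : Subgroup X} (hV2 : ∀ v ∈ V, v ^ 2 = 1) (h16 : Nat.card V ≤ 16) {x : X}
    (hx : x ^ 3 = 1) (hn : ∀ v ∈ V, x * v * x⁻¹ ∈ V) (hc : ¬ V ≤ centralizer ({x} : Set X)) :
    Nat.card V = 4 * Nat.card (V ⊓ centralizer ({x} : Set X) : Subgroup X) ∨
      (Nat.card V = 16 ∧ V ⊓ centralizer ({x} : Set X) = ⊥) := by
  have : Fact (Nat.Prime 3) := ⟨Nat.prime_three⟩
  obtain ⟨n, m, hn4, hmn, hnV, hmV, hmod⟩ := exists_cent (p := 3) hV2 h16 hx hn hc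
  have h1 : n = m + 2 ∨ (n = 4 ∧ m = 0) := by
    interval_cases n <;> interval_cases m <;>
      first | (left; rfl) | (right; exact ⟨rfl, rfl⟩) | (exfalso; revert hmod; decide)
  rcases h1 with h1 | ⟨rfl, rfl⟩
  · left
    rw [hnV, hmV, h1, pow_add]
    ring
  · right
    exact ⟨by rw [hnV]; norm_num, Subgroup.card_eq_one.mp (by rw [hmV, pow_zero])⟩

omit [Finite X] in
theorem conj_pow_mem {V : Subgroup X} {x : X} (hn : ∀ v ∈ V, x * v * x⁻¹ ∈ V) (n : ℕ) :
    ∀ v ∈ V, x ^ n * v * (x ^ n)⁻¹ ∈ V := by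
  induction n with
  | zero => intro v hv; simpa using hv
  | succ n ih =>
    intro v hv
    have h1 := hn _ (ih v hv)
    have h2 : x * (x ^ n * v * (x ^ n)⁻¹) * x⁻¹ = x ^ (n + 1) * v * (x ^ (n + 1))⁻¹ := by
      rw [pow_succ']; group
    rwa [h2] at h1

/-- The data attached to an element acting coprimely: `U = [V, x]`. -/
theorem exists_comm {p : ℕ} [hp : Fact p.Prime] (hp2 : p ≠ 2) {V : Subgroup X}
    (hVc : ∀ v ∈ V, ∀ w ∈ V, v * w = w * v)
    (hV2 : ∀ v ∈ V, v ^ 2 = 1) {y : X} (hy : y ^ p = 1)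
    (hyV : y ∈ normalizer (V : Set X)) (hc : ¬ V ≤ centralizer ({y} : Set X)) :
    ⁅V, zpowers y⁆ ≤ V ∧ ⁅V, zpowers y⁆ ≠ ⊥ ∧ ∀ u ∈ ⁅V, zpowers y⁆, y * u = u * y → u = 1 := by
  set A := zpowers y with hA
  have hAV : A ≤ normalizer (V : Set X) := by rwa [hA, zpowers_le]
  have hcop : (Nat.card A).Coprime (Nat.card V) := by
    have h2 : Fact (Nat.Prime 2) := ⟨Nat.prime_two⟩
    have h1 : IsPGroup 2 V := fun v => ⟨1, Subtype.ext (by simpa using hV2 v v.2)⟩
    obtain ⟨n, hn⟩ := IsPGroup.iff_card.mp h1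
    rw [hn, hA, Nat.card_zpowers]
    refine Nat.Coprime.pow_right _ ?_
    have h3 : orderOf y ∣ p := orderOf_dvd_of_pow_eq_one hy
    exact Nat.Coprime.coprime_dvd_left h3 ((Nat.coprime_primes hp.out Nat.prime_two).mpr hp2)
  have h1 := Lib.CoprimeAbelian.inf_commutator_eq_bot A V hVc hAV hcop
  have h2 := Lib.CoprimeAbelian.sup_commutator_eq A V hVc hAV hcop
  refine ⟨le_sup_right.trans h2.le, fun h3 => ?_, fun u hu hyu => ?_⟩
  · apply hc
    rw [h3, sup_bot_eq] at h2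
    have h5 : V ≤ centralizer (A : Set X) := inf_eq_left.mp h2
    refine h5.trans (centralizer_le ?_)
    rw [Set.singleton_subset_iff]
    exact mem_zpowers y
  · have h3 : u ∈ (V ⊓ centralizer (A : Set X)) ⊓ ⁅V, A⁆ := by
      refine ⟨⟨(le_sup_right.trans h2.le) hu, mem_centralizer_iff.mpr ?_⟩, hu⟩
      intro a ha
      obtain ⟨k, rfl⟩ : a ∈ zpowers y := ha
      exact (Commute.zpow_left hyu k)
    rw [h1] at h3
    exact Subgroup.mem_bot.mp h3

omit [Finite X] in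
/-- If `x` normalises `V` and commutes with `y` then it normalises `[V, ⟨y⟩]`. -/
theorem mem_normalizer_comm {V : Subgroup X} {x y : X} (hxV : x ∈ normalizer (V : Set X))
    (hxy : x * y = y * x) : x ∈ normalizer ((⁅V, zpowers y⁆ : Subgroup X) : Set X) := by
  have hxA : x ∈ normalizer ((zpowers y : Subgroup X) : Set X) := by
    rw [mem_normalizer_iff_map_conj_eq, MonoidHom.map_zpowers]
    congr 1
    show x * y * x⁻¹ = y
    rw [hxy]; group
  rw [mem_normalizer_iff_map_conj_eq, Subgroup.map_commutator,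
    mem_normalizer_iff_map_conj_eq.mp hxV, mem_normalizer_iff_map_conj_eq.mp hxA]

/-- No element of order 9 acts on an elementary abelian group of order at most 16: its cube is
trivial on `V`. -/
theorem order_nine {V : Subgroup X} (hVc : ∀ v ∈ V, ∀ w ∈ V, v * w = w * v)
    (hV2 : ∀ v ∈ V, v ^ 2 = 1) (h16 : Nat.card V ≤ 16) {x : X}
    (hx : x ^ 9 = 1) (hxV : x ∈ normalizer (V : Set X)) : V ≤ centralizer ({x ^ 3} : Set X) := by
  classical
  by_contra hc
  have h3 : Fact (Nat.Prime 3) := ⟨Nat.prime_three⟩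
  have hy : (x ^ 3) ^ 3 = 1 := by rw [← pow_mul]; exact hx
  obtain ⟨hUV, hUne, hUfix⟩ := exists_comm (p := 3) (by norm_num) hVc hV2 hy (pow_mem hxV 3) hc
  have hxU := mem_normalizer_comm hxV (show x * x ^ 3 = x ^ 3 * x by group)
  set U := ⁅V, zpowers (x ^ 3)⁆ with hU
  have hU2 : ∀ v ∈ U, v ^ 2 = 1 := fun v hv => hV2 v (hUV hv)
  have hU16 : Nat.card U ≤ 16 := (Subgroup.card_le_of_le hUV).trans h16
  have hx31 : x ^ 3 ≠ 1 := fun h => hc (by
    rw [h]
    intro v _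
    rw [mem_centralizer_singleton_iff]; simp)
  have horder : orderOf x = 9 := by
    have h5 : orderOf x ∣ 3 ^ 2 := orderOf_dvd_of_pow_eq_one hx
    have h6 := (Nat.dvd_prime_pow Nat.prime_three).mp h5
    obtain ⟨k, hk, hk2⟩ := h6
    interval_cases k
    · exact absurd (orderOf_dvd_iff_pow_eq_one.mp (hk2 ▸ (by norm_num : 3 ^ 0 ∣ 3))) hx31
    · exact absurd (orderOf_dvd_iff_pow_eq_one.mp (hk2 ▸ (by norm_num : 3 ^ 1 ∣ 3))) hx31
    · exact hk2
  -- a nontrivial element of `⟨x⟩` fixes only `1`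
  have hfix : ∀ g ∈ zpowers x, g ≠ 1 → ∀ u ∈ U, g * u = u * g → u = 1 := by
    intro g hg hg1 u hu hgu
    apply hUfix u hu
    obtain ⟨k, hk, rfl⟩ : ∃ k < 9, x ^ k = g := by
      obtain ⟨k, hk⟩ := (isOfFinOrder_of_finite x).mem_zpowers_iff_mem_range_orderOf.mp hg |>
        Finset.mem_image.mp
      exact ⟨k, by rw [← horder]; exact Finset.mem_range.mp hk.1, hk.2⟩
    have key : ∀ m, x ^ (k * m) = x ^ 3 → x ^ 3 * u = u * x ^ 3 := by
      intro m hm
      rw [← hm, pow_mul]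
      exact Commute.pow_left hgu m
    have hred : ∀ n, n % 9 = 3 → x ^ n = x ^ 3 := by
      intro n hn
      rw [← pow_mod_orderOf, horder, hn]
    have hk0 : k ≠ 0 := fun h => hg1 (by rw [h, pow_zero])
    interval_cases k
    · exact absurd rfl hk0
    · exact key 3 (hred _ rfl)
    · exact key 6 (hred _ rfl)
    · exact key 1 (hred _ rfl)
    · exact key 3 (hred _ rfl)
    · exact key 6 (hred _ rfl)
    · exact key 5 (hred _ rfl)
    · exact key 3 (hred _ rfl)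
    · exact key 6 (hred _ rfl)
  let act : MulAction (zpowers x) {u : U // u ≠ 1} :=
    { smul := fun g v => ⟨⟨g.1 * v.1.1 * g.1⁻¹,
        (mem_normalizer_iff.mp ((zpowers_le.mpr hxU) g.2) v.1.1).mp v.1.2⟩, fun h => v.2 (by
          have h5 : g.1 * v.1.1 * g.1⁻¹ = 1 := congrArg Subtype.val h
          apply Subtype.ext
          show v.1.1 = 1
          calc v.1.1 = g.1⁻¹ * (g.1 * v.1.1 * g.1⁻¹) * g.1 := by group
            _ = 1 := by rw [h5]; group)⟩
      one_smul := fun v => Subtype.ext (Subtype.ext (by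
        show (1 : X) * v.1.1 * (1 : X)⁻¹ = v.1.1
        group))
      mul_smul := fun g h v => Subtype.ext (Subtype.ext (by
        show (g.1 * h.1) * v.1.1 * (g.1 * h.1)⁻¹ = g.1 * (h.1 * v.1.1 * h.1⁻¹) * g.1⁻¹
        group)) }
  have hcz : Nat.card (zpowers x) = 9 := by rw [Nat.card_zpowers, horder]
  have hst : ∀ v : {u : U // u ≠ 1}, Nat.card (MulAction.stabilizer (zpowers x) v) = 1 := by
    intro v
    rw [Subgroup.card_eq_one, Subgroup.eq_bot_iff_forall]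
    intro g hg
    by_contra hg1
    have h6 : g.1 * v.1.1 * g.1⁻¹ = v.1.1 :=
      congrArg (fun w : {u : U // u ≠ 1} => (w.1.1 : X)) (MulAction.mem_stabilizer_iff.mp hg)
    have h5 : g.1 * v.1.1 = v.1.1 * g.1 := by
      calc g.1 * v.1.1 = g.1 * v.1.1 * g.1⁻¹ * g.1 := by group
        _ = v.1.1 * g.1 := by rw [h6]
    exact v.2 (Subtype.ext (hfix g.1 g.2 (fun h => hg1 (Subtype.ext h)) v.1.1 v.1.2 h5))
  obtain ⟨m, hm⟩ := Lib.ActCount.exists_card_mul 1 hst
  rw [one_mul, hcz] at hm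
  have hcU : Nat.card {u : U // u ≠ 1} + 1 = Nat.card U := by
    have := Fintype.ofFinite U
    rw [Nat.card_eq_fintype_card, Nat.card_eq_fintype_card, Fintype.card_subtype_compl,
      Fintype.card_subtype_eq]
    have := Fintype.card_pos (α := U)
    omega
  obtain ⟨n, hn4, hnU⟩ := exists_pow hU2 hU16
  have hUne' : Nat.card U ≠ 1 := fun h => hUne (Subgroup.card_eq_one.mp h)
  rw [hnU] at hcU hUne'
  interval_cases n <;> omega

/-! ### The commutator map -/

/-- The homomorphism `v ↦ [x, v]` of the abelian group `V`. -/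
def dh {V : Subgroup X} (hVc : ∀ v ∈ V, ∀ w ∈ V, v * w = w * v) {x : X}
    (hx : x ∈ normalizer (V : Set X)) : V →* X where
  toFun v := x * v * x⁻¹ * (v : X)⁻¹
  map_one' := by simp
  map_mul' v w := by
    have h1 : x * w * x⁻¹ ∈ V := (mem_normalizer_iff.mp hx w).mp w.2
    have h2 := hVc _ h1 _ (inv_mem v.2)
    show x * (v * w : X) * x⁻¹ * (v * w : X)⁻¹ = x * v * x⁻¹ * (v : X)⁻¹ * (x * w * x⁻¹ * (w : X)⁻¹)
    have h3 : (v : X)⁻¹ * (x * w * x⁻¹) = (x * w * x⁻¹) * (v : X)⁻¹ := h2.symm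
    have h4 := hVc _ (inv_mem v.2) _ (inv_mem w.2)
    calc x * (v * w : X) * x⁻¹ * (v * w : X)⁻¹
        = x * v * x⁻¹ * (x * w * x⁻¹) * ((w : X)⁻¹ * (v : X)⁻¹) := by group
      _ = x * v * x⁻¹ * (x * w * x⁻¹) * ((v : X)⁻¹ * (w : X)⁻¹) := by rw [h4]
      _ = x * v * x⁻¹ * ((x * w * x⁻¹) * (v : X)⁻¹) * (w : X)⁻¹ := by group
      _ = x * v * x⁻¹ * ((v : X)⁻¹ * (x * w * x⁻¹)) * (w : X)⁻¹ := by rw [h3]
      _ = _ := by group

omit [Finite X] in
theorem dh_apply {V : Subgroup X} (hVc : ∀ v ∈ V, ∀ w ∈ V, v * w = w * v) {x : X}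
    (hx : x ∈ normalizer (V : Set X)) (v : V) : dh hVc hx v = x * v * x⁻¹ * (v : X)⁻¹ := rfl

omit [Finite X] in
theorem range_dh_le {V : Subgroup X} (hVc : ∀ v ∈ V, ∀ w ∈ V, v * w = w * v) {x : X}
    (hx : x ∈ normalizer (V : Set X)) : (dh hVc hx).range ≤ V := by
  rintro _ ⟨v, rfl⟩
  exact mul_mem ((mem_normalizer_iff.mp hx v).mp v.2) (inv_mem v.2)

omit [Finite X] in
/-- `|V| = |[x, V]| |C_V(x)|` -/
theorem card_dh {V : Subgroup X} (hVc : ∀ v ∈ V, ∀ w ∈ V, v * w = w * v) {x : X}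
    (hx : x ∈ normalizer (V : Set X)) :
    Nat.card V = Nat.card (dh hVc hx).range *
      Nat.card (V ⊓ centralizer ({x} : Set X) : Subgroup X) := by
  have h1 : Nat.card V = Nat.card (dh hVc hx).ker * (dh hVc hx).ker.index :=
    (Subgroup.card_mul_index _).symm
  rw [Subgroup.index_ker] at h1
  rw [h1, mul_comm]
  congr 1
  refine Nat.card_congr ⟨fun v => ⟨v.1.1, v.1.2, ?_⟩, fun v => ⟨⟨v.1, v.2.1⟩, ?_⟩, ?_, ?_⟩
  · have h2 : x * v.1.1 * x⁻¹ * (v.1.1)⁻¹ = 1 := MonoidHom.mem_ker.mp v.2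
    refine mem_centralizer_singleton_iff.mpr ?_
    calc (v.1.1 : X) * x = (x * v.1.1 * x⁻¹ * (v.1.1)⁻¹) * v.1.1 * x := by rw [h2]; group
      _ = x * v.1.1 := by group
  · refine MonoidHom.mem_ker.mpr ?_
    have h2 : v.1 * x = x * v.1 := mem_centralizer_singleton_iff.mp v.2.2
    show x * v.1 * x⁻¹ * (v.1)⁻¹ = 1
    rw [← h2]; group
  · intro v; rfl
  · intro v; rfl

omit [Finite X] in
/-- An element `t` with `t²` centralising the elementary abelian 2-group `V`: `[t, V] ≤ C_V(t)`. -/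
theorem range_dh_le_centralizer {V : Subgroup X} (hVc : ∀ v ∈ V, ∀ w ∈ V, v * w = w * v)
    (hV2 : ∀ v ∈ V, v ^ 2 = 1) {t : X} (ht : t ∈ normalizer (V : Set X))
    (ht2 : t ^ 2 ∈ centralizer (V : Set X)) :
    (dh hVc ht).range ≤ V ⊓ centralizer ({t} : Set X) := by
  refine le_inf (range_dh_le hVc ht) ?_
  rintro _ ⟨v, rfl⟩
  refine mem_centralizer_singleton_iff.mpr ?_
  rw [dh_apply]
  have h1 : t * v * t⁻¹ ∈ V := (mem_normalizer_iff.mp ht v).mp v.2
  have h2 : t ^ 2 * v * (t ^ 2)⁻¹ = v := by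
    have := mem_centralizer_iff.mp ht2 v v.2
    rw [← this]; group
  have h3 : ∀ w ∈ V, w⁻¹ = w := fun w hw => by
    have := hV2 w hw
    rw [pow_two] at this
    exact inv_eq_of_mul_eq_one_left this
  have h4 : t * (t * v * t⁻¹ * (v : X)⁻¹) * t⁻¹ = t * v * t⁻¹ * (v : X)⁻¹ := by
    calc t * (t * v * t⁻¹ * (v : X)⁻¹) * t⁻¹
        = (t ^ 2 * v * (t ^ 2)⁻¹) * (t * v * t⁻¹)⁻¹ := by rw [pow_two]; group
      _ = v * (t * v * t⁻¹) := by rw [h2, h3 _ h1]
      _ = t * v * t⁻¹ * v := hVc _ v.2 _ h1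
      _ = _ := by rw [h3 v v.2]
  calc t * v * t⁻¹ * (v : X)⁻¹ * t = t * (t * v * t⁻¹ * (v : X)⁻¹) * t⁻¹ * t := by rw [h4]
    _ = t * (t * v * t⁻¹ * (v : X)⁻¹) := by group

/-- `|V| ≤ |C_V(t)|²` -/
theorem card_le_sq {V : Subgroup X} (hVc : ∀ v ∈ V, ∀ w ∈ V, v * w = w * v)
    (hV2 : ∀ v ∈ V, v ^ 2 = 1) {t : X} (ht : t ∈ normalizer (V : Set X))
    (ht2 : t ^ 2 ∈ centralizer (V : Set X)) :
    Nat.card V ≤ Nat.card (V ⊓ centralizer ({t} : Set X) : Subgroup X) ^ 2 := by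
  rw [card_dh hVc ht, pow_two]
  exact Nat.mul_le_mul_right _ (Subgroup.card_le_of_le (range_dh_le_centralizer hVc hV2 ht ht2))

omit [Finite X] in
/-- If `t x t⁻¹ ≡ x⁻¹` mod `C(V)` then `t` normalises `[x, V]`. -/
theorem mem_normalizer_range {V : Subgroup X} (hVc : ∀ v ∈ V, ∀ w ∈ V, v * w = w * v) {x t : X}
    (hx : x ∈ normalizer (V : Set X)) (ht : t ∈ normalizer (V : Set X))
    (htx : t * x * t⁻¹ * x ∈ centralizer (V : Set X)) :
    ∀ u ∈ (dh hVc hx).range, t * u * t⁻¹ ∈ (dh hVc hx).range := by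
  rintro _ ⟨v, rfl⟩
  rw [dh_apply]
  set c := t * x * t⁻¹ * x with hc
  have h1 : t * v * t⁻¹ ∈ V := (mem_normalizer_iff.mp ht v).mp v.2
  set v' := t * v * t⁻¹ with hv'
  have h2 : x⁻¹ * v' * x ∈ V := by
    have := (mem_normalizer_iff.mp (inv_mem hx) v').mp h1
    simpa using this
  have h3 : c * (x⁻¹ * v' * x) * c⁻¹ = x⁻¹ * v' * x := by
    have := mem_centralizer_iff.mp htx _ h2
    rw [← this]; group
  have h4 : t * (x * v * x⁻¹ * (v : X)⁻¹) * t⁻¹ = (x⁻¹ * v' * x) * v'⁻¹ := by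
    rw [← h3, hc, hv']
    group
  have h5 : (dh hVc hx) ⟨x⁻¹ * v' * x, h2⟩⁻¹ = (x⁻¹ * v' * x) * v'⁻¹ := by
    rw [map_inv, dh_apply]
    show (x * (x⁻¹ * v' * x) * x⁻¹ * (x⁻¹ * v' * x)⁻¹)⁻¹ = _
    group
  rw [h4, ← h5]
  exact ⟨_, rfl⟩

/-- No dihedral group of order 14 acts on an elementary abelian group of order at most 16. -/
theorem no_seven {V : Subgroup X} (hVc : ∀ v ∈ V, ∀ w ∈ V, v * w = w * v)
    (hV2 : ∀ v ∈ V, v ^ 2 = 1) (h16 : Nat.card V ≤ 16) {x t : X} (hx7 : x ^ 7 = 1)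
    (hx : x ∈ normalizer (V : Set X)) (ht : t ∈ normalizer (V : Set X))
    (hc : ¬ V ≤ centralizer ({x} : Set X)) (ht2 : t ^ 2 ∈ centralizer (V : Set X))
    (htx : t * x * t⁻¹ * x ∈ centralizer (V : Set X)) : False := by
  have h7 : Fact (Nat.Prime 7) := ⟨by norm_num⟩
  have hconj : ∀ v ∈ V, x * v * x⁻¹ ∈ V := fun v hv => (mem_normalizer_iff.mp hx v).mp hv
  set U := (dh hVc hx).range with hU
  have hUV : U ≤ V := range_dh_le hVc hx
  have hc8 : Nat.card U = 8 := by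
    have h1 := seven hV2 h16 hx7 hconj hc
    have h2 := card_dh hVc hx
    rw [h1] at h2
    exact (Nat.eq_of_mul_eq_mul_right Nat.card_pos h2).symm
  have hUc : ∀ v ∈ U, ∀ w ∈ U, v * w = w * v := fun v hv w hw => hVc v (hUV hv) w (hUV hw)
  have hU2 : ∀ v ∈ U, v ^ 2 = 1 := fun v hv => hV2 v (hUV hv)
  have htU : t ∈ normalizer (U : Set X) := by
    have h1 := mem_normalizer_range hVc hx ht htx
    refine mem_normalizer_iff.mpr fun v => ⟨fun hv => h1 v hv, fun hv => ?_⟩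
    have h2 := h1 _ hv
    have h3 : t * (t * v * t⁻¹) * t⁻¹ = t ^ 2 * v * (t ^ 2)⁻¹ := by rw [pow_two]; group
    rw [h3] at h2
    have h4 : v ∈ V := by
      have h5 : t * v * t⁻¹ ∈ V := hUV hv
      exact (mem_normalizer_iff.mp ht v).mpr h5
    have h6 : t ^ 2 * v * (t ^ 2)⁻¹ = v := by
      have := mem_centralizer_iff.mp ht2 v h4
      rw [← this]; group
    rwa [h6] at h2
  have hxU : x ∈ normalizer (U : Set X) := by
    have h1 : ∀ u ∈ U, x * u * x⁻¹ ∈ U := by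
      rintro _ ⟨v, rfl⟩
      refine ⟨⟨x * v * x⁻¹, hconj v v.2⟩, ?_⟩
      rw [dh_apply, dh_apply]
      group
    refine mem_normalizer_iff.mpr fun v => ⟨fun hv => h1 v hv, fun hv => ?_⟩
    have h2 := conj_pow_mem h1 6 _ hv
    have h3 : x ^ 6 * (x * v * x⁻¹) * (x ^ 6)⁻¹ = x ^ 7 * v * (x ^ 7)⁻¹ := by group
    rw [h3, hx7] at h2
    simpa using h2
  have hfix : U ⊓ centralizer ({x} : Set X) = ⊥ := by
    obtain ⟨-, -, h1⟩ := exists_comm (p := 7) (by norm_num) hVc hV2 hx7 hx hc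
    rw [Subgroup.eq_bot_iff_forall]
    rintro u ⟨hu, hux⟩
    refine h1 u ?_ (mem_centralizer_singleton_iff.mp hux).symm
    obtain ⟨v, rfl⟩ := hu
    rw [dh_apply]
    have h2 : ⁅(v : X), x⁆ ∈ ⁅V, zpowers x⁆ := commutator_mem_commutator v.2 (mem_zpowers x)
    have h3 : x * v * x⁻¹ * (v : X)⁻¹ = ⁅(v : X), x⁆⁻¹ := by
      rw [commutatorElement_def]; group
    rw [h3]
    exact inv_mem h2
  have hCU : centralizer (V : Set X) ≤ centralizer (U : Set X) := centralizer_le hUV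
  have h1 := card_le_sq hUc hU2 htU (hCU ht2)
  have htx2 : (t * x) ^ 2 ∈ centralizer (U : Set X) := by
    have h2 : (t * x) ^ 2 = (t * x * t⁻¹ * x) * (x⁻¹ * t ^ 2 * x) := by
      rw [pow_two, pow_two]; group
    rw [h2]
    refine mul_mem (hCU htx) ?_
    have h3 : x⁻¹ * t ^ 2 * x = x⁻¹ * t ^ 2 * x⁻¹⁻¹ := by rw [inv_inv]
    rw [h3]
    refine mem_centralizer_iff.mpr fun u hu => ?_
    have h4 : x * u * x⁻¹ ∈ U := (mem_normalizer_iff.mp hxU u).mp hu
    have h5 := mem_centralizer_iff.mp (hCU ht2) _ h4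
    calc u * (x⁻¹ * t ^ 2 * x⁻¹⁻¹) = x⁻¹ * ((x * u * x⁻¹) * t ^ 2) * x := by group
      _ = x⁻¹ * (t ^ 2 * (x * u * x⁻¹)) * x := by rw [h5]
      _ = _ := by group
  have h2 := card_le_sq hUc hU2 (mul_mem htU hxU) htx2
  rw [hc8] at h1 h2
  set C1 := U ⊓ centralizer ({t} : Set X) with hC1
  set C2 := U ⊓ centralizer ({t * x} : Set X) with hC2
  have hC1U : C1 ≤ U := inf_le_left
  have hC2U : C2 ≤ U := inf_le_left
  obtain ⟨n1, -, hn1⟩ := exists_pow (V := C1) (fun v hv => hU2 v (hC1U hv))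
    ((Subgroup.card_le_of_le hC1U).trans (by omega))
  obtain ⟨n2, -, hn2⟩ := exists_pow (V := C2) (fun v hv => hU2 v (hC2U hv))
    ((Subgroup.card_le_of_le hC2U).trans (by omega))
  have h41 : 4 ≤ Nat.card C1 := by
    rw [hn1] at h1 ⊢
    have : 2 ≤ n1 := by
      by_contra h
      interval_cases n1 <;> omega
    calc 4 = 2 ^ 2 := rfl
      _ ≤ 2 ^ n1 := Nat.pow_le_pow_right (by norm_num) this
  have h42 : 4 ≤ Nat.card C2 := by
    rw [hn2] at h2 ⊢
    have : 2 ≤ n2 := by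
      by_contra h
      interval_cases n2 <;> omega
    calc 4 = 2 ^ 2 := rfl
      _ ≤ 2 ^ n2 := Nat.pow_le_pow_right (by norm_num) this
  have hint : C1 ⊓ C2 = ⊥ := by
    rw [← le_bot_iff, ← hfix]
    rintro u ⟨⟨hu, hu1⟩, -, hu2⟩
    refine ⟨hu, mem_centralizer_singleton_iff.mpr ?_⟩
    have e1 : u * t = t * u := mem_centralizer_singleton_iff.mp hu1
    have e2 : u * (t * x) = t * x * u := mem_centralizer_singleton_iff.mp hu2
    have e3 : t * (u * x) = t * (x * u) := by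
      calc t * (u * x) = (t * u) * x := by group
        _ = u * t * x := by rw [e1]
        _ = u * (t * x) := by group
        _ = _ := by rw [e2]; group
    exact mul_left_cancel e3
  -- an injective map `C1 × C2 → U`
  have hinj : Function.Injective (fun q : C1 × C2 => (⟨q.1.1 * q.2.1,
      mul_mem (hC1U q.1.2) (hC2U q.2.2)⟩ : U)) := by
    rintro ⟨a, b⟩ ⟨c, d⟩ h
    have h3 : a.1 * b.1 = c.1 * d.1 := congrArg Subtype.val h
    have h4 : c.1⁻¹ * a.1 = d.1 * b.1⁻¹ := by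
      calc c.1⁻¹ * a.1 = c.1⁻¹ * (a.1 * b.1) * b.1⁻¹ := by group
        _ = d.1 * b.1⁻¹ := by rw [h3]; group
    have h5 : c.1⁻¹ * a.1 ∈ C1 ⊓ C2 :=
      mem_inf.mpr ⟨mul_mem (inv_mem c.2) a.2, by rw [h4]; exact mul_mem d.2 (inv_mem b.2)⟩
    rw [hint] at h5
    have h6 : c.1⁻¹ * a.1 = 1 := Subgroup.mem_bot.mp h5
    have h7 : a.1 = c.1 := by
      calc a.1 = c.1 * (c.1⁻¹ * a.1) := by group
        _ = c.1 := by rw [h6, mul_one]
    have h8 : b.1 = d.1 := by
      rw [h7] at h3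
      exact mul_left_cancel h3
    exact Prod.ext (Subtype.ext h7) (Subtype.ext h8)
  have h9 := Nat.card_le_card_of_injective _ hinj
  rw [Nat.card_prod, hc8] at h9
  have h10 : 4 * 4 ≤ Nat.card C1 * Nat.card C2 := Nat.mul_le_mul h41 h42
  omega

omit [Finite X] in
/-- A subgroup of order 3 is centralised as soon as one nontrivial element is. -/
theorem mem_centralizer_of_prime {p : ℕ} [hp : Fact p.Prime] {B : Subgroup X} (hB : Nat.card B = p)
    {b v : X} (hb : b ∈ B) (hb1 : b ≠ 1) (h : b * v = v * b) : v ∈ centralizer (B : Set X) := by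
  refine mem_centralizer_iff.mpr fun c hc => ?_
  have h1 := mem_zpowers_of_prime_card (G := B) (g := ⟨b, hb⟩) (g' := ⟨c, hc⟩) hB
    (fun h => hb1 (congrArg Subtype.val h))
  obtain ⟨k, hk⟩ := mem_zpowers_iff.mp h1
  have h2 : b ^ k = c := congrArg Subtype.val hk
  rw [← h2]
  exact Commute.zpow_left h k

omit [Finite X] in
theorem exists_ne_one {B : Subgroup X} (hB : 1 < Nat.card B) : ∃ b ∈ B, b ≠ 1 := by
  have h1 : B ≠ ⊥ := fun h => by rw [h, Subgroup.card_bot] at hB; exact absurd hB (by norm_num)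
  obtain ⟨a, ha⟩ := Subgroup.ne_bot_iff_exists_ne_one.mp h1
  exact ⟨a.1, a.2, fun h => ha (Subtype.ext h)⟩

theorem card_mul_le {V V1 V2 : Subgroup X} (h1 : V1 ≤ V) (h2 : V2 ≤ V) :
    Nat.card V1 * Nat.card V2 ≤ Nat.card V * Nat.card (V1 ⊓ V2 : Subgroup X) := by
  have e1 : V2.relIndex V1 ≤ V2.relIndex V :=
    relIndex_le_of_le_right h1 (by rw [Subgroup.relIndex]; exact index_ne_zero_of_finite)
  have e2 : Nat.card (V1 ⊓ V2 : Subgroup X) * V2.relIndex V1 = Nat.card V1 := by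
    have := Subgroup.card_mul_index (V2.subgroupOf V1)
    rw [← this, Subgroup.relIndex]
    congr 1
    rw [← Subgroup.inf_subgroupOf_left]
    exact (Nat.card_congr (Subgroup.subgroupOfEquivOfLe inf_le_left).toEquiv).symm
  have e3 : Nat.card V2 * V2.relIndex V = Nat.card V := by
    have := Subgroup.card_mul_index (V2.subgroupOf V)
    rw [← this, Subgroup.relIndex]
    congr 1
    exact (Nat.card_congr (Subgroup.subgroupOfEquivOfLe h2).toEquiv).symm
  calc Nat.card V1 * Nat.card V2 = Nat.card (V1 ⊓ V2 : Subgroup X) * V2.relIndex V1 * Nat.card V2 := by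
        rw [e2]
    _ ≤ Nat.card (V1 ⊓ V2 : Subgroup X) * V2.relIndex V * Nat.card V2 :=
        Nat.mul_le_mul_right _ (Nat.mul_le_mul_left _ e1)
    _ = (Nat.card V2 * V2.relIndex V) * Nat.card (V1 ⊓ V2 : Subgroup X) := by ring
    _ = _ := by rw [e3]

/-- A group `R` of order 9 and exponent 3 acting faithfully on an elementary abelian group `V` of
order at most 16: `|V| = 16`, `R = B1 × B2`, `V = C_V(B1) × C_V(B2)`, the elements of `R` outside
`B1 ∪ B2` are fixed point free on `V`. -/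
theorem nine {V R : Subgroup X} (hVc : ∀ v ∈ V, ∀ w ∈ V, v * w = w * v)
    (hV2 : ∀ v ∈ V, v ^ 2 = 1) (h16 : Nat.card V ≤ 16)
    (hRc : ∀ x ∈ R, ∀ y ∈ R, x * y = y * x) (hR3 : ∀ x ∈ R, x ^ 3 = 1) (hR9 : Nat.card R = 9)
    (hRV : R ≤ normalizer (V : Set X)) (hf : R ⊓ centralizer (V : Set X) = ⊥) :
    Nat.card V = 16 ∧ ∃ B1 B2 : Subgroup X, B1 ≤ R ∧ B2 ≤ R ∧ Nat.card B1 = 3 ∧ Nat.card B2 = 3 ∧
      B1 ⊓ B2 = ⊥ ∧ B1 ⊔ B2 = R ∧
      Nat.card (V ⊓ centralizer (B1 : Set X) : Subgroup X) = 4 ∧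
      Nat.card (V ⊓ centralizer (B2 : Set X) : Subgroup X) = 4 ∧
      (V ⊓ centralizer (B1 : Set X)) ⊓ (V ⊓ centralizer (B2 : Set X)) = ⊥ ∧
      (V ⊓ centralizer (B1 : Set X)) ⊔ (V ⊓ centralizer (B2 : Set X)) = V ∧
      ∀ z ∈ R, z ∉ B1 → z ∉ B2 → V ⊓ centralizer ({z} : Set X) = ⊥ := by
  classical
  have h3 : Fact (Nat.Prime 3) := ⟨Nat.prime_three⟩
  have hel : Cfsg.IsElementaryAbelian 3 R := ⟨⟨⟨fun a b => Subtype.ext (hRc a a.2 b b.2)⟩⟩, hR3⟩
  have hV3 : ¬ 3 ∣ Nat.card V := by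
    obtain ⟨n, -, hn⟩ := exists_pow hV2 h16
    rw [hn]
    intro h
    have := (Nat.prime_dvd_prime_iff_eq Nat.prime_three Nat.prime_two).mp
      (Nat.prime_three.dvd_of_dvd_pow h)
    omega
  have hcB : ∀ B : Subgroup X, B ≤ R → B.relIndex R = 3 → Nat.card B = 3 := by
    intro B hB hBi
    have h1 : Nat.card B * B.relIndex R = Nat.card R := by
      have := Subgroup.card_mul_index (B.subgroupOf R)
      rw [← this, Subgroup.relIndex]
      congr 1
      exact (Nat.card_congr (Subgroup.subgroupOfEquivOfLe hB).toEquiv).symm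
    rw [hBi, hR9] at h1
    omega
  obtain ⟨a0, ha0, ha01⟩ := exists_ne_one (B := R) (by rw [hR9]; norm_num)
  obtain ⟨B1, hB1R, hB1i, -, hB1n⟩ :=
    Lib.CoprimeHyperplane.exists_hyperplane_not_mem hel hV3 hRV hf ha0 ha01
  have hB13 := hcB B1 hB1R hB1i
  obtain ⟨a1, ha1, ha11⟩ := exists_ne_one (B := B1) (by rw [hB13]; norm_num)
  obtain ⟨B2, hB2R, hB2i, ha1B2, hB2n⟩ :=
    Lib.CoprimeHyperplane.exists_hyperplane_not_mem hel hV3 hRV hf (hB1R ha1) ha11
  have hB23 := hcB B2 hB2R hB2i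
  obtain ⟨a2, ha2, ha21⟩ := exists_ne_one (B := B2) (by rw [hB23]; norm_num)
  have hB12 : B1 ⊓ B2 = ⊥ := by
    have h1 : Nat.card (B1 ⊓ B2 : Subgroup X) ∣ 3 := hB13 ▸ card_dvd_of_le inf_le_left
    rcases (Nat.dvd_prime Nat.prime_three).mp h1 with h | h
    · exact Subgroup.card_eq_one.mp h
    · exfalso
      have h2 : B1 ⊓ B2 = B1 := Subgroup.eq_of_le_of_card_ge inf_le_left (by rw [h, hB13])
      exact ha1B2 ((inf_eq_left.mp h2) ha1)
  have hsup : B1 ⊔ B2 = R := by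
    refine Subgroup.eq_of_le_of_card_ge (sup_le hB1R hB2R) ?_
    have h1 := card_mul_le (V := B1 ⊔ B2) (V1 := B1) (V2 := B2) le_sup_left le_sup_right
    rw [hB12, Subgroup.card_bot, hB13, hB23, mul_one] at h1
    rw [hR9]; exact h1
  set V1 := V ⊓ centralizer (B1 : Set X) with hV1
  set V2 := V ⊓ centralizer (B2 : Set X) with hV2'
  have hconjV : ∀ x ∈ R, ∀ v ∈ V, x * v * x⁻¹ ∈ V := fun x hx v hv =>
    (mem_normalizer_iff.mp (hRV hx) v).mp hv
  have hconjC : ∀ B ≤ R, ∀ x ∈ R, ∀ v ∈ V ⊓ centralizer (B : Set X),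
      x * v * x⁻¹ ∈ V ⊓ centralizer (B : Set X) := by
    intro B hB x hx v hv
    refine mem_inf.mpr ⟨hconjV x hx v hv.1, mem_centralizer_iff.mpr fun b hb => ?_⟩
    have h1 := mem_centralizer_iff.mp hv.2 b hb
    have h2 := hRc b (hB hb) x hx
    have h3' : x⁻¹ * b = b * x⁻¹ := by
      calc x⁻¹ * b = x⁻¹ * (b * x) * x⁻¹ := by group
        _ = b * x⁻¹ := by rw [h2]; group
    calc b * (x * v * x⁻¹) = (b * x) * v * x⁻¹ := by group
      _ = x * (b * v) * x⁻¹ := by rw [h2]; group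
      _ = x * v * (b * x⁻¹) := by rw [h1]; group
      _ = x * v * x⁻¹ * b := by rw [← h3']; group
  -- `V_i` has order `4 |C_V(R)|`
  have hV0 : V1 ⊓ V2 = V ⊓ centralizer (R : Set X) := by
    apply le_antisymm
    · rintro v ⟨⟨hv, hv1⟩, -, hv2⟩
      refine mem_inf.mpr ⟨hv, ?_⟩
      have h1 : R ≤ centralizer ({v} : Set X) := by
        rw [← hsup]
        refine sup_le (fun b hb => ?_) (fun b hb => ?_)
        · exact mem_centralizer_singleton_iff.mpr (mem_centralizer_iff.mp hv1 b hb)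
        · exact mem_centralizer_singleton_iff.mpr (mem_centralizer_iff.mp hv2 b hb)
      exact mem_centralizer_iff.mpr fun b hb => mem_centralizer_singleton_iff.mp (h1 hb)
    · exact le_inf (inf_le_inf_left _ (centralizer_le hB1R)) (inf_le_inf_left _ (centralizer_le hB2R))
  have key : ∀ B C : Subgroup X, B ≤ R → C ≤ R → Nat.card C = 3 → B ⊔ C = R → B ≠ ⊥ →
      ⁅V ⊓ centralizer (B : Set X), R⁆ ≠ ⊥ → ∀ c ∈ C, c ≠ 1 →
      Nat.card (V ⊓ centralizer (B : Set X) : Subgroup X) =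
        4 * Nat.card (V ⊓ centralizer (R : Set X) : Subgroup X) := by
    intro B C hB hC hC3 hBC hB1 hn c hc hc1
    set W := V ⊓ centralizer (B : Set X) with hW
    have hWV : W ≤ V := inf_le_left
    have hWc : W ⊓ centralizer ({c} : Set X) = V ⊓ centralizer (R : Set X) := by
      apply le_antisymm
      · rintro v ⟨⟨hv, hvB⟩, hvc⟩
        refine mem_inf.mpr ⟨hv, ?_⟩
        have h2 := mem_centralizer_of_prime hC3 hc hc1 (mem_centralizer_singleton_iff.mp hvc).symm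
        have h1 : R ≤ centralizer ({v} : Set X) := by
          rw [← hBC]
          refine sup_le (fun b hb => ?_) (fun b hb => ?_)
          · exact mem_centralizer_singleton_iff.mpr (mem_centralizer_iff.mp hvB b hb)
          · exact mem_centralizer_singleton_iff.mpr (mem_centralizer_iff.mp h2 b hb)
        exact mem_centralizer_iff.mpr fun b hb => mem_centralizer_singleton_iff.mp (h1 hb)
      · refine le_inf (inf_le_inf_left _ (centralizer_le hB)) (inf_le_right.trans ?_)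
        exact centralizer_le (Set.singleton_subset_iff.mpr (hC hc))
    have hnc : ¬ W ≤ centralizer ({c} : Set X) := by
      intro h
      apply hn
      rw [Subgroup.commutator_eq_bot_iff_le_centralizer]
      have h1 : W ⊓ centralizer ({c} : Set X) = W := inf_eq_left.mpr h
      rw [hWc] at h1
      rw [← h1]
      exact inf_le_right
    rcases three (V := W) (fun v hv => hV2 v (hWV hv)) ((Subgroup.card_le_of_le hWV).trans h16)
        (hR3 c (hC hc)) (hconjC B hB c (hC hc)) hnc with h | ⟨h, -⟩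
    · rw [h, hWc]
    · exfalso
      have h1 : W = V := Subgroup.eq_of_le_of_card_ge hWV (by rw [h]; exact h16)
      have h2 : B ≤ R ⊓ centralizer (V : Set X) := by
        refine le_inf hB ?_
        have h4 : V ≤ centralizer (B : Set X) := inf_eq_left.mp h1
        exact Subgroup.le_centralizer_iff.mp h4
      rw [hf] at h2
      exact hB1 (le_bot_iff.mp h2)
  have hne1 : B1 ≠ ⊥ := fun h => by rw [h, Subgroup.card_bot] at hB13; omega
  have hne2 : B2 ≠ ⊥ := fun h => by rw [h, Subgroup.card_bot] at hB23; omega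
  have k1 := key B1 B2 hB1R hB2R hB23 hsup hne1 hB1n a2 ha2 ha21
  have k2 := key B2 B1 hB2R hB1R hB13 (by rw [sup_comm]; exact hsup) hne2 hB2n a1 ha1 ha11
  rw [← hV1, ← hV0] at k1
  rw [← hV2', ← hV0] at k2
  have hm := card_mul_le (V := V) (V1 := V1) (V2 := V2) inf_le_left inf_le_left
  rw [k1, k2] at hm
  have hpos : 0 < Nat.card (V1 ⊓ V2 : Subgroup X) := Nat.card_pos
  have h01 : Nat.card (V1 ⊓ V2 : Subgroup X) = 1 ∧ Nat.card V = 16 := by
    set n := Nat.card (V1 ⊓ V2 : Subgroup X)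
    have h1 : 16 * n ≤ Nat.card V := by
      have : n * (16 * n) ≤ n * Nat.card V := by
        calc n * (16 * n) = 4 * n * (4 * n) := by ring
          _ ≤ Nat.card V * n := hm
          _ = n * Nat.card V := by ring
      exact Nat.le_of_mul_le_mul_left this hpos
    constructor <;> omega
  obtain ⟨h0, hV16⟩ := h01
  rw [h0, mul_one] at k1 k2
  have hbot : V1 ⊓ V2 = ⊥ := Subgroup.card_eq_one.mp h0
  have hVsup : V1 ⊔ V2 = V := by
    refine Subgroup.eq_of_le_of_card_ge (sup_le inf_le_left inf_le_left) ?_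
    have h1 := card_mul_le (V := V1 ⊔ V2) (V1 := V1) (V2 := V2) le_sup_left le_sup_right
    rw [h0, k1, k2, mul_one] at h1
    rw [hV16]; exact h1
  refine ⟨hV16, B1, B2, hB1R, hB2R, hB13, hB23, hB12, hsup, k1, k2, hbot, hVsup, ?_⟩
  intro z hz hz1 hz2
  rw [Subgroup.eq_bot_iff_forall]
  rintro v ⟨hv, hvz⟩
  have hvz' : z * v * z⁻¹ = v := by
    rw [← mem_centralizer_singleton_iff.mp hvz]; group
  -- `z = b1 b2`
  have hz' : z ∈ B1 ⊔ B2 := by rw [hsup]; exact hz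
  have hB1n2 : B1 ≤ normalizer (B2 : Set X) := fun b hb => mem_normalizer_iff.mpr fun c => by
    have hh : ∀ c ∈ B2, b * c * b⁻¹ = c := fun c hc => by
      rw [hRc b (hB1R hb) c (hB2R hc)]; group
    constructor
    · intro hc; rw [hh c hc]; exact hc
    · intro hc
      have h1 := hh _ hc
      have h2 : b * c * b⁻¹ = c := mul_right_cancel (b := b⁻¹) (mul_left_cancel (a := b) (by
        calc b * (b * c * b⁻¹ * b⁻¹) = b * (b * c * b⁻¹) * b⁻¹ := by group
          _ = b * c * b⁻¹ := h1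
          _ = b * (c * b⁻¹) := by group))
      rwa [h2] at hc
  rw [← SetLike.mem_coe, coe_mul_of_left_le_normalizer_right B1 B2 hB1n2] at hz'
  obtain ⟨b1, hb1, b2, hb2, hz12⟩ := hz'
  have hz12 : b1 * b2 = z := hz12
  subst hz12
  have hb11 : b1 ≠ 1 := fun h => hz2 (by rw [h, one_mul]; exact hb2)
  have hb21 : b2 ≠ 1 := fun h => hz1 (by rw [h, mul_one]; exact hb1)
  -- `v = v1 v2`
  have hv' : v ∈ V1 ⊔ V2 := by rw [hVsup]; exact hv
  have hV1n2 : V1 ≤ normalizer (V2 : Set X) := by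
    refine fun b hb => mem_normalizer_iff.mpr fun c => ?_
    have hb' : b ∈ V := hb.1
    constructor
    · intro hc
      have h1 : b * c * b⁻¹ = c := by rw [hVc b hb' c hc.1]; group
      rw [h1]; exact hc
    · intro hc
      have h1 : c ∈ V := by
        have h5 : c = b⁻¹ * (b * c * b⁻¹) * b := by group
        rw [h5]; exact mul_mem (mul_mem (inv_mem hb') hc.1) hb'
      have h2 : b * c * b⁻¹ = c := by rw [hVc b hb' c h1]; group
      rwa [h2] at hc
  rw [← SetLike.mem_coe, coe_mul_of_left_le_normalizer_right V1 V2 hV1n2] at hv'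
  obtain ⟨v1, hv1, v2, hv2, hv12⟩ := hv'
  have hv12 : v1 * v2 = v := hv12
  subst hv12
  have g1 := hconjC B1 hB1R (b1 * b2) (mul_mem (hB1R hb1) (hB2R hb2)) v1 hv1
  have g2 := hconjC B2 hB2R (b1 * b2) (mul_mem (hB1R hb1) (hB2R hb2)) v2 hv2
  set z := b1 * b2 with hzdef
  have huniq : v1⁻¹ * (z * v1 * z⁻¹) = v2 * (z * v2 * z⁻¹)⁻¹ := by
    have h5 : (z * v1 * z⁻¹) * (z * v2 * z⁻¹) = v1 * v2 := by
      rw [← hvz']; group
    calc v1⁻¹ * (z * v1 * z⁻¹) = v1⁻¹ * ((z * v1 * z⁻¹) * (z * v2 * z⁻¹)) * (z * v2 * z⁻¹)⁻¹ := by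
          group
      _ = _ := by rw [h5]; group
  have hmem : v1⁻¹ * (z * v1 * z⁻¹) ∈ V1 ⊓ V2 := mem_inf.mpr
    ⟨mul_mem (inv_mem hv1) g1, by rw [huniq]; exact mul_mem hv2 (inv_mem g2)⟩
  rw [hbot] at hmem
  have e1 : z * v1 * z⁻¹ = v1 := (inv_mul_eq_one.mp (Subgroup.mem_bot.mp hmem)).symm
  have e2 : z * v2 * z⁻¹ = v2 := by
    rw [Subgroup.mem_bot.mp hmem] at huniq
    exact (mul_inv_eq_one.mp huniq.symm).symm
  have f1 : b1 * v1 = v1 * b1 := mem_centralizer_iff.mp hv1.2 b1 hb1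
  have f2 : b2 * v2 = v2 * b2 := mem_centralizer_iff.mp hv2.2 b2 hb2
  have hb12 := hRc b1 (hB1R hb1) b2 (hB2R hb2)
  have i1 : v1 = 1 := by
    have h5 : b2 * v1 = v1 * b2 := by
      have h6 : b1 * (b2 * v1) = b1 * (v1 * b2) := by
        calc b1 * (b2 * v1) = (z * v1 * z⁻¹) * z := by rw [hzdef]; group
          _ = v1 * b1 * b2 := by rw [e1, hzdef]; group
          _ = b1 * (v1 * b2) := by rw [← f1]; group
      exact mul_left_cancel h6
    have h6 : v1 ∈ V1 ⊓ V2 := mem_inf.mpr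
      ⟨hv1, mem_inf.mpr ⟨hv1.1, mem_centralizer_of_prime hB23 hb2 hb21 h5⟩⟩
    rw [hbot] at h6
    exact Subgroup.mem_bot.mp h6
  have i2 : v2 = 1 := by
    have h5 : b1 * v2 = v2 * b1 := by
      have h6 : b2 * (b1 * v2) = b2 * (v2 * b1) := by
        calc b2 * (b1 * v2) = (b1 * b2) * v2 := by rw [hb12]; group
          _ = (z * v2 * z⁻¹) * z := by rw [hzdef]; group
          _ = v2 * (b1 * b2) := by rw [e2, hzdef]
          _ = v2 * b2 * b1 := by rw [hb12]; group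
          _ = b2 * (v2 * b1) := by rw [← f2]; group
      exact mul_left_cancel h6
    have h6 : v2 ∈ V1 ⊓ V2 := mem_inf.mpr
      ⟨mem_inf.mpr ⟨hv2.1, mem_centralizer_of_prime hB13 hb1 hb11 h5⟩, hv2⟩
    rw [hbot] at h6
    exact Subgroup.mem_bot.mp h6
  rw [i1, i2, mul_one]

end Cfsg.Agent.SectRankFour.C2.ActFour
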