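import Cfsg.Agent.SectRankFour.C2.Defs
import Cfsg.Agent.SectRankFour.C2.ActFour
import Cfsg.Agent.Transfer.ElemAbAut
import Cfsg.Agent.Lib.ElemAbGL
import Cfsg.Agent.PLocal.SectionFrattini
import Cfsg.Agent.TwoFusion.SectionalRank
import Cfsg.Agent.Lib.FrattiniPGroup
import Cfsg.Agent.S0660

/-!
# Minimal parabolics in sectional 2-rank at most 4

`exists_par`: every minimal parabolic `P` with `O₂(P) ≠ 1` over the Sylow 2-subgroup `S` satisfies
`Par S P R p` for some `R`, `p`.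
-/

set_option autoImplicit false

namespace Cfsg.Agent.SectRankFour.C2.Par

open Subgroup Cfsg Cfsg.Agent.ZN Cfsg.Agent.MinSimple.MinParabolic Cfsg.Agent.MinSimple.VModule
open Cfsg.Agent.SectRankFour.C2.Defs Cfsg.Agent.SectRankFour.C2.ActFour
open scoped commutatorElement

universe u

variable {G : Type u} [Group G]

/-! ### Generalities -/

theorem card_subgroupOf {H K : Subgroup G} (h : H ≤ K) : Nat.card (H.subgroupOf K) = Nat.card H :=
  Nat.card_congr (Subgroup.subgroupOfEquivOfLe h).toEquiv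

theorem card_mul_relIndex {H K : Subgroup G} (h : H ≤ K) :
    Nat.card H * H.relIndex K = Nat.card K := by
  rw [Subgroup.relIndex, ← card_subgroupOf h]
  exact Subgroup.card_mul_index _

/-- `|K H| |K ∩ H| = |K| |H|` -/
theorem card_sup_mul [Finite G] {K H : Subgroup G} (h : H ≤ normalizer (K : Set G)) :
    Nat.card (K ⊔ H : Subgroup G) * Nat.card (K ⊓ H : Subgroup G) = Nat.card K * Nat.card H := by
  have hKn : (K.subgroupOf (K ⊔ H)).Normal :=
    normal_subgroupOf_of_le_normalizer (sup_le le_normalizer h)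
  have h1 := relIndex_sup_left (H.subgroupOf (K ⊔ H)) (K.subgroupOf (K ⊔ H))
  rw [← Subgroup.subgroupOf_sup le_sup_left le_sup_right, Subgroup.subgroupOf_self,
    Subgroup.relIndex_subgroupOf le_sup_right, relIndex_top_right] at h1
  have h2 : Nat.card K * K.relIndex H = Nat.card (K ⊔ H : Subgroup G) := by
    rw [← h1]
    exact card_mul_relIndex le_sup_left
  have h3 : Nat.card (K ⊓ H : Subgroup G) * K.relIndex H = Nat.card H := by
    rw [← inf_relIndex_right]
    exact card_mul_relIndex inf_le_right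
  rw [← h2, ← h3]
  ring

/-- The Frattini argument. -/
theorem frattini [Finite G] {r : ℕ} [Fact r.Prime] {X L R : Subgroup G} (hRX : R ≤ X)
    (hR : IsPGroup r R) (hRs : ¬ r ∣ R.relIndex X) (hL : X ≤ normalizer (L : Set G)) :
    X ≤ L ⊔ (X ⊓ normalizer ((R ⊓ L : Subgroup G) : Set G)) := by
  have h1 : IsPGroup r (R.subgroupOf X) := hR.comap_of_injective _ X.subtype_injective
  have hn : (L.subgroupOf X).Normal := normal_subgroupOf_of_le_normalizer hL
  have h2 := Lib.SylowNormalInf.normalizer_inf_sup_eq_top (h1.toSylow hRs : Sylow r X)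
    (L.subgroupOf X)
  intro x hx
  have h3 : (⟨x, hx⟩ : X) ∈ normalizer ((R.subgroupOf X ⊓ L.subgroupOf X : Subgroup X) : Set X) ⊔
      L.subgroupOf X := by
    have : normalizer ((R.subgroupOf X ⊓ L.subgroupOf X : Subgroup X) : Set X) ⊔
      L.subgroupOf X = ⊤ := h2
    rw [this]
    exact mem_top _
  rw [mem_sup_of_normal_right] at h3
  obtain ⟨a, ha, b, hb, hab⟩ := h3
  have hx2 : x = (a : G) * (b : G) := (congrArg Subtype.val hab).symm
  rw [hx2]
  have ha2 : (a : G) ∈ X ⊓ normalizer ((R ⊓ L : Subgroup G) : Set G) := by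
    refine ⟨a.2, ?_⟩
    have hkey : ∀ c : X, c ∈ normalizer ((R.subgroupOf X ⊓ L.subgroupOf X : Subgroup X) : Set X) →
        ∀ y ∈ R ⊓ L, (c : G) * y * (c : G)⁻¹ ∈ R ⊓ L := by
      intro c hc y hy
      exact (mem_normalizer_iff.mp hc ⟨y, hRX hy.1⟩).mp ⟨hy.1, hy.2⟩
    refine mem_normalizer_iff.mpr fun y => ⟨hkey a ha y, fun hy => ?_⟩
    have h4 := hkey a⁻¹ (inv_mem ha) _ hy
    have e : ((a⁻¹ : X) : G) * ((a : G) * y * (a : G)⁻¹) * ((a⁻¹ : X) : G)⁻¹ = y := by
      rw [coe_inv]; group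
    rwa [e] at h4
  exact mul_mem (mem_sup_right ha2) (mem_sup_left hb)

/-! ### Elementary abelian sections -/

/-- `A / B` is an elementary abelian section of `P`, `A` and `B` normal in `P`. -/
structure Sec (P A B : Subgroup G) : Prop where
  le : B ≤ A
  leP : A ≤ P
  nA : P ≤ normalizer (A : Set G)
  nB : P ≤ normalizer (B : Set G)
  comm : ∀ a ∈ A, ∀ b ∈ A, a * b * a⁻¹ * b⁻¹ ∈ B
  sq : ∀ a ∈ A, a ^ 2 ∈ B

namespace Sec

variable {P A B : Subgroup G}

theorem conjA (h : Sec P A B) {x a : G} (hx : x ∈ P) (ha : a ∈ A) : x * a * x⁻¹ ∈ A :=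
  (mem_normalizer_iff.mp (h.nA hx) a).mp ha

theorem conjB (h : Sec P A B) {x a : G} (hx : x ∈ P) (ha : a ∈ B) : x * a * x⁻¹ ∈ B :=
  (mem_normalizer_iff.mp (h.nB hx) a).mp ha

/-- The quotient `P / B` as an abstract group. -/
theorem exists_quot [Finite G] (h : Sec P A B) :
    ∃ (Y : Type u) (_ : Group Y) (_ : Finite Y) (π : P →* Y) (V : Subgroup Y),
      Function.Surjective π ∧ V.Normal ∧ (∀ v ∈ V, ∀ w ∈ V, v * w = w * v) ∧
      (∀ v ∈ V, v ^ 2 = 1) ∧ Nat.card V * Nat.card B = Nat.card A ∧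
      (∀ x : P, π x ∈ V ↔ (x : G) ∈ A) ∧ (∀ x : P, π x = 1 ↔ (x : G) ∈ B) := by
  have hn : (B.subgroupOf P).Normal := normal_subgroupOf_of_le_normalizer h.nB
  have hAn : (A.subgroupOf P).Normal := normal_subgroupOf_of_le_normalizer h.nA
  have hBA : B.subgroupOf P ≤ A.subgroupOf P := fun x hx => mem_subgroupOf.mpr (h.le (mem_subgroupOf.mp hx))
  let π := QuotientGroup.mk' (B.subgroupOf P)
  have h1 : ∀ x : P, π x = 1 ↔ (x : G) ∈ B := fun x => by
    rw [← MonoidHom.mem_ker, QuotientGroup.ker_mk', mem_subgroupOf]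
  have hπ : Function.Surjective π := QuotientGroup.mk'_surjective _
  refine ⟨P ⧸ B.subgroupOf P, inferInstance, inferInstance, π, (A.subgroupOf P).map π,
    hπ, hAn.map π hπ, ?_, ?_, ?_, ?_, h1⟩
  · rintro _ ⟨x, hx, rfl⟩ _ ⟨y, hy, rfl⟩
    have h2 : π (x * y * x⁻¹ * y⁻¹) = 1 := (h1 _).mpr (h.comm x hx y hy)
    rw [map_mul, map_mul, map_mul, map_inv, map_inv] at h2
    rw [mul_inv_eq_one, mul_inv_eq_iff_eq_mul] at h2
    exact h2
  · rintro _ ⟨x, hx, rfl⟩
    rw [← map_pow]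
    exact (h1 _).mpr (h.sq x hx)
  · have h6 := Subgroup.card_mul_index ((π.comp (A.subgroupOf P).subtype).ker)
    rw [Subgroup.index_ker, MonoidHom.range_comp, range_subtype, card_subgroupOf h.leP] at h6
    have h7 : (π.comp (A.subgroupOf P).subtype).ker = (B.subgroupOf P).subgroupOf (A.subgroupOf P) := by
      ext x
      rw [MonoidHom.mem_ker, mem_subgroupOf, mem_subgroupOf]
      exact h1 _
    rw [h7, card_subgroupOf hBA, card_subgroupOf (h.le.trans h.leP)] at h6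
    rw [mul_comm]
    exact h6
  · intro x
    constructor
    · rintro ⟨a, ha, hax⟩
      have h2 : π (a⁻¹ * x) = 1 := by rw [map_mul, map_inv, hax, inv_mul_cancel]
      have h3 := h.le ((h1 _).mp h2)
      have h4 : (x : G) = a * ((a⁻¹ * x : P) : G) := by push_cast; group
      rw [h4]
      exact mul_mem ha h3
    · intro hx
      exact ⟨x, hx, rfl⟩

/-- `A / B` has order at most 16. -/
theorem card_le [Finite G] (hr : SectionalPRankLE 2 4 G) (h : Sec P A B) :
    Nat.card A ≤ 16 * Nat.card B :=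
  TwoFusion.SectionalRank.sectionalPRankLE_iff.mp hr A B ⟨h.le, h.comm, h.sq⟩

/-- Commuting in the quotient. -/
theorem comm_iff {Y : Type*} [Group Y] {π : P →* Y} (hπ : ∀ x : P, π x = 1 ↔ (x : G) ∈ B)
    (x a : P) : π x * π a = π a * π x ↔ (x : G) * a * (x : G)⁻¹ * (a : G)⁻¹ ∈ B := by
  have h1 : π x * π a = π a * π x ↔ π (x * a * x⁻¹ * a⁻¹) = 1 := by
    rw [map_mul, map_mul, map_mul, map_inv, map_inv, mul_inv_eq_one, mul_inv_eq_iff_eq_mul]
  rw [h1, hπ]
  push_cast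
  exact Iff.rfl

/-- `C_A(R mod B)` -/
def cen (h : Sec P A B) {R : Subgroup G} (hR : R ≤ P) : Subgroup G where
  carrier := {a | a ∈ A ∧ ∀ x ∈ R, x * a * x⁻¹ * a⁻¹ ∈ B}
  one_mem' := ⟨one_mem _, fun x _ => by simp⟩
  mul_mem' := by
    rintro a b ⟨ha, ha'⟩ ⟨hb, hb'⟩
    refine ⟨mul_mem ha hb, fun x hx => ?_⟩
    have h1 : x * (a * b) * x⁻¹ * (a * b)⁻¹ =
        (x * a * x⁻¹ * a⁻¹) * (a * (x * b * x⁻¹ * b⁻¹) * a⁻¹) := by group
    rw [h1]
    exact mul_mem (ha' x hx) (h.conjB (h.leP ha) (hb' x hx))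
  inv_mem' := by
    rintro a ⟨ha, ha'⟩
    refine ⟨inv_mem ha, fun x hx => ?_⟩
    have h1 : x * a⁻¹ * x⁻¹ * a⁻¹⁻¹ = a⁻¹ * (x * a * x⁻¹ * a⁻¹)⁻¹ * a⁻¹⁻¹ := by group
    rw [h1]
    exact h.conjB (inv_mem (h.leP ha)) (inv_mem (ha' x hx))

theorem mem_cen (h : Sec P A B) {R : Subgroup G} (hR : R ≤ P) {a : G} :
    a ∈ h.cen hR ↔ a ∈ A ∧ ∀ x ∈ R, x * a * x⁻¹ * a⁻¹ ∈ B := Iff.rfl

theorem cen_le (h : Sec P A B) {R : Subgroup G} (hR : R ≤ P) : h.cen hR ≤ A := fun _ hx => hx.1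

theorem le_cen (h : Sec P A B) {R : Subgroup G} (hR : R ≤ P) : B ≤ h.cen hR := fun b hb =>
  ⟨h.le hb, fun x hx => mul_mem (h.conjB (hR hx) hb) (inv_mem hb)⟩

/-- `g` maps `C_A(R)` to `C_A(R^g)`. -/
theorem conj_mem_cen (h : Sec P A B) {R R' : Subgroup G} (hR : R ≤ P) (hR' : R' ≤ P) {g : G}
    (hg : g ∈ P) (hgR : ∀ x ∈ R', g⁻¹ * x * g ∈ R) {a : G} (ha : a ∈ h.cen hR) :
    g * a * g⁻¹ ∈ h.cen hR' := by
  refine ⟨h.conjA hg ha.1, fun x hx => ?_⟩
  have h1 := h.conjB hg (ha.2 _ (hgR x hx))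
  have h2 : x * (g * a * g⁻¹) * x⁻¹ * (g * a * g⁻¹)⁻¹ =
      g * (g⁻¹ * x * g * a * (g⁻¹ * x * g)⁻¹ * a⁻¹) * g⁻¹ := by group
  rwa [h2]

/-- The dictionary between `C_A(R mod B)` and the fixed points in the quotient. -/
theorem cen_iff (h : Sec P A B) {R : Subgroup G} (hR : R ≤ P) {Y : Type*} [Group Y] {π : P →* Y}
    {V : Subgroup Y} (hV : ∀ x : P, π x ∈ V ↔ (x : G) ∈ A) (hπ : ∀ x : P, π x = 1 ↔ (x : G) ∈ B)
    (a : P) : π a ∈ V ⊓ centralizer (((R.subgroupOf P).map π : Subgroup Y) : Set Y) ↔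
      (a : G) ∈ h.cen hR := by
  rw [mem_inf, hV, mem_cen, mem_centralizer_iff]
  refine and_congr_right fun _ => ⟨fun h1 x hx => ?_, fun h1 => ?_⟩
  · exact (comm_iff hπ ⟨x, hR hx⟩ a).mp (h1 _ ⟨⟨x, hR hx⟩, hx, rfl⟩)
  · rintro _ ⟨x, hx, rfl⟩
    exact (comm_iff hπ x a).mpr (h1 x hx)

theorem card_cen [Finite G] (h : Sec P A B) {R : Subgroup G} (hR : R ≤ P) {Y : Type*} [Group Y]
    {π : P →* Y} (hs : Function.Surjective π)
    {V : Subgroup Y} (hV : ∀ x : P, π x ∈ V ↔ (x : G) ∈ A) (hπ : ∀ x : P, π x = 1 ↔ (x : G) ∈ B) :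
    Nat.card (h.cen hR) = Nat.card B *
      Nat.card (V ⊓ centralizer (((R.subgroupOf P).map π : Subgroup Y) : Set Y) : Subgroup Y) := by
  set W := V ⊓ centralizer (((R.subgroupOf P).map π : Subgroup Y) : Set Y) with hW
  have hcP : h.cen hR ≤ P := (h.cen_le hR).trans h.leP
  have h1 : ((h.cen hR).subgroupOf P).map π = W := by
    ext y
    constructor
    · rintro ⟨a, ha, rfl⟩
      exact (h.cen_iff hR hV hπ a).mpr ha
    · intro hy
      obtain ⟨a, rfl⟩ := hs y
      exact ⟨a, (h.cen_iff hR hV hπ a).mp hy, rfl⟩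
  have h6 := Subgroup.card_mul_index ((π.comp ((h.cen hR).subgroupOf P).subtype).ker)
  rw [Subgroup.index_ker, MonoidHom.range_comp, range_subtype, h1, card_subgroupOf hcP] at h6
  have h7 : (π.comp ((h.cen hR).subgroupOf P).subtype).ker =
      (B.subgroupOf P).subgroupOf ((h.cen hR).subgroupOf P) := by
    ext x
    rw [MonoidHom.mem_ker, mem_subgroupOf, mem_subgroupOf]
    exact hπ _
  have h8 : B.subgroupOf P ≤ (h.cen hR).subgroupOf P := fun x hx =>
    mem_subgroupOf.mpr (h.le_cen hR (mem_subgroupOf.mp hx))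
  rw [h7, card_subgroupOf h8, card_subgroupOf ((h.le_cen hR).trans hcP)] at h6
  exact h6.symm

/-- An element of order 5 acting nontrivially on `A / B`. -/
theorem five [Finite G] (hr : SectionalPRankLE 2 4 G) (h : Sec P A B) {x : G} (hx : x ∈ P)
    (hx5 : x ^ 5 = 1) (hn : ¬ ∀ a ∈ A, x * a * x⁻¹ * a⁻¹ ∈ B) :
    Nat.card A = 16 * Nat.card B ∧ ∀ a ∈ A, x * a * x⁻¹ * a⁻¹ ∈ B → a ∈ B := by
  obtain ⟨Y, _, _, π, V, hs, hVn, hVc, hV2, hcard, hV, hπ⟩ := h.exists_quot
  have h16 : Nat.card V ≤ 16 := by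
    have h1 := h.card_le hr
    rw [← hcard] at h1
    exact Nat.le_of_mul_le_mul_right h1 Nat.card_pos
  have hc : ¬ V ≤ centralizer ({π ⟨x, hx⟩} : Set Y) := by
    intro h1
    apply hn
    intro a ha
    have h2 := h1 ((hV ⟨a, h.leP ha⟩).mpr ha)
    exact (comm_iff hπ ⟨x, hx⟩ ⟨a, h.leP ha⟩).mp (mem_centralizer_singleton_iff.mp h2).symm
  obtain ⟨h1, h2⟩ := ActFour.five hV2 h16 (x := π ⟨x, hx⟩)
    (by rw [← map_pow]; exact (hπ _).mpr (by push_cast; rw [hx5]; exact one_mem _))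
    (fun v hv => hVn.conj_mem v hv _) hc
  refine ⟨by rw [← hcard, h1], fun a ha hxa => ?_⟩
  have h3 : π ⟨a, h.leP ha⟩ ∈ V ⊓ centralizer ({π ⟨x, hx⟩} : Set Y) := by
    refine mem_inf.mpr ⟨(hV _).mpr ha, mem_centralizer_singleton_iff.mpr ?_⟩
    exact ((comm_iff hπ ⟨x, hx⟩ ⟨a, h.leP ha⟩).mpr hxa).symm
  rw [h2] at h3
  exact (hπ _).mp (Subgroup.mem_bot.mp h3)

/-- No dihedral group of order 14 acts on a section. -/
theorem no_seven [Finite G] (hr : SectionalPRankLE 2 4 G) (h : Sec P A B) {x t : G} (hx : x ∈ P)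
    (ht : t ∈ P) (hx7 : x ^ 7 = 1) (hn : ¬ ∀ a ∈ A, x * a * x⁻¹ * a⁻¹ ∈ B)
    (ht2 : ∀ a ∈ A, t ^ 2 * a * (t ^ 2)⁻¹ * a⁻¹ ∈ B)
    (htx : ∀ a ∈ A, (t * x * t⁻¹ * x) * a * (t * x * t⁻¹ * x)⁻¹ * a⁻¹ ∈ B) : False := by
  obtain ⟨Y, _, _, π, V, hs, hVn, hVc, hV2, hcard, hV, hπ⟩ := h.exists_quot
  have h16 : Nat.card V ≤ 16 := by
    have h1 := h.card_le hr
    rw [← hcard] at h1
    exact Nat.le_of_mul_le_mul_right h1 Nat.card_pos
  have hc : ¬ V ≤ centralizer ({π ⟨x, hx⟩} : Set Y) := by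
    intro h1
    apply hn
    intro a ha
    have h2 := h1 ((hV ⟨a, h.leP ha⟩).mpr ha)
    exact (comm_iff hπ ⟨x, hx⟩ ⟨a, h.leP ha⟩).mp (mem_centralizer_singleton_iff.mp h2).symm
  have hcen : ∀ y : P, (∀ a ∈ A, (y : G) * a * (y : G)⁻¹ * a⁻¹ ∈ B) →
      π y ∈ centralizer (V : Set Y) := by
    intro y hy
    refine mem_centralizer_iff.mpr fun v hv => ?_
    obtain ⟨a, rfl⟩ := hs v
    exact ((comm_iff hπ y a).mpr (hy a ((hV a).mp hv))).symm
  have hnV : ∀ y : Y, y ∈ normalizer (V : Set Y) := fun y => by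
    rw [Subgroup.normalizer_eq_top]; exact mem_top _
  refine ActFour.no_seven hVc hV2 h16 (x := π ⟨x, hx⟩) (t := π ⟨t, ht⟩) ?_ (hnV _) (hnV _) hc ?_ ?_
  · rw [← map_pow]
    exact (hπ _).mpr (by push_cast; rw [hx7]; exact one_mem _)
  · rw [← map_pow]
    exact hcen _ (by push_cast; exact ht2)
  · rw [← map_inv, ← map_mul, ← map_mul, ← map_mul]
    exact hcen _ (by push_cast; exact htx)

/-- No element of order 9 acts on a section. -/
theorem order_nine [Finite G] (hr : SectionalPRankLE 2 4 G) (h : Sec P A B) {x : G} (hx : x ∈ P)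
    (hx9 : x ^ 9 = 1) : ∀ a ∈ A, x ^ 3 * a * (x ^ 3)⁻¹ * a⁻¹ ∈ B := by
  obtain ⟨Y, _, _, π, V, hs, hVn, hVc, hV2, hcard, hV, hπ⟩ := h.exists_quot
  have h16 : Nat.card V ≤ 16 := by
    have h1 := h.card_le hr
    rw [← hcard] at h1
    exact Nat.le_of_mul_le_mul_right h1 Nat.card_pos
  have h1 := ActFour.order_nine hVc hV2 h16 (x := π ⟨x, hx⟩)
    (by rw [← map_pow]; exact (hπ _).mpr (by push_cast; rw [hx9]; exact one_mem _))
    (by rw [Subgroup.normalizer_eq_top]; exact mem_top _)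
  intro a ha
  have h2 := h1 ((hV ⟨a, h.leP ha⟩).mpr ha)
  rw [← map_pow] at h2
  have h3 := (comm_iff hπ (⟨x, hx⟩ ^ 3) ⟨a, h.leP ha⟩).mp (mem_centralizer_singleton_iff.mp h2).symm
  simpa using h3

end Sec

/-! ### The index bound -/

theorem prod_dvd {n : ℕ} (hn : n ≤ 4) : (∏ i : Fin n, (2 ^ n - 2 ^ (i : ℕ))) ∣ 20160 := by
  interval_cases n <;> decide

/-- `|P : S|` divides `3² · 5 · 7`. -/
theorem relIndex_dvd [Finite G] (hr : SectionalPRankLE 2 4 G) {S P : Subgroup G}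
    (hS : IsPGroup 2 S) (hSyl : ¬ 2 ∣ S.relIndex P)
    (hc : P ⊓ centralizer (o2 P : Set G) ≤ o2 P) : S.relIndex P ∣ 315 := by
  classical
  have h2 : Fact (Nat.Prime 2) := ⟨Nat.prime_two⟩
  set Q : Subgroup P := pCore 2 P with hQ
  have hQn : Q.Normal := Lib.Cores.pCore_normal 2
  have hQp : IsPGroup 2 Q := Lib.Cores.pCore_isPGroup 2
  have hQc : centralizer (Q : Set P) ≤ Q := by
    intro x hx
    have h1 : (x : G) ∈ P ⊓ centralizer (o2 P : Set G) := by
      refine ⟨x.2, ?_⟩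
      refine mem_centralizer_iff.mpr ?_
      rintro _ ⟨y, hy, rfl⟩
      exact congrArg Subtype.val (mem_centralizer_iff.mp hx y hy)
    obtain ⟨y, hy, hyx⟩ := hc h1
    rwa [Subtype.ext hyx] at hy
  set F : Subgroup P := (_root_.frattini Q).map Q.subtype with hF
  have hFn : F.Normal := by
    have h1 : (_root_.frattini Q).Characteristic := frattini_characteristic
    exact inferInstance
  have hFQ : F ≤ Q := map_subtype_le _
  have hker := PLocal.SectionFrattini.isPGroup_sectionKernel_frattini Q hQp hQc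
  -- the quotient
  let π := QuotientGroup.mk' F
  set V : Subgroup (P ⧸ F) := Q.map π with hV
  have hVn : V.Normal := hQn.map π (QuotientGroup.mk'_surjective F)
  have hVc : ∀ x ∈ V, ∀ y ∈ V, x * y = y * x := by
    rintro _ ⟨x, hx, rfl⟩ _ ⟨y, hy, rfl⟩
    rw [← map_mul, ← map_mul]
    refine (QuotientGroup.eq).mpr ?_
    have h1 := Lib.FrattiniPGroup.commutator_mem_frattini hQp ⟨y, hy⟩⁻¹ ⟨x, hx⟩⁻¹
    refine ⟨_, h1, ?_⟩
    simp only [commutatorElement_def, coe_subtype]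
    push_cast
    group
  have hV2 : ∀ x ∈ V, x ^ 2 = 1 := by
    rintro _ ⟨x, hx, rfl⟩
    rw [← map_pow]
    refine (QuotientGroup.eq_one_iff _).mpr ?_
    exact ⟨_, Lib.FrattiniPGroup.pow_mem_frattini hQp ⟨x, hx⟩, rfl⟩
  have hV16 : Nat.card V ≤ 16 := by
    have h1 := TwoFusion.SectionalRank.sectionalPRankLE_iff.mp hr (Q.map P.subtype) (F.map P.subtype)
      { le := map_mono hFQ
        comm := by
          rintro _ ⟨x, hx, rfl⟩ _ ⟨y, hy, rfl⟩
          refine ⟨x * y * x⁻¹ * y⁻¹, ?_, by simp⟩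
          exact ⟨_, Lib.FrattiniPGroup.commutator_mem_frattini hQp ⟨x, hx⟩ ⟨y, hy⟩, rfl⟩
        pow := by
          rintro _ ⟨x, hx, rfl⟩
          refine ⟨x ^ 2, ?_, by simp⟩
          exact ⟨_, Lib.FrattiniPGroup.pow_mem_frattini hQp ⟨x, hx⟩, rfl⟩ }
    rw [Subgroup.card_map_of_injective P.subtype_injective,
      Subgroup.card_map_of_injective P.subtype_injective] at h1
    have h3 : Nat.card V * Nat.card F = Nat.card Q := by
      have h4 : Nat.card V = F.relIndex Q := by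
        have h5 := Subgroup.card_mul_index (F.subgroupOf Q)
        rw [card_subgroupOf hFQ] at h5
        rw [hV, Subgroup.relIndex]
        have h6 := Subgroup.card_mul_index ((π.comp Q.subtype).ker)
        rw [Subgroup.index_ker] at h6
        have h7 : (π.comp Q.subtype).ker = F.subgroupOf Q := by
          ext x
          rw [MonoidHom.mem_ker, mem_subgroupOf]
          exact QuotientGroup.eq_one_iff _
        rw [h7, card_subgroupOf hFQ, MonoidHom.range_comp, range_subtype] at h6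
        rw [← h5] at h6
        exact Nat.eq_of_mul_eq_mul_left Nat.card_pos h6
      rw [h4, mul_comm]
      exact card_mul_relIndex hFQ
    rw [← h3] at h1
    exact Nat.le_of_mul_le_mul_right (by rw [show (2 ^ 4 : ℕ) = 16 by norm_num] at h1; exact h1)
      Nat.card_pos
  have hVcent : centralizer (V : Set (P ⧸ F)) ≤ V := by
    intro x hx
    obtain ⟨g, rfl⟩ := QuotientGroup.mk'_surjective F x
    have h1 : g ∈ sectionKernel Q F := hx
    have hn : (sectionKernel Q F).Normal := by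
      have : (centralizer (V : Set (P ⧸ F))).Normal := inferInstance
      exact this.comap π
    exact ⟨g, (Lib.Cores.le_pCore hn hker) h1, rfl⟩
  obtain ⟨f, hf, -⟩ := Lib.ElemAbGL.exists_injective_hom_mulAut V hVc hVcent
  obtain ⟨n, hn4, hnV⟩ := exists_pow hV2 hV16
  have haut := Transfer.ElemAbAut.card_mulAut (T := V) 2 n
    (fun x y => Subtype.ext (hVc x x.2 y y.2)) (fun x => Subtype.ext (hV2 x x.2)) hnV
  have hd1 : Nat.card ((P ⧸ F) ⧸ V) ∣ 20160 :=
    (Subgroup.card_dvd_of_injective f hf).trans (haut ▸ prod_dvd hn4)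
  have hd2 : Nat.card ((P ⧸ F) ⧸ V) = Q.index := by
    rw [← Subgroup.index_eq_card, hV,
      Subgroup.index_map_eq Q (QuotientGroup.mk'_surjective F) (by rw [QuotientGroup.ker_mk']; exact hFQ)]
  rw [hd2] at hd1
  have hQS : Q ≤ S.subgroupOf P := by
    intro x hx
    exact mem_subgroupOf.mpr (o2_le_of_sylow hS hSyl ⟨x, hx, rfl⟩)
  have hd3 : S.relIndex P ∣ 64 * 315 := (Subgroup.index_dvd_of_le hQS).trans hd1
  refine Nat.Coprime.dvd_of_dvd_mul_left ?_ hd3
  rw [show (64 : ℕ) = 2 ^ 6 by norm_num]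
  exact Nat.Coprime.pow_right _ ((Nat.Prime.coprime_iff_not_dvd Nat.prime_two).mpr hSyl).symm


/-! ### The Frattini section -/

/-- There is an elementary abelian section `O₂(P) / B` with kernel `O₂(P)`. -/
theorem exists_frat [Finite G] {P : Subgroup G} (hc : P ⊓ centralizer (o2 P : Set G) ≤ o2 P) :
    ∃ B : Subgroup G, Sec P (o2 P) B ∧
      ∀ g ∈ P, (∀ a ∈ o2 P, g * a * g⁻¹ * a⁻¹ ∈ B) → g ∈ o2 P := by
  classical
  have h2 : Fact (Nat.Prime 2) := ⟨Nat.prime_two⟩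
  set Q : Subgroup P := pCore 2 P with hQ
  have hQn : Q.Normal := Lib.Cores.pCore_normal 2
  have hQp : IsPGroup 2 Q := Lib.Cores.pCore_isPGroup 2
  have hQc : centralizer (Q : Set P) ≤ Q := by
    intro x hx
    have h1 : (x : G) ∈ P ⊓ centralizer (o2 P : Set G) := by
      refine ⟨x.2, ?_⟩
      refine mem_centralizer_iff.mpr ?_
      rintro _ ⟨y, hy, rfl⟩
      exact congrArg Subtype.val (mem_centralizer_iff.mp hx y hy)
    obtain ⟨y, hy, hyx⟩ := hc h1
    rwa [Subtype.ext hyx] at hy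
  set F : Subgroup P := (_root_.frattini Q).map Q.subtype with hF
  have hFn : F.Normal := by
    have h1 : (_root_.frattini Q).Characteristic := frattini_characteristic
    exact inferInstance
  have hFQ : F ≤ Q := map_subtype_le _
  have hker := PLocal.SectionFrattini.isPGroup_sectionKernel_frattini Q hQp hQc
  have hkn : (sectionKernel Q F).Normal := by
    have h1 : (Q.map (QuotientGroup.mk' F)).Normal := hQn.map _ (QuotientGroup.mk'_surjective F)
    have : (centralizer ((Q.map (QuotientGroup.mk' F) : Subgroup (P ⧸ F)) : Set (P ⧸ F))).Normal :=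
      inferInstance
    exact this.comap (QuotientGroup.mk' F)
  have hmem : ∀ {x : P}, (x : G) ∈ F.map P.subtype → x ∈ F := by
    rintro x ⟨y, hy, hyx⟩
    have : y = x := Subtype.ext hyx
    rwa [← this]
  refine ⟨F.map P.subtype, ⟨map_mono hFQ, o2_le P, le_normalizer_o2 P,
    le_normalizer_map_of_normal hFn, ?_, ?_⟩, ?_⟩
  · rintro _ ⟨x, hx, rfl⟩ _ ⟨y, hy, rfl⟩
    refine ⟨x * y * x⁻¹ * y⁻¹, ?_, by simp⟩
    exact ⟨_, Lib.FrattiniPGroup.commutator_mem_frattini hQp ⟨x, hx⟩ ⟨y, hy⟩, rfl⟩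
  · rintro _ ⟨x, hx, rfl⟩
    refine ⟨x ^ 2, ?_, by simp⟩
    exact ⟨_, Lib.FrattiniPGroup.pow_mem_frattini hQp ⟨x, hx⟩, rfl⟩
  · intro g hg hga
    refine ⟨⟨g, hg⟩, (Lib.Cores.le_pCore hkn hker) ?_, rfl⟩
    rw [PLocal.SectionFrattini.mem_sectionKernel]
    intro k hk
    have h1 := hmem (x := ⟨g, hg⟩ * k * ⟨g, hg⟩⁻¹ * k⁻¹) (hga k ⟨k, hk, rfl⟩)
    have h3 : ⁅k, (⟨g, hg⟩ : P)⁆ = (⟨g, hg⟩ * k * ⟨g, hg⟩⁻¹ * k⁻¹)⁻¹ := by
      rw [commutatorElement_def]; group
    rw [h3]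
    exact inv_mem h1

/-! ### The structure theorem -/

theorem exists_sq_mem {S Q : Subgroup G} [Finite G] (hS : IsPGroup 2 S) (h : ¬ S ≤ Q) :
    ∃ t ∈ S, t ∉ Q ∧ t ^ 2 ∈ Q := by
  obtain ⟨t, ht, htQ⟩ := SetLike.not_le_iff_exists.mp h
  obtain ⟨n, hn⟩ := hS ⟨t, ht⟩
  have hn' : t ^ 2 ^ n = 1 := congrArg Subtype.val hn
  -- the largest power of 2 outside `Q`
  have hex : ∃ m, t ^ 2 ^ m ∈ Q := ⟨n, by rw [hn']; exact one_mem _⟩
  classical
  set m := Nat.find hex with hm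
  have h1 : t ^ 2 ^ m ∈ Q := Nat.find_spec hex
  have h0 : m ≠ 0 := by
    intro h2
    rw [h2, pow_zero, pow_one] at h1
    exact htQ h1
  obtain ⟨k, hk⟩ := Nat.exists_eq_succ_of_ne_zero h0
  refine ⟨t ^ 2 ^ k, pow_mem ht _, Nat.find_min hex (by omega), ?_⟩
  rw [← pow_mul, ← pow_succ]
  rwa [hk] at h1

/-- Every minimal parabolic with `O₂ ≠ 1` satisfies `Par`. -/
theorem exists_par [Finite G] (hr : SectionalPRankLE 2 4 G)
    (hL : ∀ N : Subgroup G, IsTwoLocal N → Group.IsSolvable N) (hG : IsCharacteristicTwoType G)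
    (S : Sylow 2 G) {P : Subgroup G} (h : IsMinPar (S : Subgroup G) P) (ho : o2 P ≠ ⊥) :
    ∃ (R : Subgroup G) (p : ℕ), Par (S : Subgroup G) P R p := by
  classical
  have h2 : Fact (Nat.Prime 2) := ⟨Nat.prime_two⟩
  have hS := S.isPGroup'
  have hsol := MinSimple.Basic.solvable_of_o2_ne_bot hL ho
  have hc := MinSimple.Basic.char2_of_o2_ne_bot hG S h.le ho
  have hSyl := MinSimple.Basic.not_dvd_relIndex S h.le
  set T := (S : Subgroup G) with hT
  obtain ⟨r, hrp, hr2, R, hRP, hRr, hER, hRE, hES, hnorm, hinf⟩ :=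
    exists_sylow_oddGen h hS hSyl hsol
  have hfr : Fact r.Prime := ⟨hrp⟩
  set Q := o2 P with hQ
  have hQT : Q ≤ T := o2_le_of_sylow hS hSyl
  have hQP : Q ≤ P := o2_le P
  have hQp : IsPGroup 2 Q := o2_isPGroup P
  have hRQ : R ≤ normalizer (Q : Set G) := hRP.trans (le_normalizer_o2 P)
  have hsup : Q ⊔ R ⊔ T = P := by
    apply le_antisymm (sup_le (sup_le hQP hRP) h.le)
    conv_lhs => rw [← hES]
    exact sup_le_sup_right hER T
  have hQR : Q ⊓ R = ⊥ := by
    have h1 := IsPGroup.coprime_card_of_ne 2 r hr2.symm Q R hQp hRr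
    exact (Subgroup.disjoint_of_coprime_natCard h1).eq_bot
  have hcQR : Nat.card (Q ⊔ R : Subgroup G) = Nat.card Q * Nat.card R := by
    have h1 := card_sup_mul hRQ
    rwa [hQR, Subgroup.card_bot, mul_one] at h1
  have hTn : T ≤ normalizer ((Q ⊔ R : Subgroup G) : Set G) := h.le.trans hnorm
  have hcP : Nat.card P = Nat.card T * Nat.card R := by
    have h1 := card_sup_mul hTn
    rw [hsup, inf_comm, hinf, hcQR] at h1
    have h3 : Nat.card P * Nat.card Q = (Nat.card T * Nat.card R) * Nat.card Q := by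
      rw [h1]; ring
    exact Nat.eq_of_mul_eq_mul_right Nat.card_pos h3
  have hrel : T.relIndex P = Nat.card R := by
    have h1 := card_mul_relIndex h.le
    rw [hcP] at h1
    exact Nat.eq_of_mul_eq_mul_left Nat.card_pos h1
  have hrelR : R.relIndex P = Nat.card T := by
    have h1 := card_mul_relIndex hRP
    rw [hcP, mul_comm (Nat.card T)] at h1
    exact Nat.eq_of_mul_eq_mul_left Nat.card_pos h1
  have hTQ : ¬ T ≤ Q := by
    intro h1
    exact h.not_le (by rw [le_antisymm h1 hQT]; exact le_normalizer_o2 P)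
  have hTP : T ≠ P := h.ne
  have hR1 : Nat.card R ≠ 1 := by
    intro h1
    apply hTP
    refine Subgroup.eq_of_le_of_card_ge h.le ?_
    rw [hcP, h1, mul_one]
  -- Frattini
  have hRdvd : ¬ r ∣ R.relIndex P := by
    rw [hrelR]
    obtain ⟨n, hn⟩ := IsPGroup.iff_card.mp hS
    rw [hn]
    intro h1
    exact hr2 ((Nat.prime_dvd_prime_iff_eq hrp Nat.prime_two).mp (hrp.dvd_of_dvd_pow h1))
  have hT0 : T ≤ Q ⊔ (T ⊓ normalizer (R : Set G)) := by
    have h1 := frattini hRP hRr hRdvd hnorm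
    rw [inf_eq_left.mpr (le_sup_right : R ≤ Q ⊔ R)] at h1
    have h3 : Q ⊔ R ⊔ P ⊓ normalizer (R : Set G) ≤ Q ⊔ (P ⊓ normalizer (R : Set G)) :=
      sup_le (sup_le le_sup_left (le_trans (le_inf hRP le_normalizer) le_sup_right)) le_sup_right
    intro t ht
    have h4 := h3 (h1 (h.le ht))
    have h5 : P ⊓ normalizer (R : Set G) ≤ normalizer (Q : Set G) :=
      inf_le_left.trans (le_normalizer_o2 P)
    rw [← SetLike.mem_coe, coe_mul_of_right_le_normalizer_left _ _ h5] at h4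
    obtain ⟨q, hq, n, hn, hqn⟩ := h4
    have hqn : q * n = t := hqn
    have h6 : n = q⁻¹ * t := by rw [← hqn]; group
    rw [← hqn]
    refine mul_mem (mem_sup_left hq) (mem_sup_right (mem_inf.mpr ⟨?_, hn.2⟩))
    rw [h6]
    exact mul_mem (inv_mem (hQT hq)) ht
  -- the kernel of the action of `P` on `Q R / Q`
  have hfaith : T ⊓ centralizer (R : Set G) ≤ Q := by
    let C : Subgroup G :=
      { carrier := {g | g ∈ T ∧ ∀ y ∈ Q ⊔ R, g * y * g⁻¹ * y⁻¹ ∈ Q}
        one_mem' := ⟨one_mem _, fun y _ => by simp⟩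
        mul_mem' := by
          rintro a b ⟨ha, ha'⟩ ⟨hb, hb'⟩
          refine ⟨mul_mem ha hb, fun y hy => ?_⟩
          have h3 : b * y * b⁻¹ ∈ Q ⊔ R := (mem_normalizer_iff.mp (hTn hb) y).mp hy
          have h4 : a * b * y * (a * b)⁻¹ * y⁻¹ =
              (a * (b * y * b⁻¹) * a⁻¹ * (b * y * b⁻¹)⁻¹) * (b * y * b⁻¹ * y⁻¹) := by group
          rw [h4]
          exact mul_mem (ha' _ h3) (hb' y hy)
        inv_mem' := by
          rintro a ⟨ha, ha'⟩
          refine ⟨inv_mem ha, fun y hy => ?_⟩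
          have h3 : a⁻¹ * y * a⁻¹⁻¹ ∈ Q ⊔ R := (mem_normalizer_iff.mp (hTn (inv_mem ha)) y).mp hy
          have h4 : a⁻¹ * y * a⁻¹⁻¹ * y⁻¹ =
              (a * (a⁻¹ * y * a⁻¹⁻¹) * a⁻¹ * (a⁻¹ * y * a⁻¹⁻¹)⁻¹)⁻¹ := by group
          rw [h4]
          exact inv_mem (ha' _ h3) }
    have hCT : C ≤ T := fun g hg => hg.1
    have hQC : Q ≤ C := fun q hq => ⟨hQT hq, fun y hy => by
      have h3 : y * q⁻¹ * y⁻¹ ∈ Q := (mem_normalizer_iff.mp
        ((sup_le le_normalizer hRQ : Q ⊔ R ≤ normalizer (Q : Set G)) hy) q⁻¹).mp (inv_mem hq)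
      have h4 : q * y * q⁻¹ * y⁻¹ = q * (y * q⁻¹ * y⁻¹) := by group
      rw [h4]; exact mul_mem hq h3⟩
    have hCn : P ≤ normalizer (C : Set G) := by
      conv_lhs => rw [← hsup]
      refine sup_le (sup_le (hQC.trans le_normalizer) ?_) ?_
      · have key : ∀ x ∈ R, ∀ g ∈ C, x * g * x⁻¹ ∈ C := by
          intro x hx g hg
          have h3 : x * g * x⁻¹ = (g * x * g⁻¹ * x⁻¹)⁻¹ * g := by group
          rw [h3]
          exact mul_mem (inv_mem (hQC (hg.2 x (mem_sup_right hx)))) hg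
        refine fun x hx => mem_normalizer_iff.mpr fun g => ⟨key x hx g, fun hg => ?_⟩
        have h3 := key x⁻¹ (inv_mem hx) _ hg
        have h4 : x⁻¹ * (x * g * x⁻¹) * x⁻¹⁻¹ = g := by group
        rwa [h4] at h3
      · have key : ∀ s ∈ T, ∀ g ∈ C, s * g * s⁻¹ ∈ C := by
          intro s hs g hg
          refine ⟨mul_mem (mul_mem hs hg.1) (inv_mem hs), fun y hy => ?_⟩
          have h3 : s⁻¹ * y * s⁻¹⁻¹ ∈ Q ⊔ R := (mem_normalizer_iff.mp (hTn (inv_mem hs)) y).mp hy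
          have h5 := hg.2 _ h3
          have h6 : s * g * s⁻¹ * y * (s * g * s⁻¹)⁻¹ * y⁻¹ =
              s * (g * (s⁻¹ * y * s⁻¹⁻¹) * g⁻¹ * (s⁻¹ * y * s⁻¹⁻¹)⁻¹) * s⁻¹ := by group
          rw [h6]
          exact (mem_normalizer_iff.mp (le_normalizer_o2 P (h.le hs)) _).mp h5
        refine fun x hx => mem_normalizer_iff.mpr fun g => ⟨key x hx g, fun hg => ?_⟩
        have h3 := key x⁻¹ (inv_mem hx) _ hg
        have h4 : x⁻¹ * (x * g * x⁻¹) * x⁻¹⁻¹ = g := by group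
        rwa [h4] at h3
    have hCQ : C ≤ Q := le_o2 (hCT.trans h.le) (hS.to_le hCT) hCn
    rintro g ⟨hg, hgR⟩
    apply hCQ
    refine ⟨hg, fun y hy => ?_⟩
    rw [← SetLike.mem_coe, coe_mul_of_right_le_normalizer_left _ _ hRQ] at hy
    obtain ⟨q, hq, x, hx, hqx⟩ := hy
    have hqx : q * x = y := hqx
    have h3 : x * g = g * x := mem_centralizer_iff.mp hgR x hx
    have h4 : g * y * g⁻¹ * y⁻¹ = (g * q * g⁻¹) * q⁻¹ := by
      rw [← hqx]
      calc g * (q * x) * g⁻¹ * (q * x)⁻¹ = g * q * g⁻¹ * (g * x) * g⁻¹ * x⁻¹ * q⁻¹ := by group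
        _ = g * q * g⁻¹ * (x * g) * g⁻¹ * x⁻¹ * q⁻¹ := by rw [h3]
        _ = _ := by group
    rw [h4]
    exact mul_mem ((mem_normalizer_iff.mp (le_normalizer_o2 P (h.le hg)) q).mp hq) (inv_mem hq)
  -- the Frattini section
  obtain ⟨B, hB, hBk⟩ := exists_frat hc
  have hRB : ∀ x ∈ R, (∀ a ∈ Q, x * a * x⁻¹ * a⁻¹ ∈ B) → x = 1 := by
    intro x hx hxa
    have h1 : x ∈ Q ⊓ R := mem_inf.mpr ⟨hBk x (hRP hx) hxa, hx⟩
    rw [hQR] at h1
    exact Subgroup.mem_bot.mp h1
  -- the order of `R`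
  have hdvd := relIndex_dvd hr hS hSyl hc
  rw [hrel] at hdvd
  obtain ⟨k, hk⟩ := IsPGroup.iff_card.mp hRr
  have hk0 : k ≠ 0 := fun h1 => hR1 (by rw [hk, h1, pow_zero])
  have hcases : (r = 3 ∧ (k = 1 ∨ k = 2)) ∨ (r = 5 ∧ k = 1) ∨ (r = 7 ∧ k = 1) := by
    have h1 : r ∣ 315 := (dvd_pow_self r hk0).trans (hk ▸ hdvd)
    have h3 : r = 3 ∨ r = 5 ∨ r = 7 := by
      have h4 : r ∣ 3 * (3 * (5 * 7)) := by norm_num; exact h1
      rcases (Nat.Prime.dvd_mul hrp).mp h4 with h5 | h5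
      · left; exact (Nat.prime_dvd_prime_iff_eq hrp Nat.prime_three).mp h5
      rcases (Nat.Prime.dvd_mul hrp).mp h5 with h5 | h5
      · left; exact (Nat.prime_dvd_prime_iff_eq hrp Nat.prime_three).mp h5
      rcases (Nat.Prime.dvd_mul hrp).mp h5 with h5 | h5
      · right; left; exact (Nat.prime_dvd_prime_iff_eq hrp Nat.prime_five).mp h5
      · right; right; exact (Nat.prime_dvd_prime_iff_eq hrp (by norm_num)).mp h5
    rw [hk] at hdvd
    rcases h3 with rfl | rfl | rfl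
    · left
      refine ⟨rfl, ?_⟩
      by_contra h4
      have h5 : 3 ^ 3 ∣ 315 := (pow_dvd_pow 3 (by omega)).trans hdvd
      revert h5; decide
    · right; left
      refine ⟨rfl, ?_⟩
      by_contra h4
      have h5 : 5 ^ 2 ∣ 315 := (pow_dvd_pow 5 (by omega)).trans hdvd
      revert h5; decide
    · right; right
      refine ⟨rfl, ?_⟩
      by_contra h4
      have h5 : 7 ^ 2 ∣ 315 := (pow_dvd_pow 7 (by omega)).trans hdvd
      revert h5; decide
  -- `R` is commutative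
  have hRc : ∀ x ∈ R, ∀ y ∈ R, x * y = y * x := by
    have h1 : k = 1 ∨ k = 2 := by omega
    rcases h1 with rfl | rfl
    · rw [pow_one] at hk
      have : IsCyclic R := isCyclic_of_prime_card hk
      exact fun x hx y hy => congrArg Subtype.val
        ((IsCyclic.commGroup (α := R)).mul_comm ⟨x, hx⟩ ⟨y, hy⟩)
    · have := IsPGroup.isMulCommutative_of_card_eq_prime_sq hk
      exact fun x hx y hy => congrArg Subtype.val
        (this.is_comm.comm (⟨x, hx⟩ : R) ⟨y, hy⟩)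
  have hpow1 : k = 1 → ∀ x ∈ R, x ^ r = 1 := by
    intro h1 x hx
    rw [h1, pow_one] at hk
    have h3 : (⟨x, hx⟩ : R) ^ Nat.card R = 1 := pow_card_eq_one'
    rw [hk] at h3
    exact congrArg Subtype.val h3
  -- no 7
  have hn7 : ¬ (r = 7 ∧ k = 1) := by
    rintro ⟨rfl, hk1⟩
    have hT0Q : ¬ T ⊓ normalizer (R : Set G) ≤ Q := fun h1 =>
      hTQ (hT0.trans (sup_le le_rfl h1))
    obtain ⟨t, ht, htQ, ht2⟩ := exists_sq_mem (hS.to_le inf_le_left) hT0Q
    obtain ⟨x, hx, hx1⟩ := exists_ne_one (B := R) (by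
      have := Nat.card_pos (α := R)
      omega)
    have hconj : ∀ y ∈ R, t * y * t⁻¹ ∈ R := fun y hy => (mem_normalizer_iff.mp ht.2 y).mp hy
    have ht2R : ∀ y ∈ R, t ^ 2 * y * (t ^ 2)⁻¹ = y := by
      intro y hy
      have h1 : t ^ 2 * y * (t ^ 2)⁻¹ * y⁻¹ ∈ Q ⊓ R := by
        refine mem_inf.mpr ⟨?_, ?_⟩
        · have h3 : y * (t ^ 2)⁻¹ * y⁻¹ ∈ Q :=
            (mem_normalizer_iff.mp (hRQ hy) _).mp (inv_mem ht2)
          have h4 : t ^ 2 * y * (t ^ 2)⁻¹ * y⁻¹ = t ^ 2 * (y * (t ^ 2)⁻¹ * y⁻¹) := by group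
          rw [h4]; exact mul_mem ht2 h3
        · have h3 := hconj _ (hconj y hy)
          have h4 : t ^ 2 * y * (t ^ 2)⁻¹ = t * (t * y * t⁻¹) * t⁻¹ := by rw [pow_two]; group
          rw [h4]; exact mul_mem h3 (inv_mem hy)
      rw [hQR] at h1
      exact mul_inv_eq_one.mp (Subgroup.mem_bot.mp h1)
    have hfix : ∀ y ∈ R, t * y = y * t → y = 1 := by
      intro y hy hty
      by_contra hy1
      have h1 := mem_centralizer_of_prime (p := 7) (B := R) (by rw [hk, hk1, pow_one]) hy hy1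
        hty.symm
      exact htQ (hfaith (mem_inf.mpr ⟨ht.1, h1⟩))
    have htx : t * x * t⁻¹ * x = 1 := by
      apply hfix _ (mul_mem (hconj x hx) hx)
      have h1 : t * (t * x * t⁻¹ * x) * t⁻¹ = t * x * t⁻¹ * x := by
        calc t * (t * x * t⁻¹ * x) * t⁻¹ = (t ^ 2 * x * (t ^ 2)⁻¹) * (t * x * t⁻¹) := by
              rw [pow_two]; group
          _ = x * (t * x * t⁻¹) := by rw [ht2R x hx]
          _ = _ := hRc x hx _ (hconj x hx)
      calc t * (t * x * t⁻¹ * x) = t * (t * x * t⁻¹ * x) * t⁻¹ * t := by group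
        _ = _ := by rw [h1]
    refine hB.no_seven hr (hRP hx) (h.le ht.1) (hpow1 hk1 x hx) (fun h1 => hx1 (hRB x hx h1)) ?_ ?_
    · intro a ha
      exact hB.comm _ ht2 a ha
    · intro a ha
      rw [htx]
      simp
  -- the exponent
  have hpow : ∀ x ∈ R, x ^ r = 1 := by
    rcases hcases with ⟨rfl, h1 | h1⟩ | ⟨rfl, h1⟩ | h1
    · exact hpow1 h1
    · intro x hx
      have h3 : (⟨x, hx⟩ : R) ^ Nat.card R = 1 := pow_card_eq_one'
      rw [hk, h1] at h3
      have h4 : x ^ 9 = 1 := congrArg Subtype.val h3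
      have h5 := hB.order_nine hr (hRP hx) h4
      exact hRB _ (pow_mem hx 3) h5
    · exact hpow1 h1
    · exact absurd h1 hn7
  have hr35 : r = 3 ∨ r = 5 := by
    rcases hcases with ⟨h1, -⟩ | ⟨h1, -⟩ | h1
    · exact Or.inl h1
    · exact Or.inr h1
    · exact absurd h1 hn7
  have hcard : Nat.card R = r ∨ (r = 3 ∧ Nat.card R = 9) := by
    rcases hcases with ⟨rfl, h1 | h1⟩ | ⟨rfl, h1⟩ | h1
    · left; rw [hk, h1, pow_one]
    · right; exact ⟨rfl, by rw [hk, h1]; norm_num⟩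
    · left; rw [hk, h1, pow_one]
    · exact absurd h1 hn7
  -- irreducibility
  have hirr : ∀ R0 ≤ R, T ⊓ normalizer (R : Set G) ≤ normalizer (R0 : Set G) → R0 = ⊥ ∨ R0 = R := by
    intro R0 hR0 hn
    by_contra hcon
    push Not at hcon
    obtain ⟨hR0b, hR0R⟩ := hcon
    obtain ⟨M, hMP, hM⟩ := h.exists_max
    -- an invariant complement
    let _ : CommGroup R := { (inferInstance : Group R) with
      mul_comm := fun x y => Subtype.ext (hRc x x.2 y y.2) }
    obtain ⟨W, hW⟩ := Lib.FrattiniPGroup.exists_isCompl_of_exponent (V := R) (p := r)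
      (fun a => Subtype.ext (hpow a a.2)) (R0.subgroupOf R)
    let φ : ↥(T ⊓ normalizer (R : Set G)) →* MulAut R :=
      (R.normalizerMonoidHom).comp (inclusion inf_le_right)
    have hφ : ∀ (a : ↥(T ⊓ normalizer (R : Set G))) (x : R), ((φ a x : R) : G) = a * x * (a : G)⁻¹ :=
      fun a x => rfl
    have hcop : (Nat.card ↥(T ⊓ normalizer (R : Set G))).Coprime (Nat.card R) :=
      IsPGroup.coprime_card_of_ne 2 r hr2.symm _ R (hS.to_le inf_le_left) hRr
    obtain ⟨W', hW'1, hW'2, hW'3⟩ := S0660.exists_invariant_complement φ hcop (R0.subgroupOf R) W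
      (fun a u hu => mem_subgroupOf.mpr (by
        rw [hφ]
        exact (mem_normalizer_iff.mp (hn a.2) _).mp (mem_subgroupOf.mp hu)))
      hW.inf_eq_bot hW.sup_eq_top
    set R1 := W'.map R.subtype with hR1def
    have hR1R : R1 ≤ R := map_subtype_le _
    have hR0' : (R0.subgroupOf R).map R.subtype = R0 := by
      rw [subgroupOf_map_subtype, inf_eq_left.mpr hR0]
    have hinf01 : R0 ⊓ R1 = ⊥ := by
      have h1 := congrArg (Subgroup.map R.subtype) hW'2
      rwa [Subgroup.map_inf _ _ _ R.subtype_injective, hR0', Subgroup.map_bot] at h1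
    have hsup01 : R0 ⊔ R1 = R := by
      have h1 := congrArg (Subgroup.map R.subtype) hW'3
      rwa [Subgroup.map_sup, hR0', ← MonoidHom.range_eq_map, range_subtype] at h1
    have hn1 : T ⊓ normalizer (R : Set G) ≤ normalizer (R1 : Set G) := by
      have h1 : ∀ s ∈ T ⊓ normalizer (R : Set G), ∀ x ∈ R1, s * x * s⁻¹ ∈ R1 := by
        rintro s hs _ ⟨x, hx, rfl⟩
        exact ⟨_, hW'1 ⟨s, hs⟩ x hx, rfl⟩
      intro s hs
      refine mem_normalizer_iff.mpr fun x => ⟨h1 s hs x, fun hx => ?_⟩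
      have h3 := h1 s⁻¹ (inv_mem hs) _ hx
      have h4 : s⁻¹ * (s * x * s⁻¹) * s⁻¹⁻¹ = x := by group
      rwa [h4] at h3
    have hR1R' : R1 ≠ R := by
      intro h1
      rw [h1, inf_eq_left.mpr hR0] at hinf01
      exact hR0b hinf01
    have key : ∀ R2 ≤ R, R2 ≠ R → T ⊓ normalizer (R : Set G) ≤ normalizer (R2 : Set G) →
        R2 ⊔ T ≤ M := by
      intro R2 hR2 hR2R hn2
      have h1 : T ≤ normalizer ((Q ⊔ R2 : Subgroup G) : Set G) := by
        refine hT0.trans (sup_le ?_ ?_)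
        · exact (le_sup_left : Q ≤ Q ⊔ R2).trans le_normalizer
        · intro s hs
          rw [mem_normalizer_iff_map_conj_eq, Subgroup.map_sup]
          rw [mem_normalizer_iff_map_conj_eq.mp (le_normalizer_o2 P (h.le hs.1)),
            mem_normalizer_iff_map_conj_eq.mp (hn2 hs)]
      have h3 : (Q ⊔ R2) ⊓ T = Q := by
        apply le_antisymm
        · rw [inf_comm]
          exact (inf_le_inf_left T (sup_le_sup_left hR2 Q)).trans hinf.le
        · exact le_inf le_sup_left hQT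
      have h4 := card_sup_mul h1
      have h5 : Nat.card (Q ⊔ R2 : Subgroup G) = Nat.card Q * Nat.card R2 := by
        have h6 := card_sup_mul (K := Q) (H := R2) (hR2.trans hRQ)
        have h7 : Q ⊓ R2 = ⊥ := le_bot_iff.mp (hQR ▸ inf_le_inf_left Q hR2)
        rwa [h7, Subgroup.card_bot, mul_one] at h6
      rw [h3, h5] at h4
      have h6 : Q ⊔ R2 ⊔ T < P := by
        refine lt_of_le_of_ne (sup_le (sup_le hQP (hR2.trans hRP)) h.le) fun h7 => ?_
        rw [h7, hcP] at h4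
        have h8 : (Nat.card Q * Nat.card T) * Nat.card R = (Nat.card Q * Nat.card T) * Nat.card R2 := by
          calc (Nat.card Q * Nat.card T) * Nat.card R = Nat.card T * Nat.card R * Nat.card Q := by ring
            _ = _ := by rw [h4]; ring
        have h9 := Nat.eq_of_mul_eq_mul_left (Nat.mul_pos Nat.card_pos Nat.card_pos) h8
        exact hR2R (Subgroup.eq_of_le_of_card_ge hR2 h9.le)
      exact (sup_le_sup_right le_sup_right T).trans (hM _ le_sup_right h6)
    have k0 := key R0 hR0 hR0R hn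
    have k1 := key R1 hR1R hR1R' hn1
    apply hMP.not_ge
    conv_lhs => rw [← hsup, ← hsup01]
    exact sup_le (sup_le ((hQT.trans le_sup_right).trans k0)
      (sup_le (le_sup_left.trans k0) (le_sup_left.trans k1))) (le_sup_right.trans k0)
  -- maximality of `S`
  have hmax : ∀ H : Subgroup G, T ≤ H → H ≤ P → H = T ∨ H = P := by
    intro H hTH hHP
    have hRH : T ⊓ normalizer (R : Set G) ≤ normalizer ((R ⊓ H : Subgroup G) : Set G) := by
      intro s hs
      have h1 : ∀ s ∈ T ⊓ normalizer (R : Set G), ∀ x ∈ R ⊓ H, s * x * s⁻¹ ∈ R ⊓ H := by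
        intro s hs x hx
        exact mem_inf.mpr ⟨(mem_normalizer_iff.mp hs.2 x).mp hx.1,
          mul_mem (mul_mem (hTH hs.1) hx.2) (inv_mem (hTH hs.1))⟩
      refine mem_normalizer_iff.mpr fun x => ⟨h1 s hs x, fun hx => ?_⟩
      have h3 := h1 s⁻¹ (inv_mem hs) _ hx
      have h4 : s⁻¹ * (s * x * s⁻¹) * s⁻¹⁻¹ = x := by group
      rwa [h4] at h3
    rcases hirr (R ⊓ H) inf_le_left hRH with h1 | h1
    · left
      -- `H ∩ Q R = Q`
      have h3 : (Q ⊔ R) ⊓ H = Q := by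
        apply le_antisymm
        · intro y hyy
          obtain ⟨hy, hyH⟩ := mem_inf.mp hyy
          rw [← SetLike.mem_coe, coe_mul_of_right_le_normalizer_left _ _ hRQ] at hy
          obtain ⟨q, hq, x, hx, hqx⟩ := hy
          have hqx : q * x = y := hqx
          have h4 : x ∈ R ⊓ H := by
            refine mem_inf.mpr ⟨hx, ?_⟩
            have h5 : x = q⁻¹ * y := by rw [← hqx]; group
            rw [h5]
            exact mul_mem (inv_mem (hTH (hQT hq))) hyH
          rw [h1] at h4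
          rw [← hqx, Subgroup.mem_bot.mp h4, mul_one]
          exact hq
        · exact le_inf le_sup_left (hQT.trans hTH)
      have h4 := card_sup_mul (K := Q ⊔ R) (H := H) (hHP.trans hnorm)
      have h5 : Q ⊔ R ⊔ H = P := le_antisymm (sup_le (sup_le hQP hRP) hHP)
        (by conv_lhs => rw [← hsup]
            exact sup_le_sup_left hTH _)
      rw [h3, h5, hcQR, hcP] at h4
      refine (Subgroup.eq_of_le_of_card_ge hTH ?_).symm
      have h6 : (Nat.card Q * Nat.card R) * Nat.card T = (Nat.card Q * Nat.card R) * Nat.card H := by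
        rw [← h4]; ring
      exact (Nat.eq_of_mul_eq_mul_left (Nat.mul_pos Nat.card_pos Nat.card_pos) h6).ge
    · right
      apply le_antisymm hHP
      conv_lhs => rw [← hsup]
      exact sup_le (sup_le (hQT.trans hTH) (inf_eq_left.mp h1)) hTH
  exact ⟨R, r,
    { min := h
      le := h.le
      two := hS
      syl := hSyl
      o2_ne := ho
      solv := hsol
      char2 := hc
      max := hmax
      p_eq := hr35
      card_R := hcard
      R_le := hRP
      comm_R := hRc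
      pow_R := hpow
      relIndex := hrel
      norm_QR := hnorm
      sup_eq := hsup
      inf_eq := hinf
      S_le := hT0
      faithful := hfaith
      irr := hirr
      oddGen_le := hER
      R_le_oddGen := hRE
      oddGen_sup := hES }⟩

end Cfsg.Agent.SectRankFour.C2.Par
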