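import Cfsg.Agent.SectRankFour.C2.Defs
import Cfsg.Agent.ClassificationK.GTwoModel

/-!
# S0517, configuration `|S| = 64`: `S` is isomorphic to the model `T 4 = (Z₄ × Z₄) ⋊ (Z₂ × Z₂)`
-/

set_option autoImplicit false

namespace Cfsg.Agent.SectRankFour.C2.Fin64Iso

open Subgroup Cfsg.Agent.SectRankFour.C2.Defs Cfsg.Agent.ClassificationK
open Cfsg.Agent.ClassificationK.GTwoModel (T sg)

section powers

variable {G : Type*} [Group G]

/-- `a ^ i` -/
def pw (a : G) (i : ZMod (2 * 2)) : G := a ^ i.val

theorem pw_zero (a : G) : pw a 0 = 1 := by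
  rw [pw, ZMod.val_zero, pow_zero]

theorem pw_one (a : G) : pw a 1 = a := by
  rw [pw, show (1 : ZMod (2 * 2)).val = 1 from rfl, pow_one]

theorem pw_add {a : G} (h : a ^ 4 = 1) (i j : ZMod (2 * 2)) : pw a (i + j) = pw a i * pw a j := by
  rw [pw, pw, pw, ← pow_add, ZMod.val_add]
  generalize i.val + j.val = n
  conv_rhs => rw [← Nat.mod_add_div n (2 * 2)]
  rw [pow_add, pow_mul, show (2 * 2 : ℕ) = 4 from rfl, h, one_pow, mul_one]

theorem pw_neg {a : G} (h : a ^ 4 = 1) (i : ZMod (2 * 2)) : pw a (-i) = (pw a i)⁻¹ := by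
  rw [eq_inv_iff_mul_eq_one, ← pw_add h, neg_add_cancel, pw_zero]

theorem pw_conj {a b s : G} (h : s * a * s⁻¹ = b) (i : ZMod (2 * 2)) : s * pw a i = pw b i * s := by
  rw [pw, pw, ← h, conj_pow]
  group

theorem pw_conj_inv {a u : G} (ha : a ^ 4 = 1) (h : u * a * u⁻¹ = a⁻¹) (i : ZMod (2 * 2)) :
    u * pw a i = pw a (-i) * u := by
  rw [pw_conj h i, pw_neg ha]
  rw [pw, pw, inv_pow]

theorem pw_comm {a b : G} (h : a * b = b * a) (i j : ZMod (2 * 2)) : pw a i * pw b j = pw b j * pw a i :=
  ((show Commute a b from h).pow_pow _ _).eq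

/-- `u ^ e` -/
def bp (u : G) (e : Bool) : G := cond e u 1

@[simp] theorem bp_true (u : G) : bp u true = u := rfl
@[simp] theorem bp_false (u : G) : bp u false = 1 := rfl

end powers

variable {G : Type*} [Group G] {S P1 : Subgroup G} {a b u s x : G}

theorem move (h : Conf64 S P1 a b u s x) (i j : ZMod (2 * 2)) (e d : Bool) :
    bp u e * bp s d * (pw a i * pw b j) =
      pw a (sg (2 * 2) e * cond d j i) * pw b (sg (2 * 2) e * cond d i j) * (bp u e * bp s d) := by
  have hsa : ∀ i, s * pw a i = pw b i * s := pw_conj h.sa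
  have hsb : ∀ i, s * pw b i = pw a i * s := pw_conj h.sb
  have hua : ∀ i, u * pw a i = pw a (-i) * u := pw_conj_inv h.a4 h.ua
  have hub : ∀ i, u * pw b i = pw b (-i) * u := pw_conj_inv h.b4 h.ub
  have hab : ∀ i j, pw a i * pw b j = pw b j * pw a i := pw_comm h.ab
  cases e <;> cases d <;> simp only [bp_true, bp_false, GTwoModel.sg_true, GTwoModel.sg_false, cond_true, cond_false,
    one_mul, mul_one, neg_one_mul]
  · calc s * (pw a i * pw b j) = (s * pw a i) * pw b j := by group
      _ = pw b i * (s * pw b j) := by rw [hsa]; group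
      _ = pw b i * pw a j * s := by rw [hsb]; group
      _ = pw a j * pw b i * s := by rw [← hab]
  · calc u * (pw a i * pw b j) = (u * pw a i) * pw b j := by group
      _ = pw a (-i) * (u * pw b j) := by rw [hua]; group
      _ = pw a (-i) * pw b (-j) * u := by rw [hub]; group
  · calc u * s * (pw a i * pw b j) = u * (s * pw a i) * pw b j := by group
      _ = (u * pw b i) * (s * pw b j) := by rw [hsa]; group
      _ = pw b (-i) * (u * pw a j) * s := by rw [hsb, hub]; group
      _ = pw b (-i) * pw a (-j) * (u * s) := by rw [hua]; group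
      _ = pw a (-j) * pw b (-i) * (u * s) := by rw [← hab]

theorem top (h : Conf64 S P1 a b u s x) (e d e' d' : Bool) :
    bp u e * bp s d * (bp u e' * bp s d') = bp u (xor e e') * bp s (xor d d') := by
  have hu : u * u = 1 := by rw [← pow_two, h.u2]
  have hs : s * s = 1 := by rw [← pow_two, h.s2]
  have hsu := h.su
  have c1 : s * (u * s) = u := by rw [← mul_assoc, hsu, mul_assoc, hs, mul_one]
  have c2 : ∀ y, u * (u * y) = y := fun y => by rw [← mul_assoc, hu, one_mul]
  cases e <;> cases d <;> cases e' <;> cases d' <;>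
    simp [hu, hs, hsu, c1, c2, mul_assoc]

/-- The homomorphism `(i, j, e, d) ↦ aⁱ bʲ uᵉ sᵈ`. -/
def hom (h : Conf64 S P1 a b u s x) : T (2 * 2) →* G where
  toFun y := pw a y.i * pw b y.j * (bp u y.e * bp s y.d)
  map_one' := by
    rw [GTwoModel.T.one_def]
    simp [pw_zero]
  map_mul' := by
    rintro ⟨i, j, e, d⟩ ⟨i', j', e', d'⟩
    change pw a (i + sg (2 * 2) e * cond d j' i') * pw b (j + sg (2 * 2) e * cond d i' j') *
      (bp u (xor e e') * bp s (xor d d')) =
        pw a i * pw b j * (bp u e * bp s d) * (pw a i' * pw b j' * (bp u e' * bp s d'))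
    rw [pw_add h.a4, pw_add h.b4, ← top h]
    symm
    have hab := pw_comm h.ab
    have hm := move h i' j' e d
    calc pw a i * pw b j * (bp u e * bp s d) * (pw a i' * pw b j' * (bp u e' * bp s d'))
        = pw a i * pw b j * (bp u e * bp s d * (pw a i' * pw b j')) * (bp u e' * bp s d') := by group
      _ = pw a i * (pw b j * pw a (sg (2 * 2) e * cond d j' i')) * pw b (sg (2 * 2) e * cond d i' j') *
          (bp u e * bp s d * (bp u e' * bp s d')) := by rw [hm]; group
      _ = pw a i * pw a (sg (2 * 2) e * cond d j' i') * (pw b j * pw b (sg (2 * 2) e * cond d i' j')) *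
          (bp u e * bp s d * (bp u e' * bp s d')) := by rw [← hab]; group

theorem hom_a (h : Conf64 S P1 a b u s x) : hom h ⟨1, 0, false, false⟩ = a := by
  change pw a 1 * pw b 0 * (bp u false * bp s false) = a
  simp [pw_zero, pw_one]

theorem hom_b (h : Conf64 S P1 a b u s x) : hom h ⟨0, 1, false, false⟩ = b := by
  change pw a 0 * pw b 1 * (bp u false * bp s false) = b
  simp [pw_zero, pw_one]

theorem hom_u (h : Conf64 S P1 a b u s x) : hom h (T.t 2) = u := by
  change pw a 0 * pw b 0 * (bp u true * bp s false) = u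
  simp [pw_zero]

theorem hom_s (h : Conf64 S P1 a b u s x) : hom h (T.u 2) = s := by
  change pw a 0 * pw b 0 * (bp u false * bp s true) = s
  simp [pw_zero]

theorem range_hom (h : Conf64 S P1 a b u s x) : (hom h).range = S := by
  apply le_antisymm
  · rintro _ ⟨y, rfl⟩
    have hm : ∀ {g : G}, g ∈ ({a, b, u, s} : Set G) → g ∈ S := fun hg => h.eqS ▸ subset_closure hg
    have ha : a ∈ S := hm (by simp)
    have hb : b ∈ S := hm (by simp)
    have hu : u ∈ S := hm (by simp)
    have hs : s ∈ S := hm (by simp)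
    have hbp : ∀ (g : G), g ∈ S → ∀ e, bp g e ∈ S := by
      intro g hg e
      cases e
      · exact S.one_mem
      · exact hg
    exact mul_mem (mul_mem (pow_mem ha _) (pow_mem hb _)) (mul_mem (hbp u hu _) (hbp s hs _))
  · have hle : closure {a, b, u, s} ≤ (hom h).range := by
      rw [closure_le]
      intro g hg
      simp only [Set.mem_insert_iff, Set.mem_singleton_iff] at hg
      rcases hg with hg | hg | hg | hg
      · exact ⟨_, (hom_a h).trans hg.symm⟩
      · exact ⟨_, (hom_b h).trans hg.symm⟩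
      · exact ⟨_, (hom_u h).trans hg.symm⟩
      · exact ⟨_, (hom_s h).trans hg.symm⟩
    exact h.eqS.le.trans hle

theorem injective_hom (h : Conf64 S P1 a b u s x) : Function.Injective (hom h) := by
  have hc : Nat.card (T (2 * 2)) = 64 := GTwoModel.T.card_T _
  have hf : Finite (T (2 * 2)) := Nat.finite_of_card_ne_zero (by rw [hc]; norm_num)
  have hr : Nat.card (hom h).range = 64 := by rw [range_hom h, h.card]
  have hsur : Function.Surjective (hom h).rangeRestrict := (hom h).rangeRestrict_surjective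
  have hb : Function.Bijective (hom h).rangeRestrict := by
    rw [Nat.bijective_iff_surjective_and_card]
    exact ⟨hsur, by rw [hc, hr]⟩
  intro y z hyz
  exact hb.1 (Subtype.ext hyz)

/-- `S` is the model group. -/
theorem exists_hom (h : Conf64 S P1 a b u s x) :
    ∃ f : GTwoModel.T (2 * 2) →* G, Function.Injective f ∧ f.range = S ∧ f ⟨1, 0, false, false⟩ = a ∧
      f ⟨0, 1, false, false⟩ = b ∧ f (T.t 2) = u ∧ f (T.u 2) = s :=
  ⟨hom h, injective_hom h, range_hom h, hom_a h, hom_b h, hom_u h, hom_s h⟩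

end Cfsg.Agent.SectRankFour.C2.Fin64Iso
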