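import Mathlib
import Cfsg.Agent.SectRankFour.C2.ParIndex
import Cfsg.Agent.SectRankFour.C2.BOneFacts

/-!
# S0517, C2, sectional rank 4, section 1: elements of order 4 of `S / Q`

`exists_four` : if `|R| ≠ 3` and `|S : Q| ≠ 2`, some `s ∈ S` has order 4 modulo `Q` and `s²` is central
modulo `Q`.
-/

set_option autoImplicit false
set_option linter.unusedSectionVars false
set_option linter.unusedVariables false

namespace Cfsg.Agent.SectRankFour.C2.BOneIndex

open Subgroup Cfsg Cfsg.Agent.ZN Cfsg.Agent.MinSimple Cfsg.Agent.MinSimple.MinParabolic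
  Cfsg.Agent.MinSimple.VModule Cfsg.Agent.SectRankFour.C2.Defs
open Cfsg.Agent.SectRankFour.C2.BOneFacts

universe u

variable {G : Type u} [Group G] [Finite G] {S P R : Subgroup G} {p : ℕ}

theorem central_of_gen (h : Defs.Par S P R p) {s : G} (hs : s ∈ S)
    (hgen : ∀ x ∈ S, ∃ n : ℕ, x * s ^ n ∈ o2 P) :
    ∀ g ∈ S, s ^ 2 * g * (s ^ 2)⁻¹ * g⁻¹ ∈ o2 P := by
  intro g hg
  obtain ⟨n, hn⟩ := hgen g hg
  have hSQ : S ≤ normalizer (o2 P : Set G) := h.le.trans (le_normalizer_o2 P)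
  have e : s ^ 2 * g * (s ^ 2)⁻¹ * g⁻¹ =
      (s ^ 2 * (g * s ^ n) * (s ^ 2)⁻¹) * (g * s ^ n)⁻¹ := by
    have hc : (s ^ n) * (s ^ 2)⁻¹ = (s ^ 2)⁻¹ * s ^ n :=
      ((Commute.pow_pow_self s n 2).inv_right).eq
    have : s ^ 2 * (g * s ^ n) * (s ^ 2)⁻¹ = s ^ 2 * g * ((s ^ n) * (s ^ 2)⁻¹) := by group
    rw [this, hc]
    group
  rw [e]
  exact mul_mem (conj_mem hSQ (pow_mem hs 2) hn) (inv_mem hn)

theorem central_of_inv (h : Defs.Par S P R p) {u : G} (hu : u ∈ S ⊓ normalizer (R : Set G))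
    (hinv : ∀ x ∈ R, u * x * u⁻¹ = x⁻¹) : ∀ g ∈ S, u * g * u⁻¹ * g⁻¹ ∈ o2 P := by
  intro g hg
  obtain ⟨q, hq, n, hn, rfl⟩ := ParFacts.exists_mul h hg
  have hSQ : S ≤ normalizer (o2 P : Set G) := h.le.trans (le_normalizer_o2 P)
  have h1 : u * n * u⁻¹ * n⁻¹ ∈ o2 P := by
    refine ParFacts.mem_o2_of_comm h
      (mul_mem (mul_mem (mul_mem hu.1 hn.1) (inv_mem hu.1)) (inv_mem hn.1)) fun x hx => ?_
    have hy : n⁻¹ * x * n ∈ R := by
      have := (mem_normalizer_iff.mp (inv_mem hn.2) x).mp hx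
      rwa [inv_inv] at this
    have h2 := hinv _ hy
    have h3 : u⁻¹ * (n⁻¹ * x * n) * u = (n⁻¹ * x * n)⁻¹ := by
      have h4 := hinv _ (inv_mem hy)
      rw [inv_inv] at h4
      calc u⁻¹ * (n⁻¹ * x * n) * u = u⁻¹ * (u * (n⁻¹ * x * n)⁻¹ * u⁻¹) * u := by rw [h4]
        _ = _ := by group
    calc u * n * u⁻¹ * n⁻¹ * x * (u * n * u⁻¹ * n⁻¹)⁻¹
        = u * (n * (u⁻¹ * (n⁻¹ * x * n) * u) * n⁻¹) * u⁻¹ := by group
      _ = u * (x⁻¹) * u⁻¹ := by rw [h3]; group
      _ = x := by rw [hinv _ (inv_mem hx), inv_inv]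
  have e : u * (q * n) * u⁻¹ * (q * n)⁻¹ = (u * q * u⁻¹) * ((u * n * u⁻¹ * n⁻¹) * q⁻¹) := by group
  rw [e]
  exact mul_mem (conj_mem hSQ hu.1 hq) (mul_mem h1 (inv_mem hq))

theorem exists_four (hyp : Hyp G) (h : Defs.Par S P R p) (h3 : Nat.card R ≠ 3)
    (h2 : (o2 P).relIndex S ≠ 2) :
    ∃ s ∈ S, s ^ 2 ∉ o2 P ∧ s ^ 4 ∈ o2 P ∧ ∀ g ∈ S, s ^ 2 * g * (s ^ 2)⁻¹ * g⁻¹ ∈ o2 P := by
  have hSQ : S ≤ normalizer (o2 P : Set G) := h.le.trans (le_normalizer_o2 P)
  rcases h.card_R with hc | ⟨-, hc⟩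
  · have hp5 : p = 5 := by
      rcases h.p_eq with rfl | rfl
      · exact absurd hc h3
      · rfl
    subst hp5
    obtain ⟨s, hs, hsQ, hs4, hgen⟩ := ParIndex.cyclic_prime h hc
    refine ⟨s, hs.1, fun hs2 => ?_, hs4, central_of_gen h hs.1 hgen⟩
    have h1 := ParIndex.relIndex_dvd_of_gen (ParFacts.o2_le_S h) hSQ hs.1 hs2 hgen
    rcases (Nat.dvd_prime Nat.prime_two).mp h1 with h4 | h4
    · exact ParIndex.relIndex_ne_one h h4
    · exact h2 h4
  · have hs := sect_ph h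
    obtain ⟨-, B1, B2, h1, h2', hc1, hc2, hinf, hsup, -, -, -, -, -, hperm, hswap⟩ :=
      ParFacts.nine hyp.rank h hc hs.sec hs.ex
    have hw : ParIndex.Sw S R B1 B2 :=
      ⟨h1, h2', hc1, hc2, hinf, hsup, fun g hg hgn => hperm g (h.le hg) hgn, hswap⟩
    rcases ParIndex.index_nine h hw with ⟨-, s, hs, -, -, hinv, hs2, hs4, -⟩ |
      ⟨-, s, hs, t, ht, hs12, hs21, hs2', ht1, ht2, -, -, -⟩
    · exact ⟨s, hs.1, hs2, hs4, central_of_inv h (pow_mem hs 2) hinv⟩
    · have hst : s * t ∈ S ⊓ normalizer (R : Set G) := mul_mem hs ht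
      -- `(s t)²` inverts `B1` and `B2`
      have hs2Q : s ^ 2 ∈ o2 P := hs2'
      have hfix : ∀ x ∈ R, s ^ 2 * x * (s ^ 2)⁻¹ = x := fun x hx =>
        ParFacts.comm_of_mem h hs2Q (pow_mem hs.2 2) hx
      have k1 : ∀ x ∈ B1, (s * t) ^ 2 * x * ((s * t) ^ 2)⁻¹ = x⁻¹ := by
        intro x hx
        have e : (s * t) ^ 2 * x * ((s * t) ^ 2)⁻¹ =
            s * (t * (s * (t * x * t⁻¹) * s⁻¹) * t⁻¹) * s⁻¹ := by rw [pow_two]; group
        rw [e, ht1 x hx, ht2 _ (hs12 _ (inv_mem hx))]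
        conv_rhs => rw [← hfix _ (inv_mem (h1 hx)), pow_two]
        group
      have k2 : ∀ x ∈ B2, (s * t) ^ 2 * x * ((s * t) ^ 2)⁻¹ = x⁻¹ := by
        intro x hx
        have e : (s * t) ^ 2 * x * ((s * t) ^ 2)⁻¹ =
            s * (t * (s * (t * x * t⁻¹) * s⁻¹) * t⁻¹) * s⁻¹ := by rw [pow_two]; group
        rw [e, ht2 x hx, ht1 _ (hs21 _ hx)]
        conv_rhs => rw [← hfix _ (inv_mem (h2' hx)), pow_two]
        group
      set u := (s * t) ^ 2 with hu
      have huSN : u ∈ S ⊓ normalizer (R : Set G) := pow_mem hst 2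
      have k : ∀ x ∈ R, u * x * u⁻¹ = x⁻¹ := by
        have hle : R ≤ {carrier := {x | x ∈ R ∧ u * x * u⁻¹ = x⁻¹}
                        one_mem' := ⟨one_mem _, by group⟩
                        mul_mem' := by
                          rintro x y ⟨hx, hx'⟩ ⟨hy, hy'⟩
                          refine ⟨mul_mem hx hy, ?_⟩
                          have e : u * (x * y) * u⁻¹ = (u * x * u⁻¹) * (u * y * u⁻¹) := by group
                          rw [e, hx', hy', ← mul_inv_rev, h.comm_R y hy x hx]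
                        inv_mem' := by
                          rintro x ⟨hx, hx'⟩
                          refine ⟨inv_mem hx, ?_⟩
                          have e : u * x⁻¹ * u⁻¹ = (u * x * u⁻¹)⁻¹ := by group
                          rw [e, hx'] : Subgroup G} := by
          refine hsup.ge.trans ?_
          exact sup_le (fun x hx => ⟨h1 hx, k1 x hx⟩) (fun x hx => ⟨h2' hx, k2 x hx⟩)
        exact fun x hx => (hle hx).2
      refine ⟨s * t, hst.1, fun hQ => ?_, ?_, central_of_inv h huSN k⟩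
      · -- `u ∈ Q` centralises `R`
        have h5 : ∀ x ∈ R, x ^ 2 = 1 := by
          intro x hx
          have h6 := k x hx
          rw [ParFacts.comm_of_mem h hQ huSN.2 hx] at h6
          rw [pow_two]
          nth_rewrite 1 [h6]
          group
        have h6 : B1 = ⊥ := by
          rw [eq_bot_iff]
          intro x hx
          rw [mem_bot]
          have h7 := h5 x (h1 hx)
          have h8 : (⟨x, hx⟩ : B1) ^ Nat.card B1 = 1 := pow_card_eq_one'
          rw [hc1] at h8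
          have h9 : x ^ 3 = 1 := congrArg Subtype.val h8
          calc x = x ^ 3 * (x ^ 2)⁻¹ := by group
            _ = 1 := by rw [h9, h7]; group
        rw [h6, Subgroup.card_bot] at hc1
        omega
      · have e : (s * t) ^ 4 = u ^ 2 := by rw [hu, ← pow_mul]
        rw [e]
        refine ParFacts.mem_o2_of_comm h (pow_mem huSN.1 2) fun x hx => ?_
        have e2 : u ^ 2 * x * (u ^ 2)⁻¹ = u * (u * x * u⁻¹) * u⁻¹ := by rw [pow_two]; group
        rw [e2, k x hx, k _ (inv_mem hx), inv_inv]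

end Cfsg.Agent.SectRankFour.C2.BOneIndex
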