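import Mathlib
import Cfsg.Agent.SectRankFour.C2.BOneIndex
import Cfsg.Agent.Lib.NormalAbelian

/-!
# S0517, C2, sectional rank 4, section 1 (`b = 1`): the reduction

`h : Pair S P1 P2`, `V = zl S P1`, `Z = zc S`, `Q_i = o2 P_i`, `V ≰ Q_2`.

* `not_comm_le` : `[Q_2, V] ≰ Z`;
* `card_V`, `card_Z` : `|V| = 16`, `|Z| = 2`;
* `exists_a` : some `a ∈ V ∖ Q_2` is central modulo `Q_2`.
-/

set_option autoImplicit false
set_option linter.unusedSectionVars false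
set_option linter.unusedVariables false

namespace Cfsg.Agent.SectRankFour.C2.BOneA

open Subgroup Cfsg Cfsg.Agent.ZN Cfsg.Agent.MinSimple Cfsg.Agent.MinSimple.MinParabolic
  Cfsg.Agent.MinSimple.VModule Cfsg.Agent.SectRankFour.C2.Defs
open Cfsg.Agent.SectRankFour.C2.BOneFacts

universe u

variable {G : Type u} [Group G]

section Pair

variable [Finite G] {S P1 P2 : Subgroup G}

/-- `[Q_2, V] ≰ Z` if `V ≰ Q_2`. -/
theorem not_comm_le (h : Pair S P1 P2) (hn : ¬ zl S P1 ≤ o2 P2) :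
    ¬ ∀ q ∈ o2 P2, ∀ v ∈ zl S P1, q * v * q⁻¹ * v⁻¹ ∈ zc S := by
  intro hc
  obtain ⟨R, p, hR⟩ := h.par2
  let N : Subgroup G :=
    { carrier := {g | g ∈ P2 ∧ ∀ q ∈ o2 P2, q * g * q⁻¹ * g⁻¹ ∈ zc S}
      one_mem' := ⟨one_mem _, fun q _ => by simp⟩
      mul_mem' := by
        rintro g k ⟨hg, hg'⟩ ⟨hk, hk'⟩
        refine ⟨mul_mem hg hk, fun q hq => ?_⟩
        have e : q * (g * k) * q⁻¹ * (g * k)⁻¹ =
            (q * g * q⁻¹ * g⁻¹) * (g * (q * k * q⁻¹ * k⁻¹) * g⁻¹) := by group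
        rw [e]
        exact mul_mem (hg' q hq) (conj_mem (P2_le_zc h) hg (hk' q hq))
      inv_mem' := by
        rintro g ⟨hg, hg'⟩
        refine ⟨inv_mem hg, fun q hq => ?_⟩
        have e : q * g⁻¹ * q⁻¹ * g⁻¹⁻¹ = g⁻¹ * (q * g * q⁻¹ * g⁻¹)⁻¹ * g := by
          have e1 : q * g⁻¹ * q⁻¹ * g⁻¹⁻¹ = (q * g⁻¹ * q⁻¹ * g) := by group
          have e2 : g⁻¹ * (q * g * q⁻¹ * g⁻¹)⁻¹ * g = q * g⁻¹ * q⁻¹ * g := by group
          rw [e1, e2]
        rw [e]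
        exact conj_mem' (P2_le_zc h) hg (inv_mem (hg' q hq)) }
  have hmem : ∀ g, g ∈ N ↔ g ∈ P2 ∧ ∀ q ∈ o2 P2, q * g * q⁻¹ * g⁻¹ ∈ zc S := fun g => Iff.rfl
  have hNP : N ≤ P2 := fun g hg => hg.1
  have hnor : P2 ≤ normalizer (N : Set G) := by
    refine le_normalizer_of fun y hy g hg => ⟨mul_mem (mul_mem hy hg.1) (inv_mem hy), ?_⟩
    intro q hq
    have h1 : y⁻¹ * q * y ∈ o2 P2 := conj_mem' (P2_Q2 h) hy hq
    have e : q * (y * g * y⁻¹) * q⁻¹ * (y * g * y⁻¹)⁻¹ =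
        y * ((y⁻¹ * q * y) * g * (y⁻¹ * q * y)⁻¹ * g⁻¹) * y⁻¹ := by group
    rw [e]
    exact conj_mem (P2_le_zc h) hy (hg.2 _ h1)
  have hVN : zl S P1 ≤ N := fun v hv => ⟨le2 h (V_le h hv), fun q hq => hc q hq v hv⟩
  have hNQ : ¬ N ≤ o2 P2 := fun hle => hn (hVN.trans hle)
  have h1 := ParFacts.oddGen_le_of_normal hR hNP hnor hNQ
  -- the elements of odd order of `P2` centralise `Q_2`
  have h2 : oddGen P2 ≤ o2 P2 := by
    rw [oddGen_def, closure_le]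
    rintro x ⟨hx, ho⟩
    have hxN : x ∈ N := h1 (mem_oddGen hx ho)
    refine hR.char2 ⟨hx, mem_centralizer_iff.mpr fun q hq => ?_⟩
    have h3 : q * x * q⁻¹ * x⁻¹ ∈ zc S := hxN.2 q hq
    have h4 : (q * x * q⁻¹ * x⁻¹)⁻¹ = 1 := by
      refine odd_comm ho (pow_orderOf_eq_one x) (q := q) ?_ (P2_Z h hx (inv_mem h3))
        (zc_sq _ _ (inv_mem h3))
      group
    rw [inv_eq_one] at h4
    calc q * x = (q * x * q⁻¹ * x⁻¹) * (x * q) := by group
      _ = x * q := by rw [h4, one_mul]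
  have h3 : P2 ≤ S := by
    rw [← hR.oddGen_sup]
    exact sup_le (h2.trans (Q2_le h)) le_rfl
  exact hR.min.ne (le_antisymm hR.le h3)

/-- `R_1` does not centralise `V`. -/
theorem sect_V (h : Pair S P1 P2) {R : Subgroup G} {p : ℕ} (hR : Defs.Par S P1 R p) :
    Sect P1 R (zl S P1) ⊥ where
  le := bot_le
  leQ := V_le_Q1 h
  normA := P1_V h
  normB := by rw [show ((⊥ : Subgroup G) : Set G) = ((⊥ : Subgroup G) : Set G) from rfl,
    normalizer_eq_top]; exact le_top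
  comm := fun a ha b hb => by
    rw [mem_bot, V_comm h a ha b hb]; group
  sq := fun a ha => by rw [mem_bot]; exact V_sq h a ha
  ne := by
    intro hc
    have hc' : ∀ v ∈ zl S P1, ∀ r ∈ R, r * v = v * r := by
      intro v hv r hr
      have := hc v hv r hr
      rw [mem_bot] at this
      calc r * v = (r * v * r⁻¹ * v⁻¹) * (v * r) := by group
        _ = v * r := by rw [this, one_mul]
    apply not_norm h
    have h1 : P1 ≤ centralizer (zc S : Set G) := by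
      rw [← hR.sup_eq]
      refine sup_le (sup_le ?_ ?_) ?_
      · exact fun q hq => mem_centralizer_iff.mpr fun z hz =>
          (V_Q1 h q hq z (Z_le_V S P1 hz)).symm
      · exact fun q hq => mem_centralizer_iff.mpr fun z hz =>
          (hc' z (Z_le_V S P1 hz) q hq).symm
      · exact le_centralizer_zc S
    exact h1.trans (le_normalizer_of fun a ha b hb => by
      rw [← mem_centralizer_iff.mp ha b hb, mul_inv_cancel_right]; exact hb)

theorem index_ne_two (h : Pair S P1 P2) (hn : ¬ zl S P1 ≤ o2 P2) : (o2 P1).relIndex S ≠ 2 := by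
  intro h2
  apply not_comm_le h hn
  intro q hq v hv
  have hqS : q ∈ S := Q2_le h hq
  have hcV : q * v * q⁻¹ * v⁻¹ ∈ zl S P1 := mul_mem (conj_mem (S_V h) hqS hv) (inv_mem hv)
  refine mem_Z_of h hcV fun g hg => ?_
  by_cases hq1 : q ∈ o2 P1
  · have : q * v * q⁻¹ * v⁻¹ = 1 := by rw [V_Q1 h q hq1 v hv]; group
    rw [this]; simp
  have h2' : ((o2 P1).subgroupOf S).index = 2 := h2
  have hq2 : q ^ 2 ∈ o2 P1 := by
    have := Subgroup.mul_self_mem_of_index_two h2' ⟨q, hqS⟩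
    rw [pow_two]
    exact this
  -- `q` commutes with `[q, v]`
  have hcq : q * (q * v * q⁻¹ * v⁻¹) = (q * v * q⁻¹ * v⁻¹) * q := by
    have e1 : q * (q * v * q⁻¹ * v⁻¹) * q⁻¹ = (q ^ 2 * v * (q ^ 2)⁻¹) * (q * v⁻¹ * q⁻¹) := by
      rw [pow_two]; group
    have e2 : q ^ 2 * v * (q ^ 2)⁻¹ = v := by rw [V_Q1 h _ hq2 v hv]; group
    have hv1 : v⁻¹ = v := by
      rw [inv_eq_iff_mul_eq_one, ← pow_two]; exact V_sq h v hv
    have hw : q * v * q⁻¹ ∈ zl S P1 := conj_mem (S_V h) hqS hv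
    have e3 : q * (q * v * q⁻¹ * v⁻¹) * q⁻¹ = q * v * q⁻¹ * v⁻¹ := by
      rw [e1, e2, hv1, V_comm h v hv _ hw]
    calc q * (q * v * q⁻¹ * v⁻¹) = (q * (q * v * q⁻¹ * v⁻¹) * q⁻¹) * q := by group
      _ = _ := by rw [e3]
  by_cases hg1 : g ∈ o2 P1
  · exact V_Q1 h g hg1 _ hcV
  · have h3 : g * q⁻¹ ∈ o2 P1 := by
      have := (Subgroup.mul_mem_iff_of_index_two h2' (a := ⟨g, hg⟩) (b := (⟨q, hqS⟩ : S)⁻¹)).mpr
        (by
          rw [inv_mem_iff]
          exact ⟨fun h => absurd (mem_subgroupOf.mp h) hg1,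
            fun h => absurd (mem_subgroupOf.mp h) hq1⟩)
      exact this
    have h4 := V_Q1 h _ h3 _ hcV
    calc g * (q * v * q⁻¹ * v⁻¹) = (g * q⁻¹) * (q * (q * v * q⁻¹ * v⁻¹)) := by group
      _ = (g * q⁻¹) * (q * v * q⁻¹ * v⁻¹) * q := by rw [hcq]; group
      _ = (q * v * q⁻¹ * v⁻¹) * g := by rw [h4]; group

theorem card_R1_ne (h : Pair S P1 P2) (hn : ¬ zl S P1 ≤ o2 P2) {R : Subgroup G} {p : ℕ}
    (hR : Defs.Par S P1 R p) : Nat.card R ≠ 3 := fun h3 => index_ne_two h hn (ParIndex.index_three hR h3)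

/-- `|V| = 16`. -/
theorem card_V (h : Pair S P1 P2) (hn : ¬ zl S P1 ≤ o2 P2) : Nat.card (zl S P1) = 16 := by
  obtain ⟨R, p, hR⟩ := h.par1
  have h1 := (irred16 h.hyp hR (card_R1_ne h hn hR) (sect_V h hR)).1
  rwa [relIndex_bot_left] at h1

theorem card_mul_card_le {A B V : Subgroup G} (hA : A ≤ V) (hB : B ≤ V) (h : A ⊓ B = ⊥) :
    Nat.card A * Nat.card B ≤ Nat.card V := by
  rw [← Nat.card_prod]
  refine Nat.card_le_card_of_injective
    (fun q : A × B => (⟨q.1 * q.2, mul_mem (hA q.1.2) (hB q.2.2)⟩ : V)) ?_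
  intro q r hqr
  exact Subgroup.mul_injective_of_disjoint (disjoint_iff.mpr h) (congrArg Subtype.val hqr)

theorem phi_phi {V : Subgroup G} (hc : ∀ x ∈ V, ∀ y ∈ V, x * y = y * x) (h2 : ∀ x ∈ V, x ^ 2 = 1)
    {s v : G} (hs : s ∈ normalizer (V : Set G)) (hv : v ∈ V) :
    s * (s * v * s⁻¹ * v⁻¹) * s⁻¹ * (s * v * s⁻¹ * v⁻¹)⁻¹ = s ^ 2 * v * (s ^ 2)⁻¹ * v⁻¹ := by
  have hw : s * v * s⁻¹ ∈ V := (mem_normalizer_iff.mp hs v).mp hv
  set w := s * v * s⁻¹ with hwdef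
  have hv1 : v⁻¹ = v := by rw [inv_eq_iff_mul_eq_one, ← pow_two]; exact h2 v hv
  have hw1 : w⁻¹ = w := by rw [inv_eq_iff_mul_eq_one, ← pow_two]; exact h2 w hw
  have e1 : s * (w * v⁻¹) * s⁻¹ = (s * w * s⁻¹) * (s * v * s⁻¹)⁻¹ := by group
  rw [← hwdef, hw1] at e1
  have e2 : s ^ 2 * v * (s ^ 2)⁻¹ = s * w * s⁻¹ := by rw [hwdef, pow_two]; group
  have e3 : (w * v⁻¹)⁻¹ = v * w := by rw [mul_inv_rev, inv_inv, hw1]
  rw [e1, e2, e3, hv1]
  calc s * w * s⁻¹ * w * (v * w) = s * w * s⁻¹ * w * (w * v) := by rw [hc v hv w hw]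
    _ = s * w * s⁻¹ * (w ^ 2) * v := by rw [pow_two]; group
    _ = s * w * s⁻¹ * v := by rw [h2 w hw, mul_one]

/-- `|Z| = 2`. -/
theorem card_Z (h : Pair S P1 P2) (hn : ¬ zl S P1 ≤ o2 P2) : Nat.card (zc S) = 2 := by
  obtain ⟨R, p, hR⟩ := h.par1
  have h3 := card_R1_ne h hn hR
  have hV := card_V h hn
  obtain ⟨s, hs, hs2, hs4, hsc⟩ := BOneIndex.exists_four h.hyp hR h3 (index_ne_two h hn)
  obtain ⟨x, hx, hfpf⟩ := exists_fpf h.hyp hR h3 (sect_V h hR)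
  set t := s ^ 2 with ht
  have htS : t ∈ S := pow_mem hs 2
  have ht2 : t ^ 2 ∈ o2 P1 := by rw [ht, ← pow_mul]; exact hs4
  have hinv := ParFacts.inverts hR htS hs2 ht2 hsc hx
  set V := zl S P1 with hVdef
  set C : Subgroup G := V ⊓ centralizer ({t} : Set G) with hC
  have hxP : x ∈ P1 := hR.R_le hx
  -- `C ∩ C^x = 1`
  have hCx : C ⊓ C.map (MulAut.conj x).toMonoidHom = ⊥ := by
    rw [eq_bot_iff]
    rintro v ⟨⟨hvV, hvt⟩, ⟨w, ⟨hwV, hwt⟩, hw⟩⟩
    have hw' : x * w * x⁻¹ = v := hw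
    replace hvt : v * t = t * v := mem_centralizer_singleton_iff.mp hvt
    replace hwt : w * t = t * w := mem_centralizer_singleton_iff.mp hwt
    -- `v` commutes with `x t x⁻¹`
    have h4 : (x * t * x⁻¹) * v = v * (x * t * x⁻¹) := by
      rw [← hw']
      calc x * t * x⁻¹ * (x * w * x⁻¹) = x * (t * w) * x⁻¹ := by group
        _ = x * (w * t) * x⁻¹ := by rw [hwt]
        _ = x * w * x⁻¹ * (x * t * x⁻¹) := by group
    have h5 : x ^ 2 * v = v * x ^ 2 := by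
      have e : x ^ 2 = (x * t * x⁻¹) * t⁻¹ * (t * x * t⁻¹ * x) := by rw [pow_two]; group
      have c1 : Commute (x * t * x⁻¹) v := h4
      have c2 : Commute t v := hvt.symm
      have c3 : Commute (t * x * t⁻¹ * x) v := V_Q1 h _ hinv v hvV
      rw [e]
      exact ((c1.mul_left c2.inv_left).mul_left c3)
    have h6 : x * v = v * x := by
      have hp : x ^ p = 1 := hR.pow_R x hx
      have c1 : Commute (x ^ 2) v := h5
      obtain ⟨k, hk⟩ : ∃ k, (x ^ 2) ^ k = x := by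
        rcases hR.p_eq with rfl | rfl
        · exact ⟨2, by rw [← pow_mul, show 2 * 2 = 3 + 1 from rfl, pow_add, hp, one_mul, pow_one]⟩
        · exact ⟨3, by rw [← pow_mul, show 2 * 3 = 5 + 1 from rfl, pow_add, hp, one_mul, pow_one]⟩
      have := c1.pow_left k
      rwa [hk] at this
    refine hfpf v hvV ?_
    rw [mem_bot, h6]; group
  have hCV : C ≤ V := inf_le_left
  have hCxV : C.map (MulAut.conj x).toMonoidHom ≤ V := by
    rintro _ ⟨w, hw, rfl⟩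
    exact conj_mem (P1_V h) hxP (hCV hw)
  have h4 := card_mul_card_le hCV hCxV hCx
  rw [card_map_of_injective (MulAut.conj x).injective, hV] at h4
  have hC4 : Nat.card C ≤ 4 := by nlinarith
  -- `E = C_V(s)`
  set E : Subgroup G := V ⊓ centralizer ({s} : Set G) with hE
  have hEC : E ≤ C := by
    refine inf_le_inf_left _ fun g hg => ?_
    rw [mem_centralizer_singleton_iff] at hg ⊢
    have c1 : Commute g s := hg
    exact c1.pow_right 2
  have hsV : s ∈ normalizer (V : Set G) := S_V h hs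
  have hne : ¬ C ≤ E := by
    intro hle
    have hle' : ∀ v ∈ V, t * v * t⁻¹ * v⁻¹ = 1 → s * v * s⁻¹ * v⁻¹ = 1 := by
      intro v hv h1
      have h2 : t * v = v * t := by
        calc t * v = (t * v * t⁻¹ * v⁻¹) * (v * t) := by group
          _ = v * t := by rw [h1, one_mul]
      have h3 : v * s = s * v := mem_centralizer_singleton_iff.mp
        (hle ⟨hv, mem_centralizer_singleton_iff.mpr h2.symm⟩).2
      rw [← h3]; group
    apply hs2
    rw [mem_Q1_iff h htS]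
    intro v hv
    have hVc := V_comm h
    have hV2 := V_sq h
    have htV : t ∈ normalizer (V : Set G) := S_V h htS
    have m1 : ∀ u ∈ V, s * u * s⁻¹ * u⁻¹ ∈ V := fun u hu =>
      mul_mem ((mem_normalizer_iff.mp hsV u).mp hu) (inv_mem hu)
    have m2 : ∀ u ∈ V, t * u * t⁻¹ * u⁻¹ ∈ V := fun u hu =>
      mul_mem ((mem_normalizer_iff.mp htV u).mp hu) (inv_mem hu)
    -- `ψ ψ v = 1`
    have a1 : t * (t * v * t⁻¹ * v⁻¹) * t⁻¹ * (t * v * t⁻¹ * v⁻¹)⁻¹ = 1 := by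
      rw [phi_phi hVc hV2 htV hv, V_Q1 h _ ht2 v hv]
      group
    -- `φ ψ v = 1`
    have a2 := hle' _ (m2 v hv) a1
    -- `ψ φ v = 1`
    have a3 : t * (s * v * s⁻¹ * v⁻¹) * t⁻¹ * (s * v * s⁻¹ * v⁻¹)⁻¹ = 1 := by
      rw [← phi_phi hVc hV2 hsV (m1 v hv), phi_phi hVc hV2 hsV hv]
      exact a2
    have a4 := hle' _ (m1 v hv) a3
    rw [phi_phi hVc hV2 hsV hv] at a4
    calc t * v = (t * v * t⁻¹ * v⁻¹) * (v * t) := by group
      _ = v * t := by rw [a4, one_mul]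
  have h5 : E.relIndex C ≠ 1 := fun h1 => hne (relIndex_eq_one.mp h1)
  have h6 : Nat.card E * E.relIndex C = Nat.card C := by
    have := relIndex_mul_relIndex ⊥ E C bot_le hEC
    rwa [relIndex_bot_left, relIndex_bot_left] at this
  have h7 : E.relIndex C ≠ 0 := by
    intro h0
    rw [h0, mul_zero] at h6
    exact Nat.card_pos.ne h6
  have h8 : Nat.card E ≤ 2 := by
    have : 2 ≤ E.relIndex C := by omega
    nlinarith
  have h9 : zc S ≤ E := fun z hz =>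
    ⟨Z_le_V S P1 hz, mem_centralizer_singleton_iff.mpr ((mem_zc.mp hz).2.1 s hs).symm⟩
  have h10 : Nat.card (zc S) ≤ 2 := (Nat.card_le_card_of_injective _
    (Subgroup.inclusion_injective h9)).trans h8
  have h11 : Nat.card (zc S) ≠ 1 := fun h1 => zc_ne h ((card_eq_one).mp h1)
  have h12 : 0 < Nat.card (zc S) := Nat.card_pos
  omega

/-- Squares and commutators of `S` lie in a subgroup of index 2. -/
theorem sq_comm_mem {Q : Subgroup G} (hQS : Q ≤ S) (h2 : Q.relIndex S = 2) :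
    (∀ a ∈ S, a ^ 2 ∈ Q) ∧ ∀ a ∈ S, ∀ b ∈ S, a * b * a⁻¹ * b⁻¹ ∈ Q := by
  have h2' : (Q.subgroupOf S).index = 2 := h2
  refine ⟨fun a ha => ?_, fun a ha b hb => ?_⟩
  · rw [pow_two]
    exact Subgroup.mul_self_mem_of_index_two h2' ⟨a, ha⟩
  · have hm : ∀ x y : S, x * y ∈ Q.subgroupOf S ↔ (x ∈ Q.subgroupOf S ↔ y ∈ Q.subgroupOf S) :=
      fun x y => Subgroup.mul_mem_iff_of_index_two h2'
    have h3 : (⟨a, ha⟩ : S) * ⟨b, hb⟩ * (⟨a, ha⟩ : S)⁻¹ * (⟨b, hb⟩ : S)⁻¹ ∈ Q.subgroupOf S := by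
      rw [hm, hm, hm, inv_mem_iff, inv_mem_iff]
      tauto
    exact h3

/-- `Q_1 = V` if `|S : Q_2| = 2`. -/
theorem Q1_eq (h : Pair S P1 P2) (hn : ¬ zl S P1 ≤ o2 P2) (h2 : (o2 P2).relIndex S = 2) :
    o2 P1 = zl S P1 := by
  obtain ⟨R, p, hR⟩ := h.par1
  have h3 := card_R1_ne h hn hR
  obtain ⟨-, hir⟩ := irred16 h.hyp hR h3 (sect_ph hR)
  have hnor : P1 ≤ normalizer ((zl S P1 ⊔ ph (o2 P1) : Subgroup G) : Set G) := by
    intro g hg
    have h1 := P1_V h hg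
    have h4 := (le_normalizer_o2 P1).trans (normalizer_le_ph _) hg
    rw [mem_normalizer_iff_map_conj_eq] at h1 h4 ⊢
    rw [Subgroup.map_sup, h1, h4]
  rcases hir (zl S P1 ⊔ ph (o2 P1)) le_sup_right (sup_le (V_le_Q1 h) (ph_le _)) hnor with h4 | h4
  · exfalso
    apply hn
    obtain ⟨hsq, hco⟩ := sq_comm_mem (Q2_le h) h2
    have h5 : ph (o2 P1) ≤ o2 P1 ⊓ o2 P2 := by
      refine ph_le_of inf_le_left ?_ ?_ ?_
      · exact le_normalizer_of fun a ha b hb =>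
          mem_inf.mpr ⟨mul_mem (mul_mem ha hb.1) (inv_mem ha), conj_mem (S_Q2 h) (Q1_le h ha) hb.2⟩
      · intro a ha b hb
        exact mem_inf.mpr ⟨mul_mem (mul_mem (mul_mem ha hb) (inv_mem ha)) (inv_mem hb),
          hco a (Q1_le h ha) b (Q1_le h hb)⟩
      · exact fun a ha => ⟨pow_mem ha 2, hsq a (Q1_le h ha)⟩
    exact (le_sup_left.trans h4.le).trans (h5.trans inf_le_right)
  · exact (eq_of_sup_ph (V_le_Q1 h) h4.ge).symm

/-- There is `a ∈ V ∖ Q_2` which is central in `S` modulo `Q_2`. -/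
theorem exists_a (h : Pair S P1 P2) (hn : ¬ zl S P1 ≤ o2 P2) :
    ∃ a ∈ zl S P1, a ∉ o2 P2 ∧ ∀ s ∈ S, a * s * a⁻¹ * s⁻¹ ∈ o2 P2 := by
  have hf : Fact (Nat.Prime 2) := ⟨Nat.prime_two⟩
  have hnil : Group.IsNilpotent S := (isPGroup h).isNilpotent
  have n1 : ((o2 P2).subgroupOf S).Normal := normal_subgroupOf_of_le_normalizer (S_Q2 h)
  have n2 : ((zl S P1).subgroupOf S).Normal := normal_subgroupOf_of_le_normalizer (S_V h)
  obtain ⟨a, ha, haQ, hac⟩ := Lib.NormalAbelian.exists_mem_not_mem_central_mod n1 n2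
    (fun hle => hn fun v hv => hle (show (⟨v, V_le h hv⟩ : S) ∈ _ from hv))
  exact ⟨a, ha, haQ, fun s hs => hac ⟨s, hs⟩⟩

end Pair

end Cfsg.Agent.SectRankFour.C2.BOneA
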