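import Mathlib
import Cfsg.Agent.SectRankFour.C2.BOneA
import Cfsg.Agent.SectRankFour.C2.DA

/-!
# S0517, C2, sectional rank 4, section 1 (`b = 1`), case (1a): `P_2` of rank-4 type
-/

set_option autoImplicit false
set_option linter.unusedSectionVars false
set_option linter.unusedVariables false

namespace Cfsg.Agent.SectRankFour.C2.BOneFour

open Subgroup Cfsg Cfsg.Agent.ZN Cfsg.Agent.MinSimple Cfsg.Agent.MinSimple.MinParabolic
  Cfsg.Agent.MinSimple.VModule Cfsg.Agent.SectRankFour.C2.Defs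
open Cfsg.Agent.SectRankFour.C2.BOneFacts Cfsg.Agent.SectRankFour.C2.BOneA

universe u

variable {G : Type u} [Group G]

/-- The stabiliser in `P` of the coset `B f`, `B` normalised by `P`. -/
def st {P B : Subgroup G} (hB : P ≤ normalizer (B : Set G)) (f : G) : Subgroup G where
  carrier := {y | y ∈ P ∧ y * f * y⁻¹ * f⁻¹ ∈ B}
  one_mem' := ⟨one_mem _, by simp⟩
  mul_mem' := by
    rintro y z ⟨hy, hy'⟩ ⟨hz, hz'⟩
    refine ⟨mul_mem hy hz, ?_⟩
    have e : y * z * f * (y * z)⁻¹ * f⁻¹ =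
        (y * (z * f * z⁻¹ * f⁻¹) * y⁻¹) * (y * f * y⁻¹ * f⁻¹) := by group
    rw [e]
    exact mul_mem (conj_mem hB hy hz') hy'
  inv_mem' := by
    rintro y ⟨hy, hy'⟩
    refine ⟨inv_mem hy, ?_⟩
    have e : y⁻¹ * f * y⁻¹⁻¹ * f⁻¹ = y⁻¹ * (y * f * y⁻¹ * f⁻¹)⁻¹ * y := by group
    rw [e]
    exact conj_mem' hB hy (inv_mem hy')

theorem mem_st {P B : Subgroup G} {hB : P ≤ normalizer (B : Set G)} {f y : G} :
    y ∈ st hB f ↔ y ∈ P ∧ y * f * y⁻¹ * f⁻¹ ∈ B := Iff.rfl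

theorem conj_mem_st {P B : Subgroup G} {hB : P ≤ normalizer (B : Set G)} {f y g : G}
    (hg : g ∈ P) (hy : y ∈ st hB f) : g * y * g⁻¹ ∈ st hB (g * f * g⁻¹) := by
  refine ⟨mul_mem (mul_mem hg hy.1) (inv_mem hg), ?_⟩
  have e : g * y * g⁻¹ * (g * f * g⁻¹) * (g * y * g⁻¹)⁻¹ * (g * f * g⁻¹)⁻¹ =
      g * (y * f * y⁻¹ * f⁻¹) * g⁻¹ := by group
  rw [e]
  exact conj_mem hB hg hy.2

/-- Powers: `y ^ k ∈ H`, `y ^ p = 1`, `p` coprime to `k`. -/
theorem mem_of_pow_mem {H : Subgroup G} {y : G} {p k : ℕ} (hp : y ^ p = 1) (hk : k.Coprime p)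
    (h : y ^ k ∈ H) : y ∈ H := by
  have h1 : (y ^ k) ∈ zpowers y := pow_mem (mem_zpowers y) k
  have h2 : orderOf y ∣ p := orderOf_dvd_of_pow_eq_one hp
  have h3 : k.Coprime (orderOf y) := hk.coprime_dvd_right h2
  obtain ⟨m, hm⟩ := exists_pow_eq_self_of_coprime h3
  rw [← hm]
  exact pow_mem h m

/-- `a` inverts `x` modulo `Q`: so it inverts `x ^ k`. -/
theorem inv_pow_mem {P Q : Subgroup G} (hPQ : P ≤ normalizer (Q : Set G)) {a x : G}
    (hx : x ∈ P) (hax : a * x * a⁻¹ * x ∈ Q) (k : ℕ) : a * x ^ k * a⁻¹ * x ^ k ∈ Q := by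
  induction k with
  | zero => simp
  | succ k ih =>
    have e : a * x ^ (k + 1) * a⁻¹ * x ^ (k + 1) =
        (a * x * a⁻¹ * x) * (x⁻¹ * (a * x ^ k * a⁻¹ * x ^ k) * x) := by
      rw [pow_succ']
      have : x * x ^ k = x ^ k * x := by rw [← pow_succ, ← pow_succ']
      rw [show a * (x * x ^ k) * a⁻¹ * (x * x ^ k) = a * (x * x ^ k) * a⁻¹ * (x ^ k * x) by
        rw [this]]
      group
    rw [e]
    exact mul_mem hax (conj_mem' hPQ hx ih)

/-- Five subgroups of order 8 of a group of order 32 with pairwise intersections in a subgroup of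
order 2 cover it. -/
theorem cover_five [Finite G] {Q I : Subgroup G} (f : Fin 5 → Subgroup G) (hIf : ∀ k, I ≤ f k)
    (hfQ : ∀ k, f k ≤ Q) (hI : Nat.card I = 2) (hf : ∀ k, Nat.card (f k) = 8)
    (hQ : Nat.card Q = 32) (hd : ∀ k l, k ≠ l → f k ⊓ f l ≤ I) : ∀ q ∈ Q, ∃ k, q ∈ f k := by
  classical
  have := Fintype.ofFinite G
  intro q hq
  by_contra hno
  push Not at hno
  have hqI : q ∉ I := fun h => hno 0 (hIf 0 h)
  have hcard : ∀ H : Subgroup G, (Finset.univ.filter (· ∈ H)).card = Nat.card H := by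
    intro H
    rw [Nat.card_eq_fintype_card, Fintype.card_subtype]
  let T : Fin 5 → Finset G := fun k => (Finset.univ.filter (· ∈ f k)) \ (Finset.univ.filter (· ∈ I))
  have hT : ∀ k, (T k).card = 6 := by
    intro k
    have hsub : (Finset.univ.filter (· ∈ I)) ⊆ (Finset.univ.filter (· ∈ f k)) := by
      intro x hx
      rw [Finset.mem_filter] at hx ⊢
      exact ⟨hx.1, hIf k hx.2⟩
    rw [Finset.card_sdiff_of_subset hsub, hcard, hcard, hf, hI]
  have hU : (Finset.univ.biUnion T).card = 30 := by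
    rw [Finset.card_biUnion]
    · simp [hT]
    · intro k _ l _ hkl
      rw [Function.onFun, Finset.disjoint_left]
      intro x hx hx'
      simp only [T, Finset.mem_sdiff, Finset.mem_filter, Finset.mem_univ, true_and] at hx hx'
      exact hx.2 (hd k l hkl ⟨hx.1, hx'.1⟩)
  have hsub : insert q (Finset.univ.biUnion T ∪ Finset.univ.filter (· ∈ I)) ⊆
      Finset.univ.filter (· ∈ Q) := by
    intro x hx
    rw [Finset.mem_insert, Finset.mem_union, Finset.mem_biUnion, Finset.mem_filter] at hx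
    rw [Finset.mem_filter]
    refine ⟨Finset.mem_univ _, ?_⟩
    rcases hx with rfl | ⟨k, -, hk⟩ | hx
    · exact hq
    · simp only [T, Finset.mem_sdiff, Finset.mem_filter, Finset.mem_univ, true_and] at hk
      exact hfQ k hk.1
    · exact hfQ 0 (hIf 0 hx.2)
  have h1 := Finset.card_le_card hsub
  rw [hcard, hQ, Finset.card_insert_of_notMem, Finset.card_union_of_disjoint, hU, hcard, hI] at h1
  · omega
  · rw [Finset.disjoint_left]
    intro x hx hx'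
    rw [Finset.mem_biUnion] at hx
    obtain ⟨k, -, hk⟩ := hx
    simp only [T, Finset.mem_sdiff, Finset.mem_filter, Finset.mem_univ, true_and] at hk hx'
    exact hk.2 hx'
  · rw [Finset.mem_union, Finset.mem_biUnion, Finset.mem_filter]
    rintro (⟨k, -, hk⟩ | hx)
    · simp only [T, Finset.mem_sdiff, Finset.mem_filter, Finset.mem_univ, true_and] at hk
      exact hno k hk.1
    · exact hqI hx.2

/-- Cosets: four elements in different cosets of a subgroup of index 4. -/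
theorem cover_four [Finite G] {A B : Subgroup G} (hi : B.relIndex A = 4)
    (f : Fin 4 → G) (hf : ∀ k, f k ∈ A) (hd : ∀ k l, k ≠ l → (f k)⁻¹ * f l ∉ B) :
    ∀ g ∈ A, ∃ k, (f k)⁻¹ * g ∈ B := by
  intro g hg
  let φ : Fin 4 → A ⧸ (B.subgroupOf A) := fun k => QuotientGroup.mk (⟨f k, hf k⟩ : A)
  have hinj : Function.Injective φ := by
    intro k l hkl
    by_contra hne
    apply hd k l hne
    have := QuotientGroup.eq.mp hkl
    exact mem_subgroupOf.mp this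
  have hc : Nat.card (A ⧸ (B.subgroupOf A)) = 4 := hi
  have hbij : Function.Bijective φ := by
    refine hinj.bijective_of_nat_card_le ?_
    rw [hc, Nat.card_fin]
  obtain ⟨k, hk⟩ := hbij.2 (QuotientGroup.mk (⟨g, hg⟩ : A))
  exact ⟨k, mem_subgroupOf.mp (QuotientGroup.eq.mp hk)⟩

/-- `A / B` of order 4, `y` of order 3 acts without fixed points on it: one orbit. -/
theorem orbit_four [Finite G] {P A B : Subgroup G} (hB : P ≤ normalizer (B : Set G)) (hAP : A ≤ P)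
    (hi : B.relIndex A = 4) {y : G} (hy : y ∈ P) (hy3 : y ^ 3 = 1) (hyA : y ∈ normalizer (A : Set G))
    (hfpf : ∀ a ∈ A, y * a * y⁻¹ * a⁻¹ ∈ B → a ∈ B) {d : G} (hd : d ∈ A) (hdB : d ∉ B) {g : G}
    (hg : g ∈ A) : ∃ k : ℕ, y ^ k * g * (y ^ k)⁻¹ ∈ B ∨ d⁻¹ * (y ^ k * g * (y ^ k)⁻¹) ∈ B := by
  have hyk : ∀ k : ℕ, ∀ a ∈ A, y ^ k * a * (y ^ k)⁻¹ ∈ A := fun k a ha =>
    (mem_normalizer_iff.mp (pow_mem hyA k) a).mp ha
  have hykP : ∀ k : ℕ, y ^ k ∈ P := fun k => pow_mem hy k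
  -- nontrivial powers of `y` fix no coset
  have hk0 : ∀ k : ℕ, k.Coprime 3 → ∀ a ∈ A, a⁻¹ * (y ^ k * a * (y ^ k)⁻¹) ∈ B → a ∈ B := by
    intro k hk a ha h1
    have h2 : y ^ k ∈ st hB a := by
      refine ⟨hykP k, ?_⟩
      have := conj_mem hB (hAP ha) h1
      have e : a * (a⁻¹ * (y ^ k * a * (y ^ k)⁻¹)) * a⁻¹ = y ^ k * a * (y ^ k)⁻¹ * a⁻¹ := by group
      rwa [e] at this
    exact hfpf a ha (mem_of_pow_mem hy3 hk h2).2
  have hsym : ∀ u v : G, u⁻¹ * v ∈ B → v⁻¹ * u ∈ B := by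
    intro u v h
    have := inv_mem h
    rwa [mul_inv_rev, inv_inv] at this
  set d1 := y ^ 1 * d * (y ^ 1)⁻¹ with hd1
  set d2 := y ^ 2 * d * (y ^ 2)⁻¹ with hd2
  have hd1A : d1 ∈ A := hyk 1 d hd
  have hd2A : d2 ∈ A := hyk 2 d hd
  have hnot : ∀ k : ℕ, y ^ k * d * (y ^ k)⁻¹ ∉ B := by
    intro k h1
    apply hdB
    have := conj_mem' hB (hykP k) h1
    have e : (y ^ k)⁻¹ * (y ^ k * d * (y ^ k)⁻¹) * y ^ k = d := by group
    rwa [e] at this
  have hn1 : d1 ∉ B := hnot 1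
  have hn2 : d2 ∉ B := hnot 2
  have e12 : d2 = y ^ 1 * d1 * (y ^ 1)⁻¹ := by rw [hd1, hd2, pow_one, pow_two]; group
  have a01 : d⁻¹ * d1 ∉ B := fun h => hdB (hk0 1 (by norm_num) d hd h)
  have a02 : d⁻¹ * d2 ∉ B := fun h => hdB (hk0 2 (by norm_num) d hd h)
  have a12 : d1⁻¹ * d2 ∉ B := fun h => hn1 (hk0 1 (by norm_num) d1 hd1A (e12 ▸ h))
  obtain ⟨k, hk⟩ := cover_four hi ![1, d, d1, d2]
    (by
      intro k
      fin_cases k
      · exact one_mem _
      · exact hd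
      · exact hd1A
      · exact hd2A)
    (by
      intro k l hkl
      have b1 : (1 : G)⁻¹ * d ∉ B := by simpa using hdB
      have b2 : (1 : G)⁻¹ * d1 ∉ B := by simpa using hn1
      have b3 : (1 : G)⁻¹ * d2 ∉ B := by simpa using hn2
      fin_cases k <;> fin_cases l
      · exact absurd rfl hkl
      · exact b1
      · exact b2
      · exact b3
      · exact fun h => b1 (hsym _ _ h)
      · exact absurd rfl hkl
      · exact a01
      · exact a02
      · exact fun h => b2 (hsym _ _ h)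
      · exact fun h => a01 (hsym _ _ h)
      · exact absurd rfl hkl
      · exact a12
      · exact fun h => b3 (hsym _ _ h)
      · exact fun h => a02 (hsym _ _ h)
      · exact fun h => a12 (hsym _ _ h)
      · exact absurd rfl hkl) g hg
  fin_cases k
  · refine ⟨0, Or.inl ?_⟩
    have : g ∈ B := by simpa using hk
    simpa using this
  · refine ⟨0, Or.inr ?_⟩
    have : d⁻¹ * g ∈ B := hk
    simpa using this
  · refine ⟨2, Or.inr ?_⟩
    have h1 : d1⁻¹ * g ∈ B := hk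
    have h2 := conj_mem hB (hykP 2) h1
    have e : y ^ 2 * (d1⁻¹ * g) * (y ^ 2)⁻¹ = (y ^ 3 * d * (y ^ 3)⁻¹)⁻¹ *
        (y ^ 2 * g * (y ^ 2)⁻¹) := by
      rw [hd1]; group
    rw [e, hy3] at h2
    simpa using h2
  · refine ⟨1, Or.inr ?_⟩
    have h1 : d2⁻¹ * g ∈ B := hk
    have h2 := conj_mem hB (hykP 1) h1
    have e : y ^ 1 * (d2⁻¹ * g) * (y ^ 1)⁻¹ = (y ^ 3 * d * (y ^ 3)⁻¹)⁻¹ *
        (y ^ 1 * g * (y ^ 1)⁻¹) := by
      rw [hd2]; group
    rw [e, hy3] at h2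
    simpa using h2

/-! ### The situation of (1a) -/

variable [Finite G] {S P1 P2 : Subgroup G}

/-- The result of the amalgam argument with `L = ⟨V_0, V_0^x⟩`, `V_0 = (V ∩ Q_2)⟨a⟩`. -/
theorem exists_cfg (h : Pair S P1 P2) (hn : ¬ zl S P1 ≤ o2 P2) {R : Subgroup G} {p : ℕ}
    (hR : Defs.Par S P2 R p) (h3 : Nat.card R ≠ 3) : ∃ a ∈ zl S P1, a ∉ o2 P2 ∧
      (∀ r ∈ R, a * r * a⁻¹ * r ∈ o2 P2) ∧ ∃ x ∈ P2, x ^ p = 1 ∧ a * x * a⁻¹ * x ∈ o2 P2 ∧
      (∀ q ∈ o2 P2, x * q * x⁻¹ * q⁻¹ ∈ ph (o2 P2) → q ∈ ph (o2 P2)) ∧ ph (o2 P2) = zc S ∧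
      Nat.card (zl S P1 ⊓ o2 P2 : Subgroup G) = 8 ∧ Nat.card (o2 P2) = 32 := by
  have hfp : Fact p.Prime := ⟨ParFacts.p_prime hR⟩
  have hpo : Odd p := by rcases hR.p_eq with rfl | rfl <;> decide
  set V := zl S P1 with hVdef
  set Q := o2 P2 with hQdef
  have hsec := sect_ph hR
  have hV16 := card_V h hn
  have hZ2 := card_Z h hn
  obtain ⟨hi16, -⟩ := irred16 h.hyp hR h3 hsec
  obtain ⟨r, hr, hfpf⟩ := exists_fpf h.hyp hR h3 hsec
  obtain ⟨a, ha, haQ, hac⟩ := exists_a h hn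
  have haS : a ∈ S := V_le h ha
  have ha2 : a ^ 2 = 1 := V_sq h a ha
  have hinv : ∀ x ∈ R, a * x * a⁻¹ * x ∈ o2 P2 := fun x hx =>
    ParFacts.inverts hR haS haQ (by rw [ha2]; exact one_mem _) hac hx
  refine ⟨a, ha, haQ, hinv, ?_⟩
  have hQ2 : IsPGroup 2 Q := o2_isPGroup P2
  -- `V_0`
  set V0 : Subgroup G := (V ⊓ Q) ⊔ zpowers a with hV0
  have hV0V : V0 ≤ V := sup_le inf_le_left ((zpowers_le).mpr ha)
  have haV0 : a ∈ V0 := mem_sup_right (mem_zpowers a)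
  have hV0Q : V0 ⊓ Q = V ⊓ Q :=
    le_antisymm (inf_le_inf_right _ hV0V) (le_inf le_sup_left inf_le_right)
  have hdec : ∀ v ∈ V0, v ∈ Q ∨ v * a ∈ Q := by
    intro v hv
    have hn' : zpowers a ≤ normalizer ((V ⊓ Q : Subgroup G) : Set G) := by
      refine le_normalizer_of fun b hb c hc => ?_
      have hbV : b ∈ V := (zpowers_le.mpr ha) hb
      rw [V_comm h b hbV c hc.1, mul_inv_cancel_right]
      exact hc
    rw [hV0, ← SetLike.mem_coe, coe_mul_of_right_le_normalizer_left _ _ hn'] at hv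
    obtain ⟨d, hd, z, hz, rfl⟩ := hv
    obtain ⟨k, rfl⟩ := mem_zpowers_iff.mp hz
    rcases Int.even_or_odd' k with ⟨m, rfl | rfl⟩
    · left
      have : a ^ (2 * m) = 1 := by rw [zpow_mul]; simp [ha2]
      show d * a ^ (2 * m) ∈ Q
      rw [this, mul_one]
      exact hd.2
    · right
      have : a ^ (2 * m + 1) * a = 1 := by
        rw [zpow_add, zpow_mul]
        simp only [zpow_ofNat, ha2, one_zpow, one_mul, pow_one]
        rw [← pow_two, ha2]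
      show d * a ^ (2 * m + 1) * a ∈ Q
      rw [mul_assoc, this, mul_one]
      exact hd.2
  have hInp : DA.Inp P2 Q V0 a r p :=
    { QP := o2_le P2
      PQ := P2_Q2 h
      two := hQ2
      VP := (hV0V.trans (V_le h)).trans (le2 h)
      comm := fun v hv w hw => V_comm h v (hV0V hv) w (hV0V hw)
      sq := fun v hv => V_sq h v (hV0V hv)
      QV := by
        refine le_normalizer_of fun q hq v hv => ?_
        -- `[q, v] ∈ V ∩ Q`
        have h1 : q * v * q⁻¹ * v⁻¹ ∈ V ⊓ Q := by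
          refine mem_inf.mpr ⟨mul_mem (conj_mem (Q2_V h) hq (hV0V hv)) (inv_mem (hV0V hv)), ?_⟩
          have e : q * v * q⁻¹ * v⁻¹ = q * (v * q⁻¹ * v⁻¹) := by group
          rw [e]
          exact mul_mem hq (conj_mem (P2_Q2 h) (le2 h (V_le h (hV0V hv))) (inv_mem hq))
        have e : q * v * q⁻¹ = (q * v * q⁻¹ * v⁻¹) * v := by group
        rw [e]
        exact mul_mem (mem_sup_left h1) hv
      ha := haV0
      hVa := hdec
      hr := hR.R_le hr
      odd := hpo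
      hrn := by rw [hR.pow_R r hr]; exact one_mem _
      har := hinv r hr }
  obtain ⟨x, hx⟩ := hInp.exists_ch
  refine ⟨x, hx.xP, hx.xn, ?_⟩
  have hphn : P2 ≤ normalizer (ph Q : Set G) := (P2_Q2 h).trans (normalizer_le_ph _)
  -- `x` acts on `Q / Φ(Q)` as `r`
  have hxfpf : ∀ q ∈ Q, x * q * x⁻¹ * q⁻¹ ∈ ph Q → q ∈ ph Q := by
    intro q hq h1
    have h2 : x ∈ st hphn q := ⟨hx.xP, h1⟩
    have h3 : x * r⁻¹ ∈ st hphn q := ⟨o2_le P2 hx.xr, comm_mem_ph hQ2 hx.xr hq⟩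
    have h4 : r ∈ st hphn q := by
      have : r = (x * r⁻¹)⁻¹ * x := by group
      rw [this]
      exact mul_mem (inv_mem h3) h2
    exact hfpf q hq h4.2
  -- `a` inverts `x`
  have hax : a * x * a⁻¹ * x ∈ Q := by
    have e : a * x * a⁻¹ * x = (a * (x * r⁻¹) * a⁻¹) * ((a * r * a⁻¹ * r) *
        (r⁻¹ * (x * r⁻¹) * r)) := by group
    rw [e]
    have haP : a ∈ P2 := le2 h haS
    exact mul_mem (conj_mem (P2_Q2 h) haP hx.xr) (mul_mem (hinv r hr)
      (conj_mem' (P2_Q2 h) (hR.R_le hr) hx.xr))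
  -- `F = Q`
  have hF : DA.FF Q V0 x = Q := by
    refine eq_of_sup_ph hx.F_le_Q fun q hq => ?_
    have hnorm : zpowers x ≤ normalizer ((DA.FF Q V0 x ⊔ ph Q : Subgroup G) : Set G) := by
      rw [zpowers_le]
      have h1 : x ∈ normalizer (DA.FF Q V0 x : Set G) := hx.L_F hx.xLL
      have h2 : x ∈ normalizer (ph Q : Set G) := hphn hx.xP
      rw [mem_normalizer_iff_map_conj_eq] at h1 h2 ⊢
      rw [Subgroup.map_sup, h1, h2]
    have hle : DA.FF Q V0 x ⊔ ph Q ≤ Q := sup_le hx.F_le_Q (ph_le Q)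
    obtain ⟨c, hc1, hc2⟩ := Lib.CoprimeCommutator.exists_fixed_in_coset p (zpowers x)
      (DA.FF Q V0 x ⊔ ph Q) (by
        rintro ⟨y, hy⟩
        obtain ⟨k, rfl⟩ := mem_zpowers_iff.mp hy
        refine ⟨1, Subtype.ext ?_⟩
        rw [pow_one]
        show (x ^ k) ^ p = 1
        rw [← zpow_natCast, ← zpow_mul, mul_comm, zpow_mul, zpow_natCast, hx.xn, one_zpow])
      hnorm (not_dvd_two (hQ2.to_le hle) hR.p_eq) q (by
        intro y hy
        have hyL : y ∈ DA.LL V0 x := (zpowers_le.mpr hx.xLL) hy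
        have h1 := hx.comm_L hyL hq
        have h2 := (mem_normalizer_iff.mp (hx.Q_F (inv_mem hq)) _).mp h1
        rw [inv_inv] at h2
        have e : q⁻¹ * (y * q * y⁻¹ * q⁻¹) * q = q⁻¹ * (y * q * y⁻¹) := by group
        rw [e] at h2
        exact mem_sup_left h2)
    have hcQ : c ∈ Q := by
      have := mul_mem hq (hle hc2)
      rwa [mul_inv_cancel_left] at this
    have hcx : x * c = c * x := mem_centralizer_iff.mp hc1 x (mem_zpowers x)
    have hcph : c ∈ ph Q := hxfpf c hcQ (by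
      rw [hcx, mul_inv_cancel_right, mul_inv_cancel]; exact one_mem _)
    have e : q = c * (q⁻¹ * c)⁻¹ := by group
    rw [e]
    exact mul_mem (mem_sup_right hcph) (inv_mem hc2)
  -- `I = Φ(Q)`
  have hIQ : DA.II Q V0 x ≤ Q := DA.Ch.I_le_F.trans hx.F_le_Q
  have hI : DA.II Q V0 x = ph Q := by
    apply le_antisymm
    · intro i hi
      have h1 := hx.centI hx.xLL hi
      refine hxfpf i (hIQ hi) ?_
      rw [h1, mul_inv_cancel_right, mul_inv_cancel]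
      exact one_mem _
    · refine ph_le_of hIQ ?_ ?_ ?_
      · refine le_normalizer_of fun q hq i hi => ?_
        have hqL : q ∈ DA.LL V0 x := hx.F_le_L (hF.symm ▸ hq)
        rw [hx.centI hqL hi, mul_inv_cancel_right]
        exact hi
      · intro b hb c hc
        exact hx.comm_F (hF.symm ▸ hb) (hF.symm ▸ hc)
      · intro b hb
        rw [pow_two]
        exact hx.sq_F (hF.symm ▸ hb)
  -- orders
  have hcard := hx.card_F
  rw [hF, hI, hV0Q] at hcard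
  have h16 : Nat.card (ph Q) * 16 = Nat.card Q := by
    have := relIndex_mul_relIndex ⊥ (ph Q) Q bot_le (ph_le Q)
    rwa [relIndex_bot_left, relIndex_bot_left, hi16] at this
  have hZI : zc S ≤ ph Q := by
    rw [← hI]
    intro z hz
    have hzD : z ∈ V0 ⊓ Q := hV0Q.symm ▸ ⟨Z_le_V S P1 hz, Z_le_Q2 h hz⟩
    refine mem_inf.mpr ⟨hzD, ?_⟩
    rw [DA.mem_cj]
    have h1 : x * z = z * x := P2_Z h hx.xP hz
    have e : x⁻¹ * z * x = z := by rw [mul_assoc, ← h1, inv_mul_cancel_left]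
    rw [e]
    exact hzD
  have hDV : V ⊓ Q < V := lt_of_le_of_ne inf_le_left (fun h0 => hn (inf_eq_left.mp h0))
  have hD8 : Nat.card (V ⊓ Q : Subgroup G) ≤ 8 := by
    have h1 : Nat.card (V ⊓ Q : Subgroup G) * (V ⊓ Q).relIndex V = 16 := by
      have := relIndex_mul_relIndex ⊥ (V ⊓ Q) V bot_le inf_le_left
      rwa [relIndex_bot_left, relIndex_bot_left, hV16] at this
    have h2 : (V ⊓ Q).relIndex V ≠ 1 := fun h2 => hDV.not_ge (relIndex_eq_one.mp h2)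
    have h3 : (V ⊓ Q).relIndex V ≠ 0 := by
      intro h0
      rw [h0, mul_zero] at h1
      omega
    have h4 : 2 ≤ (V ⊓ Q).relIndex V := by omega
    nlinarith
  have hph : 2 ≤ Nat.card (ph Q) := by
    rw [← hZ2]
    exact Nat.card_le_card_of_injective _ (Subgroup.inclusion_injective hZI)
  have h5 : Nat.card (ph Q) ^ 2 * 16 = Nat.card (V ⊓ Q : Subgroup G) ^ 2 := by
    rw [← hcard, ← h16]; ring
  have h6 : 4 * Nat.card (ph Q) = Nat.card (V ⊓ Q : Subgroup G) := by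
    have : (4 * Nat.card (ph Q)) ^ 2 = Nat.card (V ⊓ Q : Subgroup G) ^ 2 := by
      rw [← h5]; ring
    exact Nat.pow_left_injective (n := 2) (by norm_num) this
  have h7 : Nat.card (ph Q) = 2 := by omega
  refine ⟨hax, hxfpf, ?_, by omega, by omega⟩
  exact (eq_of_le_of_card_ge hZI (by rw [h7, hZ2])).symm

/-- `|R_2| = 5`: the five conjugates of `D = V ∩ Q_2` under `⟨x⟩` cover `Q_2`. -/
theorem conj_five (h : Pair S P1 P2) {a x : G} (ha : a ∈ zl S P1) (hxP : x ∈ P2) (hx5 : x ^ 5 = 1)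
    (hax : a * x * a⁻¹ * x ∈ o2 P2)
    (hfpf : ∀ q ∈ o2 P2, x * q * x⁻¹ * q⁻¹ ∈ ph (o2 P2) → q ∈ ph (o2 P2))
    (hph : ph (o2 P2) = zc S) (hZ : Nat.card (zc S) = 2)
    (hD8 : Nat.card (zl S P1 ⊓ o2 P2 : Subgroup G) = 8) (hQ : Nat.card (o2 P2) = 32) :
    ∀ q ∈ o2 P2, ∃ g ∈ P2, g * q * g⁻¹ ∈ zl S P1 ⊓ o2 P2 := by
  set V := zl S P1 with hVdef
  set Q := o2 P2 with hQdef
  have hQ2 : IsPGroup 2 Q := o2_isPGroup P2
  have hphn : P2 ≤ normalizer (ph Q : Set G) := (P2_Q2 h).trans (normalizer_le_ph _)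
  have haP : a ∈ P2 := le2 h (V_le h ha)
  let f : Fin 5 → Subgroup G := fun k => DA.cj (x ^ (k : ℕ)) (V ⊓ Q)
  have hxk : ∀ k : ℕ, x ^ k ∈ P2 := fun k => pow_mem hxP k
  have hIf : ∀ k, ph Q ≤ f k := by
    intro k z hz
    rw [DA.mem_cj]
    rw [hph] at hz
    have h1 : x ^ (k : ℕ) * z = z * x ^ (k : ℕ) := P2_Z h (hxk _) hz
    have e : (x ^ (k : ℕ))⁻¹ * z * x ^ (k : ℕ) = z := by
      rw [mul_assoc, ← h1, inv_mul_cancel_left]
    rw [e]
    exact ⟨Z_le_V S P1 hz, Z_le_Q2 h hz⟩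
  have hfQ : ∀ k, f k ≤ Q := by
    rintro k _ ⟨d, hd, rfl⟩
    exact conj_mem (P2_Q2 h) (hxk _) hd.2
  have hf8 : ∀ k, Nat.card (f k) = 8 := by
    intro k
    rw [← hD8]
    exact card_map_of_injective (MulAut.conj (x ^ (k : ℕ))).injective
  -- `D ∩ D^{x^k} ≤ I`
  have key : ∀ k : ℕ, k.Coprime 5 → ∀ e ∈ V ⊓ Q, x ^ k * e * (x ^ k)⁻¹ ∈ V ⊓ Q →
      x ^ k * e * (x ^ k)⁻¹ ∈ ph Q := by
    intro k hk e he hf
    set g := x ^ k * e * (x ^ k)⁻¹ with hg
    -- `a` and `x^k a x^{-k}` centralise `g`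
    have c1 : a ∈ st hphn g := by
      refine ⟨haP, ?_⟩
      rw [V_comm h a ha g hf.1, mul_inv_cancel_right, mul_inv_cancel]
      exact one_mem _
    have c2 : x ^ k * a * (x ^ k)⁻¹ ∈ st hphn g := by
      apply conj_mem_st (hxk k)
      refine ⟨haP, ?_⟩
      rw [V_comm h a ha e he.1, mul_inv_cancel_right, mul_inv_cancel]
      exact one_mem _
    have hq := inv_pow_mem (P2_Q2 h) hxP hax k
    set q := a * x ^ k * a⁻¹ * x ^ k with hqdef
    have c3 : x ^ (2 * k) * q⁻¹ ∈ st hphn g := by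
      have e1 : x ^ (2 * k) * q⁻¹ = x ^ k * a * (x ^ k)⁻¹ * a⁻¹ := by
        rw [hqdef, two_mul, pow_add]; group
      rw [e1]
      exact mul_mem c2 (inv_mem c1)
    have c4 : q ∈ st hphn g := ⟨o2_le P2 hq, comm_mem_ph hQ2 hq hf.2⟩
    have c5 : x ^ (2 * k) ∈ st hphn g := by
      have := mul_mem c3 c4
      rwa [inv_mul_cancel_right] at this
    have c6 : x ∈ st hphn g := mem_of_pow_mem hx5 (Nat.Coprime.mul_left (by norm_num) hk) c5
    exact hfpf g hf.2 c6.2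
  have hd : ∀ k l, k ≠ l → f k ⊓ f l ≤ ph Q := by
    have aux : ∀ k l : Fin 5, k < l → f k ⊓ f l ≤ ph Q := by
      intro k l hkl g hg
      obtain ⟨h1, h2⟩ := mem_inf.mp hg
      rw [DA.mem_cj] at h1 h2
      set e := (x ^ (l : ℕ))⁻¹ * g * x ^ (l : ℕ) with he
      have hkl' : (k : ℕ) < (l : ℕ) := hkl
      have e1 : x ^ ((l : ℕ) - k) * e * (x ^ ((l : ℕ) - k))⁻¹ =
          (x ^ (k : ℕ))⁻¹ * g * x ^ (k : ℕ) := by
        have e2 : x ^ (l : ℕ) = x ^ (k : ℕ) * x ^ ((l : ℕ) - k) := by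
          rw [← pow_add]; congr 1; omega
        rw [he, e2]; group
      have h3 := key ((l : ℕ) - k) (by
        have h5 : (l : ℕ) < 5 := l.2
        have : (l : ℕ) - k < 5 := by omega
        have h0 : 0 < (l : ℕ) - k := by omega
        generalize (l : ℕ) - k = m at this h0
        interval_cases m <;> norm_num) e h2 (e1 ▸ h1)
      rw [e1] at h3
      have h4 := conj_mem hphn (hxk k) h3
      have e3 : x ^ (k : ℕ) * ((x ^ (k : ℕ))⁻¹ * g * x ^ (k : ℕ)) * (x ^ (k : ℕ))⁻¹ = g := by group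
      rwa [e3] at h4
    intro k l hkl
    rcases lt_or_gt_of_ne hkl with h1 | h1
    · exact aux k l h1
    · rw [inf_comm]; exact aux l k h1
  intro q hq
  obtain ⟨k, hk⟩ := cover_five f hIf hfQ (hph ▸ hZ) hf8 hQ hd q hq
  refine ⟨(x ^ (k : ℕ))⁻¹, inv_mem (hxk k), ?_⟩
  rw [DA.mem_cj] at hk
  rwa [inv_inv]

/-- `|R_2| = 9`: one half of the decomposition `W = C_W(y'') × C_W(y')`. -/
theorem conj_nine_aux (h : Pair S P1 P2) {R : Subgroup G} {p : ℕ} (hR : Defs.Par S P2 R p) {a : G}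
    (ha : a ∈ zl S P1) (hinv : ∀ r ∈ R, a * r * a⁻¹ * r ∈ o2 P2) {y y' : G} (hy : y ∈ R)
    (hy' : y' ∈ R) (hy3 : y ^ 3 = 1) {A A' : Subgroup G} (hBA : ph (o2 P2) ≤ A)
    (hAQ : A ≤ o2 P2)
    (hi : (ph (o2 P2)).relIndex A = 4) (hinf : A ⊓ A' = ph (o2 P2))
    (hA : ∀ q ∈ o2 P2, q ∈ A ↔ y' * q * y'⁻¹ * q⁻¹ ∈ ph (o2 P2))
    (hA' : ∀ q ∈ o2 P2, q ∈ A' ↔ y * q * y⁻¹ * q⁻¹ ∈ ph (o2 P2)) (hph : ph (o2 P2) = zc S) :
    ∀ g ∈ A, ∃ k : ℕ, y ^ k * g * (y ^ k)⁻¹ ∈ zl S P1 ⊓ o2 P2 := by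
  set V := zl S P1 with hVdef
  set Q := o2 P2 with hQdef
  have hQ2 : IsPGroup 2 Q := o2_isPGroup P2
  have hphn : P2 ≤ normalizer (ph Q : Set G) := (P2_Q2 h).trans (normalizer_le_ph _)
  have haP : a ∈ P2 := le2 h (V_le h ha)
  have hyP : y ∈ P2 := hR.R_le hy
  have hyP' : y' ∈ P2 := hR.R_le hy'
  have hQst : ∀ q ∈ Q, ∀ g ∈ Q, q ∈ st hphn g := fun q hq g hg =>
    ⟨o2_le P2 hq, comm_mem_ph hQ2 hq hg⟩
  -- `y` acts fixed point freely on `A / B`
  have hfpf : ∀ g ∈ A, y * g * y⁻¹ * g⁻¹ ∈ ph Q → g ∈ ph Q := by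
    intro g hg h1
    rw [← hinf]
    exact ⟨hg, (hA' g (hAQ hg)).mpr h1⟩
  -- `A` is normalised by `R`
  have hRA : ∀ r ∈ R, ∀ g ∈ A, r * g * r⁻¹ ∈ A := by
    intro r hr g hg
    have hrP : r ∈ P2 := hR.R_le hr
    have h1 : r * g * r⁻¹ ∈ Q := conj_mem (P2_Q2 h) hrP (hAQ hg)
    refine (hA _ h1).mpr ?_
    have h2 : y' ∈ st hphn g := ⟨hyP', (hA g (hAQ hg)).mp hg⟩
    have h3 := conj_mem_st hrP h2
    have e : r * y' * r⁻¹ = y' := by rw [hR.comm_R r hr y' hy', mul_inv_cancel_right]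
    rw [e] at h3
    exact h3.2
  have hyA : y ∈ normalizer (A : Set G) :=
    (le_normalizer_of (A := R) (B := A) hRA) hy
  -- `a` normalises `A`
  have haA : ∀ g ∈ A, a * g * a⁻¹ ∈ A := by
    intro g hg
    have h1 : a * g * a⁻¹ ∈ Q := conj_mem (P2_Q2 h) haP (hAQ hg)
    refine (hA _ h1).mpr ?_
    have h2 : y' ∈ st hphn g := ⟨hyP', (hA g (hAQ hg)).mp hg⟩
    -- `a y' a⁻¹ y' = q`
    have h3 := conj_mem_st haP h2
    have h4 := hinv y' hy'
    have h5 : y' ∈ st hphn (a * g * a⁻¹) := by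
      have e : y' = (a * y' * a⁻¹)⁻¹ * (a * y' * a⁻¹ * y') := by group
      rw [e]
      exact mul_mem (inv_mem h3) (hQst _ h4 _ h1)
    exact h5.2
  -- `a` moves some coset
  obtain ⟨d, hdA, hdD, hdB⟩ : ∃ d ∈ A, d ∈ V ⊓ Q ∧ d ∉ ph Q := by
    by_contra hno
    push Not at hno
    have hall : ∀ g ∈ A, a ∈ st hphn g := by
      intro g hg
      refine ⟨haP, hno _ (mul_mem (haA g hg) (inv_mem hg)) (mem_inf.mpr ⟨?_, ?_⟩)⟩
      · have e : a * g * a⁻¹ * g⁻¹ = a * (g * a⁻¹ * g⁻¹) := by group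
        rw [e]
        exact mul_mem ha (conj_mem (Q2_V h) (hAQ hg) (inv_mem ha))
      · exact mul_mem (conj_mem (P2_Q2 h) haP (hAQ hg)) (inv_mem (hAQ hg))
    have hAB : A ≤ ph Q := by
      intro g hg
      -- `y a y⁻¹` stabilises `g` too
      have h1 : y⁻¹ * g * y ∈ A := by
        have := hRA y⁻¹ (inv_mem hy) g hg
        rwa [inv_inv] at this
      have h2 := conj_mem_st hyP (hall _ h1)
      have e : y * (y⁻¹ * g * y) * y⁻¹ = g := by group
      rw [e] at h2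
      have h3 : y * a * y⁻¹ * a⁻¹ ∈ st hphn g := mul_mem h2 (inv_mem (hall g hg))
      have h4 := hinv y hy
      have h5 : y ^ 2 ∈ st hphn g := by
        have e : y ^ 2 = (y * a * y⁻¹ * a⁻¹) * (a * y * a⁻¹ * y) := by rw [pow_two]; group
        rw [e]
        exact mul_mem h3 (hQst _ h4 _ (hAQ hg))
      have h6 : y ∈ st hphn g := mem_of_pow_mem hy3 (by norm_num) h5
      exact hfpf g hg h6.2
    rw [relIndex_eq_one.mpr hAB] at hi
    exact absurd hi (by norm_num)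
  intro g hg
  obtain ⟨k, hk⟩ := orbit_four hphn (hAQ.trans (o2_le P2)) hi hyP hy3 hyA hfpf hdA hdB hg
  refine ⟨k, ?_⟩
  have hBD : ph Q ≤ V ⊓ Q := by
    rw [hph]
    exact fun z hz => ⟨Z_le_V S P1 hz, Z_le_Q2 h hz⟩
  rcases hk with hk | hk
  · exact hBD hk
  · have := mul_mem hdD (hBD hk)
    rwa [mul_inv_cancel_left] at this

/-- `|R_2| = 9`: every element of `Q_2` is conjugate into `D`. -/
theorem conj_nine (h : Pair S P1 P2) {R : Subgroup G} {p : ℕ} (hR : Defs.Par S P2 R p)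
    (h9 : Nat.card R = 9) {a : G} (ha : a ∈ zl S P1) (hinv : ∀ r ∈ R, a * r * a⁻¹ * r ∈ o2 P2)
    (hph : ph (o2 P2) = zc S) : ∀ q ∈ o2 P2, ∃ g ∈ P2, g * q * g⁻¹ ∈ zl S P1 ⊓ o2 P2 := by
  set V := zl S P1 with hVdef
  set Q := o2 P2 with hQdef
  have hQ2 : IsPGroup 2 Q := o2_isPGroup P2
  have hphn : P2 ≤ normalizer (ph Q : Set G) := (P2_Q2 h).trans (normalizer_le_ph _)
  obtain ⟨y, hy, y', hy', A, A', hBA, hBA', hsup, hinf, hiA, hiA', hy3, hy3', hA, hA'⟩ :=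
    structure9 h.hyp hR h9 (sect_ph hR)
  rw [← hQdef] at hsup
  have hAQ : A ≤ Q := le_sup_left.trans hsup.le
  have hAQ' : A' ≤ Q := le_sup_right.trans hsup.le
  have k1 := conj_nine_aux h hR ha hinv hy hy' hy3 hBA hAQ hiA hinf hA hA' hph
  have k2 := conj_nine_aux h hR ha hinv hy' hy hy3' hBA' hAQ' hiA' (by rw [inf_comm]; exact hinf)
    hA' hA hph
  have hQst : ∀ q ∈ Q, ∀ g ∈ Q, q ∈ st hphn g := fun q hq g hg =>
    ⟨o2_le P2 hq, comm_mem_ph hQ2 hq hg⟩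
  have hBD : ph Q ≤ V ⊓ Q := by
    rw [hph]
    exact fun z hz => ⟨Z_le_V S P1 hz, Z_le_Q2 h hz⟩
  have hQD : Q ≤ normalizer ((V ⊓ Q : Subgroup G) : Set G) :=
    le_normalizer_of fun q hq v hv => ⟨conj_mem (Q2_V h) hq hv.1, conj_mem le_normalizer hq hv.2⟩
  intro q hq
  -- `q = g g'`
  have hnA : A' ≤ normalizer (A : Set G) := by
    refine le_normalizer_of fun b hb c hc => ?_
    have h1 : b * c * b⁻¹ * c⁻¹ ∈ A := hBA (comm_mem_ph hQ2 (hAQ' hb) (hAQ hc))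
    have h2 := mul_mem h1 hc
    rwa [inv_mul_cancel_right] at h2
  rw [← hsup, ← SetLike.mem_coe, coe_mul_of_right_le_normalizer_left _ _ hnA] at hq
  obtain ⟨g, hg, g', hg', rfl⟩ := hq
  obtain ⟨k, hk⟩ := k1 g hg
  obtain ⟨l, hl⟩ := k2 g' hg'
  have hyP : y ∈ P2 := hR.R_le hy
  have hyP' : y' ∈ P2 := hR.R_le hy'
  have c1 : y' ^ l ∈ st hphn g := pow_mem (show y' ∈ st hphn g from ⟨hyP', (hA g (hAQ hg)).mp hg⟩) l
  have c2 : y ^ k ∈ st hphn g' :=
    pow_mem (show y ∈ st hphn g' from ⟨hyP, (hA' g' (hAQ' hg')).mp hg'⟩) k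
  have hcomm : y ^ k * y' ^ l = y' ^ l * y ^ k := by
    have : Commute y y' := hR.comm_R y hy y' hy'
    exact this.pow_pow k l
  refine ⟨y ^ k * y' ^ l, mul_mem (pow_mem hyP k) (pow_mem hyP' l), ?_⟩
  have e : y ^ k * y' ^ l * (g * g') * (y ^ k * y' ^ l)⁻¹ =
      ((y ^ k * (y' ^ l * g * (y' ^ l)⁻¹ * g⁻¹) * (y ^ k)⁻¹) * (y ^ k * g * (y ^ k)⁻¹)) *
      ((y' ^ l * (y ^ k * g' * (y ^ k)⁻¹ * g'⁻¹) * (y' ^ l)⁻¹) * (y' ^ l * g' * (y' ^ l)⁻¹)) := by
    have e1 : y ^ k * y' ^ l * (g * g') * (y ^ k * y' ^ l)⁻¹ =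
      (y ^ k * y' ^ l * g * (y ^ k * y' ^ l)⁻¹) * (y' ^ l * y ^ k * g' * (y' ^ l * y ^ k)⁻¹) := by
      rw [← hcomm]; group
    rw [e1]; group
  rw [show (fun x1 x2 => x1 * x2) g g' = g * g' from rfl, e]
  exact mul_mem (mul_mem (hBD (conj_mem hphn (pow_mem hyP k) c1.2)) hk)
    (mul_mem (hBD (conj_mem hphn (pow_mem hyP' l) c2.2)) hl)

/-- An elementary abelian 2-subgroup has order at most 16. -/
theorem card_le_of_sq (hG : SectionalPRankLE 2 4 G) {Q : Subgroup G} (hs : ∀ q ∈ Q, q ^ 2 = 1) :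
    Nat.card Q ≤ 16 := by
  have h1 := hG Q ⊥
  have hcomm : ∀ a b : Q, a * b = b * a := by
    intro a b
    have ha : a * a = 1 := Subtype.ext (by have := hs a a.2; rwa [pow_two] at this)
    have hb : b * b = 1 := Subtype.ext (by have := hs b b.2; rwa [pow_two] at this)
    have hab : (a * b) * (a * b) = 1 := Subtype.ext (by
      have := hs (a * b) (a * b).2; rwa [pow_two] at this)
    calc a * b = a * (a * b * (a * b)) * b := by rw [hab]; group
      _ = (a * a) * (b * a) * (b * b) := by group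
      _ = b * a := by rw [ha, hb]; group
  have h2 := h1 ⊤ (by
    refine ⟨⟨?_⟩⟩
    rintro ⟨x, -⟩ ⟨y, -⟩
    refine Subtype.ext ?_
    induction x using QuotientGroup.induction_on with | H x =>
    induction y using QuotientGroup.induction_on with | H y =>
    show ((x * y : Q) : Q ⧸ (⊥ : Subgroup Q)) = ((y * x : Q) : Q ⧸ (⊥ : Subgroup Q))
    rw [hcomm]) (by
    intro x _
    induction x using QuotientGroup.induction_on with | H x =>
    rw [← QuotientGroup.mk_pow]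
    have : x ^ 2 = 1 := Subtype.ext (hs x x.2)
    rw [this]; rfl)
  have h3 : Nat.card (⊤ : Subgroup (Q ⧸ (⊥ : Subgroup Q))) = Nat.card Q := by
    rw [Subgroup.card_top]
    exact Nat.card_congr (QuotientGroup.quotientBot (G := Q)).toEquiv
  rw [h3] at h2
  exact h2

/-- **(1a)** `P_2` is of type S3. -/
theorem card_R2 (h : Pair S P1 P2) (hn : ¬ zl S P1 ≤ o2 P2) {R : Subgroup G} {p : ℕ}
    (hR : Defs.Par S P2 R p) : Nat.card R = 3 := by
  by_contra h3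
  obtain ⟨a, ha, haQ, hinv, x, hxP, hxp, hax, hfpf, hph, hD8, hQ32⟩ := exists_cfg h hn hR h3
  have hconj : ∀ q ∈ o2 P2, ∃ g ∈ P2, g * q * g⁻¹ ∈ zl S P1 ⊓ o2 P2 := by
    rcases hR.card_R with h4 | ⟨-, h4⟩
    · have hp5 : p = 5 := by
        rcases hR.p_eq with rfl | rfl
        · exact absurd h4 h3
        · rfl
      subst hp5
      exact conj_five h ha hxP hxp hax hfpf hph (card_Z h hn) hD8 hQ32
    · exact conj_nine h hR h4 ha hinv hph
  have hsq : ∀ q ∈ o2 P2, q ^ 2 = 1 := by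
    intro q hq
    obtain ⟨g, hg, hgq⟩ := hconj q hq
    have h1 := V_sq h _ hgq.1
    rw [conj_pow] at h1
    have h2 : q ^ 2 = g⁻¹ * (g * q ^ 2 * g⁻¹) * g := by group
    rw [h2, h1]; group
  have := card_le_of_sq h.hyp.rank hsq
  omega

end Cfsg.Agent.SectRankFour.C2.BOneFour
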