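import Mathlib
import Cfsg.Agent.SectRankFour.C2.BTwoA
import Cfsg.Agent.SectRankFour.C2.BTwoB
import Cfsg.Agent.SectRankFour.C2.BTwoCGlue
import Cfsg.Agent.SectRankFour.C2.BTwoCConf

/-!
# S0517, case C2, section 2: `V ≤ O₂(P2)`, `V^` nonabelian ⇒ the configuration `|S| = 64`
-/

set_option autoImplicit false

namespace Cfsg.Agent.SectRankFour.C2.BTwo

open Subgroup Cfsg Cfsg.Agent.ZN Cfsg.Agent.SectRankFour.C2.Defs

universe u

variable {G : Type u} [Group G]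

/-- **Section 2.** -/
theorem exists_conf64 [Finite G] {S P1 P2 : Subgroup G} (h : Pair S P1 P2) (hV : zl S P1 ≤ o2 P2)
    (hna : ¬ ∀ x ∈ vh S P1 P2, ∀ y ∈ vh S P1 P2, x * y = y * x) :
    ∃ a b u s x, Conf64 S P1 a b u s x := by
  have h4 := BTwoA.card_eq_four h hV hna
  have h3 := BTwoB.relIndex_eq_three h hV hna h4
  obtain ⟨z, z1, z2, v1, v2, y, w, hd, hP⟩ := BTwoCGlue.exists_data h hV hna h4 h3
  exact BTwoCConf.conf64 hd hP

end Cfsg.Agent.SectRankFour.C2.BTwo
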