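import Cfsg.Agent.MTwelveType.Fusion
import Cfsg.Agent.MinSimple.Basic

/-!
# S0517, configuration of order 64 (FIN64): the group `O₂(C(z))`

`T (2 * 2)` is the group of order 64 of `ClassificationK.GTwoModel`, `f : T (2 * 2) →* G` is injective
with image a Sylow 2-subgroup `S` of `G`, and `C = C(f z)` has characteristic 2.  We determine the
normal subgroup `{x | f x ∈ O₂(C)}` of `T (2 * 2)` from the fusion in `C`.
-/

set_option autoImplicit false
set_option linter.unusedSectionVars false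

namespace Cfsg.Agent.SectRankFour.C2.Fin64Core

open Subgroup Cfsg Cfsg.Agent.ZN
open Cfsg.Agent.ClassificationK.GTwoModel Cfsg.Agent.ClassificationK.GTwoModel.T
open Cfsg.Agent.MTwelveType.Base
open Cfsg.Agent.MinSimple.VModule Cfsg.Agent.MinSimple.Basic

/-! ### The model -/

section model

set_option maxRecDepth 100000 in
theorem conj_V : ∀ v x : T (2 * 2), InV v → (v * x * v⁻¹ = x ∨ v * x * v⁻¹ = x * z 2) := by decide

theorem conj_t_E : ∀ x : T (2 * 2), InE x →
    (t 2 * x * (t 2)⁻¹ = x ∨ t 2 * x * (t 2)⁻¹ = x * z 2) := by decide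

set_option maxRecDepth 100000 in
theorem E_or : ∀ x : T (2 * 2), ¬ InE x →
    InE (t 2 * x) ∨ ∃ y, InE (t 2 * (x * y * x⁻¹ * y⁻¹)) := by decide

theorem Q_cases : ∀ x : T (2 * 2), InQ x →
    InV x ∨ InV (x * r 2) ∨ InV (x * t 2) ∨ InV (x * r 2 * t 2) ∨ InV (x * u 2) ∨ InV (x * u 2 * r 2) ∨
      InV (x * u 2 * t 2) ∨ InV (x * u 2 * r 2 * t 2) := by decide

theorem E_cases : ∀ x : T (2 * 2), InE x → InV x ∨ InV (x * r 2) := by decide

set_option maxRecDepth 100000 in
theorem notQ_mul : ∀ x y : T (2 * 2), ¬ InQ x → ¬ InQ y → InQ (x⁻¹ * y) := by decide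

theorem card_a' : Fintype.card {x : T (2 * 2) // x * a' 2 = a' 2 * x} = 32 := by decide
theorem card_r : Fintype.card {x : T (2 * 2) // x * r 2 = r 2 * x} = 16 := by decide
theorem card_t : Fintype.card {x : T (2 * 2) // x * t 2 = t 2 * x} = 16 := by decide

end model

/-! ### The context -/

variable {G : Type*} [Group G] [Finite G] {S : Sylow 2 G} {f : T (2 * 2) →* G}

/-- `f` identifies the model with `S` and `C(z)` has characteristic 2. -/
structure Cen (S : Sylow 2 G) (f : T (2 * 2) →* G) : Prop where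
  inj : Function.Injective f
  range : f.range = (S : Subgroup G)
  char2 : centralizer ({f (z 2)} : Set G) ⊓ centralizer (o2 (centralizer ({f (z 2)} : Set G)) : Set G) ≤
    o2 (centralizer ({f (z 2)} : Set G))

/-- `O₂(C(z))` -/
abbrev R0 (f : T (2 * 2) →* G) : Subgroup G := o2 (centralizer ({f (z 2)} : Set G))

namespace Cen

variable (D : Cen S f)

include D

theorem mem_S (x : T (2 * 2)) : f x ∈ (S : Subgroup G) := by rw [← D.range]; exact ⟨x, rfl⟩

theorem exists_of_mem {g : G} (hg : g ∈ (S : Subgroup G)) : ∃ x, f x = g := by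
  rw [← D.range] at hg; exact hg

theorem S_le : (S : Subgroup G) ≤ centralizer ({f (z 2)} : Set G) := by
  rw [← D.range]
  rintro _ ⟨x, rfl⟩
  rw [mem_centralizer_singleton_iff, ← map_mul, ← map_mul, Cfsg.Agent.MTwelveType.Fusion.z_comm]

theorem R0_le : R0 f ≤ (S : Subgroup G) := o2_le_of_sylow S.isPGroup' (not_dvd_relIndex S D.S_le)

theorem z_comm (x : T (2 * 2)) : f x * f (z 2) = f (z 2) * f x := by
  rw [← map_mul, ← map_mul, Cfsg.Agent.MTwelveType.Fusion.z_comm]

omit [Finite G] D in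
theorem conj_mem_R0 {c q : G} (hc : c * f (z 2) = f (z 2) * c) (hq : q ∈ R0 f) : c * q * c⁻¹ ∈ R0 f :=
  (mem_normalizer_iff.mp (le_normalizer_o2 _ (mem_centralizer_singleton_iff.mpr hc)) q).mp hq

/-- The standard argument: elements of `C` centralising `O₂(C)` modulo `⟨z⟩` lie in `O₂(C)`. -/
theorem mem_R0_of_comm {y : T (2 * 2)}
    (h : ∀ x, f x ∈ R0 f → (y * x * y⁻¹ = x ∨ y * x * y⁻¹ = x * z 2)) : f y ∈ R0 f := by
  set C : Subgroup G := centralizer ({f (z 2)} : Set G) with hC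
  have hzz : f (z 2) * f (z 2) = 1 := by rw [← map_mul]; exact (map_one f ▸ congrArg f (by decide))
  -- the subgroup of all such elements
  let N : Subgroup G :=
    { carrier := {c | c ∈ C ∧ ∀ q ∈ R0 f, c * q * c⁻¹ = q ∨ c * q * c⁻¹ = q * f (z 2)}
      one_mem' := ⟨one_mem _, fun q _ => Or.inl (by group)⟩
      mul_mem' := by
        rintro a b ⟨ha, ha'⟩ ⟨hb, hb'⟩
        refine ⟨mul_mem ha hb, fun q hq => ?_⟩
        have haz : a * f (z 2) * a⁻¹ = f (z 2) := by
          rw [mul_inv_eq_iff_eq_mul]; exact mem_centralizer_singleton_iff.mp ha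
        have e : a * b * q * (a * b)⁻¹ = a * (b * q * b⁻¹) * a⁻¹ := by group
        have e2 : a * (q * f (z 2)) * a⁻¹ = (a * q * a⁻¹) * (a * f (z 2) * a⁻¹) := by group
        rcases ha' q hq with h1 | h1 <;> rcases hb' q hq with h2 | h2
        · left; rw [e, h2, h1]
        · right; rw [e, h2, e2, h1, haz]
        · right; rw [e, h2, h1]
        · left; rw [e, h2, e2, h1, haz, mul_assoc, hzz, mul_one]
      inv_mem' := by
        rintro a ⟨ha, ha'⟩
        refine ⟨inv_mem ha, fun q hq => ?_⟩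
        have haz : a⁻¹ * f (z 2) * a = f (z 2) := by
          have := mem_centralizer_singleton_iff.mp ha
          rw [mul_assoc, ← this]; group
        rcases ha' q hq with h1 | h1
        · left
          calc a⁻¹ * q * a⁻¹⁻¹ = a⁻¹ * (a * q * a⁻¹) * a := by rw [h1]; group
            _ = q := by group
        · right
          calc a⁻¹ * q * a⁻¹⁻¹ = a⁻¹ * ((q * f (z 2)) * f (z 2)) * a := by
                rw [mul_assoc q, hzz, mul_one]; group
            _ = a⁻¹ * ((a * q * a⁻¹) * f (z 2)) * a := by rw [h1]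
            _ = q * (a⁻¹ * f (z 2) * a) := by group
            _ = _ := by rw [haz] }
  have hNC : N ≤ C := fun c hc => hc.1
  have hn : C ≤ normalizer (N : Set G) := by
    intro g hg
    have hg' := mem_centralizer_singleton_iff.mp hg
    have key : ∀ g : G, g * f (z 2) = f (z 2) * g → ∀ c ∈ N, g * c * g⁻¹ ∈ N := by
      rintro g hg c ⟨hc, hc'⟩
      have hgC : g ∈ C := mem_centralizer_singleton_iff.mpr hg
      refine ⟨mul_mem (mul_mem hgC hc) (inv_mem hgC), fun q hq => ?_⟩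
      have hgz : g * f (z 2) * g⁻¹ = f (z 2) := by rw [mul_inv_eq_iff_eq_mul]; exact hg
      have hq' : g⁻¹ * q * g ∈ R0 f := by
        have h1 : g⁻¹ * f (z 2) = f (z 2) * g⁻¹ := by
          rw [inv_mul_eq_iff_eq_mul, ← mul_assoc, hg, mul_assoc, mul_inv_cancel, mul_one]
        have := conj_mem_R0 h1 hq
        rwa [inv_inv] at this
      have e : g * c * g⁻¹ * q * (g * c * g⁻¹)⁻¹ = g * (c * (g⁻¹ * q * g) * c⁻¹) * g⁻¹ := by group
      rcases hc' _ hq' with h1 | h1
      · left; rw [e, h1]; group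
      · right
        rw [e, h1]
        calc g * (g⁻¹ * q * g * f (z 2)) * g⁻¹ = q * (g * f (z 2) * g⁻¹) := by group
          _ = _ := by rw [hgz]
    rw [mem_normalizer_iff]
    intro c
    refine ⟨key g hg' c, fun hc => ?_⟩
    have h1 : g⁻¹ * f (z 2) = f (z 2) * g⁻¹ := by
      rw [inv_mul_eq_iff_eq_mul, ← mul_assoc, hg', mul_assoc, mul_inv_cancel, mul_one]
    have := key g⁻¹ h1 _ hc
    have e : g⁻¹ * (g * c * g⁻¹) * g⁻¹⁻¹ = c := by group
    rwa [e] at this
  have hN2 : IsPGroup 2 N := by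
    intro c
    have hc2 : (c : G) * c ∈ R0 f := by
      refine D.char2 (mem_inf.mpr ⟨mul_mem c.2.1 c.2.1, mem_centralizer_iff.mpr fun q hq => ?_⟩)
      have hcz : (c : G) * f (z 2) * (c : G)⁻¹ = f (z 2) := by
        rw [mul_inv_eq_iff_eq_mul]; exact mem_centralizer_singleton_iff.mp c.2.1
      have e : (c : G) * c * q * ((c : G) * c)⁻¹ = c * (c * q * (c : G)⁻¹) * (c : G)⁻¹ := by group
      have e2 : (c : G) * (q * f (z 2)) * (c : G)⁻¹ = (c * q * (c : G)⁻¹) * (c * f (z 2) * (c : G)⁻¹) := by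
        group
      have : (c : G) * c * q * ((c : G) * c)⁻¹ = q := by
        rcases c.2.2 q hq with h1 | h1
        · rw [e, h1, h1]
        · rw [e, h1, e2, h1, hcz, mul_assoc, hzz, mul_one]
      rw [mul_inv_eq_iff_eq_mul] at this
      exact this.symm
    obtain ⟨k, hk⟩ := (o2_isPGroup _) ⟨_, hc2⟩
    refine ⟨k + 1, Subtype.ext ?_⟩
    have h1 : ((c : G) * c) ^ 2 ^ k = 1 := congrArg Subtype.val hk
    show (c : G) ^ 2 ^ (k + 1) = 1
    rw [pow_succ' 2 k, pow_mul, pow_two, h1]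
  refine le_o2 hNC hN2 hn ⟨D.S_le (D.mem_S y), fun q hq => ?_⟩
  obtain ⟨x, rfl⟩ := D.exists_of_mem (D.R0_le hq)
  rw [← map_inv, ← map_mul, ← map_mul]
  rcases h x hq with h1 | h1
  · left; rw [h1]
  · right; rw [h1, map_mul]

theorem V_mem {v : T (2 * 2)} (hv : InV v) : f v ∈ R0 f := D.mem_R0_of_comm fun x _ => conj_V v x hv

omit D in
theorem mem_of_conj {c : G} (hc : c * f (z 2) = f (z 2) * c) {p q : T (2 * 2)}
    (h : c * f p * c⁻¹ = f q) (hp : f p ∈ R0 f) : f q ∈ R0 f := h ▸ conj_mem_R0 hc hp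

omit D in
theorem mem_of_conj' {c : G} (hc : c * f (z 2) = f (z 2) * c) {p q : T (2 * 2)}
    (h : c * f p * c⁻¹ = f q) (hq : f q ∈ R0 f) : f p ∈ R0 f := by
  have h1 : c⁻¹ * f (z 2) = f (z 2) * c⁻¹ := by
    rw [inv_mul_eq_iff_eq_mul, ← mul_assoc, hc, mul_assoc, mul_inv_cancel, mul_one]
  have h2 : c⁻¹ * f q * c⁻¹⁻¹ = f p := by rw [← h]; group
  exact mem_of_conj h1 h2 hq

theorem conj_mem {p : T (2 * 2)} (hp : f p ∈ R0 f) (y : T (2 * 2)) : f (y * p * y⁻¹) ∈ R0 f :=
  mem_of_conj (c := f y) (D.z_comm y) (by rw [map_mul, map_mul, map_inv]) hp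

omit D in
theorem mul_mem' {p q : T (2 * 2)} (hp : f p ∈ R0 f) (hq : f q ∈ R0 f) : f (p * q) ∈ R0 f := by
  rw [map_mul]; exact mul_mem hp hq

omit D in
theorem of_mul {p q : T (2 * 2)} (h : f (p * q) ∈ R0 f) (hq : f q ∈ R0 f) : f p ∈ R0 f := by
  have := mul_mem h (inv_mem hq)
  rwa [map_mul, mul_inv_cancel_right] at this

theorem Q_mem (hr : f (r 2) ∈ R0 f) (ht : f (t 2) ∈ R0 f) (hu : f (u 2) ∈ R0 f) {x : T (2 * 2)}
    (hx : InQ x) : f x ∈ R0 f := by
  rcases Q_cases x hx with h | h | h | h | h | h | h | h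
  · exact D.V_mem h
  · exact of_mul (D.V_mem h) hr
  · exact of_mul (D.V_mem h) ht
  · exact of_mul (of_mul (D.V_mem h) ht) hr
  · exact of_mul (D.V_mem h) hu
  · exact of_mul (of_mul (D.V_mem h) hr) hu
  · exact of_mul (of_mul (D.V_mem h) ht) hu
  · exact of_mul (of_mul (of_mul (D.V_mem h) ht) hr) hu

/-- `O₂(C)` is not all of `S` if `a'` is fused in `C` to an element with centralizer of order 16. -/
theorem not_all {y : T (2 * 2)} (hy : Fintype.card {x : T (2 * 2) // x * y = y * x} = 16) {c : G}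
    (hc : c * f (z 2) = f (z 2) * c) (h : c * f (a' 2) * c⁻¹ = f y) : ¬ ∀ x, f x ∈ R0 f := by
  intro hall
  have h1 : ∀ x : {x : T (2 * 2) // x * a' 2 = a' 2 * x}, ∃ x' : {x : T (2 * 2) // x * y = y * x},
      f x' = c * f x * c⁻¹ := by
    intro x
    obtain ⟨x', hx'⟩ := D.exists_of_mem (D.R0_le (conj_mem_R0 hc (hall x)))
    refine ⟨⟨x', D.inj ?_⟩, hx'⟩
    rw [map_mul, map_mul, hx', ← h]
    have := congrArg f x.2
    rw [map_mul, map_mul] at this
    calc c * f x * c⁻¹ * (c * f (a' 2) * c⁻¹) = c * (f x * f (a' 2)) * c⁻¹ := by group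
      _ = c * (f (a' 2) * f x) * c⁻¹ := by rw [this]
      _ = _ := by group
  choose F hF using h1
  have hinj : Function.Injective F := by
    intro x x' h
    have h2 := hF x
    rw [h, hF x'] at h2
    exact Subtype.ext (D.inj (by simpa using h2.symm))
  have := Fintype.card_le_of_injective F hinj
  rw [card_a', hy] at this
  omega

/-- `O₂(C) = f Q`. -/
theorem mem_iff (hr : f (r 2) ∈ R0 f) (ht : f (t 2) ∈ R0 f) (hu : f (u 2) ∈ R0 f)
    (hall : ¬ ∀ x, f x ∈ R0 f) (x : T (2 * 2)) : f x ∈ R0 f ↔ InQ x := by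
  refine ⟨fun hx => ?_, D.Q_mem hr ht hu⟩
  by_contra hxQ
  apply hall
  intro y
  by_cases hy : InQ y
  · exact D.Q_mem hr ht hu hy
  · have h1 := D.Q_mem hr ht hu (notQ_mul x y hxQ hy)
    have h2 := mul_mem' hx h1
    rwa [mul_inv_cancel_left] at h2

/-- elements of `C` normalise `f Q` -/
theorem exists_conj_Q (hQ : ∀ x, f x ∈ R0 f ↔ InQ x) {c : G} (hc : c * f (z 2) = f (z 2) * c)
    {q : T (2 * 2)} (hq : InQ q) : ∃ q', InQ q' ∧ c * f q * c⁻¹ = f q' := by
  have h1 := conj_mem_R0 hc ((hQ q).mpr hq)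
  obtain ⟨q', hq'⟩ := D.exists_of_mem (D.R0_le h1)
  exact ⟨q', (hQ q').mp (hq' ▸ h1), hq'.symm⟩

end Cen

/-! ### The case of two classes -/

open Cfsg.Agent.MTwelveType in
/-- In the fusion patterns of `M₁₂` we have `O₂(C) = f Q`. -/
theorem mem_iff_of_pat (P : Pat S f) (D : Cen S f) (x : T (2 * 2)) : f x ∈ R0 f ↔ InQ x := by
  obtain ⟨c₁, hc₁, h₁⟩ := Fusion.exists_ar P
  obtain ⟨c₂, hc₂, h₂⟩ := Fusion.exists_tu P
  obtain ⟨c₃, hc₃, h₃⟩ := Fusion.exists_tw P
  have hr : f (r 2) ∈ R0 f := Cen.mem_of_conj hc₁ h₁ (D.V_mem (by decide))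
  have hE : ∀ x, InE x → f x ∈ R0 f := by
    intro x hx
    rcases E_cases x hx with h | h
    · exact D.V_mem h
    · exact Cen.of_mul (D.V_mem h) hr
  have ht : f (t 2) ∈ R0 f := by
    by_contra hn
    apply hn
    apply D.mem_R0_of_comm
    intro x hx
    apply conj_t_E
    by_contra hxE
    apply hn
    rcases E_or x hxE with h | ⟨y, h⟩
    · exact Cen.of_mul (hE _ h) hx
    · refine Cen.of_mul (hE _ h) ?_
      have h1 : x * y * x⁻¹ * y⁻¹ = x * (y * x⁻¹ * y⁻¹) := by group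
      rw [h1]
      refine Cen.mul_mem' hx (D.conj_mem ?_ y)
      rw [map_inv]
      exact inv_mem hx
  have hu : f (u 2) ∈ R0 f := Cen.mem_of_conj hc₂ h₂ ht
  exact D.mem_iff hr ht hu (D.not_all card_r hc₁ h₁) x

end Cfsg.Agent.SectRankFour.C2.Fin64Core
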