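import Cfsg.Agent.SectRankFour.C2.ParFacts
import Cfsg.Agent.MinSimple.Geo

/-!
# Lemma T: the choice of the pair of minimal parabolics

* `AbFit`: a solvable group `Y` with `O₂(Y) = 1`, generated by 2-elements, whose order has odd part
  dividing 315: the elements of odd order lie in an abelian normal subgroup;
* `oddGen_normalizer`: in sectional 2-rank at most 4, if `O₂(⟨P, P'⟩) ≠ 1` then `P'` normalises
  `O²(P)`;
* `exists_partner`: Lemma T;
* `exists_pair`: either `C_G(Z) ≤ N_G(S)` or there is a `Pair S P1 P2`.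
-/

set_option autoImplicit false
set_option linter.unusedSectionVars false
set_option linter.unusedVariables false

namespace Cfsg.Agent.SectRankFour.C2.LemmaT

open Subgroup Cfsg Cfsg.Agent.MinSimple.MinParabolic Cfsg.Agent.MinSimple.VModule
open Cfsg.Agent.ZN (o2 zc zl)
open Cfsg.Agent.SectRankFour.C2.Defs Cfsg.Agent.SectRankFour.C2.ActFour
open Cfsg.Agent.SectRankFour.C2.ParFacts
open Cfsg.Agent.SectRankFour.C2.Par (Sec)
open scoped commutatorElement

/-! ### The Fitting subgroup of `X / O₂(X)` -/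

section AbFit

variable {Y : Type*} [Group Y] [Finite Y]

theorem mem_of_index {N : Subgroup Y} [N.Normal] {r : ℕ} (hr : r.Prime) (hN : ¬ r ∣ N.index) {x : Y}
    {k : ℕ} (hx : x ^ r ^ k = 1) : x ∈ N := by
  rw [← QuotientGroup.eq_one_iff, ← orderOf_eq_one_iff]
  have h1 : orderOf (x : Y ⧸ N) ∣ r ^ k := orderOf_dvd_of_pow_eq_one (by
    rw [← QuotientGroup.mk_pow, hx, QuotientGroup.mk_one])
  have h2 : orderOf (x : Y ⧸ N) ∣ N.index := by
    rw [Subgroup.index_eq_card]; exact orderOf_dvd_natCard _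
  have h3 : Nat.Coprime (r ^ k) N.index := Nat.Coprime.pow_left k ((Nat.Prime.coprime_iff_not_dvd hr).mpr hN)
  have h4 : orderOf (x : Y ⧸ N) ∣ 1 := by rw [← h3]; exact Nat.dvd_gcd h1 h2
  exact Nat.dvd_one.mp h4

/-- an element of prime order acting trivially by counting -/
theorem le_centralizer_of_count {r : ℕ} [Fact r.Prime] {V : Subgroup Y} [hV : V.Normal] {x : Y}
    (hx : x ^ r = 1) (h : ∀ d, d ∣ Nat.card V → Nat.card V ≡ d [MOD r] → d = Nat.card V) :
    x ∈ centralizer (V : Set Y) := by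
  have h1 := card_modEq V hx (fun v hv => hV.conj_mem v hv x)
  have h2 := h _ (card_dvd_of_le inf_le_left) h1
  have h3 : V ⊓ centralizer ({x} : Set Y) = V := Subgroup.eq_of_le_of_card_ge inf_le_left h2.ge
  refine mem_centralizer_iff.mpr fun v hv => ?_
  exact mem_centralizer_singleton_iff.mp ((inf_eq_left.mp h3) hv)

/-- `[Y, Y]` centralises a normal subgroup of prime (or trivial) order. -/
theorem commutator_mem_centralizer {V : Subgroup Y} [hV : V.Normal] (hc : IsCyclic V) (g h : Y) :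
    g * h * g⁻¹ * h⁻¹ ∈ centralizer (V : Set Y) := by
  have e := IsCyclic.mulAutMulEquiv V
  have hcomm : ∀ a b : MulAut V, a * b = b * a := fun a b => e.injective (by
    rw [map_mul, map_mul, mul_comm])
  have h1 : (MulAut.conjNormal (g * h * g⁻¹ * h⁻¹) : MulAut V) = 1 := by
    rw [map_mul, map_mul, map_mul, map_inv, map_inv, hcomm (MulAut.conjNormal g) (MulAut.conjNormal h)]
    group
  refine mem_centralizer_iff.mpr fun v hv => ?_
  have h2 := congrArg (fun φ : MulAut V => ((φ ⟨v, hv⟩ : V) : Y)) h1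
  simp only [MulAut.conjNormal_apply, MulAut.one_apply] at h2
  calc v * (g * h * g⁻¹ * h⁻¹) = (g * h * g⁻¹ * h⁻¹ * v * (g * h * g⁻¹ * h⁻¹)⁻¹) * (g * h * g⁻¹ * h⁻¹) := by
        rw [h2]
    _ = g * h * g⁻¹ * h⁻¹ * v := by group

theorem abFit [Group.IsSolvable Y] (h2 : pCore 2 Y = ⊥) {a m : ℕ} (hcard : Nat.card Y = 2 ^ a * m)
    (hm : m ∣ 315) (hgen : closure {y : Y | ∃ k, y ^ 2 ^ k = 1} = ⊤) :
    ∃ F : Subgroup Y, F.Normal ∧ (∀ x ∈ F, ∀ y ∈ F, x * y = y * x) ∧
      ∀ x : Y, Odd (orderOf x) → x ∈ F := by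
  classical
  have hf2 : Fact (Nat.Prime 2) := ⟨Nat.prime_two⟩
  have hf3 : Fact (Nat.Prime 3) := ⟨Nat.prime_three⟩
  have hf5 : Fact (Nat.Prime 5) := ⟨Nat.prime_five⟩
  have hf7 : Fact (Nat.Prime 7) := ⟨by norm_num⟩
  have hdvd : Nat.card Y ∣ 2 ^ a * 315 := by rw [hcard]; exact Nat.mul_dvd_mul_left _ hm
  set F := fittingSubgroup Y with hF
  have hFn : F.Normal := Lib.Cores.fittingSubgroup_normal
  have hFc : centralizer (F : Set Y) ≤ F := Cfsg.Agent.S0044.result
  set P3 := pCore 3 Y with hP3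
  set P5 := pCore 5 Y with hP5
  set P7 := pCore 7 Y with hP7
  have n3 : P3.Normal := Lib.Cores.pCore_normal 3
  have n5 : P5.Normal := Lib.Cores.pCore_normal 5
  have n7 : P7.Normal := Lib.Cores.pCore_normal 7
  -- orders
  have hcop : ∀ r : ℕ, r.Prime → r ≠ 2 → ∀ k, r ^ k ∣ Nat.card Y → r ^ k ∣ 315 := by
    intro r hr hr2 k hk
    refine Nat.Coprime.dvd_of_dvd_mul_left ?_ (hk.trans hdvd)
    exact Nat.Coprime.pow _ _ ((Nat.coprime_primes hr Nat.prime_two).mpr hr2)
  have c3 : Nat.card P3 ∣ 9 := by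
    obtain ⟨k, hk⟩ := IsPGroup.iff_card.mp (Lib.Cores.pCore_isPGroup (G := Y) 3)
    have h1 := hcop 3 Nat.prime_three (by norm_num) k (hk ▸ Subgroup.card_subgroup_dvd_card _)
    rw [hP3, hk]
    have h3 : k ≤ 2 := by
      by_contra h3
      have h5 : 3 ^ 3 ∣ 315 := (pow_dvd_pow 3 (by omega)).trans h1
      revert h5; decide
    exact (pow_dvd_pow 3 h3)
  have c5 : Nat.card P5 ∣ 5 := by
    obtain ⟨k, hk⟩ := IsPGroup.iff_card.mp (Lib.Cores.pCore_isPGroup (G := Y) 5)
    have h1 := hcop 5 Nat.prime_five (by norm_num) k (hk ▸ Subgroup.card_subgroup_dvd_card _)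
    rw [hP5, hk]
    have h3 : k ≤ 1 := by
      by_contra h3
      have h5 : 5 ^ 2 ∣ 315 := (pow_dvd_pow 5 (by omega)).trans h1
      revert h5; decide
    exact (pow_dvd_pow 5 h3)
  have c7 : Nat.card P7 ∣ 7 := by
    obtain ⟨k, hk⟩ := IsPGroup.iff_card.mp (Lib.Cores.pCore_isPGroup (G := Y) 7)
    have h1 := hcop 7 (by norm_num) (by norm_num) k (hk ▸ Subgroup.card_subgroup_dvd_card _)
    rw [hP7, hk]
    have h3 : k ≤ 1 := by
      by_contra h3
      have h5 : 7 ^ 2 ∣ 315 := (pow_dvd_pow 7 (by omega)).trans h1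
      revert h5; decide
    exact (pow_dvd_pow 7 h3)
  -- `F ≤ P3 P5 P7`
  have hFle : F ≤ P3 ⊔ P5 ⊔ P7 := by
    rw [hF, Lib.Cores.fittingSubgroup_eq_iSup_pCore]
    refine iSup_le fun p => ?_
    have hp : Fact (p : ℕ).Prime := ⟨p.2⟩
    by_cases e2 : (p : ℕ) = 2
    · rw [e2, h2]; exact bot_le
    by_cases e3 : (p : ℕ) = 3
    · rw [e3]; exact le_sup_left.trans le_sup_left
    by_cases e5 : (p : ℕ) = 5
    · rw [e5]; exact le_sup_right.trans le_sup_left
    by_cases e7 : (p : ℕ) = 7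
    · rw [e7]; exact le_sup_right
    · obtain ⟨k, hk⟩ := IsPGroup.iff_card.mp (Lib.Cores.pCore_isPGroup (G := Y) (p : ℕ))
      have h1 := hcop p p.2 e2 k (hk ▸ Subgroup.card_subgroup_dvd_card _)
      have h3 : k = 0 := by
        by_contra h3
        have h4 : (p : ℕ) ∣ 3 * (3 * (5 * 7)) := (dvd_pow_self _ h3).trans h1
        rcases (Nat.Prime.dvd_mul p.2).mp h4 with h5 | h5
        · exact e3 ((Nat.prime_dvd_prime_iff_eq p.2 Nat.prime_three).mp h5)
        rcases (Nat.Prime.dvd_mul p.2).mp h5 with h5 | h5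
        · exact e3 ((Nat.prime_dvd_prime_iff_eq p.2 Nat.prime_three).mp h5)
        rcases (Nat.Prime.dvd_mul p.2).mp h5 with h5 | h5
        · exact e5 ((Nat.prime_dvd_prime_iff_eq p.2 Nat.prime_five).mp h5)
        · exact e7 ((Nat.prime_dvd_prime_iff_eq p.2 (by norm_num)).mp h5)
      rw [h3, pow_zero] at hk
      rw [Subgroup.card_eq_one.mp hk]
      exact bot_le
  -- the `P_r` commute
  have hcommrs : ∀ A B : Subgroup Y, A.Normal → B.Normal → (Nat.card A).Coprime (Nat.card B) →
      A ≤ centralizer (B : Set Y) := by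
    intro A B hA hB hAB
    have h1 : A ⊓ B = ⊥ := (Subgroup.disjoint_of_coprime_natCard hAB).eq_bot
    rw [← Subgroup.commutator_eq_bot_iff_le_centralizer, ← le_bot_iff, ← h1]
    exact Subgroup.commutator_le_inf A B
  have k35 : (Nat.card P3).Coprime (Nat.card P5) := Nat.Coprime.coprime_dvd_left c3 (Nat.Coprime.coprime_dvd_right c5 (by norm_num))
  have k37 : (Nat.card P3).Coprime (Nat.card P7) := Nat.Coprime.coprime_dvd_left c3 (Nat.Coprime.coprime_dvd_right c7 (by norm_num))
  have k57 : (Nat.card P5).Coprime (Nat.card P7) := Nat.Coprime.coprime_dvd_left c5 (Nat.Coprime.coprime_dvd_right c7 (by norm_num))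
  have hself : ∀ (A : Subgroup Y) (r : ℕ) [Fact r.Prime], Nat.card A ∣ r ^ 2 →
      A ≤ centralizer (A : Set Y) := by
    intro A r _ hA
    have hr : r.Prime := Fact.out
    obtain ⟨k, hk, hk2⟩ := (Nat.dvd_prime_pow hr).mp hA
    refine fun x hx => mem_centralizer_iff.mpr fun y hy => ?_
    interval_cases k
    · rw [pow_zero] at hk2
      have h1 := Subgroup.card_eq_one.mp hk2
      have hx : x ∈ A := hx
      have hy : y ∈ A := hy
      rw [h1, Subgroup.mem_bot] at hx hy
      rw [hx, hy]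
    · rw [pow_one] at hk2
      have : IsCyclic A := isCyclic_of_prime_card hk2
      exact congrArg Subtype.val ((IsCyclic.commGroup (α := A)).mul_comm ⟨y, hy⟩ ⟨x, hx⟩)
    · have := IsPGroup.isMulCommutative_of_card_eq_prime_sq hk2
      exact congrArg Subtype.val (this.is_comm.comm (⟨y, hy⟩ : A) ⟨x, hx⟩)
  have hcyc : ∀ (A : Subgroup Y) (r : ℕ), r.Prime → Nat.card A ∣ r → IsCyclic A := by
    intro A r hr hA
    rcases (Nat.dvd_prime hr).mp hA with h1 | h1
    · have : Subsingleton A := (Nat.card_eq_one_iff_unique.mp h1).1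
      exact isCyclic_of_subsingleton
    · have : Fact r.Prime := ⟨hr⟩
      exact isCyclic_of_prime_card h1
  have hFcomm : F ≤ centralizer (F : Set Y) := by
    have h1 : P3 ⊔ P5 ⊔ P7 ≤ centralizer ((P3 ⊔ P5 ⊔ P7 : Subgroup Y) : Set Y) := by
      have key : ∀ A : Subgroup Y, A ≤ centralizer (P3 : Set Y) → A ≤ centralizer (P5 : Set Y) →
          A ≤ centralizer (P7 : Set Y) → A ≤ centralizer ((P3 ⊔ P5 ⊔ P7 : Subgroup Y) : Set Y) := by
        intro A h3 h5 h7
        rw [Subgroup.le_centralizer_iff]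
        exact sup_le (sup_le (Subgroup.le_centralizer_iff.mp h3) (Subgroup.le_centralizer_iff.mp h5))
          (Subgroup.le_centralizer_iff.mp h7)
      refine sup_le (sup_le (key _ (hself P3 3 c3) (hcommrs _ _ n3 n5 k35) (hcommrs _ _ n3 n7 k37))
        (key _ (hcommrs _ _ n5 n3 k35.symm) (hself P5 5 (c5.trans (by norm_num)))
          (hcommrs _ _ n5 n7 k57))) (key _ (hcommrs _ _ n7 n3 k37.symm) (hcommrs _ _ n7 n5 k57.symm)
          (hself P7 7 (c7.trans (by norm_num))))
    exact hFle.trans (h1.trans (centralizer_le hFle))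
  have hcent : ∀ x : Y, x ∈ centralizer (P3 : Set Y) → x ∈ centralizer (P5 : Set Y) →
      x ∈ centralizer (P7 : Set Y) → x ∈ F := by
    intro x h3 h5 h7
    apply hFc
    have h1 : P3 ⊔ P5 ⊔ P7 ≤ centralizer ({x} : Set Y) := by
      refine sup_le (sup_le (fun y hy => ?_) (fun y hy => ?_)) (fun y hy => ?_)
      · exact mem_centralizer_singleton_iff.mpr (mem_centralizer_iff.mp h3 y hy)
      · exact mem_centralizer_singleton_iff.mpr (mem_centralizer_iff.mp h5 y hy)
      · exact mem_centralizer_singleton_iff.mpr (mem_centralizer_iff.mp h7 y hy)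
    exact mem_centralizer_iff.mpr fun y hy => mem_centralizer_singleton_iff.mp (h1 (hFle hy))
  have l3 : P3 ≤ F := Lib.Cores.pCore_le_fittingSubgroup 3
  have l5 : P5 ≤ F := Lib.Cores.pCore_le_fittingSubgroup 5
  have l7 : P7 ≤ F := Lib.Cores.pCore_le_fittingSubgroup 7
  -- `r`-elements
  have hr5 : ∀ (x : Y) (k : ℕ), x ^ 5 ^ k = 1 → x ∈ F := by
    intro x k hx
    by_cases hi : 5 ∣ P5.index
    · -- then `P5 = 1` and `x^5 = 1`
      have hx5 : x ^ 5 = 1 := by
        obtain ⟨j, hj, hj2⟩ := (Nat.dvd_prime_pow Nat.prime_five).mp (orderOf_dvd_of_pow_eq_one hx)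
        have h3 : j ≤ 1 := by
          by_contra h3
          have h4 := hcop 5 Nat.prime_five (by norm_num) j (hj2 ▸ orderOf_dvd_natCard x)
          have h5 : 5 ^ 2 ∣ 315 := (pow_dvd_pow 5 (by omega)).trans h4
          revert h5; decide
        rw [← orderOf_dvd_iff_pow_eq_one, hj2]
        exact pow_dvd_pow 5 h3
      have hb : Nat.card P5 = 1 := by
        rcases (Nat.dvd_prime Nat.prime_five).mp c5 with h | h
        · exact h
        · exfalso
          have h4 : 5 ^ 2 ∣ Nat.card Y := by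
            rw [← Subgroup.card_mul_index P5, h, pow_two]
            exact Nat.mul_dvd_mul_left _ hi
          have h5 := hcop 5 Nat.prime_five (by norm_num) 2 h4
          revert h5; decide
      refine hcent x (le_centralizer_of_count (r := 5) hx5 ?_) ?_
        (le_centralizer_of_count (r := 5) hx5 ?_)
      · have h4 : Nat.card P3 ∈ Nat.divisors 9 := Nat.mem_divisors.mpr ⟨c3, by norm_num⟩
        have h6 : Nat.divisors 9 = {1, 3, 9} := by decide
        rw [h6] at h4
        simp only [Finset.mem_insert, Finset.mem_singleton] at h4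
        intro d hd hmod
        have h7 : d ∈ Nat.divisors 9 := Nat.mem_divisors.mpr ⟨hd.trans c3, by norm_num⟩
        rw [h6] at h7
        simp only [Finset.mem_insert, Finset.mem_singleton] at h7
        rcases h4 with h | h | h <;> rw [h] at hmod hd ⊢ <;> rcases h7 with rfl | rfl | rfl <;>
          first | rfl | (exfalso; revert hmod; decide)
      · rw [Subgroup.card_eq_one.mp hb]
        refine mem_centralizer_iff.mpr fun y hy => ?_
        rw [Subgroup.mem_bot.mp hy]; simp
      · intro d hd hmod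
        rcases (Nat.dvd_prime (by norm_num)).mp c7 with h | h <;> rw [h] at hmod hd ⊢
        · exact Nat.dvd_one.mp hd
        · rcases (Nat.dvd_prime (by norm_num)).mp hd with rfl | rfl
          · exfalso; revert hmod; decide
          · rfl
    · exact l5 (mem_of_index Nat.prime_five hi hx)
  have hr7 : ∀ (x : Y) (k : ℕ), x ^ 7 ^ k = 1 → x ∈ F := by
    intro x k hx
    by_cases hi : 7 ∣ P7.index
    · have hx7 : x ^ 7 = 1 := by
        obtain ⟨j, hj, hj2⟩ := (Nat.dvd_prime_pow (by norm_num : Nat.Prime 7)).mp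
          (orderOf_dvd_of_pow_eq_one hx)
        have h3 : j ≤ 1 := by
          by_contra h3
          have h4 := hcop 7 (by norm_num) (by norm_num) j (hj2 ▸ orderOf_dvd_natCard x)
          have h5 : 7 ^ 2 ∣ 315 := (pow_dvd_pow 7 (by omega)).trans h4
          revert h5; decide
        rw [← orderOf_dvd_iff_pow_eq_one, hj2]
        exact pow_dvd_pow 7 h3
      have hb : Nat.card P7 = 1 := by
        rcases (Nat.dvd_prime (by norm_num)).mp c7 with h | h
        · exact h
        · exfalso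
          have h4 : 7 ^ 2 ∣ Nat.card Y := by
            rw [← Subgroup.card_mul_index P7, h, pow_two]
            exact Nat.mul_dvd_mul_left _ hi
          have h5 := hcop 7 (by norm_num) (by norm_num) 2 h4
          revert h5; decide
      refine hcent x (le_centralizer_of_count (r := 7) hx7 ?_)
        (le_centralizer_of_count (r := 7) hx7 ?_) ?_
      · have h4 : Nat.card P3 ∈ Nat.divisors 9 := Nat.mem_divisors.mpr ⟨c3, by norm_num⟩
        have h6 : Nat.divisors 9 = {1, 3, 9} := by decide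
        rw [h6] at h4
        simp only [Finset.mem_insert, Finset.mem_singleton] at h4
        intro d hd hmod
        have h7 : d ∈ Nat.divisors 9 := Nat.mem_divisors.mpr ⟨hd.trans c3, by norm_num⟩
        rw [h6] at h7
        simp only [Finset.mem_insert, Finset.mem_singleton] at h7
        rcases h4 with h | h | h <;> rw [h] at hmod hd ⊢ <;> rcases h7 with rfl | rfl | rfl <;>
          first | rfl | (exfalso; revert hmod; decide)
      · intro d hd hmod
        rcases (Nat.dvd_prime Nat.prime_five).mp c5 with h | h <;> rw [h] at hmod hd ⊢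
        · exact Nat.dvd_one.mp hd
        · rcases (Nat.dvd_prime Nat.prime_five).mp hd with rfl | rfl
          · exfalso; revert hmod; decide
          · rfl
      · rw [Subgroup.card_eq_one.mp hb]
        refine mem_centralizer_iff.mpr fun y hy => ?_
        rw [Subgroup.mem_bot.mp hy]; simp
    · exact l7 (mem_of_index (by norm_num) hi hx)
  have hr3 : ∀ (x : Y) (k : ℕ), x ^ 3 ^ k = 1 → x ∈ F := by
    intro x k hx
    by_cases hi : 3 ∣ P3.index
    · -- `|P3| ∣ 3`
      have hb : Nat.card P3 ∣ 3 := by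
        have h4 : Nat.card P3 ∣ 3 ^ 2 := c3
        obtain ⟨j, hj, hj2⟩ := (Nat.dvd_prime_pow Nat.prime_three).mp h4
        have h5 : j ≤ 1 := by
          by_contra h5
          have h6 : j = 2 := by omega
          have h7 : 3 ^ 3 ∣ Nat.card Y := by
            rw [← Subgroup.card_mul_index P3, hj2, h6, pow_succ]
            exact Nat.mul_dvd_mul_left _ hi
          have h8 := hcop 3 Nat.prime_three (by norm_num) 3 h7
          revert h8; decide
        rw [hj2]; exact pow_dvd_pow 3 h5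
      have hc : ∀ g h : Y, g * h * g⁻¹ * h⁻¹ ∈ F := fun g h =>
        hcent _ (commutator_mem_centralizer (hcyc P3 3 Nat.prime_three hb) g h)
          (commutator_mem_centralizer (hcyc P5 5 Nat.prime_five c5) g h)
          (commutator_mem_centralizer (hcyc P7 7 (by norm_num) c7) g h)
      -- the 2-elements modulo `F` form a subgroup
      have hqc : ∀ g h : Y ⧸ F, g * h = h * g := by
        intro g h
        obtain ⟨g, rfl⟩ := QuotientGroup.mk_surjective g
        obtain ⟨h, rfl⟩ := QuotientGroup.mk_surjective h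
        rw [← mul_inv_eq_one, mul_inv_rev, ← QuotientGroup.mk_inv, ← QuotientGroup.mk_inv,
          ← QuotientGroup.mk_mul, ← QuotientGroup.mk_mul, ← QuotientGroup.mk_mul,
          QuotientGroup.eq_one_iff]
        have := hc g h
        simpa [mul_assoc] using this
      let T : Subgroup Y :=
        { carrier := {y | ∃ k, (y : Y ⧸ F) ^ 2 ^ k = 1}
          one_mem' := ⟨0, by simp⟩
          mul_mem' := by
            rintro y z ⟨k, hk⟩ ⟨l, hl⟩
            refine ⟨k + l, ?_⟩
            rw [QuotientGroup.mk_mul, (show Commute (y : Y ⧸ F) (z : Y ⧸ F) from hqc _ _).mul_pow,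
              pow_add, pow_mul, hk, one_pow, one_mul, mul_comm, pow_mul, hl, one_pow]
          inv_mem' := by
            rintro y ⟨k, hk⟩
            exact ⟨k, by rw [QuotientGroup.mk_inv, inv_pow, hk, inv_one]⟩ }
      have hT : T = ⊤ := by
        rw [eq_top_iff, ← hgen, closure_le]
        rintro y ⟨k, hk⟩
        exact ⟨k, by rw [← QuotientGroup.mk_pow, hk, QuotientGroup.mk_one]⟩
      obtain ⟨l, hl⟩ : x ∈ T := by rw [hT]; exact mem_top x
      rw [← QuotientGroup.eq_one_iff, ← orderOf_eq_one_iff]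
      have e1 : orderOf (x : Y ⧸ F) ∣ 2 ^ l := orderOf_dvd_of_pow_eq_one hl
      have e2 : orderOf (x : Y ⧸ F) ∣ 3 ^ k := orderOf_dvd_of_pow_eq_one (by
        rw [← QuotientGroup.mk_pow, hx, QuotientGroup.mk_one])
      have e3 : Nat.Coprime (2 ^ l) (3 ^ k) := Nat.Coprime.pow _ _ (by norm_num)
      have e4 : orderOf (x : Y ⧸ F) ∣ 1 := by rw [← e3]; exact Nat.dvd_gcd e1 e2
      exact Nat.dvd_one.mp e4
    · exact l3 (mem_of_index Nat.prime_three hi hx)
  refine ⟨F, hFn, fun x hx y hy => (mem_centralizer_iff.mp (hFcomm hy) x hx), fun x hx => ?_⟩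
  refine Lib.CoprimeCommutator.induction_prime_power (zpowers x) (fun y => y ∈ F) (one_mem _)
    (fun a _ b _ ha hb => mul_mem ha hb) ?_ x (mem_zpowers x)
  intro p n hp y hy hyn
  by_cases e2 : p = 2
  · -- `y` has odd order and is a 2-element
    subst e2
    have h1 : orderOf y ∣ 2 ^ n := orderOf_dvd_of_pow_eq_one hyn
    have h3 : orderOf y ∣ orderOf x := orderOf_dvd_of_mem_zpowers hy
    have h4 : Nat.Coprime (2 ^ n) (orderOf x) :=
      Nat.Coprime.pow_left _ (Nat.coprime_two_left.mpr hx)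
    have h5 : orderOf y ∣ 1 := by rw [← h4]; exact Nat.dvd_gcd h1 h3
    rw [orderOf_eq_one_iff.mp (Nat.dvd_one.mp h5)]
    exact one_mem _
  by_cases e3 : p = 3
  · subst e3; exact hr3 y n hyn
  by_cases e5 : p = 5
  · subst e5; exact hr5 y n hyn
  by_cases e7 : p = 7
  · subst e7; exact hr7 y n hyn
  · obtain ⟨j, hj, hj2⟩ := (Nat.dvd_prime_pow hp).mp (orderOf_dvd_of_pow_eq_one hyn)
    have h1 := hcop p hp e2 j (hj2 ▸ orderOf_dvd_natCard y)
    have h3 : j = 0 := by
      by_contra h3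
      have h4 : p ∣ 3 * (3 * (5 * 7)) := (dvd_pow_self _ h3).trans h1
      rcases (Nat.Prime.dvd_mul hp).mp h4 with h5 | h5
      · exact e3 ((Nat.prime_dvd_prime_iff_eq hp Nat.prime_three).mp h5)
      rcases (Nat.Prime.dvd_mul hp).mp h5 with h5 | h5
      · exact e3 ((Nat.prime_dvd_prime_iff_eq hp Nat.prime_three).mp h5)
      rcases (Nat.Prime.dvd_mul hp).mp h5 with h5 | h5
      · exact e5 ((Nat.prime_dvd_prime_iff_eq hp Nat.prime_five).mp h5)
      · exact e7 ((Nat.prime_dvd_prime_iff_eq hp (by norm_num)).mp h5)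
    rw [h3, pow_zero] at hj2
    rw [orderOf_eq_one_iff.mp hj2]
    exact one_mem _

end AbFit

universe u

variable {G : Type u} [Group G] [Finite G]

/-- The elements of odd order of `X` (with `O₂(X) ≠ 1`, `X` generated by 2-elements) lie in a
normal subgroup `K` of `X` with `K / O₂(X)` abelian. -/
theorem exists_abelian (hr : SectionalPRankLE 2 4 G) (S : Sylow 2 G) {X : Subgroup G}
    (hSX : (S : Subgroup G) ≤ X) (hsol : Group.IsSolvable X)
    (hc : X ⊓ centralizer (o2 X : Set G) ≤ o2 X)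
    (hgen : X ≤ closure {y : G | y ∈ X ∧ ∃ k, y ^ 2 ^ k = 1}) :
    ∃ K : Subgroup G, K ≤ X ∧ X ≤ normalizer (K : Set G) ∧ oddGen X ≤ K ∧ o2 X ≤ K ∧
      ∀ x ∈ K, ∀ y ∈ K, x * y * x⁻¹ * y⁻¹ ∈ o2 X := by
  classical
  have h2 : Fact (Nat.Prime 2) := ⟨Nat.prime_two⟩
  have hSyl := MinSimple.Basic.not_dvd_relIndex S hSX
  have hd := Par.relIndex_dvd hr S.isPGroup' hSyl hc
  set Q : Subgroup X := pCore 2 X with hQ
  have hQn : Q.Normal := Lib.Cores.pCore_normal 2
  have hsol' : Group.IsSolvable (X ⧸ Q) := inferInstance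
  -- the order of `X / Q`
  have hQS : Q ≤ (S : Subgroup G).subgroupOf X := by
    intro x hx
    exact mem_subgroupOf.mpr (o2_le_of_sylow S.isPGroup' hSyl ⟨x, hx, rfl⟩)
  have hcard : ∃ a, Nat.card (X ⧸ Q) = 2 ^ a * (S : Subgroup G).relIndex X := by
    have h1 : Q.relIndex ((S : Subgroup G).subgroupOf X) * ((S : Subgroup G).subgroupOf X).index =
        Q.index := Subgroup.relIndex_mul_index hQS
    have hp : IsPGroup 2 ((S : Subgroup G).subgroupOf X) :=
      S.isPGroup'.comap_of_injective _ X.subtype_injective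
    obtain ⟨n, hn⟩ := IsPGroup.iff_card.mp hp
    have h3 : Q.relIndex ((S : Subgroup G).subgroupOf X) ∣ 2 ^ n := by
      rw [← hn]; exact Subgroup.relIndex_dvd_card _ _
    obtain ⟨a, -, ha⟩ := (Nat.dvd_prime_pow Nat.prime_two).mp h3
    refine ⟨a, ?_⟩
    rw [← Subgroup.index_eq_card, ← h1, ha]
    rfl
  obtain ⟨a, hcard⟩ := hcard
  have hgen' : closure {y : X ⧸ Q | ∃ k, y ^ 2 ^ k = 1} = ⊤ := by
    rw [eq_top_iff]
    rintro y -
    obtain ⟨x, rfl⟩ := QuotientGroup.mk_surjective y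
    have h1 : X ≤ ((closure {y : X ⧸ Q | ∃ k, y ^ 2 ^ k = 1}).comap
        (QuotientGroup.mk' Q)).map X.subtype := by
      refine hgen.trans ((closure_le _).mpr ?_)
      rintro y ⟨hy, k, hk⟩
      refine ⟨⟨y, hy⟩, ?_, rfl⟩
      have h3 : (⟨y, hy⟩ : X) ^ 2 ^ k = 1 := Subtype.ext (by simpa using hk)
      refine mem_comap.mpr (subset_closure ⟨k, ?_⟩)
      rw [← map_pow, h3, map_one]
    obtain ⟨z, hz, hzx⟩ := h1 x.2
    have : z = x := Subtype.ext hzx
    rw [← this]
    exact hz
  obtain ⟨F, hFn, hFc, hFo⟩ := abFit (Y := X ⧸ Q) (Lib.Cores.pCore_quotient_pCore 2) hcard hd hgen'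
  refine ⟨(F.comap (QuotientGroup.mk' Q)).map X.subtype, map_subtype_le _,
    le_normalizer_map_of_normal (hFn.comap _), ?_, ?_, ?_⟩
  · rw [oddGen_def, closure_le]
    rintro x ⟨hx, ho⟩
    refine ⟨⟨x, hx⟩, mem_comap.mpr (hFo _ ?_), rfl⟩
    have h1 : orderOf (QuotientGroup.mk' Q ⟨x, hx⟩) ∣ orderOf x := by
      refine orderOf_dvd_of_pow_eq_one ?_
      have h3 : (⟨x, hx⟩ : X) ^ orderOf x = 1 := Subtype.ext (by
        push_cast; exact pow_orderOf_eq_one x)
      rw [← map_pow, h3, map_one]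
    exact Odd.of_dvd_nat ho h1
  · rintro _ ⟨x, hx, rfl⟩
    refine ⟨x, mem_comap.mpr ?_, rfl⟩
    have h1 : QuotientGroup.mk' Q x = 1 := (QuotientGroup.eq_one_iff x).mpr hx
    rw [h1]; exact one_mem _
  · rintro _ ⟨x, hx, rfl⟩ _ ⟨y, hy, rfl⟩
    refine ⟨x * y * x⁻¹ * y⁻¹, ?_, by simp⟩
    show x * y * x⁻¹ * y⁻¹ ∈ Q
    have h1 := hFc _ (mem_comap.mp hx) _ (mem_comap.mp hy)
    rw [← QuotientGroup.eq_one_iff]
    show QuotientGroup.mk' Q (x * y * x⁻¹ * y⁻¹) = 1
    rw [map_mul, map_mul, map_mul, map_inv, map_inv, h1]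
    group

/-- If `O₂(X) ≠ 1` for some `X` containing `P` and `P'` then `P'` normalises `O²(P)`. -/
theorem le_normalizer_oddGen_of_local (hyp : Hyp G) (S : Sylow 2 G) {P P' R R' : Subgroup G}
    {p p' : ℕ} (h : Defs.Par (S : Subgroup G) P R p) (h' : Defs.Par (S : Subgroup G) P' R' p')
    {U : Subgroup G} (hU : IsPGroup 2 U) (hU1 : U ≠ ⊥) (hPU : P ≤ normalizer (U : Set G))
    (hPU' : P' ≤ normalizer (U : Set G)) : P' ≤ normalizer (oddGen P : Set G) := by
  have h2 : Fact (Nat.Prime 2) := ⟨Nat.prime_two⟩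
  set X := P ⊔ P' with hX
  have hSX : (S : Subgroup G) ≤ X := h.le.trans le_sup_left
  have hXU : X ≤ normalizer (U : Set G) := sup_le hPU hPU'
  -- `O₂(X) ≠ 1`
  have hoX : o2 X ≠ ⊥ := by
    have hSN := hSX.trans hXU
    have h1 : o2 (normalizer (U : Set G)) ≤ (S : Subgroup G) :=
      o2_le_of_sylow S.isPGroup' (MinSimple.Basic.not_dvd_relIndex S hSN)
    have h3 := MinSimple.Basic.o2_normal_le_o2 (h1.trans hSX) hXU
    have h4 : U ≤ o2 (normalizer (U : Set G)) := le_o2 le_normalizer hU le_rfl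
    exact fun h5 => hU1 (le_bot_iff.mp (h5 ▸ h4.trans h3))
  have hsol := MinSimple.Basic.solvable_of_o2_ne_bot hyp.locSolv hoX
  have hc := MinSimple.Basic.char2_of_o2_ne_bot hyp.char2 S hSX hoX
  -- `X` is generated by 2-elements
  have hgenP : ∀ {P R : Subgroup G} {p : ℕ}, Defs.Par (S : Subgroup G) P R p → P ≤ X →
      P ≤ closure {y : G | y ∈ X ∧ ∃ k, y ^ 2 ^ k = 1} := by
    intro P R p h hPX
    have hS1 : (S : Subgroup G) ≤ closure {y : G | y ∈ X ∧ ∃ k, y ^ 2 ^ k = 1} := by
      intro s hs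
      obtain ⟨k, hk⟩ := S.isPGroup' ⟨s, hs⟩
      exact subset_closure ⟨hSX hs, k, congrArg Subtype.val hk⟩
    conv_lhs => rw [← h.oddGen_sup]
    refine sup_le ((oddGen_le_cl h h.le (S_not_le h)).trans ((closure_le _).mpr ?_)) hS1
    rintro _ ⟨x, hx, s, hs, rfl⟩
    obtain ⟨k, hk⟩ := S.isPGroup' ⟨s, hs⟩
    have hk' : s ^ 2 ^ k = 1 := congrArg Subtype.val hk
    refine subset_closure ⟨mul_mem (mul_mem (hPX hx) (hSX hs)) (inv_mem (hPX hx)), k, ?_⟩
    rw [conj_pow, hk']
    group
  have hgen : X ≤ closure {y : G | y ∈ X ∧ ∃ k, y ^ 2 ^ k = 1} :=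
    sup_le (hgenP h le_sup_left) (hgenP h' le_sup_right)
  obtain ⟨K, hKX, hXK, hoK, hQK, hKc⟩ := exists_abelian hyp.rank S hSX hsol hc hgen
  have hL : oddGen P ≤ K := (oddGen_mono le_sup_left).trans hoK
  have hL' : oddGen P' ≤ K := (oddGen_mono le_sup_right).trans hoK
  -- `P'` normalises `L Q`
  have hQX : X ≤ normalizer (o2 X : Set G) := le_normalizer_o2 X
  have hnLQ : P' ≤ normalizer ((oddGen P ⊔ o2 X : Subgroup G) : Set G) := by
    conv_lhs => rw [← h'.oddGen_sup]
    refine sup_le ?_ ?_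
    · refine le_normalizer_of fun t ht x hx => ?_
      have hxK : x ∈ K := (sup_le hL hQK) hx
      have h1 := hKc t (hL' ht) x hxK
      have h3 : t * x * t⁻¹ = (t * x * t⁻¹ * x⁻¹) * x := by group
      rw [h3]
      exact mul_mem (mem_sup_right h1) hx
    · intro s hs
      rw [mem_normalizer_iff_map_conj_eq, Subgroup.map_sup,
        mem_normalizer_iff_map_conj_eq.mp (le_normalizer_oddGen P (h.le hs)),
        mem_normalizer_iff_map_conj_eq.mp (hQX (hSX hs))]
  -- `L = O²(L Q)`
  have hQP : o2 X ≤ P := (o2_le_of_sylow S.isPGroup' (MinSimple.Basic.not_dvd_relIndex S hSX)).trans h.le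
  have heq : oddGen (oddGen P ⊔ o2 X) = oddGen P := by
    apply le_antisymm (oddGen_mono (sup_le (oddGen_le P) hQP))
    rw [oddGen_def, closure_le]
    rintro x ⟨hx, ho⟩
    exact mem_oddGen (mem_sup_left (mem_oddGen hx ho)) ho
  rw [← heq]
  exact hnLQ.trans (normalizer_le_normalizer_oddGen _)

theorem map_lt_of_inj {f : G →* G} (hf : Function.Injective f) {A B : Subgroup G} (h : A < B) :
    A.map f < B.map f :=
  lt_of_le_of_ne (map_mono h.le) fun he => h.ne (Subgroup.map_injective hf he)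

/-- **Lemma T**: if no maximal 2-local contains all 2-locals over `S` then every minimal parabolic
has a partner. -/
theorem exists_partner (hyp : Hyp G) (S : Sylow 2 G)
    (hC1 : ¬ ∃ M : Subgroup G, IsMaximalTwoLocal M ∧ (S : Subgroup G) ≤ M ∧
      ∀ N : Subgroup G, IsTwoLocal N → (S : Subgroup G) ≤ N → N ≤ M)
    {P : Subgroup G} (hP : IsMinPar (S : Subgroup G) P) (hPo : o2 P ≠ ⊥) :
    ∃ P' : Subgroup G, IsMinPar (S : Subgroup G) P' ∧ o2 P' ≠ ⊥ ∧
      ∀ U : Subgroup G, IsPGroup 2 U → P ≤ normalizer (U : Set G) →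
        P' ≤ normalizer (U : Set G) → U = ⊥ := by
  by_contra hcon
  push Not at hcon
  have h2 : Fact (Nat.Prime 2) := ⟨Nat.prime_two⟩
  obtain ⟨R, p, h⟩ := Par.exists_par hyp.rank hyp.locSolv hyp.char2 S hP hPo
  set L := oddGen P with hL
  -- every minimal parabolic normalises `L`
  have hall : ∀ P' : Subgroup G, IsMinPar (S : Subgroup G) P' → o2 P' ≠ ⊥ →
      P' ≤ normalizer (L : Set G) := by
    intro P' hP' hPo'
    obtain ⟨R', p', h'⟩ := Par.exists_par hyp.rank hyp.locSolv hyp.char2 S hP' hPo'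
    obtain ⟨U, hU, hPU, hPU', hU1⟩ := hcon P' hP' hPo'
    exact le_normalizer_oddGen_of_local hyp S h h' hU hU1 hPU hPU'
  -- the group generated by the minimal parabolics
  set Y : Subgroup G := sSup {P' | IsMinPar (S : Subgroup G) P' ∧ o2 P' ≠ ⊥} with hY
  have hPY : ∀ P' : Subgroup G, IsMinPar (S : Subgroup G) P' → o2 P' ≠ ⊥ → P' ≤ Y :=
    fun P' h1 h3 => le_sSup ⟨h1, h3⟩
  have hSY : (S : Subgroup G) ≤ Y := hP.le.trans (hPY P hP hPo)
  have hYL : Y ≤ normalizer (L : Set G) := sSup_le fun P' hP' => hall P' hP'.1 hP'.2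
  -- `O₂(L) ≠ 1`
  have hoL : o2 L ≠ ⊥ := by
    intro h1
    have hLP : L ≤ P := oddGen_le P
    have h3 : ⁅L, o2 P⁆ ≤ o2 L := by
      have h4 : ⁅L, o2 P⁆ ≤ L ⊓ o2 P := by
        refine le_inf ?_ ?_
        · rw [Subgroup.commutator_le]
          intro l hl q hq
          rw [commutatorElement_def]
          have h5 : q * l⁻¹ * q⁻¹ ∈ L :=
            (mem_normalizer_iff.mp (le_normalizer_oddGen P ((o2_le P) hq)) _).mp (inv_mem hl)
          have h6 : l * q * l⁻¹ * q⁻¹ = l * (q * l⁻¹ * q⁻¹) := by group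
          rw [h6]; exact mul_mem hl h5
        · rw [Subgroup.commutator_le]
          intro l hl q hq
          rw [commutatorElement_def]
          exact mul_mem ((mem_normalizer_iff.mp (le_normalizer_o2 P (hLP hl)) _).mp hq) (inv_mem hq)
      refine h4.trans (le_o2 inf_le_left ((o2_isPGroup P).to_le inf_le_right) ?_)
      refine le_normalizer_of fun t ht x hx => mem_inf.mpr ⟨mul_mem (mul_mem ht hx.1) (inv_mem ht), ?_⟩
      exact (mem_normalizer_iff.mp (le_normalizer_o2 P (hLP ht)) x).mp hx.2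
    rw [h1, le_bot_iff, Subgroup.commutator_eq_bot_iff_le_centralizer] at h3
    have h4 : L ≤ o2 P := (le_inf hLP h3).trans h.char2
    have h5 : R ≤ o2 P ⊓ R := le_inf (h.R_le_oddGen.trans h4) le_rfl
    rw [o2_inf_R h] at h5
    have h6 := one_lt_card_R h
    rw [le_bot_iff.mp h5, Subgroup.card_bot] at h6
    exact absurd h6 (by norm_num)
  have hoY : o2 Y ≠ ⊥ := by
    have h1 : o2 L ≤ o2 Y := by
      refine le_o2 ((o2_le L).trans ((oddGen_le P).trans (hPY P hP hPo))) (o2_isPGroup L) ?_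
      intro y hy
      have h3 := hYL hy
      -- `o2 L` is characteristic in `L`
      rw [mem_normalizer_iff_map_conj_eq]
      have h4 := MinSimple.Geo.cj_o2 y L
      rw [show MinSimple.Geo.cj y (o2 L) = (o2 L).map (MulAut.conj y).toMonoidHom from rfl,
        MinSimple.Geo.cj_eq_of_mem_normalizer h3] at h4
      exact h4
    exact fun h3 => hoL (le_bot_iff.mp (h3 ▸ h1))
  -- `N_G(S)` normalises `Y`
  have hNY : normalizer ((S : Subgroup G) : Set G) ≤ normalizer (Y : Set G) := by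
    have hS1 : ∀ g ∈ normalizer ((S : Subgroup G) : Set G), ∀ P' : Subgroup G,
        IsMinPar (S : Subgroup G) P' ∧ o2 P' ≠ ⊥ →
        IsMinPar (S : Subgroup G) (P'.map (MulAut.conj g).toMonoidHom) ∧
          o2 (P'.map (MulAut.conj g).toMonoidHom) ≠ ⊥ := by
      rintro g hg P' ⟨h1, h3⟩
      have hSg : (S : Subgroup G).map (MulAut.conj g).toMonoidHom = S :=
        mem_normalizer_iff_map_conj_eq.mp hg
      have hginv : (S : Subgroup G).map (MulAut.conj g⁻¹).toMonoidHom = S :=
        mem_normalizer_iff_map_conj_eq.mp (inv_mem hg)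
      have hmm : ∀ K : Subgroup G, (K.map (MulAut.conj g⁻¹).toMonoidHom).map
          (MulAut.conj g).toMonoidHom = K := by
        intro K
        have := MinSimple.Geo.cj_cj_inv g K
        exact this
      have hmm' : ∀ K : Subgroup G, (K.map (MulAut.conj g).toMonoidHom).map
          (MulAut.conj g⁻¹).toMonoidHom = K := by
        intro K
        have := MinSimple.Geo.cj_inv_cj g K
        exact this
      refine ⟨⟨?_, ?_, ?_⟩, ?_⟩
      · conv_lhs => rw [← hSg]
        exact map_mono h1.le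
      · intro h4
        apply h1.not_le
        intro x hx
        have h5 := h4 ⟨x, hx, rfl⟩
        have h6 : g⁻¹ * (g * x * g⁻¹) * g⁻¹⁻¹ ∈ normalizer ((S : Subgroup G) : Set G) :=
          mul_mem (mul_mem (inv_mem hg) h5) (inv_mem (inv_mem hg))
        have h7 : g⁻¹ * (g * x * g⁻¹) * g⁻¹⁻¹ = x := by group
        rwa [h7] at h6
      · obtain ⟨M, hM, hM'⟩ := h1.exists_max
        refine ⟨M.map (MulAut.conj g).toMonoidHom, ?_, fun K hSK hKP => ?_⟩
        · exact map_lt_of_inj (MulAut.conj g).injective hM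
        · have h4 : K.map (MulAut.conj g⁻¹).toMonoidHom ≤ M := by
            refine hM' _ ?_ ?_
            · rw [← hginv]; exact map_mono hSK
            · rw [← hmm' P']
              exact map_lt_of_inj (MulAut.conj g⁻¹).injective hKP
          rw [← hmm K]
          exact map_mono h4
      · intro h4
        apply h3
        have h5 := MinSimple.Geo.cj_o2 g P'
        have h6 : (o2 P').map (MulAut.conj g).toMonoidHom = ⊥ := h5.trans h4
        exact (Subgroup.map_eq_bot_iff_of_injective _ (MulAut.conj g).injective).mp h6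
    refine le_normalizer_of fun g hg x hx => ?_
    have h1 : Y ≤ Y.comap (MulAut.conj g).toMonoidHom := by
      refine sSup_le fun P' hP' => ?_
      rw [← Subgroup.map_le_iff_le_comap]
      exact le_sSup (hS1 g hg P' hP')
    exact h1 hx
  -- the maximal 2-local
  have hNYo : normalizer (Y : Set G) ≤ normalizer (o2 Y : Set G) := by
    intro y hy
    rw [mem_normalizer_iff_map_conj_eq]
    have h4 := MinSimple.Geo.cj_o2 y Y
    rw [show MinSimple.Geo.cj y (o2 Y) = (o2 Y).map (MulAut.conj y).toMonoidHom from rfl,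
      MinSimple.Geo.cj_eq_of_mem_normalizer hy] at h4
    exact h4
  obtain ⟨M, hM, hNM⟩ := MinSimple.Basic.exists_maximal
    (MinSimple.Basic.isTwoLocal_normalizer (o2_isPGroup Y) hoY)
  have hYM : Y ≤ M := (le_normalizer_o2 Y).trans hNM
  apply hC1
  refine ⟨M, hM, hSY.trans hYM, fun N hN hSN => ?_⟩
  exact MinSimple.Basic.le_of_forall_minPar S ((hNY.trans hNYo).trans hNM)
    (fun P' h1 h3 => (hPY P' h1 h3).trans hYM) (MinSimple.Basic.IsTwoLocal.o2_ne_bot hN) hSN

/-- Either `C_G(Z) ≤ N_G(S)` or there is a `Pair`. -/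
theorem exists_pair (hyp : Hyp G) (S : Sylow 2 G)
    (hC1 : ¬ ∃ M : Subgroup G, IsMaximalTwoLocal M ∧ (S : Subgroup G) ≤ M ∧
      ∀ N : Subgroup G, IsTwoLocal N → (S : Subgroup G) ≤ N → N ≤ M)
    (hZ : ¬ centralizer (zc (S : Subgroup G) : Set G) ≤ normalizer ((S : Subgroup G) : Set G)) :
    ∃ P1 P2 : Subgroup G, Pair (S : Subgroup G) P1 P2 := by
  have h2 : Fact (Nat.Prime 2) := ⟨Nat.prime_two⟩
  have hS : (S : Subgroup G) ≠ ⊥ := by
    intro h
    apply hZ
    rw [h, Subgroup.normalizer_eq_top]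
    exact le_top
  have hz : zc (S : Subgroup G) ≠ ⊥ := MinSimple.Basic.zc_ne_bot S.isPGroup' hS
  set X := centralizer (zc (S : Subgroup G) : Set G) with hX
  have hzS : zc (S : Subgroup G) ≤ (S : Subgroup G) := zc_le _
  have hSX : (S : Subgroup G) ≤ X := by
    rw [hX, Subgroup.le_centralizer_iff]
    exact MinSimple.VModule.zc_le_centralizer _
  -- there is a minimal parabolic in `X`
  have hex : ∃ P : Subgroup G, IsMinPar (S : Subgroup G) P ∧ P ≤ X := by
    by_contra hno
    push Not at hno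
    apply hZ
    exact MinSimple.MinParabolic.le_of_forall hSX inf_le_right fun P h1 h3 => absurd h3 (hno P h1)
  obtain ⟨P2, hP2, hP2X⟩ := hex
  have hcent : P2 ≤ centralizer (zc (S : Subgroup G) : Set G) := hP2X
  have hzo : zc (S : Subgroup G) ≤ o2 P2 := by
    refine le_o2 (hzS.trans hP2.le) (S.isPGroup'.to_le hzS) ?_
    refine le_normalizer_of fun t ht x hx => ?_
    have h3 : x * t = t * x := mem_centralizer_iff.mp (hcent ht) x hx
    rw [← h3, mul_inv_cancel_right]
    exact hx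
  have hP2o : o2 P2 ≠ ⊥ := fun h => hz (le_bot_iff.mp (h ▸ hzo))
  obtain ⟨P1, hP1, hP1o, hnl⟩ := exists_partner hyp S hC1 hP2 hP2o
  exact ⟨P1, P2, hyp, ⟨S, rfl⟩, Par.exists_par hyp.rank hyp.locSolv hyp.char2 S hP1 hP1o,
    Par.exists_par hyp.rank hyp.locSolv hyp.char2 S hP2 hP2o, hcent,
    fun U hU h1 h3 => hnl U hU h3 h1⟩

end Cfsg.Agent.SectRankFour.C2.LemmaT
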